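import Mathlib

/-!
# Identification of a coset space with a labelled set of points

`G` generated by involutions `x a`, `H = ⟨x a | a ∈ S⟩`, an action `φ` of `G` on `ℕ` in which the `x a`, `a ∈ S`
fix `0`, and a labelling `f` of `G ⧸ H` by the points `< n` (from a coset enumeration).  Then `f` is a bijection
of `{0, …, n-1}` with `G ⧸ H`, and orbits of `H` are images of orbits.
-/

set_option autoImplicit false

namespace Cfsg.Agent.SporRec.CosetIdent

variable {G ι : Type*} [Group G]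

/-- the data of a labelled coset space -/
structure Data (x : ι → G) (S : Set ι) (H : Subgroup G) (n : ℕ) (pm : ι → Equiv.Perm ℕ)
    (φ : G →* Equiv.Perm ℕ) (f : ℕ → G ⧸ H) (rk : ℕ → ℕ) : Prop where
  gen : Subgroup.closure (Set.range x) = ⊤
  sq : ∀ a, x a * x a = 1
  hH : H = Subgroup.closure (x '' S)
  pos : 0 < n
  lt : ∀ a, ∀ i < n, pm a i < n
  hφ : ∀ a, φ (x a) = pm a
  fix : ∀ a ∈ S, pm a 0 = 0
  f0 : f 0 = ((1 : G) : G ⧸ H)
  hf : ∀ a, ∀ i < n, x a • f i = f (pm a i)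
  par : ∀ i, 0 < i → i < n → ∃ a, rk (pm a i) < rk i

variable {x : ι → G} {S : Set ι} {H : Subgroup G} {n : ℕ} {pm : ι → Equiv.Perm ℕ}
  {φ : G →* Equiv.Perm ℕ} {f : ℕ → G ⧸ H} {rk : ℕ → ℕ}

namespace Data

theorem fix_H (D : Data x S H n pm φ f rk) {h : G} (hh : h ∈ H) : φ h 0 = 0 := by
  rw [D.hH] at hh
  induction hh using Subgroup.closure_induction with
  | mem y hy =>
    obtain ⟨a, ha, rfl⟩ := hy
    rw [D.hφ, D.fix a ha]
  | one => rw [map_one]; rfl
  | mul y z _ _ hy hz => rw [map_mul, Equiv.Perm.mul_apply, hz, hy]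
  | inv y _ hy =>
    rw [map_inv]
    exact (Equiv.Perm.inv_eq_iff_eq).2 hy.symm

/-- the point of a coset -/
noncomputable def pt (D : Data x S H n pm φ f rk) : G ⧸ H → ℕ :=
  Quotient.lift (fun g => φ g 0) (fun g g' h => by
    have h' : g⁻¹ * g' ∈ H := QuotientGroup.leftRel_apply.1 h
    have h2 := D.fix_H h'
    rw [map_mul, map_inv, Equiv.Perm.mul_apply, Equiv.Perm.inv_eq_iff_eq] at h2
    exact h2.symm)

theorem pt_mk (D : Data x S H n pm φ f rk) (g : G) : D.pt (g : G ⧸ H) = φ g 0 := rfl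

theorem pt_smul (D : Data x S H n pm φ f rk) (g : G) (q : G ⧸ H) : D.pt (g • q) = φ g (D.pt q) := by
  induction q using QuotientGroup.induction_on with
  | H k =>
    rw [MulAction.Quotient.smul_coe, pt_mk, pt_mk, smul_eq_mul, map_mul, Equiv.Perm.mul_apply]

theorem pt_f (D : Data x S H n pm φ f rk) (i : ℕ) (hi : i < n) : D.pt (f i) = i := by
  induction h : rk i using Nat.strong_induction_on generalizing i with
  | _ r ih =>
    rcases Nat.eq_zero_or_pos i with rfl | hpos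
    · rw [D.f0, pt_mk, map_one]; rfl
    · obtain ⟨a, ha⟩ := D.par i hpos hi
      have h1 := ih _ (h ▸ ha) (pm a i) (D.lt a i hi) rfl
      rw [← D.hf a i hi, pt_smul, D.hφ] at h1
      exact (pm a).injective h1

theorem f_inj (D : Data x S H n pm φ f rk) {i j : ℕ} (hi : i < n) (hj : j < n) (h : f i = f j) : i = j := by
  rw [← D.pt_f i hi, h, D.pt_f j hj]

theorem smul_mem (D : Data x S H n pm φ f rk) (g : G) : ∀ i < n, ∃ j < n, g • f i = f j := by
  have hg : g ∈ Subgroup.closure (Set.range x) := by rw [D.gen]; exact Subgroup.mem_top g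
  induction hg using Subgroup.closure_induction'' with
  | mem y hy =>
    obtain ⟨a, rfl⟩ := hy
    exact fun i hi => ⟨_, D.lt a i hi, D.hf a i hi⟩
  | inv_mem y hy =>
    obtain ⟨a, rfl⟩ := hy
    rw [inv_eq_of_mul_eq_one_left (D.sq a)]
    exact fun i hi => ⟨_, D.lt a i hi, D.hf a i hi⟩
  | one => exact fun i hi => ⟨i, hi, one_smul _ _⟩
  | mul y z _ _ hy hz =>
    intro i hi
    obtain ⟨j, hj, e⟩ := hz i hi
    obtain ⟨k, hk, e'⟩ := hy j hj
    exact ⟨k, hk, by rw [mul_smul, e, e']⟩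

theorem f_surj (D : Data x S H n pm φ f rk) (q : G ⧸ H) : ∃ i < n, f i = q := by
  induction q using QuotientGroup.induction_on with
  | H g =>
    obtain ⟨j, hj, e⟩ := D.smul_mem g 0 D.pos
    refine ⟨j, hj, ?_⟩
    rw [← e, D.f0, MulAction.Quotient.smul_coe, smul_eq_mul, mul_one]

theorem index_eq (D : Data x S H n pm φ f rk) : H.index = n := by
  have hb : Function.Bijective (fun i : Fin n => f i) := by
    constructor
    · intro i j h
      exact Fin.ext (D.f_inj i.2 j.2 h)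
    · intro q
      obtain ⟨i, hi, e⟩ := D.f_surj q
      exact ⟨⟨i, hi⟩, e⟩
  rw [Subgroup.index_eq_card, ← Nat.card_eq_of_bijective _ hb, Nat.card_fin]

/-- `H` is the stabiliser of the point `0` -/
theorem mem_H_iff (D : Data x S H n pm φ f rk) (g : G) : g ∈ H ↔ φ g 0 = 0 := by
  refine ⟨D.fix_H, fun h => ?_⟩
  obtain ⟨j, hj, e⟩ := D.smul_mem g 0 D.pos
  have h1 := D.pt_f j hj
  rw [← e, pt_smul, D.pt_f 0 D.pos, h] at h1
  subst h1
  rw [D.f0, MulAction.Quotient.smul_coe, smul_eq_mul, mul_one] at e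
  have h2 := QuotientGroup.eq.1 e
  rw [mul_one] at h2
  exact (Subgroup.inv_mem_iff H).1 h2

theorem f_apply (D : Data x S H n pm φ f rk) (g : G) (i : ℕ) (hi : i < n) : φ g i < n ∧ g • f i = f (φ g i) := by
  obtain ⟨j, hj, e⟩ := D.smul_mem g i hi
  have h1 := D.pt_f j hj
  rw [← e, pt_smul, D.pt_f i hi] at h1
  rw [h1]
  exact ⟨hj, e⟩

/-- orbits of `H` on the cosets -/
theorem orbit_eq (D : Data x S H n pm φ f rk) (R : Set ℕ) (r : ℕ) (hr : r ∈ R) (hR : ∀ i ∈ R, i < n)
    (hcl : ∀ a ∈ S, ∀ i ∈ R, pm a i ∈ R) (hpar : ∀ i ∈ R, i ≠ r → ∃ a ∈ S, rk (pm a i) < rk i) :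
    MulAction.orbit H (f r) = f '' R := by
  apply Set.Subset.antisymm
  · rintro _ ⟨⟨h, hh⟩, rfl⟩
    have key : ∀ i ∈ R, ∃ j ∈ R, h • f i = f j := by
      rw [D.hH] at hh
      induction hh using Subgroup.closure_induction'' with
      | mem y hy =>
        obtain ⟨a, ha, rfl⟩ := hy
        exact fun i hi => ⟨_, hcl a ha i hi, D.hf a i (hR i hi)⟩
      | inv_mem y hy =>
        obtain ⟨a, ha, rfl⟩ := hy
        rw [inv_eq_of_mul_eq_one_left (D.sq a)]
        exact fun i hi => ⟨_, hcl a ha i hi, D.hf a i (hR i hi)⟩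
      | one => exact fun i hi => ⟨i, hi, one_smul _ _⟩
      | mul y z _ _ hy hz =>
        intro i hi
        obtain ⟨j, hj, e⟩ := hz i hi
        obtain ⟨k, hk, e'⟩ := hy j hj
        exact ⟨k, hk, by rw [mul_smul, e, e']⟩
    obtain ⟨j, hj, e⟩ := key r hr
    exact ⟨j, hj, e.symm⟩
  · rintro _ ⟨i, hi, rfl⟩
    induction h : rk i using Nat.strong_induction_on generalizing i with
    | _ m ih =>
      by_cases hir : i = r
      · subst hir; exact MulAction.mem_orbit_self _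
      · obtain ⟨a, ha, hlt⟩ := hpar i hi hir
        have h1 := ih _ (h ▸ hlt) (pm a i) (hcl a ha i hi) rfl
        rw [← D.hf a i (hR i hi)] at h1
        have hxa : x a ∈ H := by rw [D.hH]; exact Subgroup.subset_closure ⟨a, ha, rfl⟩
        obtain ⟨h', e⟩ := h1
        have e' : (h' : G) • f r = x a • f i := e
        refine ⟨⟨x a, hxa⟩ * h', ?_⟩
        show (x a * (h' : G)) • f r = f i
        rw [mul_smul, e', smul_smul, D.sq, one_smul]

theorem ncard_orbit (D : Data x S H n pm φ f rk) (R : Set ℕ) (r : ℕ) (hr : r ∈ R) (hR : ∀ i ∈ R, i < n)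
    (hcl : ∀ a ∈ S, ∀ i ∈ R, pm a i ∈ R) (hpar : ∀ i ∈ R, i ≠ r → ∃ a ∈ S, rk (pm a i) < rk i) :
    (MulAction.orbit H (f r)).ncard = R.ncard := by
  rw [D.orbit_eq R r hr hR hcl hpar]
  exact Set.InjOn.ncard_image (fun i hi j hj h => D.f_inj (hR i hi) (hR j hj) h)

end Data

end Cfsg.Agent.SporRec.CosetIdent
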