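import Cfsg.Agent.SporRec.Fi23Upper
import Cfsg.Agent.SporRec.CosetIdent

/-!
# The cosets of `⟨a, …, i⟩` in the presented group `Fi₂₃`
-/

set_option autoImplicit false
set_option linter.constructorNameAsVariable false

namespace Cfsg.Agent.SporRec.Fi23Index

open Cfsg.Agent.Lib.PermNet Cfsg.Agent.SporRec.CosetBulk Cfsg.Agent.SporRec.Fi23Nets
  Cfsg.Agent.SporRec.Fi23Rel Cfsg.Agent.SporRec.Fi23Perm Cfsg.Agent.SporRec.Fi23Upper
  Cfsg.Agent.SporRec.CosetIdent

/-- the generators of `2·Fi₂₂` -/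
def S : Set Gen := {a | a ≠ .j}

/-- the subgroup `⟨a, …, i⟩` (all generators but `j`) -/
def H : Subgroup Cfsg.Spor.Fi23 := Subgroup.closure (gen '' S)

theorem map_closure : (Subgroup.closure ({Cfsg.Spor.Fi23.a, Cfsg.Spor.Fi23.b, Cfsg.Spor.Fi23.c, Cfsg.Spor.Fi23.d,
    Cfsg.Spor.Fi23.e, Cfsg.Spor.Fi23.f, Cfsg.Spor.Fi23.g, Cfsg.Spor.Fi23.h, Cfsg.Spor.Fi23.i} :
      Set (FreeGroup Cfsg.Spor.Fi23.Gen))).map (PresentedGroup.mk relators) = H := by
  rw [MonoidHom.map_closure, H]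
  congr 1
  ext y
  constructor
  · rintro ⟨w, hw, rfl⟩
    simp only [Set.mem_insert_iff, Set.mem_singleton_iff] at hw
    rcases hw with rfl | rfl | rfl | rfl | rfl | rfl | rfl | rfl | rfl
    · exact ⟨.a, by simp [S], rfl⟩
    · exact ⟨.b, by simp [S], rfl⟩
    · exact ⟨.c, by simp [S], rfl⟩
    · exact ⟨.d, by simp [S], rfl⟩
    · exact ⟨.e, by simp [S], rfl⟩
    · exact ⟨.f, by simp [S], rfl⟩
    · exact ⟨.g, by simp [S], rfl⟩
    · exact ⟨.h, by simp [S], rfl⟩
    · exact ⟨.i, by simp [S], rfl⟩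
  · rintro ⟨a, ha, rfl⟩
    refine ⟨FreeGroup.of a, ?_, rfl⟩
    simp only [Set.mem_insert_iff, Set.mem_singleton_iff]
    cases a
    case j => exact absurd rfl ha
    all_goals simp [Cfsg.Spor.Fi23.a, Cfsg.Spor.Fi23.b, Cfsg.Spor.Fi23.c, Cfsg.Spor.Fi23.d, Cfsg.Spor.Fi23.e,
      Cfsg.Spor.Fi23.f, Cfsg.Spor.Fi23.g, Cfsg.Spor.Fi23.h, Cfsg.Spor.Fi23.i]

/-- all generators but `j` -/
def noJ : List Gen := [.a, .b, .c, .d, .e, .f, .g, .h, .i]

theorem mem_noJ (a : Gen) (h : a ∈ noJ) : a ≠ .j := by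
  revert h; cases a <;> decide

theorem chk_cover : coverCheck 31671 (Nat.shiftLeft 1 0 :: Nat.shiftLeft 1 1 :: Nat.shiftLeft 1 28161 ::
    noJ.map tree) = true := by decide +kernel

theorem chk_cover_j : coverCheck 31671 (Nat.shiftLeft 1 0 :: tree .j :: noJ.map tree) = true := by
  decide +kernel

theorem testBit_shiftLeft_one (r i : ℕ) (h : (Nat.shiftLeft 1 r).testBit i = true) : i = r := by
  have h' : (1 <<< r).testBit i = true := h
  rw [Nat.one_shiftLeft, Nat.testBit_two_pow] at h'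
  have e : r = i := by simpa using h'
  exact e.symm

/-- every point but the three roots has a smaller neighbour under `a, …, i` -/
theorem par_S (i : ℕ) (hi : i < 31671) (h0 : i ≠ 0) (h1 : i ≠ 1) (h2 : i ≠ 28161) :
    ∃ a ∈ S, val rk (pm a i) < val rk i := by
  obtain ⟨M, hM, hMi⟩ := cover_of_check chk_cover hi
  simp only [List.mem_cons, List.mem_map] at hM
  rcases hM with rfl | rfl | rfl | ⟨a, ha, rfl⟩
  · exact absurd (testBit_shiftLeft_one _ _ hMi) h0
  · exact absurd (testBit_shiftLeft_one _ _ hMi) h1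
  · exact absurd (testBit_shiftLeft_one _ _ hMi) h2
  · exact ⟨a, mem_noJ a ha, tree_lt a i hMi⟩

theorem par_all (i : ℕ) (h0 : 0 < i) (hi : i < 31671) : ∃ a, val rk (pm a i) < val rk i := by
  obtain ⟨M, hM, hMi⟩ := cover_of_check chk_cover_j hi
  simp only [List.mem_cons, List.mem_map] at hM
  rcases hM with rfl | rfl | ⟨a, -, rfl⟩
  · exact absurd (testBit_shiftLeft_one _ _ hMi) h0.ne'
  · exact ⟨.j, tree_lt .j i hMi⟩
  · exact ⟨a, tree_lt a i hMi⟩

theorem chk_range2 (a : Gen) (h : a ≠ .j) : rangeCheck (net a) 28161 = true := by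
  cases a <;> first | exact absurd rfl h | decide +kernel

theorem exists_data : ∃ f : ℕ → Cfsg.Spor.Fi23 ⧸ H, Data gen S H 31671 pm φ f (val rk) := by
  obtain ⟨f, hf0, hf⟩ := exists_label (X := Cfsg.Spor.Fi23 ⧸ H) gen gen_isCox (gen_isCox.T gen_spider)
    ((1 : Cfsg.Spor.Fi23) : Cfsg.Spor.Fi23 ⧸ H) (by
      intro a ha
      rw [MulAction.Quotient.smul_coe, smul_eq_mul, mul_one]
      refine (QuotientGroup.eq.2 ?_).symm
      rw [inv_one, one_mul]
      exact Subgroup.subset_closure ⟨a, ha, rfl⟩)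
  refine ⟨f, ⟨closure_gen, gen_isCox.inv, rfl, by norm_num, fun a i hi => (pm_lt_iff a i).2 hi, φ_gen, pm_zero,
    hf0, hf, par_all⟩⟩

theorem index_H : H.index = 31671 := by
  obtain ⟨f, D⟩ := exists_data
  exact D.index_eq

theorem mem_H_iff (g : Cfsg.Spor.Fi23) : g ∈ H ↔ φ g 0 = 0 := by
  obtain ⟨f, D⟩ := exists_data
  exact D.mem_H_iff g

theorem ncard_Icc (a b : ℕ) : (Set.Icc a b).ncard = b + 1 - a := by
  rw [← Finset.coe_Icc, Set.ncard_coe_finset, Nat.card_Icc]

theorem orbits : ∃ q₁ q₂ : Cfsg.Spor.Fi23 ⧸ H, (MulAction.orbit H q₁).ncard = 3510 ∧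
    (MulAction.orbit H q₂).ncard = 28160 := by
  obtain ⟨f, D⟩ := exists_data
  refine ⟨f 28161, f 1, ?_, ?_⟩
  · rw [D.ncard_orbit (Set.Icc 28161 31670) 28161 (by simp) (fun i hi => by
        have := hi.2; omega) ?_ ?_, ncard_Icc]
    · intro a ha i hi
      have h1 := (pm_lt_iff a i).2 (by have := hi.2; omega)
      have h2 := lt_iff_of_rangeCheck (ok a) (chk_range2 a ha) i
      have h3 : ¬ pm a i < 28161 := by
        intro h
        have := h2.1 h
        have := hi.1
        omega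
      exact ⟨by omega, by omega⟩
    · intro i hi hne
      have h1 := hi.1
      have h2 := hi.2
      exact par_S i (by omega) (by omega) (by omega) hne
  · rw [D.ncard_orbit (Set.Icc 1 28160) 1 (by simp) (fun i hi => by
        have := hi.2; omega) ?_ ?_, ncard_Icc]
    · intro a ha i hi
      have h1 := hi.1
      have h2 := hi.2
      have h3 := (lt_iff_of_rangeCheck (ok a) (chk_range2 a ha) i).2 (by omega)
      have h4 : pm a i ≠ 0 := by
        intro h
        have h5 := pm_pm a i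
        rw [h, pm_zero a ha] at h5
        omega
      have h6 : pm a i < 28161 := h3
      exact ⟨by omega, by omega⟩
    · intro i hi hne
      have h1 := hi.1
      have h2 := hi.2
      exact par_S i (by omega) (by omega) hne (by omega)

end Cfsg.Agent.SporRec.Fi23Index
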