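import Cfsg.Prelude.Def_SporadicB
import Cfsg.Agent.SporadicRecognition.AltCover

/-!
# Abstract double covers of alternating groups

`Cover α C`: a group `C` with a homomorphism `π` onto the alternating group of `α` whose kernel is `{1, z}` and such
that every lift of a product of two disjoint transpositions has square `z`.
-/

set_option autoImplicit false

namespace Cfsg.Agent.SporRec.TwoAn

open Subgroup Equiv

/-- A double cover of the alternating group of `α` in which double transpositions lift to elements of order 4. -/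
structure Cover (α : Type*) [Fintype α] [DecidableEq α] (C : Type*) [Group C] where
  /-- the projection -/
  π : C →* Perm α
  range_eq : π.range = alternatingGroup α
  /-- the central involution -/
  z : C
  z_ne : z ≠ 1
  ker : ∀ x, π x = 1 ↔ x = 1 ∨ x = z
  dbl : ∀ a b c d : α, a ≠ b → a ≠ c → a ≠ d → b ≠ c → b ≠ d → c ≠ d →
    ∀ g, π g = swap a b * swap c d → g * g = z

namespace Cover

variable {α : Type*} [Fintype α] [DecidableEq α] {C : Type*} [Group C] (K : Cover α C)

theorem π_z : K.π K.z = 1 := (K.ker K.z).2 (Or.inr rfl)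

theorem z_mul_z : K.z * K.z = 1 := by
  have h : K.π (K.z * K.z) = 1 := by rw [map_mul, K.π_z, mul_one]
  rcases (K.ker _).1 h with h | h
  · exact h
  · exact absurd (mul_eq_left.mp h) K.z_ne

theorem z_inv : K.z⁻¹ = K.z := inv_eq_of_mul_eq_one_left K.z_mul_z

theorem z_pow_two : K.z ^ 2 = 1 := by rw [pow_two, K.z_mul_z]

theorem orderOf_z : orderOf K.z = 2 := orderOf_eq_prime K.z_pow_two K.z_ne

theorem z_comm (g : C) : g * K.z = K.z * g := by
  have h : K.π (g * K.z * g⁻¹) = 1 := by
    rw [map_mul, map_mul, K.π_z, mul_one, map_inv, mul_inv_cancel]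
  rcases (K.ker _).1 h with h | h
  · exfalso
    apply K.z_ne
    rw [mul_inv_eq_one] at h
    exact mul_eq_left.mp h
  · rw [mul_inv_eq_iff_eq_mul] at h
    exact h

theorem mem_alternating (g : C) : K.π g ∈ alternatingGroup α := by
  rw [← K.range_eq]; exact ⟨g, rfl⟩

theorem exists_lift {σ : Perm α} (h : σ ∈ alternatingGroup α) : ∃ g, K.π g = σ := by
  rw [← K.range_eq] at h; exact h

theorem lift_eq {g h : C} (hgh : K.π g = K.π h) : g = h ∨ g = h * K.z := by
  have : K.π (h⁻¹ * g) = 1 := by rw [map_mul, map_inv, hgh, inv_mul_cancel]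
  rcases (K.ker _).1 this with h | h
  · left; rw [inv_mul_eq_one] at h; exact h.symm
  · right; rw [inv_mul_eq_iff_eq_mul] at h; exact h

theorem mul_z_ne (g : C) : g * K.z ≠ g := fun h => K.z_ne (mul_eq_left.mp h)

theorem z_pow (k : ℕ) : K.z ^ k = if Even k then 1 else K.z := by
  split_ifs with h
  · obtain ⟨m, rfl⟩ := h
    rw [← two_mul, pow_mul, K.z_pow_two, one_pow]
  · rw [Nat.not_even_iff_odd] at h
    obtain ⟨m, rfl⟩ := h
    rw [pow_succ, pow_mul, K.z_pow_two, one_pow, one_mul]

/-- The commutator of two elements whose images commute. -/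
theorem comm_or {g h : C} (hgh : K.π g * K.π h = K.π h * K.π g) : g * h = h * g ∨ g * h = h * g * K.z := by
  apply K.lift_eq
  rw [map_mul, map_mul, hgh]

/-- An element of odd order has a lift of the same exponent. -/
theorem exists_odd_lift {σ : Perm α} (h : σ ∈ alternatingGroup α) {n : ℕ} (hn : Odd n) (hσ : σ ^ n = 1) :
    ∃ g, K.π g = σ ∧ g ^ n = 1 := by
  obtain ⟨g, rfl⟩ := K.exists_lift h
  rw [← map_pow] at hσ
  rcases (K.ker _).1 hσ with h1 | h1
  · exact ⟨g, rfl, h1⟩
  · refine ⟨g * K.z, by rw [map_mul, K.π_z, mul_one], ?_⟩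
    have hc : Commute g K.z := K.z_comm g
    rw [hc.mul_pow, h1, ← pow_succ', K.z_pow, if_pos]
    exact hn.add_one

theorem odd_lift_unique {g h : C} {n : ℕ} (hn : Odd n) (hg : g ^ n = 1) (hh : h ^ n = 1) (hgh : K.π g = K.π h) :
    g = h := by
  rcases K.lift_eq hgh with h1 | h1
  · exact h1
  · exfalso
    rw [h1] at hg
    have hc : Commute h K.z := K.z_comm h
    rw [hc.mul_pow, hh, one_mul, K.z_pow, if_neg (Nat.not_even_iff_odd.mpr hn)] at hg
    exact K.z_ne hg

/-- Elements which commute modulo `z`, one of them of odd order, commute. -/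
theorem commute_of_odd {g h : C} {n : ℕ} (hn : Odd n) (hg : g ^ n = 1) (hgh : K.π g * K.π h = K.π h * K.π g) :
    g * h = h * g := by
  have h1 : h * g * h⁻¹ = g := by
    refine K.odd_lift_unique hn ?_ hg ?_
    · rw [conj_pow, hg, mul_one, mul_inv_cancel]
    · rw [map_mul, map_mul, map_inv, ← hgh, mul_inv_cancel_right]
  rw [mul_inv_eq_iff_eq_mul] at h1
  exact h1.symm

/-- Lifts of even permutations with disjoint supports commute. -/
theorem commute_of_disjoint {g h : C} (hd : (K.π g).Disjoint (K.π h)) : g * h = h * g := by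
  classical
  let p : α → Prop := fun x => K.π g x ≠ x
  have hp : ∀ x, p (K.π g x) ↔ p x := fun x => by
    show K.π g (K.π g x) ≠ K.π g x ↔ K.π g x ≠ x
    rw [Ne, Ne, EmbeddingLike.apply_eq_iff_eq]
  have hfix : ∀ x, p x → K.π h x = x := fun x hx => (hd x).resolve_left hx
  have hfix' : ∀ x, p x → K.π h⁻¹ x = x := fun x hx => by
    rw [map_inv, Perm.inv_eq_iff_eq, hfix x hx]
  have hcomm : ∀ τ : Perm (Subtype p), Perm.ofSubtype τ * K.π h = K.π h * Perm.ofSubtype τ := by
    intro τ
    apply Perm.Disjoint.commute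
    intro x
    by_cases hx : p x
    · exact Or.inr (hfix x hx)
    · exact Or.inl (Perm.ofSubtype_apply_of_not_mem τ hx)
  have key : ∀ τ ∈ alternatingGroup (Subtype p), ∃ k, K.π k = Perm.ofSubtype τ ∧ k * h = h * k := by
    intro τ hτ
    rw [← Perm.closure_three_cycles_eq_alternating] at hτ
    refine closure_induction ?_ ?_ ?_ ?_ hτ
    · intro c hc
      have hce : Perm.ofSubtype c ∈ alternatingGroup α := by
        rw [Perm.mem_alternatingGroup, Perm.sign_ofSubtype]
        exact hc.sign
      have hc3 : (Perm.ofSubtype c) ^ 3 = 1 := by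
        rw [← map_pow, ← hc.orderOf, pow_orderOf_eq_one, map_one]
      obtain ⟨k, hk, hk3⟩ := K.exists_odd_lift hce (n := 3) (by decide) hc3
      refine ⟨k, hk, K.commute_of_odd (n := 3) (by decide) hk3 ?_⟩
      rw [hk]; exact hcomm c
    · exact ⟨1, by rw [map_one, map_one], by rw [one_mul, mul_one]⟩
    · rintro x y - - ⟨k, hk, hk'⟩ ⟨l, hl, hl'⟩
      exact ⟨k * l, by rw [map_mul, hk, hl, map_mul], by rw [mul_assoc, hl', ← mul_assoc, hk', mul_assoc]⟩
    · rintro x - ⟨k, hk, hk'⟩
      refine ⟨k⁻¹, by rw [map_inv, hk, map_inv], ?_⟩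
      rw [inv_mul_eq_iff_eq_mul, ← mul_assoc, eq_mul_inv_iff_mul_eq]
      exact hk'.symm
  have hmem : (K.π g).subtypePerm hp ∈ alternatingGroup (Subtype p) := by
    rw [Perm.mem_alternatingGroup, Perm.sign_subtypePerm (K.π g) hp (fun x hx => hx)]
    exact Perm.mem_alternatingGroup.1 (K.mem_alternating g)
  obtain ⟨k, hk, hk'⟩ := key _ hmem
  rw [Perm.ofSubtype_subtypePerm hp (fun x hx => hx)] at hk
  rcases K.lift_eq hk with h1 | h1
  · rw [← h1]; exact hk'
  · rw [h1] at hk'
    rw [mul_assoc, ← K.z_comm h, ← mul_assoc, ← mul_assoc] at hk'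
    exact mul_right_cancel hk'

theorem swap_mul_swap_mem (a b c d : α) (hab : a ≠ b) (hcd : c ≠ d) : swap a b * swap c d ∈ alternatingGroup α := by
  rw [Perm.mem_alternatingGroup, map_mul, Perm.sign_swap hab, Perm.sign_swap hcd]
  decide

omit [Fintype α] in
theorem swap_four {a b c d : α} (hab : a ≠ b) (hac : a ≠ c) (had : a ≠ d) (hbc : b ≠ c) (hbd : b ≠ d) (hcd : c ≠ d) :
    swap a b * swap c d * (swap a c * swap b d) = swap a d * swap b c := by
  ext x
  simp only [Perm.mul_apply, swap_apply_def]
  split_ifs <;> simp_all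

/-- The lifts of the four-group on `{a, b, c, d}` generate a quaternion group. -/
theorem anticomm {a b c d : α} (hab : a ≠ b) (hac : a ≠ c) (had : a ≠ d) (hbc : b ≠ c) (hbd : b ≠ d) (hcd : c ≠ d)
    {g h : C} (hg : K.π g = swap a b * swap c d) (hh : K.π h = swap a c * swap b d) : h * g = g * h * K.z := by
  have h1 : g * g = K.z := K.dbl a b c d hab hac had hbc hbd hcd g hg
  have h2 : h * h = K.z := K.dbl a c b d hac hab had hbc.symm hcd hbd h hh
  have h3 : g * h * (g * h) = K.z := K.dbl a d b c had hab hac hbd.symm hcd.symm hbc (g * h) (by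
    rw [map_mul, hg, hh, swap_four hab hac had hbc hbd hcd])
  -- `g h g h = z`, so `h g = g⁻¹ z h⁻¹`
  have e1 : g * (h * g) * h = K.z := by rw [← h3]; group
  have e2 : h * g = g⁻¹ * K.z * h⁻¹ := by rw [← e1]; group
  have e3 : g⁻¹ = g * K.z := by
    rw [inv_eq_iff_mul_eq_one, ← mul_assoc, h1, K.z_mul_z]
  have e4 : h⁻¹ = h * K.z := by
    rw [inv_eq_iff_mul_eq_one, ← mul_assoc, h2, K.z_mul_z]
  rw [e2, e3, e4, mul_assoc g, K.z_mul_z, mul_one, mul_assoc]

theorem sq_eq_z_or {g : C} (hg : K.π g * K.π g = 1) : g * g = 1 ∨ g * g = K.z := by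
  rw [← map_mul] at hg; exact (K.ker _).1 hg

omit [Fintype α] in
/-- Splitting off a double transposition from an involution. -/
theorem split_apply {σ : Perm α} (hσ : σ * σ = 1) {a c : α} (ha : σ a ≠ a) (hc : σ c ≠ c) (hca : c ≠ a)
    (hcb : c ≠ σ a) (x : α) : ((swap a (σ a) * swap c (σ c))⁻¹ * σ) x =
      if x = a ∨ x = σ a ∨ x = c ∨ x = σ c then x else σ x := by
  have hσσ : ∀ y, σ (σ y) = y := fun y => by
    have := congrArg (fun f : Perm α => f y) hσ
    simpa using this
  have h1 : σ c ≠ a := fun h => hcb (by rw [← h, hσσ])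
  have h2 : σ c ≠ σ a := fun h => hca (σ.injective h)
  rw [mul_inv_rev, swap_inv, swap_inv, Perm.mul_apply, Perm.mul_apply]
  split_ifs with hx
  · rcases hx with rfl | rfl | rfl | rfl
    · rw [swap_apply_right, swap_apply_of_ne_of_ne hca.symm h1.symm]
    · rw [hσσ, swap_apply_left, swap_apply_of_ne_of_ne hcb.symm h2.symm]
    · rw [swap_apply_of_ne_of_ne h1 h2, swap_apply_right]
    · rw [hσσ, swap_apply_of_ne_of_ne hca hcb, swap_apply_left]
  · push Not at hx
    obtain ⟨x1, x2, x3, x4⟩ := hx
    have y1 : σ x ≠ a := fun h => x2 (by rw [← h, hσσ])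
    have y2 : σ x ≠ σ a := fun h => x1 (σ.injective h)
    have y3 : σ x ≠ c := fun h => x4 (by rw [← h, hσσ])
    have y4 : σ x ≠ σ c := fun h => x3 (σ.injective h)
    rw [swap_apply_of_ne_of_ne y1 y2, swap_apply_of_ne_of_ne y3 y4]

/-- Splitting off a double transposition from the lift of a non-trivial involution. -/
theorem exists_split {g : C} (hg : K.π g * K.π g = 1) (h1 : K.π g ≠ 1) :
    ∃ a b c d : α, a ≠ b ∧ a ≠ c ∧ a ≠ d ∧ b ≠ c ∧ b ≠ d ∧ c ≠ d ∧ K.π g a = b ∧ K.π g b = a ∧ K.π g c = d ∧
      K.π g d = c ∧ ∃ u g' : C, K.π u = swap a b * swap c d ∧ g = u * g' ∧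
      (∀ x, K.π g' x = if x = a ∨ x = b ∨ x = c ∨ x = d then x else K.π g x) ∧
      K.π g' * K.π g' = 1 ∧ (K.π g').support.card + 4 = (K.π g).support.card := by
  classical
  set σ := K.π g with hσ
  have hσσ : ∀ y, σ (σ y) = y := fun y => by
    have := congrArg (fun f : Perm α => f y) hg
    simpa using this
  obtain ⟨a, ha⟩ : ∃ a, σ a ≠ a := by
    by_contra h
    push Not at h
    exact h1 (Perm.ext h)
  obtain ⟨c, hc, hca, hcb⟩ : ∃ c, σ c ≠ c ∧ c ≠ a ∧ c ≠ σ a := by
    by_contra h
    push Not at h
    have hsw : σ = swap a (σ a) := by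
      ext x
      by_cases hxa : x = a
      · rw [hxa, swap_apply_left]
      by_cases hxb : x = σ a
      · rw [hxb, swap_apply_right, hσσ]
      rw [swap_apply_of_ne_of_ne hxa hxb]
      by_contra hx
      exact hxb (h x hx hxa)
    have := K.mem_alternating g
    rw [Perm.mem_alternatingGroup, ← hσ, hsw, Perm.sign_swap ha.symm] at this
    exact absurd this (by decide)
  have hda : σ c ≠ a := fun h => hcb (by rw [← h, hσσ])
  have hdb : σ c ≠ σ a := fun h => hca (σ.injective h)
  obtain ⟨u, hu⟩ := K.exists_lift (swap_mul_swap_mem a (σ a) c (σ c) ha.symm hc.symm)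
  have hval := split_apply hg ha hc hca hcb
  rw [← hu, hσ, ← map_inv, ← map_mul, ← hσ] at hval
  refine ⟨a, σ a, c, σ c, ha.symm, hca.symm, hda.symm, hcb.symm, hdb.symm, hc.symm, rfl, hσσ a, rfl, hσσ c,
    u, u⁻¹ * g, hu, by rw [mul_inv_cancel_left], hval, ?_, ?_⟩
  · ext x
    rw [Perm.mul_apply, hval x, Perm.one_apply]
    split_ifs with hx
    · rw [hval x, if_pos hx]
    · rw [hval (σ x), if_neg, hσσ]
      push Not at hx ⊢
      refine ⟨fun h => hx.2.1 (by rw [← h, hσσ]), fun h => hx.1 (σ.injective h),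
        fun h => hx.2.2.2 (by rw [← h, hσσ]), fun h => hx.2.2.1 (σ.injective h)⟩
  · have hsupp : (K.π (u⁻¹ * g)).support = σ.support \ {a, σ a, c, σ c} := by
      ext x
      simp only [Perm.mem_support, Finset.mem_sdiff, Finset.mem_insert, Finset.mem_singleton]
      rw [hval x]
      split_ifs with hx
      · simp [hx]
      · simp [hx]
    have hsub : ({a, σ a, c, σ c} : Finset α) ⊆ σ.support := by
      intro x hx
      simp only [Finset.mem_insert, Finset.mem_singleton] at hx
      rw [Perm.mem_support]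
      rcases hx with rfl | rfl | rfl | rfl
      · exact ha
      · rw [hσσ]; exact ha.symm
      · exact hc
      · rw [hσσ]; exact hc.symm
    have hcard4 : ({a, σ a, c, σ c} : Finset α).card = 4 := by
      rw [Finset.card_insert_of_notMem, Finset.card_insert_of_notMem, Finset.card_pair hc.symm]
      · simp [hcb.symm, hdb.symm]
      · simp [ha.symm, hca.symm, hda.symm]
    have hle := Finset.card_le_card hsub
    rw [hcard4] at hle
    rw [hsupp, Finset.card_sdiff_of_subset hsub, hcard4]
    omega

/-- The square of a lift of an involution moving `4 k` points is `z ^ k`. -/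
theorem exists_sq (N : ℕ) : ∀ {g : C}, K.π g * K.π g = 1 → (K.π g).support.card = N →
    ∃ k, N = 4 * k ∧ g * g = K.z ^ k := by
  induction N using Nat.strong_induction_on with
  | _ N ih =>
    intro g hg hN
    by_cases h1 : K.π g = 1
    · refine ⟨0, ?_, ?_⟩
      · rw [← hN, h1, Perm.support_one, Finset.card_empty]
      · rcases (K.ker g).1 h1 with rfl | rfl
        · rw [pow_zero, mul_one]
        · rw [pow_zero, K.z_mul_z]
    obtain ⟨a, b, c, d, hab, hac, had, hbc, hbd, hcd, -, -, -, -, u, g', hu, hgu, hval, hinv, hcard⟩ :=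
      K.exists_split hg h1
    have huu : u * u = K.z := K.dbl a b c d hab hac had hbc hbd hcd u hu
    have hdis : (K.π u).Disjoint (K.π g') := by
      intro x
      rw [hval x]
      split_ifs with hx
      · right; rfl
      · left
        push Not at hx
        rw [hu, Perm.mul_apply, swap_apply_of_ne_of_ne hx.2.2.1 hx.2.2.2, swap_apply_of_ne_of_ne hx.1 hx.2.1]
    have hcom := K.commute_of_disjoint hdis
    obtain ⟨k, hk, hk2⟩ := ih (N - 4) (by omega) hinv (by omega)
    refine ⟨k + 1, by omega, ?_⟩
    rw [hgu]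
    calc u * g' * (u * g') = u * (g' * u) * g' := by group
      _ = (u * u) * (g' * g') := by rw [← hcom]; group
      _ = K.z ^ (k + 1) := by rw [huu, hk2, pow_succ']

/-- A lift `g` of a non-trivial involution is conjugate to `g z`. -/
theorem exists_conj_mul_z {g : C} (hg : K.π g * K.π g = 1) (h1 : K.π g ≠ 1) : ∃ w, w * g * w⁻¹ = g * K.z := by
  obtain ⟨a, b, c, d, hab, hac, had, hbc, hbd, hcd, -, -, -, -, u, g', hu, hgu, hval, hinv, hcard⟩ :=
    K.exists_split hg h1
  obtain ⟨w, hw⟩ := K.exists_lift (swap_mul_swap_mem a c b d hac hbd)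
  have hdis : (K.π w).Disjoint (K.π g') := by
    intro x
    rw [hval x]
    split_ifs with hx
    · right; rfl
    · left
      push Not at hx
      rw [hw, Perm.mul_apply, swap_apply_of_ne_of_ne hx.2.1 hx.2.2.2, swap_apply_of_ne_of_ne hx.1 hx.2.2.1]
  have hcom := K.commute_of_disjoint hdis
  have hanti := K.anticomm hab hac had hbc hbd hcd hu hw
  refine ⟨w, ?_⟩
  rw [mul_inv_eq_iff_eq_mul, hgu]
  calc w * (u * g') = w * u * g' := by group
    _ = u * w * (g' * K.z) := by rw [hanti, mul_assoc (u * w), ← K.z_comm]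
    _ = u * (w * g') * K.z := by group
    _ = u * g' * (w * K.z) := by rw [hcom]; group
    _ = u * g' * K.z * w := by rw [K.z_comm w]; group

theorem four_dvd {g : C} (hg : K.π g * K.π g = 1) : 4 ∣ (K.π g).support.card := by
  obtain ⟨k, hk, -⟩ := K.exists_sq _ hg rfl
  exact ⟨k, hk⟩

theorem sq_eq {g : C} (hg : K.π g * K.π g = 1) {k : ℕ} (hk : (K.π g).support.card = 4 * k) :
    g * g = K.z ^ k := by
  obtain ⟨l, hl, h⟩ := K.exists_sq _ hg rfl
  have : l = k := by omega
  rw [h, this]

/-- An element is an involution or trivial iff its image is, and moves a multiple of eight points. -/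
theorem sq_eq_one_iff {g : C} : g * g = 1 ↔ K.π g * K.π g = 1 ∧ 8 ∣ (K.π g).support.card := by
  constructor
  · intro h
    have h1 : K.π g * K.π g = 1 := by rw [← map_mul, h, map_one]
    refine ⟨h1, ?_⟩
    obtain ⟨k, hk, h2⟩ := K.exists_sq _ h1 rfl
    rw [h, K.z_pow] at h2
    split_ifs at h2 with he
    · obtain ⟨m, hm⟩ := he
      exact ⟨m, by omega⟩
    · exact absurd h2.symm K.z_ne
  · rintro ⟨h1, m, hm⟩
    rw [K.sq_eq h1 (k := 2 * m) (by omega), pow_mul, K.z_pow_two, one_pow]

/-- On at most seven points `z` is the only involution. -/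
theorem eq_one_or_eq_z_of_card_lt (hα : Fintype.card α < 8) {g : C} (h : g * g = 1) : g = 1 ∨ g = K.z := by
  obtain ⟨h1, m, hm⟩ := K.sq_eq_one_iff.1 h
  have h2 : (K.π g).support.card ≤ Fintype.card α := Finset.card_le_univ _
  have h3 : (K.π g).support.card = 0 := by
    have : m = 0 := by omega
    rw [hm, this]
  rw [Finset.card_eq_zero, Perm.support_eq_empty_iff] at h3
  exact (K.ker g).1 h3

/-- On at least four points the centre is `{1, z}`. -/
theorem mem_center_iff (hα : 4 ≤ Fintype.card α) {g : C} : g ∈ center C ↔ g = 1 ∨ g = K.z := by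
  constructor
  · intro hg
    rw [Subgroup.mem_center_iff] at hg
    apply (K.ker g).1
    have hc : K.π g ∈ Subgroup.centralizer (alternatingGroup α : Set (Perm α)) := by
      rw [Subgroup.mem_centralizer_iff]
      intro σ hσ
      obtain ⟨h, rfl⟩ := K.exists_lift hσ
      rw [← map_mul, ← map_mul, hg h]
    by_contra hne
    obtain ⟨a, ha⟩ : ∃ a, K.π g a ≠ a := by
      by_contra h
      push Not at h
      exact hne (Perm.ext h)
    set b := K.π g a with hb
    have hcard : 0 < (Finset.univ \ {a, b} : Finset α).card := by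
      rw [Finset.card_sdiff_of_subset (Finset.subset_univ _), Finset.card_univ, Finset.card_pair ha.symm]
      omega
    obtain ⟨c, hc1⟩ := Finset.card_pos.1 hcard
    rw [Finset.mem_sdiff, Finset.mem_insert, Finset.mem_singleton] at hc1
    push Not at hc1
    obtain ⟨-, hca, hcb⟩ := hc1
    have hcard2 : 0 < (Finset.univ \ {a, b, c} : Finset α).card := by
      rw [Finset.card_sdiff_of_subset (Finset.subset_univ _), Finset.card_univ,
        Finset.card_insert_of_notMem, Finset.card_pair hcb.symm]
      · omega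
      · simp [ha.symm, hca.symm]
    obtain ⟨d, hd1⟩ := Finset.card_pos.1 hcard2
    simp only [Finset.mem_sdiff, Finset.mem_insert, Finset.mem_singleton] at hd1
    push Not at hd1
    obtain ⟨-, hda, hdb, hdc⟩ := hd1
    -- `(b c d)` fixes `a` but moves `b = g a`
    have hmem : swap b c * swap c d ∈ alternatingGroup α := by
      rw [Perm.mem_alternatingGroup, map_mul, Perm.sign_swap hcb.symm, Perm.sign_swap hdc.symm]
      decide
    rw [Subgroup.mem_centralizer_iff] at hc
    have h5 := congrArg (fun f : Perm α => f a) (hc _ hmem)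
    simp only [Perm.mul_apply] at h5
    rw [← hb, swap_apply_of_ne_of_ne hca.symm hda.symm, swap_apply_of_ne_of_ne ha.symm hca.symm,
      swap_apply_of_ne_of_ne hcb.symm hdb.symm, swap_apply_left, ← hb] at h5
    exact hcb h5
  · rintro (rfl | rfl)
    · exact one_mem _
    · rw [Subgroup.mem_center_iff]; exact K.z_comm

/-- On at least four points, `z` is a commutator. -/
theorem z_mem_commutator (hα : 4 ≤ Fintype.card α) : K.z ∈ commutator C := by
  obtain ⟨f⟩ : Nonempty (Fin 4 ↪ α) := Function.Embedding.nonempty_of_card_le (by simpa using hα)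
  have hne : ∀ i j : Fin 4, i ≠ j → f i ≠ f j := fun i j h e => h (f.injective e)
  obtain ⟨g, hg⟩ := K.exists_lift (swap_mul_swap_mem (f 0) (f 1) (f 2) (f 3) (hne _ _ (by decide)) (hne _ _ (by decide)))
  obtain ⟨w, hw⟩ := K.exists_conj_mul_z (g := g)
    (by rw [← map_mul, K.dbl (f 0) (f 1) (f 2) (f 3) (hne _ _ (by decide)) (hne _ _ (by decide))
      (hne _ _ (by decide)) (hne _ _ (by decide)) (hne _ _ (by decide)) (hne _ _ (by decide)) g hg, K.π_z])
    (by
      intro h
      rw [hg] at h
      have h7 := congrFun (congrArg DFunLike.coe h) (f 0)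
      rw [Perm.mul_apply, swap_apply_of_ne_of_ne (hne _ _ (by decide)) (hne _ _ (by decide)), swap_apply_left] at h7
      exact hne 1 0 (by decide) h7)
  have : K.z = g⁻¹ * w * g * w⁻¹ := by
    have : g⁻¹ * w * g * w⁻¹ = g⁻¹ * (w * g * w⁻¹) := by group
    rw [this, hw, inv_mul_cancel_left]
  rw [this]
  have h8 : g⁻¹ * w * g * w⁻¹ = g⁻¹ * w * (g⁻¹)⁻¹ * w⁻¹ := by
    rw [inv_inv]
  rw [h8]
  exact Subgroup.commutator_mem_commutator (mem_top _) (mem_top _)

/-! ### Restriction to a subset -/

section restrict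

variable (p : α → Prop)

/-- the preimage of the pointwise stabiliser of the complement of `p` -/
def sub : Subgroup C where
  carrier := {g | ∀ x, ¬ p x → K.π g x = x}
  mul_mem' {g h} hg hh x hx := by
    show K.π (g * h) x = x
    rw [map_mul, Perm.mul_apply, hh x hx, hg x hx]
  one_mem' x _ := by
    show K.π 1 x = x
    rw [map_one, Perm.one_apply]
  inv_mem' {g} hg x hx := by
    show K.π g⁻¹ x = x
    rw [map_inv, Perm.inv_eq_iff_eq]
    exact (hg x hx).symm

variable {p}

theorem mem_sub {g : C} : g ∈ K.sub p ↔ ∀ x, ¬ p x → K.π g x = x := Iff.rfl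

theorem z_mem_sub : K.z ∈ K.sub p := fun x _ => by rw [K.π_z, Perm.one_apply]

theorem sub_iff {g : C} (hg : g ∈ K.sub p) (x : α) : p (K.π g x) ↔ p x := by
  constructor
  · intro h
    by_contra hx
    rw [hg x hx] at h
    exact hx h
  · intro h
    by_contra hx
    have h1 : K.π g (K.π g x) = K.π g x := hg _ hx
    have h2 := (K.π g).injective h1
    rw [h2] at hx
    exact hx h

variable [DecidablePred p]

/-- the projection of `K.sub p` to the permutations of the subtype -/
def subProj : K.sub p →* Perm (Subtype p) where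
  toFun g := (K.π g).subtypePerm (K.sub_iff g.2)
  map_one' := by
    ext x
    rw [Perm.subtypePerm_apply]
    show K.π 1 (x : α) = x
    rw [map_one, Perm.one_apply]
  map_mul' g h := by
    ext x
    rw [Perm.subtypePerm_apply, Perm.mul_apply, Perm.subtypePerm_apply]
    show K.π (g * h : C) (x : α) = K.π g (K.π h x)
    rw [map_mul, Perm.mul_apply]

theorem ofSubtype_subProj (g : K.sub p) : Perm.ofSubtype (K.subProj g) = K.π g :=
  Perm.ofSubtype_subtypePerm (K.sub_iff g.2) (fun x hx => by
    by_contra hp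
    exact hx (g.2 x hp))

omit [DecidablePred p] in
theorem subProj_apply (g : K.sub p) (x : Subtype p) : ((K.subProj g x : Subtype p) : α) = K.π g x := rfl

/-- The restriction of the cover to the alternating group on a subset. -/
def restrict (p : α → Prop) [DecidablePred p] : Cover (Subtype p) (K.sub p) where
  π := K.subProj
  range_eq := by
    ext τ
    constructor
    · rintro ⟨g, rfl⟩
      rw [Perm.mem_alternatingGroup, ← Perm.sign_ofSubtype, K.ofSubtype_subProj]
      exact Perm.mem_alternatingGroup.1 (K.mem_alternating g)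
    · intro hτ
      rw [Perm.mem_alternatingGroup, ← Perm.sign_ofSubtype] at hτ
      obtain ⟨g, hg⟩ := K.exists_lift (Perm.mem_alternatingGroup.2 hτ)
      have hgm : g ∈ K.sub p := fun x hx => by
        rw [hg, Perm.ofSubtype_apply_of_not_mem τ hx]
      refine ⟨⟨g, hgm⟩, ?_⟩
      apply Perm.ofSubtype_injective
      rw [K.ofSubtype_subProj]
      exact hg
  z := ⟨K.z, K.z_mem_sub⟩
  z_ne h := K.z_ne (congrArg Subtype.val h)
  ker g := by
    rw [← Perm.ofSubtype_injective.eq_iff, K.ofSubtype_subProj, map_one, K.ker, Subtype.ext_iff, Subtype.ext_iff]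
    rfl
  dbl a b c d hab hac had hbc hbd hcd g hg := by
    have h1 : K.π g = swap (a : α) b * swap (c : α) d := by
      rw [← K.ofSubtype_subProj, hg, map_mul, Perm.ofSubtype_swap_eq, Perm.ofSubtype_swap_eq]
    exact Subtype.ext (K.dbl a b c d (Subtype.coe_ne_coe.2 hab) (Subtype.coe_ne_coe.2 hac)
      (Subtype.coe_ne_coe.2 had) (Subtype.coe_ne_coe.2 hbc) (Subtype.coe_ne_coe.2 hbd)
      (Subtype.coe_ne_coe.2 hcd) g h1)

theorem restrict_z : ((K.restrict p).z : C) = K.z := rfl

theorem restrict_π_apply (g : K.sub p) (x : Subtype p) : (((K.restrict p).π g x : Subtype p) : α) = K.π g x := rfl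

end restrict

/-- Transport of a cover along a bijection. -/
def congr {β : Type*} [Fintype β] [DecidableEq β] (e : α ≃ β) : Cover β C where
  π := (e.permCongrHom : Perm α ≃* Perm β).toMonoidHom.comp K.π
  range_eq := by
    ext τ
    constructor
    · rintro ⟨g, rfl⟩
      rw [Perm.mem_alternatingGroup]
      show Perm.sign (e.permCongr (K.π g)) = 1
      rw [Perm.sign_permCongr]
      exact Perm.mem_alternatingGroup.1 (K.mem_alternating g)
    · intro hτ
      have h1 : e.symm.permCongr τ ∈ alternatingGroup α := by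
        rw [Perm.mem_alternatingGroup, Perm.sign_permCongr]
        exact Perm.mem_alternatingGroup.1 hτ
      obtain ⟨g, hg⟩ := K.exists_lift h1
      refine ⟨g, ?_⟩
      show e.permCongr (K.π g) = τ
      rw [hg]
      ext x
      simp
  z := K.z
  z_ne := K.z_ne
  ker g := by
    rw [← K.ker g]
    exact MulEquiv.map_eq_one_iff (e.permCongrHom : Perm α ≃* Perm β)
  dbl a b c d hab hac had hbc hbd hcd g hg := by
    have h1 : K.π g = swap (e.symm a) (e.symm b) * swap (e.symm c) (e.symm d) := by
      have h2 : e.permCongr (K.π g) = swap a b * swap c d := hg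
      ext x
      have h3 := congrFun (congrArg DFunLike.coe h2) (e x)
      rw [Equiv.permCongr_apply, Equiv.symm_apply_apply] at h3
      rw [← Equiv.symm_apply_apply e (K.π g x), h3, Perm.mul_apply, Perm.mul_apply]
      simp only [swap_apply_def]
      split_ifs <;> simp_all [Equiv.eq_symm_apply]
    exact K.dbl _ _ _ _ (e.symm.injective.ne hab) (e.symm.injective.ne hac) (e.symm.injective.ne had)
      (e.symm.injective.ne hbc) (e.symm.injective.ne hbd) (e.symm.injective.ne hcd) g h1

/-- Transport of a cover along an isomorphism of groups. -/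
def map {D : Type*} [Group D] (e : C ≃* D) : Cover α D where
  π := K.π.comp e.symm.toMonoidHom
  range_eq := by
    rw [MonoidHom.range_comp]
    rw [← K.range_eq]
    have : (e.symm.toMonoidHom).range = ⊤ := MonoidHom.range_eq_top.2 e.symm.surjective
    rw [this, ← MonoidHom.range_eq_map]
  z := e K.z
  z_ne h := K.z_ne (by rwa [map_eq_one_iff e e.injective] at h)
  ker x := by
    show K.π (e.symm x) = 1 ↔ _
    rw [K.ker, MulEquiv.symm_apply_eq, MulEquiv.symm_apply_eq, map_one]
  dbl a b c d hab hac had hbc hbd hcd g hg := by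
    have := K.dbl a b c d hab hac had hbc hbd hcd (e.symm g) hg
    rw [← map_mul, MulEquiv.symm_apply_eq] at this
    exact this

end Cover

section bridge

open Cfsg.Agent.SporadicRecognition.AltCover

/-- the cover from a non-split extension, `n ≥ 5` -/
def ofIsCover {n : ℕ} (hn : 5 ≤ n) {C : Type*} [Group C] {π : C →* alternatingGroup (Fin n)} {z : C}
    (h : IsCover π z) : Cover (Fin n) C where
  π := (alternatingGroup (Fin n)).subtype.comp π
  range_eq := by
    rw [MonoidHom.range_comp, MonoidHom.range_eq_top.2 h.surj, ← MonoidHom.range_eq_map, Subgroup.range_subtype]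
  z := z
  z_ne := h.z_ne
  ker x := by
    rw [← h.ker x]
    exact OneMemClass.coe_eq_one
  dbl a b c d hab hac had hbc hbd hcd g hg := by
    obtain ⟨e, he, hez⟩ := h.exists_model hn
    have h1 : Cfsg.Agent.CharactersDeep.DoubleCover.proj n (e g : Cfsg.Agent.CharactersDeep.DoubleCover.cover n) =
        Cfsg.Agent.CharactersDeep.DoubleCover.proj n (T a b * T c d) := by
      rw [← coe_mproj, he, map_mul, proj_T hab, proj_T hcd]
      exact hg
    have hsq : (T a b * T c d) * (T a b * T c d) = Cfsg.Agent.CharactersDeep.DoubleCover.zz n := by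
      have h2 := T_mul_T_disjoint hab hcd hac had hbc hbd
      calc T a b * T c d * (T a b * T c d) =
          T a b * T c d * (Cfsg.Agent.CharactersDeep.DoubleCover.zz n * (T c d * T a b)) := by rw [← h2]
        _ = T a b * T c d * (T c d * T a b * Cfsg.Agent.CharactersDeep.DoubleCover.zz n) := by rw [← zz_central]
        _ = T a b * (T c d * T c d) * T a b * Cfsg.Agent.CharactersDeep.DoubleCover.zz n := by group
        _ = Cfsg.Agent.CharactersDeep.DoubleCover.zz n := by
          rw [T_mul_self hcd, mul_one, T_mul_self hab, one_mul]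
    have h3 : Cfsg.Agent.CharactersDeep.DoubleCover.proj n
        ((T a b * T c d)⁻¹ * (e g : Cfsg.Agent.CharactersDeep.DoubleCover.cover n)) = 1 := by
      rw [map_mul, map_inv, h1, inv_mul_cancel]
    have hzz := Cfsg.Agent.CharactersDeep.DoubleCover.zz_mul_self (n := n)
    have h4 : (e g : Cfsg.Agent.CharactersDeep.DoubleCover.cover n) * (e g : Cfsg.Agent.CharactersDeep.DoubleCover.cover n)
        = Cfsg.Agent.CharactersDeep.DoubleCover.zz n := by
      rcases Cfsg.Agent.CharactersDeep.DoubleCover.eq_one_or_eq_zz_of_proj_eq_one h3 with h5 | h5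
      · rw [inv_mul_eq_one] at h5
        rw [← h5, hsq]
      · rw [inv_mul_eq_iff_eq_mul] at h5
        rw [h5, mul_assoc, ← mul_assoc (Cfsg.Agent.CharactersDeep.DoubleCover.zz n), ← zz_central (T a b * T c d),
          mul_assoc (T a b * T c d) (Cfsg.Agent.CharactersDeep.DoubleCover.zz n), hzz, mul_one, hsq]
    apply e.injective
    apply Subtype.ext
    rw [map_mul, hez, coe_mz]
    exact h4

end bridge

end Cfsg.Agent.SporRec.TwoAn
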