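import Cfsg.Prelude.Def_TwoFusion
import Cfsg.Agent.SporRec.TwoAn
import Cfsg.Agent.S0215
import Cfsg.Agent.S1180

/-!
# Simple groups with an involution centraliser `2.A_n`: reduction

`exists_conj_ne`: in a simple group an involution `z` with non-abelian centraliser commutes with some
conjugate different from `z` (Z*-theorem).
`reduce`: if `C = C_G(z)` is a non-split double cover of `A_n` then there are a conjugate `u ≠ z` of `z`
in `C` and `g` with `z^g = u`, `u^g = z u`; moreover `8 ≤ n`.
-/

set_option autoImplicit false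

namespace Cfsg.Agent.SporRec.LyReduce

open Subgroup
open Cfsg.Agent.SporadicRecognition.AltCover
open Cfsg.Agent.SporRec.TwoAn

/-- An involution of a simple group whose centraliser is not commutative is not isolated. -/
theorem exists_conj_ne {G : Type*} [Group G] [Finite G] [IsSimpleGroup G] (z : G)
    (hz : orderOf z = 2) (hC : ∃ a b : G, a * b ≠ b * a) :
    ∃ g : G, g * z * g⁻¹ ≠ z ∧ Commute z (g * z * g⁻¹) := by
  classical
  by_contra hcon
  push Not at hcon
  have hiso : Cfsg.IsIsolatedInvolution z := by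
    refine ⟨hz, fun g hg => ?_⟩
    by_contra h
    exact hcon g h hg
  have : Fact (Nat.Prime 2) := ⟨Nat.prime_two⟩
  have hzz : z ^ 2 = 1 := by rw [← hz]; exact pow_orderOf_eq_one z
  have hp : IsPGroup 2 (zpowers z) := by
    rw [IsPGroup.iff_card]
    exact ⟨1, by rw [Nat.card_zpowers, hz, pow_one]⟩
  obtain ⟨P, hP⟩ := hp.exists_le_sylow
  have hzP : z ∈ P := hP (mem_zpowers z)
  obtain ⟨N, hN, hodd, hcomm⟩ := Cfsg.Agent.S0215.result P z hz hzP fun g hg =>
    Cfsg.Agent.S1180.eq_of_conj_mem_isPGroup z hiso (P : Subgroup G) P.isPGroup' hzP g hg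
  rcases hN.eq_bot_or_eq_top with h | h
  · have hzc : ∀ g, z * g = g * z := by
      intro g
      have h1 := hcomm g
      rw [h, mem_bot, mul_inv_eq_one, mul_inv_eq_iff_eq_mul] at h1
      exact h1
    have hzcen : z ∈ center G := mem_center_iff.2 fun g => (hzc g).symm
    rcases (inferInstance : (center G).Normal).eq_bot_or_eq_top with h2 | h2
    · rw [h2, mem_bot] at hzcen
      rw [hzcen, orderOf_one] at hz
      omega
    · obtain ⟨a, b, hab⟩ := hC
      apply hab
      have ha : b ∈ center G := by rw [h2]; exact mem_top _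
      exact mem_center_iff.1 ha a
  · rw [h, Subgroup.card_top] at hodd
    have : 2 ∣ Nat.card G := by rw [← hz]; exact orderOf_dvd_natCard z
    exact (Nat.not_even_iff_odd.2 hodd) (even_iff_two_dvd.2 this)

variable {G : Type*} [Group G]

/-- conjugation by `g` with `g z g⁻¹ = u` carries the centraliser of `z` to that of `u` -/
def conjCent {z u : G} (g : G) (hg : g * z * g⁻¹ = u) :
    centralizer ({z} : Set G) ≃* centralizer ({u} : Set G) where
  toFun x := ⟨g * x * g⁻¹, by
    have hx := mem_centralizer_singleton_iff.1 x.2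
    rw [mem_centralizer_singleton_iff, ← hg]
    calc g * (x : G) * g⁻¹ * (g * z * g⁻¹) = g * ((x : G) * z) * g⁻¹ := by group
      _ = g * (z * (x : G)) * g⁻¹ := by rw [hx]
      _ = g * z * g⁻¹ * (g * (x : G) * g⁻¹) := by group⟩
  invFun x := ⟨g⁻¹ * x * g, by
    have hx := mem_centralizer_singleton_iff.1 x.2
    rw [mem_centralizer_singleton_iff]
    have hz : z = g⁻¹ * u * g := by rw [← hg]; group
    rw [hz]
    calc g⁻¹ * (x : G) * g * (g⁻¹ * u * g) = g⁻¹ * ((x : G) * u) * g := by group
      _ = g⁻¹ * (u * (x : G)) * g := by rw [hx]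
      _ = g⁻¹ * u * g * (g⁻¹ * (x : G) * g) := by group⟩
  left_inv x := by
    apply Subtype.ext
    change g⁻¹ * (g * (x : G) * g⁻¹) * g = x
    group
  right_inv x := by
    apply Subtype.ext
    change g * (g⁻¹ * (x : G) * g) * g⁻¹ = x
    group
  map_mul' x y := by
    apply Subtype.ext
    change g * ((x : G) * (y : G)) * g⁻¹ = g * (x : G) * g⁻¹ * (g * (y : G) * g⁻¹)
    group

theorem conjCent_coe {z u : G} (g : G) (hg : g * z * g⁻¹ = u) (x : centralizer ({z} : Set G)) :
    (conjCent g hg x : G) = g * x * g⁻¹ := rfl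

/-- The reduction at the level of the group `G`. -/
theorem reduce [Finite G] [IsSimpleGroup G] (n : ℕ) (hn : 5 ≤ n) (z : G) (hz : orderOf z = 2)
    (hcov : Cfsg.IsNonsplitDoubleCover (centralizer ({z} : Set G)) (alternatingGroup (Fin n))) :
    8 ≤ n ∧ ∃ (π : centralizer ({z} : Set G) →* alternatingGroup (Fin n))
      (_ : IsCover π ⟨z, mem_centralizer_singleton_iff.2 rfl⟩),
      ∃ u : G, u * u = 1 ∧ u ≠ 1 ∧ u ≠ z ∧ u * z = z * u ∧
        ∃ g : G, g * z * g⁻¹ = u ∧ g * u * g⁻¹ = z * u := by
  classical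
  obtain ⟨π, z₀, hK, hcen⟩ := exists_isCover hcov
  have hz2 : z ^ 2 = 1 := by rw [← hz]; exact pow_orderOf_eq_one z
  have hzz : z * z = 1 := by rw [← pow_two, hz2]
  have hz1 : z ≠ 1 := by
    intro h; rw [h, orderOf_one] at hz; omega
  set z' : centralizer ({z} : Set G) := ⟨z, mem_centralizer_singleton_iff.2 rfl⟩ with hz'
  have hz'0 : z' = z₀ := by
    have h1 : z' ∈ center (centralizer ({z} : Set G)) := by
      rw [mem_center_iff]
      intro x
      apply Subtype.ext
      change (x : G) * z = z * x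
      exact mem_centralizer_singleton_iff.1 x.2
    rcases (hcen z').1 h1 with h | h
    · exact absurd (congrArg Subtype.val h) hz1
    · exact h
  rw [← hz'0] at hK
  let K : Cover (Fin n) (centralizer ({z} : Set G)) := ofIsCover hn hK
  have hKz : K.z = z' := rfl
  -- non-commuting elements
  have hnc : ∃ a b : G, a * b ≠ b * a := by
    by_contra hcon
    push Not at hcon
    have h1 : ∀ a b : alternatingGroup (Fin n), a * b = b * a := by
      intro a b
      obtain ⟨x, rfl⟩ := hK.surj a
      obtain ⟨y, rfl⟩ := hK.surj b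
      rw [← map_mul, ← map_mul]
      congr 1
      exact Subtype.ext (hcon x y)
    have h2 : center (alternatingGroup (Fin n)) = ⊤ := by
      rw [eq_top_iff]
      intro a _
      exact mem_center_iff.2 fun b => h1 b a
    have hc : center (alternatingGroup (Fin n)) = ⊥ :=
      alternatingGroup.center_eq_bot (by rw [Nat.card_eq_fintype_card, Fintype.card_fin]; omega)
    rw [hc] at h2
    have : Nontrivial (alternatingGroup (Fin n)) :=
      alternatingGroup.nontrivial_of_three_le_card
        (by rw [Nat.card_eq_fintype_card, Fintype.card_fin]; omega)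
    exact bot_ne_top h2
  obtain ⟨g₀, hg₀, hcomm⟩ := exists_conj_ne z hz hnc
  obtain ⟨u, hu⟩ : ∃ u, u = g₀ * z * g₀⁻¹ := ⟨_, rfl⟩
  rw [← hu] at hg₀ hcomm
  have huu : u * u = 1 := by
    rw [hu]
    calc g₀ * z * g₀⁻¹ * (g₀ * z * g₀⁻¹) = g₀ * (z * z) * g₀⁻¹ := by group
      _ = 1 := by rw [hzz]; group
  have hu1 : u ≠ 1 := by
    intro h
    rw [h] at hu
    apply hz1
    have h2 : g₀⁻¹ * (g₀ * z * g₀⁻¹) * g₀ = z := by group
    rw [← h2, ← hu]; group
  have huz : u * z = z * u := hcomm.symm
  -- `u` as an element of `C`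
  let u' : centralizer ({z} : Set G) := ⟨u, mem_centralizer_singleton_iff.2 huz⟩
  have hu'u' : u' * u' = 1 := Subtype.ext huu
  have hu'1 : u' ≠ 1 := fun h => hu1 (congrArg Subtype.val h)
  have hu'z : u' ≠ z' := fun h => hg₀ (congrArg Subtype.val h)
  have hn8 : 8 ≤ n := by
    by_contra hlt
    rcases K.eq_one_or_eq_z_of_card_lt (by rw [Fintype.card_fin]; omega) hu'u' with h | h
    · exact hu'1 h
    · exact hu'z h
  refine ⟨hn8, π, hK, u, huu, hu1, hg₀, huz, ?_⟩
  -- the two swaps
  have hπu : K.π u' ≠ 1 := by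
    intro h
    rcases (K.ker _).1 h with h | h
    · exact hu'1 h
    · exact hu'z h
  obtain ⟨c, hc⟩ := K.exists_conj_mul_z (g := u') (by rw [← map_mul, hu'u', map_one]) hπu
  let L : Cover (Fin n) (centralizer ({u} : Set G)) := K.map (conjCent g₀ hu.symm)
  have hLz : (L.z : G) = u := by
    change ((conjCent g₀ hu.symm) z' : G) = u
    rw [conjCent_coe, hu]
  let z'' : centralizer ({u} : Set G) := ⟨z, mem_centralizer_singleton_iff.2 huz.symm⟩
  have hz''1 : z'' ≠ 1 := fun h => hz1 (congrArg Subtype.val h)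
  have hπz : L.π z'' ≠ 1 := by
    intro h
    rcases (L.ker _).1 h with h | h
    · exact hz''1 h
    · apply hg₀
      rw [← hLz, ← h]
  obtain ⟨d, hd⟩ := L.exists_conj_mul_z (g := z'') (by
    rw [← map_mul, show z'' * z'' = 1 from Subtype.ext hzz, map_one]) hπz
  have hc1 : (c : G) * u * (c : G)⁻¹ = u * z := by
    have := congrArg Subtype.val hc
    exact this
  have hc2 : (c : G) * z * (c : G)⁻¹ = z := by
    rw [mul_inv_eq_iff_eq_mul]
    exact mem_centralizer_singleton_iff.1 c.2
  have hd1 : (d : G) * z * (d : G)⁻¹ = z * u := by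
    have := congrArg Subtype.val hd
    rw [coe_mul (centralizer ({u} : Set G)) z'' L.z, hLz] at this
    exact this
  have hd2 : (d : G) * u * (d : G)⁻¹ = u := by
    rw [mul_inv_eq_iff_eq_mul]
    exact mem_centralizer_singleton_iff.1 d.2
  generalize (c : G) = c at hc1 hc2
  generalize (d : G) = d at hd1 hd2
  -- `d c : z → z u → u → z`
  have hdcz : (d * c) * z * (d * c)⁻¹ = z * u := by
    calc (d * c) * z * (d * c)⁻¹ = d * (c * z * c⁻¹) * d⁻¹ := by group
      _ = z * u := by rw [hc2, hd1]
  have hdcu : (d * c) * u * (d * c)⁻¹ = z := by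
    calc (d * c) * u * (d * c)⁻¹ = d * (c * u * c⁻¹) * d⁻¹ := by group
      _ = (d * u * d⁻¹) * (d * z * d⁻¹) := by rw [hc1]; group
      _ = u * (z * u) := by rw [hd2, hd1]
      _ = z := by rw [← huz, ← mul_assoc, huu, one_mul]
  refine ⟨(d * c)⁻¹, ?_, ?_⟩
  · rw [← hdcu]; group
  · have h1 : (d * c)⁻¹ * (z * u) * (d * c) = z := by rw [← hdcz]; group
    have h2 : (d * c)⁻¹ * z * (d * c) = u := by rw [← hdcu]; group
    rw [inv_inv]
    calc (d * c)⁻¹ * u * (d * c) = (d * c)⁻¹ * (z * (z * u)) * (d * c) := by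
          rw [← mul_assoc z z u, hzz, one_mul]
      _ = ((d * c)⁻¹ * z * (d * c)) * ((d * c)⁻¹ * (z * u) * (d * c)) := by group
      _ = z * u := by rw [h1, h2, huz]

end Cfsg.Agent.SporRec.LyReduce
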