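import Cfsg.Agent.SporRec.ClosingFive
import Cfsg.Agent.S0215
import Cfsg.Agent.S0005

/-!
# Closing a recognition theorem: commuting products, `Z*` and the odd order theorem

Let `M` be a subgroup of the finite group `G` and `z` an involution of `M` such that
`g * z * g⁻¹ ∈ M` implies `g ∈ M` (i.e. `C_G(z) ≤ M` and `z^G ∩ M = z^M`).  Suppose that the product of
two different commuting conjugates of `z` in `M` is conjugate to `z`.  Let `p ≠ q` be primes dividing `|M|`
exactly once, not dividing `|C(z)|`, such that `M` has no subgroup of order `p q`.  Then `M = G`.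

Proof.  Otherwise let `K = M ∩ g M g⁻¹` be a two-point stabiliser on `G/M`.  Conjugates of `z` fixing
different cosets have a product of odd order, so `K` is transitive on the conjugates of `z` in `M`; so
`p q` divides `|K|`.  Some conjugate `t` of `z` swaps the two cosets; in `H = K⟨t⟩` all products
`t t^h` have odd order, so `[t, H] ≤ O(H)` and `H = O(H) C_H(t)`; hence `p q` divides `|O(H)|`,
`O(H) ≤ K ≤ M` is solvable and has a Hall subgroup of order `p q`.
-/

set_option autoImplicit false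

namespace Cfsg.Agent.SporRec.ClosingZStar

open Cfsg.Agent.SporRec.ClosingSuz Cfsg.Agent.SporRec.ClosingFive

universe u

variable {G : Type u} [Group G]

/-- The hypotheses of the closing theorem. -/
structure HypZ (M : Subgroup G) (z : G) : Prop where
  fus : ∀ g : G, g * z * g⁻¹ ∈ M → g ∈ M
  zz : z * z = 1
  zM : z ∈ M
  comm : ∀ x ∈ M, ∀ y ∈ M, Z z x → Z z y → x ≠ y → x * y = y * x → Z z (x * y)

section dihedral

variable {x y : G}

theorem pow_x (hx : x * x = 1) (hy : y * y = 1) (n : ℕ) : (x * y) ^ n * x = x * ((x * y) ^ n)⁻¹ := by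
  have hxi : x⁻¹ = x := inv_eq_of_mul_eq_one_left hx
  have hyi : y⁻¹ = y := inv_eq_of_mul_eq_one_left hy
  have hxr : x * (x * y) * x⁻¹ = (x * y)⁻¹ := by
    rw [mul_inv_rev, hxi, hyi, ← mul_assoc, hx, one_mul]
  have hpow : x * (x * y) ^ n * x⁻¹ = ((x * y) ^ n)⁻¹ := by rw [← conj_pow, hxr, inv_pow]
  rw [← hpow, hxi, ← mul_assoc, ← mul_assoc, hx, one_mul]

theorem pow_conj (hx : x * x = 1) (hy : y * y = 1) (n : ℕ) :
    (x * y) ^ n * x * ((x * y) ^ n)⁻¹ = x * ((x * y) ^ (2 * n))⁻¹ := by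
  rw [pow_x hx hy, two_mul, pow_add, mul_inv_rev, mul_assoc]

/-- odd case -/
theorem odd_case (hx : x * x = 1) (hy : y * y = 1) (h : Odd (orderOf (x * y))) :
    ∃ m k : ℕ, (x * y) ^ m * x * ((x * y) ^ m)⁻¹ = y ∧
      ((x * y) ^ m * x) * x * ((x * y) ^ m * x)⁻¹ = y ∧
      ((x * y) ^ m * x) * y * ((x * y) ^ m * x)⁻¹ = x ∧
      (x * y) ^ k * x * ((x * y) ^ k)⁻¹ = (x * y) ^ m * x := by
  obtain ⟨m, hm⟩ := h
  have h1 : (x * y) ^ (2 * m) * (x * y) = 1 := by
    rw [← pow_succ, ← hm]; exact pow_orderOf_eq_one _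
  have h2 : ((x * y) ^ (2 * m))⁻¹ = x * y := inv_eq_of_mul_eq_one_right h1
  have e1 : (x * y) ^ m * x * ((x * y) ^ m)⁻¹ = y := by
    rw [pow_conj hx hy, h2, ← mul_assoc, hx, one_mul]
  have hxi : x⁻¹ = x := inv_eq_of_mul_eq_one_left hx
  have e2 : ((x * y) ^ m * x) * x * ((x * y) ^ m * x)⁻¹ = y := by
    have : (x * y) ^ m * x * x * ((x * y) ^ m * x)⁻¹ = (x * y) ^ m * x * ((x * y) ^ m)⁻¹ := by group
    rw [this, e1]
  have htt : ((x * y) ^ m * x) * ((x * y) ^ m * x) = 1 := by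
    calc ((x * y) ^ m * x) * ((x * y) ^ m * x) = ((x * y) ^ m * x) * (x * y) ^ m * x := by group
      _ = (x * ((x * y) ^ m)⁻¹) * (x * y) ^ m * x := by rw [pow_x hx hy]
      _ = x * x := by group
      _ = 1 := hx
  have hti : ((x * y) ^ m * x)⁻¹ = (x * y) ^ m * x := inv_eq_of_mul_eq_one_left htt
  refine ⟨m, m * (m + 1), e1, e2, ?_, ?_⟩
  · calc (x * y) ^ m * x * y * ((x * y) ^ m * x)⁻¹
        = (x * y) ^ m * x * (((x * y) ^ m * x) * x * ((x * y) ^ m * x)⁻¹) * ((x * y) ^ m * x)⁻¹ := by rw [e2]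
      _ = ((x * y) ^ m * x) * ((x * y) ^ m * x) * x * (((x * y) ^ m * x)⁻¹ * ((x * y) ^ m * x)⁻¹) := by group
      _ = x := by rw [hti, htt]; group
  · rw [pow_conj hx hy, pow_x hx hy]
    have h3 : (x * y) ^ (2 * (m * (m + 1))) = (x * y) ^ m := by
      have e : 2 * (m * (m + 1)) = (2 * m + 1) * m + m := by ring
      rw [e, pow_add, pow_mul, ← hm, pow_orderOf_eq_one, one_pow, one_mul]
    rw [h3]

/-- even case -/
theorem even_case [Finite G] (hx : x * x = 1) (hy : y * y = 1) (h : ¬ Odd (orderOf (x * y))) :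
    ∃ m : ℕ, (x * y) ^ m ≠ 1 ∧ (x * y) ^ m * (x * y) ^ m = 1 ∧ x * (x * y) ^ m = (x * y) ^ m * x ∧
      ∃ g : G, g * x * g⁻¹ = x * (x * y) ^ m ∨ g * y * g⁻¹ = x * (x * y) ^ m := by
  obtain ⟨m, hm⟩ := Nat.not_odd_iff_even.mp h
  have hpos : 0 < orderOf (x * y) := orderOf_pos _
  have hmpos : 0 < m := by omega
  have hc2 : (x * y) ^ m * (x * y) ^ m = 1 := by
    rw [← pow_add, ← hm]; exact pow_orderOf_eq_one _
  have hci : ((x * y) ^ m)⁻¹ = (x * y) ^ m := inv_eq_of_mul_eq_one_left hc2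
  refine ⟨m, ?_, hc2, ?_, ?_⟩
  · intro h
    have h1 := orderOf_dvd_of_pow_eq_one h
    have := Nat.le_of_dvd hmpos h1
    omega
  · rw [pow_x hx hy m, hci]
  · rcases Nat.even_or_odd m with ⟨j, hj⟩ | ⟨j, hj⟩
    · refine ⟨(x * y) ^ j, Or.inl ?_⟩
      rw [pow_conj hx hy, two_mul, ← hj, hci]
    · refine ⟨(x * y) ^ (j + 1), Or.inr ?_⟩
      have hy' : y = x * (x * y) := by rw [← mul_assoc, hx, one_mul]
      have h3 : (x * y) * ((x * y) ^ (j + 1))⁻¹ = ((x * y) ^ (j + 1))⁻¹ * (x * y) := by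
        have := (Commute.refl (x * y)).pow_right (j + 1)
        exact (this.inv_right).eq
      have hcy : (x * y) ^ (j + 1) * y * ((x * y) ^ (j + 1))⁻¹ =
          x * ((x * y) ^ (2 * (j + 1)))⁻¹ * (x * y) := by
        calc (x * y) ^ (j + 1) * y * ((x * y) ^ (j + 1))⁻¹
            = (x * y) ^ (j + 1) * (x * (x * y)) * ((x * y) ^ (j + 1))⁻¹ := by rw [← hy']
          _ = (x * y) ^ (j + 1) * x * ((x * y) * ((x * y) ^ (j + 1))⁻¹) := by simp only [mul_assoc]
          _ = (x * y) ^ (j + 1) * x * ((x * y) ^ (j + 1))⁻¹ * (x * y) := by rw [h3]; group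
          _ = _ := by rw [pow_conj hx hy]
      have h6 : ((x * y) ^ (2 * (j + 1)))⁻¹ * (x * y) = ((x * y) ^ m)⁻¹ := by
        have : (x * y) ^ (2 * (j + 1)) = (x * y) * (x * y) ^ m := by
          rw [hj, ← pow_succ']; congr 1
        rw [this, mul_inv_rev, mul_assoc, inv_mul_cancel, mul_one]
      rw [hcy, mul_assoc, h6, hci]

end dihedral

section main

variable {M : Subgroup G} {z : G}

theorem HypZ.sq_of_Z (h : HypZ M z) {x : G} (hx : Z z x) : x * x = 1 := by
  obtain ⟨g, rfl⟩ := hx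
  have : g * z * g⁻¹ * (g * z * g⁻¹) = g * (z * z) * g⁻¹ := by group
  rw [this, h.zz]; group

/-- An element commuting with a conjugate of `z` fixes its coset. -/
theorem HypZ.fix_of_comm (h : HypZ M z) {x c a : G} (hx : Z z x) (hxc : x * c = c * x)
    (ha : a⁻¹ * x * a ∈ M) : a⁻¹ * c * a ∈ M := by
  have h1 : (c * a)⁻¹ * x * (c * a) ∈ M := by
    have : (c * a)⁻¹ * x * (c * a) = a⁻¹ * x * a := by
      calc (c * a)⁻¹ * x * (c * a) = a⁻¹ * c⁻¹ * (x * c) * a := by group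
        _ = a⁻¹ * x * a := by rw [hxc]; group
    rw [this]; exact ha
  have := mem_of_fix h.fus hx ha h1
  simpa [mul_assoc] using this

theorem HypZ.commG (h : HypZ M z) {x y : G} (hx : Z z x) (hy : Z z y) (hne : x ≠ y)
    (hxy : x * y = y * x) : Z z (x * y) := by
  obtain ⟨g, hg⟩ := hx
  have hxM : g⁻¹ * x * g ∈ M := by
    have : g⁻¹ * x * g = z := by rw [← hg]; group
    rw [this]; exact h.zM
  have hyM : g⁻¹ * y * g ∈ M := h.fix_of_comm ⟨g, hg⟩ hxy hxM
  have hxZ : Z z (g⁻¹ * x * g) := by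
    have hx : Z z x := ⟨g, hg⟩
    have := hx.conj g⁻¹
    simpa using this
  have hyZ : Z z (g⁻¹ * y * g) := by
    have := hy.conj g⁻¹
    simpa using this
  have h1 : g⁻¹ * x * g * (g⁻¹ * y * g) = g⁻¹ * (x * y) * g := by group
  have h2 := h.comm _ hxM _ hyM hxZ hyZ (fun h3 => hne (by
    have := congrArg (fun e => g * e * g⁻¹) h3
    simpa [mul_assoc] using this)) (by rw [h1, hxy]; group)
  rw [h1] at h2
  apply Z.of_conj g⁻¹
  simpa using h2

/-- If the product `x y` of two conjugates of `z` has even order then some power of it is a conjugate of `z`. -/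
theorem HypZ.even [Finite G] (h : HypZ M z) {x y : G} (hx : Z z x) (hy : Z z y)
    (hodd : ¬ Odd (orderOf (x * y))) : ∃ m : ℕ, Z z ((x * y) ^ m) ∧ x * (x * y) ^ m = (x * y) ^ m * x := by
  obtain ⟨m, h1, -, hxc, k, hk⟩ := even_case (h.sq_of_Z hx) (h.sq_of_Z hy) hodd
  refine ⟨m, ?_, hxc⟩
  have h2 : Z z (x * (x * y) ^ m) := by
    rcases hk with hk | hk
    · rw [← hk]; exact hx.conj k
    · rw [← hk]; exact hy.conj k
  have hxx := h.sq_of_Z hx
  have h4 := h.commG hx h2 (fun h5 => h1 (by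
    have : x * (x * y) ^ m = x * 1 := by rw [← h5, mul_one]
    exact mul_left_cancel this)) (by rw [mul_assoc, ← hxc])
  rwa [← mul_assoc, hxx, one_mul] at h4

/-- Two conjugates of `z` fixing different cosets have a product of odd order. -/
theorem HypZ.odd [Finite G] (h : HypZ M z) {x y g : G} (hx : Z z x) (hy : Z z y) (hxM : x ∈ M)
    (hyM : g⁻¹ * y * g ∈ M) (hg : g ∉ M) : Odd (orderOf (x * y)) := by
  by_contra hodd
  obtain ⟨m, hm, hxc⟩ := h.even hx hy hodd
  have h5 : (1 : G)⁻¹ * (x * y) ^ m * 1 ∈ M := h.fix_of_comm hx hxc (by simpa using hxM)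
  have hyc : y * (x * y) ^ m = (x * y) ^ m * y := by
    have h1 : y = x * (x * y) := by rw [← mul_assoc, h.sq_of_Z hx, one_mul]
    have h2 : (x * y) * (x * y) ^ m = (x * y) ^ m * (x * y) := by rw [← pow_succ, ← pow_succ']
    calc y * (x * y) ^ m = x * ((x * y) * (x * y) ^ m) := by
          rw [← mul_assoc x, ← h1]
      _ = x * (x * y) ^ m * (x * y) := by rw [h2]; group
      _ = (x * y) ^ m * (x * (x * y)) := by rw [hxc]; group
      _ = (x * y) ^ m * y := by rw [← h1]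
  have h6 : g⁻¹ * (x * y) ^ m * g ∈ M := h.fix_of_comm hy hyc hyM
  have := mem_of_fix h.fus hm h5 h6
  exact hg (by simpa using this)

/-- The stabiliser of the pair of cosets `{M, g M}`. -/
def PairStab (M : Subgroup G) (g : G) : Subgroup G where
  carrier := {h | (h ∈ M ∧ g⁻¹ * h * g ∈ M) ∨ (h * g ∈ M ∧ g⁻¹ * h ∈ M)}
  one_mem' := Or.inl ⟨M.one_mem, by simp [M.one_mem]⟩
  mul_mem' := by
    rintro a b (⟨a1, a2⟩ | ⟨a1, a2⟩) (⟨b1, b2⟩ | ⟨b1, b2⟩)
    · refine Or.inl ⟨M.mul_mem a1 b1, ?_⟩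
      have := M.mul_mem a2 b2
      simpa [mul_assoc] using this
    · refine Or.inr ⟨?_, ?_⟩
      · have := M.mul_mem a1 b1
        simpa [mul_assoc] using this
      · have := M.mul_mem a2 b2
        simpa [mul_assoc] using this
    · refine Or.inr ⟨?_, ?_⟩
      · have := M.mul_mem a1 b2
        simpa [mul_assoc] using this
      · have := M.mul_mem a2 b1
        simpa [mul_assoc] using this
    · refine Or.inl ⟨?_, ?_⟩
      · have := M.mul_mem a1 b2
        simpa [mul_assoc] using this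
      · have := M.mul_mem a2 b1
        simpa [mul_assoc] using this
  inv_mem' := by
    rintro a (⟨a1, a2⟩ | ⟨a1, a2⟩)
    · refine Or.inl ⟨M.inv_mem a1, ?_⟩
      have := M.inv_mem a2
      simpa [mul_assoc] using this
    · refine Or.inr ⟨?_, ?_⟩
      · have := M.inv_mem a2
        simpa [mul_assoc] using this
      · have := M.inv_mem a1
        simpa [mul_assoc] using this

theorem mem_pairStab {g h : G} : h ∈ PairStab M g ↔
    (h ∈ M ∧ g⁻¹ * h * g ∈ M) ∨ (h * g ∈ M ∧ g⁻¹ * h ∈ M) := Iff.rfl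

theorem Kg_le (g : G) : Kg M g ≤ PairStab M g := fun _ hk => Or.inl (mem_Kg.mp hk)

/-- Conjugates of `z` in the pair stabiliser swap the two cosets. -/
theorem HypZ.swap_of_mem (h : HypZ M z) {g s : G} (hg : g ∉ M) (hs : Z z s) (hsH : s ∈ PairStab M g) :
    s * g ∈ M ∧ g⁻¹ * s ∈ M := by
  rcases hsH with ⟨h1, h2⟩ | h1
  · exfalso
    have := mem_of_fix (a := 1) (b := g) h.fus hs (by simpa using h1) h2
    exact hg (by simpa using this)
  · exact h1

/-- Products of conjugates of `z` in the pair stabiliser have odd order. -/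
theorem HypZ.odd_pair [Finite G] (h : HypZ M z) {g s t : G} (hg : g ∉ M) (hs : Z z s) (ht : Z z t)
    (hsH : s ∈ PairStab M g) (htH : t ∈ PairStab M g) : Odd (orderOf (s * t)) := by
  by_contra hodd
  obtain ⟨m, hm, -⟩ := h.even hs ht hodd
  obtain ⟨s1, s2⟩ := h.swap_of_mem hg hs hsH
  obtain ⟨t1, t2⟩ := h.swap_of_mem hg ht htH
  have hst : s * t ∈ Kg M g := by
    rw [mem_Kg]
    constructor
    · have := M.mul_mem s1 t2
      simpa [mul_assoc] using this
    · have := M.mul_mem s2 t1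
      simpa [mul_assoc] using this
  obtain ⟨k1, k2⟩ := mem_Kg.mp ((Kg M g).pow_mem hst m)
  have := mem_of_fix (a := 1) (b := g) h.fus hm (by simpa using k1) k2
  exact hg (by simpa using this)

/-- Odd order elements of the pair stabiliser fix the two cosets. -/
theorem mem_of_odd {g h : G} (hh : h ∈ PairStab M g) (ho : Odd (orderOf h)) : h ∈ M := by
  obtain ⟨m, hm⟩ := ho
  have h1 : h * h ∈ Kg M g := by
    rw [mem_Kg]
    rcases hh with ⟨h1, h2⟩ | ⟨h1, h2⟩
    · refine ⟨M.mul_mem h1 h1, ?_⟩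
      have := M.mul_mem h2 h2
      simpa [mul_assoc] using this
    · constructor
      · have := M.mul_mem h1 h2
        simpa [mul_assoc] using this
      · have := M.mul_mem h2 h1
        simpa [mul_assoc] using this
  have h2 : (h * h) ^ m * h = 1 := by
    rw [← pow_two, ← pow_mul, ← pow_succ, ← hm, pow_orderOf_eq_one]
  have h3 : h = ((h * h) ^ m)⁻¹ := (inv_eq_of_mul_eq_one_right h2).symm
  rw [h3]
  exact M.inv_mem (mem_Kg.mp ((Kg M g).pow_mem h1 m)).1

/-- The existence of the swapping element, and the transitivity of `Kg M g`. -/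
theorem HypZ.exists_swap [Finite G] (h : HypZ M z) {x y g : G} (hx : Z z x) (hy : Z z y) (hxM : x ∈ M)
    (hyM : g⁻¹ * y * g ∈ M) (hg : g ∉ M) :
    ∃ t : G, Z z t ∧ t * x * t⁻¹ = y ∧ t * y * t⁻¹ = x ∧ t * g ∈ M ∧ g⁻¹ * t ∈ M := by
  have hodd := h.odd hx hy hxM hyM hg
  obtain ⟨m, k, -, e2, e3, e4⟩ := odd_case (h.sq_of_Z hx) (h.sq_of_Z hy) hodd
  refine ⟨(x * y) ^ m * x, ?_, e2, e3, ?_, ?_⟩
  · rw [← e4]; exact hx.conj _
  · have h3 : ((x * y) ^ m * x * g)⁻¹ * x * ((x * y) ^ m * x * g) ∈ M := by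
      have : ((x * y) ^ m * x * g)⁻¹ * x * ((x * y) ^ m * x * g) = g⁻¹ * y * g := by
        calc ((x * y) ^ m * x * g)⁻¹ * x * ((x * y) ^ m * x * g)
            = ((x * y) ^ m * x * g)⁻¹ * (((x * y) ^ m * x) * y * ((x * y) ^ m * x)⁻¹) *
              ((x * y) ^ m * x * g) := by rw [e3]
          _ = g⁻¹ * y * g := by group
      rw [this]; exact hyM
    have := mem_of_fix (a := 1) h.fus hx (by simpa using hxM) h3
    simpa using this
  · have h3 : ((x * y) ^ m * x)⁻¹ * y * ((x * y) ^ m * x) ∈ M := by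
      have : ((x * y) ^ m * x)⁻¹ * y * ((x * y) ^ m * x) = x := by
        calc ((x * y) ^ m * x)⁻¹ * y * ((x * y) ^ m * x)
            = ((x * y) ^ m * x)⁻¹ * (((x * y) ^ m * x) * x * ((x * y) ^ m * x)⁻¹) * ((x * y) ^ m * x) := by
              rw [e2]
          _ = x := by group
      rw [this]; exact hxM
    exact mem_of_fix h.fus hy hyM h3

theorem HypZ.trans [Finite G] (h : HypZ M z) {x y y' g : G} (hx : Z z x) (hy : Z z y) (hy' : Z z y')
    (hxM : x ∈ M) (hyM : g⁻¹ * y * g ∈ M) (hyM' : g⁻¹ * y' * g ∈ M) (hg : g ∉ M) :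
    ∃ k ∈ Kg M g, k * y * k⁻¹ = y' := by
  obtain ⟨t, -, htx, hty, a1, b1⟩ := h.exists_swap hx hy hxM hyM hg
  obtain ⟨t', -, htx', hty', a2, b2⟩ := h.exists_swap hx hy' hxM hyM' hg
  refine ⟨t' * t, mem_Kg.mpr ⟨?_, ?_⟩, ?_⟩
  · have := M.mul_mem a2 b1
    simpa [mul_assoc] using this
  · have := M.mul_mem b2 a1
    simpa [mul_assoc] using this
  · calc t' * t * y * (t' * t)⁻¹ = t' * (t * y * t⁻¹) * t'⁻¹ := by group
      _ = y' := by rw [hty, htx']

/-- Orbit-stabiliser for the conjugation by a subgroup. -/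
theorem ncard_mul (C : Subgroup G) (y₀ : G) (Y : Set G) (hY : ∀ y, y ∈ Y ↔ ∃ c ∈ C, c * y₀ * c⁻¹ = y) :
    Y.ncard * Nat.card (C ⊓ Subgroup.centralizer ({y₀} : Set G) : Subgroup G) = Nat.card C := by
  let _ : MulAction C G :=
    { smul := fun c y => (c : G) * y * (c : G)⁻¹
      one_smul := fun y => by
        change ((1 : C) : G) * y * ((1 : C) : G)⁻¹ = y
        simp
      mul_smul := fun a b y => by
        change ((a * b : C) : G) * y * ((a * b : C) : G)⁻¹ = (a : G) * ((b : G) * y * (b : G)⁻¹) * (a : G)⁻¹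
        simp [mul_assoc] }
  have hsmul : ∀ (c : C) (y : G), c • y = (c : G) * y * (c : G)⁻¹ := fun _ _ => rfl
  have horb : MulAction.orbit C y₀ = Y := by
    ext y
    rw [MulAction.mem_orbit_iff, hY]
    constructor
    · rintro ⟨c, hc⟩
      exact ⟨c, c.2, hc⟩
    · rintro ⟨c, hc, h⟩
      exact ⟨⟨c, hc⟩, h⟩
  have hst : Nat.card (MulAction.stabilizer C y₀) =
      Nat.card (C ⊓ Subgroup.centralizer ({y₀} : Set G) : Subgroup G) := by
    have hmem : ∀ c : C, c ∈ MulAction.stabilizer C y₀ ↔ (c : G) * y₀ = y₀ * c := by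
      intro c
      rw [MulAction.mem_stabilizer_iff, hsmul, mul_inv_eq_iff_eq_mul]
    refine Nat.card_congr
      { toFun := fun c => ⟨(c : C), Subgroup.mem_inf.mpr ⟨(c : C).2, ?_⟩⟩
        invFun := fun c => ⟨⟨c, (Subgroup.mem_inf.mp c.2).1⟩, ?_⟩
        left_inv := fun c => rfl
        right_inv := fun c => rfl }
    · rw [Subgroup.mem_centralizer_singleton_iff]
      exact (hmem _).mp c.2
    · rw [hmem]
      exact Subgroup.mem_centralizer_singleton_iff.mp (Subgroup.mem_inf.mp c.2).2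
  rw [← hst, ← horb, ← MulAction.index_stabilizer, mul_comm]
  exact Subgroup.card_mul_index _

/-- A prime dividing `|M|` and not dividing `|C(z)|` divides the order of a two-point stabiliser. -/
theorem HypZ.dvd_Kg [Finite G] (h : HypZ M z) {g : G} (hg : g ∉ M) {p : ℕ} (hp : p.Prime)
    (hpM : p ∣ Nat.card M) (hpC : ¬ p ∣ Nat.card (Subgroup.centralizer ({z} : Set G))) :
    p ∣ Nat.card (Kg M g) := by
  have h1 := ncard_mul M z {y | Z z y ∧ y ∈ M} (by
    intro y
    constructor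
    · rintro ⟨⟨k, rfl⟩, hk⟩
      exact ⟨k, h.fus k hk, rfl⟩
    · rintro ⟨k, hk, rfl⟩
      exact ⟨⟨k, rfl⟩, M.mul_mem (M.mul_mem hk h.zM) (M.inv_mem hk)⟩)
  have h2 : p ∣ ({y | Z z y ∧ y ∈ M} : Set G).ncard := by
    rw [← h1] at hpM
    rcases (Nat.Prime.dvd_mul hp).mp hpM with h3 | h3
    · exact h3
    · exact absurd (h3.trans (Subgroup.card_dvd_of_le inf_le_right)) hpC
  have hzg : g⁻¹ * (g * z * g⁻¹) * g = z := by group
  have h4 := ncard_mul (Kg M g) (g * z * g⁻¹) {y | Z z y ∧ g⁻¹ * y * g ∈ M} (by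
    intro y
    constructor
    · rintro ⟨hy, hyM⟩
      exact h.trans (x := z) ⟨1, by simp⟩ ⟨g, rfl⟩ hy h.zM (by rw [hzg]; exact h.zM) hyM hg
    · rintro ⟨k, hk, rfl⟩
      obtain ⟨k1, k2⟩ := mem_Kg.mp hk
      refine ⟨(show Z z (g * z * g⁻¹) from ⟨g, rfl⟩).conj k, ?_⟩
      have := M.mul_mem (M.mul_mem k2 h.zM) (M.inv_mem k2)
      have e : g⁻¹ * (k * (g * z * g⁻¹) * k⁻¹) * g = g⁻¹ * k * g * z * (g⁻¹ * k * g)⁻¹ := by group
      rw [e]; exact this)
  have h5 : ({y | Z z y ∧ g⁻¹ * y * g ∈ M} : Set G).ncard = ({y | Z z y ∧ y ∈ M} : Set G).ncard := by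
    refine Set.ncard_congr (fun y _ => g⁻¹ * y * g) ?_ ?_ ?_
    · rintro y ⟨hy, hyM⟩
      refine ⟨?_, hyM⟩
      have := hy.conj g⁻¹
      simpa using this
    · intro a b _ _ hab
      have := congrArg (fun e => g * e * g⁻¹) hab
      simpa [mul_assoc] using this
    · rintro y ⟨hy, hyM⟩
      refine ⟨g * y * g⁻¹, ⟨hy.conj g, ?_⟩, ?_⟩
      · have : g⁻¹ * (g * y * g⁻¹) * g = y := by group
        rw [this]; exact hyM
      · group
  rw [h5] at h4
  rw [← h4]
  exact h2.mul_right _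

/-- **Closing theorem.** -/
theorem HypZ.eq_top [Finite G] (h : HypZ M z) {p q : ℕ} (hp : p.Prime) (hq : q.Prime) (hpq : p ≠ q)
    (hpM : p ∣ Nat.card M) (hqM : q ∣ Nat.card M) (hp2 : ¬ p ^ 2 ∣ Nat.card M) (hq2 : ¬ q ^ 2 ∣ Nat.card M)
    (hpC : ¬ p ∣ Nat.card (Subgroup.centralizer ({z} : Set G)))
    (hqC : ¬ q ∣ Nat.card (Subgroup.centralizer ({z} : Set G)))
    (hsolv : ∀ N : Subgroup G, N ≤ M → Odd (Nat.card N) → Group.IsSolvable N)
    (hno : ∀ B : Subgroup G, B ≤ M → Nat.card B ≠ p * q) : M = ⊤ := by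
  by_contra hM
  obtain ⟨g, hg⟩ : ∃ g, g ∉ M := by
    by_contra hcon
    push Not at hcon
    exact hM (eq_top_iff.mpr fun x _ => hcon x)
  have hzg : g⁻¹ * (g * z * g⁻¹) * g = z := by group
  obtain ⟨t, htZ, -, -, t1, t2⟩ := h.exists_swap (x := z) (y := g * z * g⁻¹) ⟨1, by simp⟩ ⟨g, rfl⟩ h.zM
    (by rw [hzg]; exact h.zM) hg
  have htH : t ∈ PairStab M g := Or.inr ⟨t1, t2⟩
  set H := PairStab M g with hH
  let tt : H := ⟨t, htH⟩
  have hodd : ∀ k : H, Odd (orderOf (tt * (k * tt * k⁻¹))) := by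
    intro k
    have h1 := h.odd_pair hg htZ (htZ.conj (k : G)) htH (H.mul_mem (H.mul_mem k.2 htH) (H.inv_mem k.2))
    rw [← Subgroup.orderOf_coe]
    exact h1
  have htt : tt * tt = 1 := Subtype.ext (h.sq_of_Z htZ)
  have hcomm := Cfsg.Agent.S0215.iso_commutator tt ⟨htt, hodd⟩
  have hNn : (Cfsg.pPrimeCore 2 H).Normal := Cfsg.Agent.Lib.Cores.pPrimeCore_normal 2
  have hNodd : Odd (Nat.card (Cfsg.pPrimeCore 2 H)) :=
    Nat.coprime_two_right.mp (Cfsg.Agent.Lib.Cores.pPrimeCore_coprime 2)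
  generalize Cfsg.pPrimeCore 2 H = N at hcomm hNn hNodd
  have htti : tt⁻¹ = tt := inv_eq_of_mul_eq_one_left htt
  -- `H = N C_H(t)`
  have hfr : ∀ k : H, ∃ c ∈ Subgroup.centralizer ({tt} : Set H), k⁻¹ * c ∈ N := by
    intro k
    have hmem : tt * (k * tt * k⁻¹) ∈ N := by
      have := hcomm k
      rw [htti] at this
      have e : tt * (k * tt * k⁻¹) = tt * k * tt * k⁻¹ := by group
      rw [e]; exact this
    have hyy : (k * tt * k⁻¹) * (k * tt * k⁻¹) = 1 := by
      calc (k * tt * k⁻¹) * (k * tt * k⁻¹) = k * (tt * tt) * k⁻¹ := by group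
        _ = 1 := by rw [htt]; group
    obtain ⟨m, -, e1, -, -, -⟩ := odd_case htt hyy (hodd k)
    refine ⟨((tt * (k * tt * k⁻¹)) ^ m)⁻¹ * k, ?_, ?_⟩
    · rw [Subgroup.mem_centralizer_singleton_iff]
      have e2 : ((tt * (k * tt * k⁻¹)) ^ m)⁻¹ * (k * tt * k⁻¹) * (tt * (k * tt * k⁻¹)) ^ m = tt := by
        calc ((tt * (k * tt * k⁻¹)) ^ m)⁻¹ * (k * tt * k⁻¹) * (tt * (k * tt * k⁻¹)) ^ m
            = ((tt * (k * tt * k⁻¹)) ^ m)⁻¹ *
              ((tt * (k * tt * k⁻¹)) ^ m * tt * ((tt * (k * tt * k⁻¹)) ^ m)⁻¹) *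
              (tt * (k * tt * k⁻¹)) ^ m := by rw [e1]
          _ = tt := by group
      calc ((tt * (k * tt * k⁻¹)) ^ m)⁻¹ * k * tt
          = (((tt * (k * tt * k⁻¹)) ^ m)⁻¹ * (k * tt * k⁻¹) * (tt * (k * tt * k⁻¹)) ^ m) *
            (((tt * (k * tt * k⁻¹)) ^ m)⁻¹ * k) := by group
        _ = tt * (((tt * (k * tt * k⁻¹)) ^ m)⁻¹ * k) := by rw [e2]
    · have h1 := hNn.conj_mem _ (N.inv_mem (N.pow_mem hmem m)) k⁻¹
      have e : k⁻¹ * (((tt * (k * tt * k⁻¹)) ^ m)⁻¹ * k) =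
          k⁻¹ * ((tt * (k * tt * k⁻¹)) ^ m)⁻¹ * k⁻¹⁻¹ := by group
      rw [e]; exact h1
  -- primes not dividing `|C(z)|`
  have hdvd : ∀ r : ℕ, r.Prime → r ∣ Nat.card M → ¬ r ∣ Nat.card (Subgroup.centralizer ({z} : Set G)) →
      r ∣ Nat.card N := by
    intro r hr hrM hrC
    have h1 : r ∣ Nat.card H := (h.dvd_Kg hg hr hrM hrC).trans (Subgroup.card_dvd_of_le (Kg_le g))
    have h2 : Function.Surjective ((QuotientGroup.mk' N).comp (Subgroup.centralizer ({tt} : Set H)).subtype) := by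
      intro x
      obtain ⟨k, rfl⟩ := QuotientGroup.mk'_surjective N x
      obtain ⟨c, hc, hck⟩ := hfr k
      refine ⟨⟨c, hc⟩, ?_⟩
      show QuotientGroup.mk' N c = QuotientGroup.mk' N k
      exact ((QuotientGroup.mk'_eq_mk' N).mpr ⟨_, hck, by group⟩).symm
    have h3 := Subgroup.card_dvd_of_surjective _ h2
    have h4 : Nat.card (Subgroup.centralizer ({tt} : Set H)) ∣
        Nat.card (Subgroup.centralizer ({z} : Set G)) := by
      rw [← card_centralizer_conj z htZ, ← Subgroup.card_map_of_injective H.subtype_injective]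
      apply Subgroup.card_dvd_of_le
      rintro _ ⟨c, hc, rfl⟩
      rw [Subgroup.mem_centralizer_singleton_iff]
      have := Subgroup.mem_centralizer_singleton_iff.mp hc
      exact congrArg Subtype.val this
    have h5 : Nat.card H = Nat.card N * Nat.card (H ⧸ N) := by
      rw [mul_comm]; exact Subgroup.card_eq_card_quotient_mul_card_subgroup N
    rw [h5] at h1
    rcases (Nat.Prime.dvd_mul hr).mp h1 with h6 | h6
    · exact h6
    · exact absurd (h6.trans (h3.trans h4)) hrC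
  have hpN := hdvd p hp hpM hpC
  have hqN := hdvd q hq hqM hqC
  -- the subgroup `N` of `G`
  set N' : Subgroup G := N.map H.subtype with hN'
  have hcardN : Nat.card N' = Nat.card N := Subgroup.card_map_of_injective H.subtype_injective
  have hN'M : N' ≤ M := by
    rintro _ ⟨x, hx, rfl⟩
    refine mem_of_odd (g := g) x.2 ?_
    have h1 : orderOf (⟨x, hx⟩ : N) ∣ Nat.card N := orderOf_dvd_natCard _
    have h2 : orderOf (x : G) = orderOf (⟨x, hx⟩ : N) :=
      (Subgroup.orderOf_coe x).trans (Subgroup.orderOf_mk x hx).symm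
    show Odd (orderOf (x : G))
    rw [h2]
    exact hNodd.of_dvd_nat h1
  have hN'odd : Odd (Nat.card N') := by rw [hcardN]; exact hNodd
  have hsol := hsolv N' hN'M hN'odd
  have hN'dvd : Nat.card N' ∣ Nat.card M := Subgroup.card_dvd_of_le hN'M
  -- Hall subgroup
  have hpqc : Nat.Coprime p q := (Nat.coprime_primes hp hq).mpr hpq
  obtain ⟨n, hn⟩ : p * q ∣ Nat.card N' := by
    rw [hcardN]
    exact Nat.Coprime.mul_dvd_of_dvd_of_dvd hpqc hpN hqN
  have hcop : (p * q).Coprime n := by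
    have key : ∀ r : ℕ, r.Prime → r ∣ p * q → ¬ r ^ 2 ∣ Nat.card M → ¬ r ∣ n := by
      intro r _ h1 h2 h3
      apply h2
      rw [pow_two]
      exact ((Nat.mul_dvd_mul h1 h3).trans (dvd_of_eq hn.symm)).trans hN'dvd
    have a1 := key p hp (Dvd.intro _ rfl) hp2
    have a2 := key q hq (Dvd.intro_left _ rfl) hq2
    exact Nat.Coprime.mul_left ((Nat.Prime.coprime_iff_not_dvd hp).mpr a1)
      ((Nat.Prime.coprime_iff_not_dvd hq).mpr a2)
  obtain ⟨B, hB, -⟩ := Cfsg.Agent.S0005.result (G := N') (p * q) n hn hcop ⊥ (by simp)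
  refine hno (B.map N'.subtype) ?_ ?_
  · rintro _ ⟨x, -, rfl⟩
    exact hN'M x.2
  · rw [Subgroup.card_map_of_injective N'.subtype_injective, hB]

end main

/-- The facts needed about the model `K` (with classes of involutions `z^K`, `w^K`). -/
structure ModelZ (K : Type*) [Group K] (z w : K) : Prop where
  zz : z * z = 1
  z1 : z ≠ 1
  two : ∀ t : K, t * t = 1 → t ≠ 1 → Z z t ∨ Z w t
  comm : ∀ x y : K, Z z x → Z z y → x ≠ y → x * y = y * x → Z z (x * y)

/-- Transfer of the model facts to a subgroup `M = φ(K)` of `G`. -/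
theorem ModelZ.hyp {K : Type*} [Group K] {z w : K} (h : ModelZ K z w) [Finite G] (φ : K →* G)
    (hφ : Function.Injective φ) (hC : Subgroup.centralizer ({φ z} : Set G) ≤ φ.range)
    (hnZ : ¬ Z (φ z) (φ w)) : HypZ φ.range (φ z) := by
  -- conjugacy classes
  have hup : ∀ a b : K, Z a b → Z (φ a) (φ b) := by
    rintro a b ⟨g, rfl⟩
    exact ⟨φ g, by simp⟩
  have hZw : ∀ t : K, Z w t → ¬ Z (φ z) (φ t) := by
    rintro t ⟨g, rfl⟩ h1
    apply hnZ
    apply Z.of_conj (φ g)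
    simpa using h1
  have htwo : ∀ t : K, t * t = 1 → t ≠ 1 → (Z (φ z) (φ t) → Z z t) := by
    intro t h1 h2 h3
    rcases h.two t h1 h2 with h4 | h4
    · exact h4
    · exact absurd h3 (hZw t h4)
  have hG1 : ∀ g : G, g * φ z * g⁻¹ ≠ 1 := by
    intro g h1
    apply h.z1
    apply hφ
    have : φ z = g⁻¹ * (g * φ z * g⁻¹) * g := by group
    rw [this, h1, map_one]; group
  have hGsq : ∀ g : G, (g * φ z * g⁻¹) * (g * φ z * g⁻¹) = 1 := by
    intro g
    have : g * φ z * g⁻¹ * (g * φ z * g⁻¹) = g * (φ z * φ z) * g⁻¹ := by group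
    rw [this, ← map_mul, h.zz, map_one]; group
  have hdown : ∀ t : K, Z (φ z) (φ t) → Z z t := by
    intro t ht
    obtain ⟨g, hg⟩ := ht
    refine htwo t ?_ ?_ ⟨g, hg⟩
    · apply hφ
      rw [map_mul, ← hg, hGsq, map_one]
    · rintro rfl
      exact hG1 g (by rw [hg, map_one])
  refine
    { fus := ?_
      zz := by rw [← map_mul, h.zz, map_one]
      zM := ⟨z, rfl⟩
      comm := ?_ }
  · rintro g ⟨t, ht⟩
    obtain ⟨k, rfl⟩ := hdown t ⟨g, ht.symm⟩
    have h1 : (φ k)⁻¹ * g ∈ Subgroup.centralizer ({φ z} : Set G) := by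
      rw [Subgroup.mem_centralizer_singleton_iff]
      have h2 : g * φ z * g⁻¹ = φ k * φ z * (φ k)⁻¹ := by rw [← ht]; simp
      calc (φ k)⁻¹ * g * φ z = (φ k)⁻¹ * (g * φ z * g⁻¹) * g := by group
        _ = φ z * ((φ k)⁻¹ * g) := by rw [h2]; group
    have h3 := hC h1
    have h4 := φ.range.mul_mem (⟨k, rfl⟩ : φ k ∈ φ.range) h3
    simpa using h4
  · rintro _ ⟨x, rfl⟩ _ ⟨y, rfl⟩ h1 h2 h3 h4
    rw [← map_mul]
    exact hup _ _ (h.comm x y (hdown _ h1) (hdown _ h2) (fun h5 => h3 (by rw [h5]))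
      (hφ (by rw [map_mul, h4, map_mul])))

/-- If an element of order `r` commutes with `w` and `r` does not divide `|C(z)|` then `w` is not conjugate to
`z`. -/
theorem not_Z_of_comm {K : Type*} [Group K] {z w : K} [Finite G] (φ : K →* G)
    (hφ : Function.Injective φ) (r : ℕ) (hr : ¬ r ∣ Nat.card (Subgroup.centralizer ({φ z} : Set G)))
    (u : K) (hu : orderOf u = r) (huw : u * w = w * u) : ¬ Z (φ z) (φ w) := by
  rintro ⟨g, hg⟩
  apply hr
  have hmem : g⁻¹ * φ u * g ∈ Subgroup.centralizer ({φ z} : Set G) := by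
    rw [Subgroup.mem_centralizer_singleton_iff]
    have h1 : φ u * φ w = φ w * φ u := by rw [← map_mul, huw, map_mul]
    rw [← hg] at h1
    calc g⁻¹ * φ u * g * φ z = g⁻¹ * (φ u * (g * φ z * g⁻¹)) * g := by group
      _ = φ z * (g⁻¹ * φ u * g) := by rw [h1]; group
  have h2 : orderOf (g⁻¹ * φ u * g) = r := by
    have h3 : orderOf (MulAut.conj g⁻¹ (φ u)) = orderOf (φ u) :=
      orderOf_injective (MulAut.conj g⁻¹).toMonoidHom (MulAut.conj g⁻¹).injective _
    rw [MulAut.conj_apply, inv_inv, orderOf_injective φ hφ, hu] at h3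
    exact h3
  have h4 := orderOf_dvd_natCard (⟨_, hmem⟩ : Subgroup.centralizer ({φ z} : Set G))
  rwa [Subgroup.orderOf_mk, h2] at h4

theorem zmod13 : ∀ a : ZMod 13, a ^ 11 - 1 = 0 → a = 1 := by decide

/-- A group of order `143` contains commuting elements of orders `13` and `11`. -/
theorem exists_of_card_143 {B : Type*} [Group B] (hB : Nat.card B = 11 * 13) :
    ∃ x y : B, orderOf x = 13 ∧ orderOf y = 11 ∧ x * y = y * x := by
  have hfin : Finite B := Nat.finite_of_card_ne_zero (by rw [hB]; norm_num)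
  have h13 : Fact (Nat.Prime 13) := ⟨by norm_num⟩
  have h11 : Fact (Nat.Prime 11) := ⟨by norm_num⟩
  obtain ⟨x, hx⟩ := exists_prime_orderOf_dvd_card' (G := B) 13 (by rw [hB]; norm_num)
  obtain ⟨y, hy⟩ := exists_prime_orderOf_dvd_card' (G := B) 11 (by rw [hB]; norm_num)
  refine ⟨x, y, hx, hy, ?_⟩
  have hpx : Nat.card (Subgroup.zpowers x) = 13 := by rw [Nat.card_zpowers, hx]
  have hfac : (Nat.card B).factorization 13 = 1 := by
    rw [hB, Nat.factorization_mul (by norm_num) (by norm_num)]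
    simp [Nat.Prime.factorization (show Nat.Prime 11 by norm_num),
      Nat.Prime.factorization (show Nat.Prime 13 by norm_num)]
  let P : Sylow 13 B := Sylow.ofCard (Subgroup.zpowers x) (by rw [hpx, hfac, pow_one])
  have hP : (P : Subgroup B) = Subgroup.zpowers x := rfl
  have hcardS : Nat.card (Sylow 13 B) = 1 := by
    have h1 := card_sylow_modEq_one 13 B
    have h2 : Nat.card (Sylow 13 B) ∣ 11 := by
      have h3 := P.card_dvd_index
      have h4 := Subgroup.card_mul_index (P : Subgroup B)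
      rw [hP, hpx, hB] at h4
      rw [hP] at h3
      have h5 : (Subgroup.zpowers x).index = 11 := by omega
      rwa [h5] at h3
    rcases (Nat.dvd_prime (by norm_num : Nat.Prime 11)).mp h2 with h3 | h3
    · exact h3
    · rw [h3] at h1
      exact absurd h1 (by decide)
  have hsub : Subsingleton (Sylow 13 B) := by
    rw [← Finite.card_le_one_iff_subsingleton, hcardS]
  have hnorm : (Subgroup.zpowers x).Normal := by
    have := P.normal_of_subsingleton
    rwa [hP] at this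
  -- `y x y⁻¹ = x ^ k`
  have hmem : y * x * y⁻¹ ∈ Subgroup.zpowers x := hnorm.conj_mem x (Subgroup.mem_zpowers x) y
  obtain ⟨k, hk⟩ := Subgroup.mem_zpowers_iff.mp hmem
  have hpow : ∀ n : ℕ, y ^ n * x * (y ^ n)⁻¹ = x ^ (k ^ n) := by
    intro n
    induction n with
    | zero => simp
    | succ n ih =>
      calc y ^ (n + 1) * x * (y ^ (n + 1))⁻¹ = y * (y ^ n * x * (y ^ n)⁻¹) * y⁻¹ := by
            rw [pow_succ']; group
        _ = (y * x * y⁻¹) ^ (k ^ n) := by rw [ih, conj_zpow]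
        _ = x ^ (k ^ (n + 1)) := by rw [← hk, ← zpow_mul, pow_succ']
  have h1 : x ^ (k ^ 11 - 1) = 1 := by
    rw [zpow_sub, zpow_one, ← hpow 11, ← hy, pow_orderOf_eq_one]
    group
  have h2 : ((13 : ℕ) : ℤ) ∣ k ^ 11 - 1 := by
    rw [← hx]
    exact orderOf_dvd_iff_zpow_eq_one.mpr h1
  have h3 : (((k ^ 11 - 1 : ℤ)) : ZMod 13) = 0 := (ZMod.intCast_zmod_eq_zero_iff_dvd _ 13).mpr h2
  have h5 : ((k : ℤ) : ZMod 13) = 1 := by
    apply zmod13
    push_cast at h3
    exact h3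
  have h6 : (((k - 1 : ℤ)) : ZMod 13) = 0 := by push_cast; rw [h5]; ring
  have h7 : ((13 : ℕ) : ℤ) ∣ k - 1 := (ZMod.intCast_zmod_eq_zero_iff_dvd _ 13).mp h6
  have h8 : x ^ (k - 1) = 1 := by
    rw [← hx] at h7
    exact orderOf_dvd_iff_zpow_eq_one.mp h7
  have h9 : x ^ k = x := by
    rw [zpow_sub, zpow_one, mul_inv_eq_one] at h8
    exact h8
  rw [h9] at hk
  calc x * y = (y * x * y⁻¹) * y := by rw [← hk]
    _ = y * x := by group

/-- no subgroup of order 143, if there are no commuting elements of orders 13 and 11 -/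
theorem hno_of {K : Type*} [Group K]
    (h : ∀ x y : K, orderOf x = 13 → orderOf y = 11 → x * y = y * x → False) (B : Subgroup K) :
    Nat.card B ≠ 11 * 13 := by
  intro hB
  obtain ⟨x, y, hx, hy, hxy⟩ := exists_of_card_143 hB
  refine h x y ?_ ?_ (congrArg Subtype.val hxy)
  · rw [Subgroup.orderOf_coe, hx]
  · rw [Subgroup.orderOf_coe, hy]

/-- **Closing theorem, model form.** -/
theorem ModelZ.surjective {K : Type*} [Group K] {z w : K} (h : ModelZ K z w) [Finite G] (φ : K →* G)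
    (hφ : Function.Injective φ) (hC : Subgroup.centralizer ({φ z} : Set G) ≤ φ.range)
    (hnZ : ¬ Z (φ z) (φ w)) {p q : ℕ} (hp : p.Prime) (hq : q.Prime) (hpq : p ≠ q)
    (hpM : p ∣ Nat.card K) (hqM : q ∣ Nat.card K) (hp2 : ¬ p ^ 2 ∣ Nat.card K) (hq2 : ¬ q ^ 2 ∣ Nat.card K)
    (hpC : ¬ p ∣ Nat.card (Subgroup.centralizer ({φ z} : Set G)))
    (hqC : ¬ q ∣ Nat.card (Subgroup.centralizer ({φ z} : Set G)))
    (hsolv : ∀ N : Subgroup G, Odd (Nat.card N) → Group.IsSolvable N)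
    (hno : ∀ B : Subgroup K, Nat.card B ≠ p * q) : Function.Surjective φ := by
  have hcardr : Nat.card φ.range = Nat.card K :=
    (Nat.card_congr (MonoidHom.ofInjective hφ).toEquiv).symm
  rw [← hcardr] at hpM hqM hp2 hq2
  refine MonoidHom.range_eq_top.mp ((h.hyp φ hφ hC hnZ).eq_top hp hq hpq hpM hqM hp2 hq2 hpC hqC
    (fun N _ ho => hsolv N ho) ?_)
  intro B hB hcard
  apply hno (B.comap φ)
  rw [← hcard, ← Subgroup.card_map_of_injective hφ, Subgroup.map_comap_eq, inf_eq_right.mpr hB]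

end Cfsg.Agent.SporRec.ClosingZStar
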