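import Mathlib

/-!
# An abstract closing argument for recognition theorems (helper249)

`M` is a subgroup of the finite group `G` (the subgroup which has been identified), `z` an
involution of `M` with `C_G(z) ≤ M`, `D` its class in `G`.

* `even_or_odd` : two elements `u, v` with `u² = v² = 1` are conjugate or there is an involution
  `w` commuting with both such that `u w` is conjugate to `u` or to `v`.
* `normalizer_le` : `N_G(A) ≤ M` for every `D`-free subgroup `A ≠ 1` of an elementary abelian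
  subgroup `E` of `M`.
* `eq_top` : the last step.
* `surjective_of_facts` : everything in terms of facts in the identified group.
-/

set_option autoImplicit false

namespace Cfsg.Agent.SporRec.Closing249

section Dihedral

variable {B : Type*} [Group B]

theorem conj_pow_eq {u v : B} (hu : u * u = 1) (hv : v * v = 1) (j : ℕ) :
    u * (u * v) ^ j * u⁻¹ = ((u * v) ^ j)⁻¹ := by
  have hu' : u⁻¹ = u := by rw [inv_eq_iff_mul_eq_one]; exact hu
  have hv' : v⁻¹ = v := by rw [inv_eq_iff_mul_eq_one]; exact hv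
  rw [← conj_pow, ← inv_pow]
  congr 1
  rw [mul_inv_rev, hu', hv', ← mul_assoc, hu, one_mul]

theorem even_or_odd [Finite B] {u v : B} (hu : u * u = 1) (hv : v * v = 1) :
    (∃ n : B, n * u * n⁻¹ = v) ∨
      ∃ w : B, w ≠ 1 ∧ w * w = 1 ∧ w * u * w⁻¹ = u ∧ w * v * w⁻¹ = v ∧
        ∃ n : B, n * u * n⁻¹ = u * w ∨ n * v * n⁻¹ = u * w := by
  classical
  have hu' : u⁻¹ = u := by rw [inv_eq_iff_mul_eq_one]; exact hu
  have hv' : v⁻¹ = v := by rw [inv_eq_iff_mul_eq_one]; exact hv
  have key : ∀ j : ℕ, u * (u * v) ^ j = ((u * v) ^ j)⁻¹ * u := by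
    intro j
    have := conj_pow_eq hu hv j
    rw [← this]; group
  have hpos : 0 < orderOf (u * v) := orderOf_pos _
  rcases Nat.even_or_odd' (orderOf (u * v)) with ⟨k, hk | hk⟩
  · right
    have hk0 : 0 < k := by omega
    have hww : (u * v) ^ k * (u * v) ^ k = 1 := by
      rw [← pow_add, ← two_mul, ← hk, pow_orderOf_eq_one]
    have hwi : ((u * v) ^ k)⁻¹ = (u * v) ^ k := by
      rw [inv_eq_iff_mul_eq_one]; exact hww
    have hcu : (u * v) ^ k * u * ((u * v) ^ k)⁻¹ = u := by
      have h1 := key k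
      rw [hwi] at h1
      rw [hwi, ← h1, mul_assoc, hww, mul_one]
    have hcuv : (u * v) ^ k * (u * v) * ((u * v) ^ k)⁻¹ = u * v := by
      rw [← pow_succ, pow_succ', mul_assoc, mul_inv_cancel, mul_one]
    refine ⟨(u * v) ^ k, ?_, hww, hcu, ?_, ?_⟩
    · intro h
      have := orderOf_dvd_of_pow_eq_one h
      have := Nat.le_of_dvd hk0 this
      omega
    · have h2 : (u * v) ^ k * (u * v) * ((u * v) ^ k)⁻¹ =
          ((u * v) ^ k * u * ((u * v) ^ k)⁻¹) * ((u * v) ^ k * v * ((u * v) ^ k)⁻¹) := by group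
      rw [hcuv, hcu] at h2
      exact (mul_left_cancel h2).symm
    · rcases Nat.even_or_odd' k with ⟨j, hj | hj⟩
      · refine ⟨((u * v) ^ j)⁻¹, Or.inl ?_⟩
        rw [← key j, inv_inv, mul_assoc, ← pow_add, ← two_mul, ← hj]
      · refine ⟨((u * v) ^ j)⁻¹, Or.inr ?_⟩
        have e1 : u * (u * v) ^ k = u * (u * v) ^ j * (u * v) * (u * v) ^ j := by
          rw [hj, mul_assoc u, ← pow_succ, mul_assoc u, ← pow_add]
          congr 2; omega
        rw [e1, key j, inv_inv]
        simp only [mul_assoc]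
        rw [← mul_assoc u u, hu, one_mul]
  · left
    refine ⟨(u * v) ^ k, ?_⟩
    have e1 : (u * v) ^ k * u * ((u * v) ^ k)⁻¹ = (u * v) ^ (2 * k) * u := by
      have h1 := key k
      have h2 : u * ((u * v) ^ k)⁻¹ = (u * v) ^ k * u := by
        symm
        rw [eq_mul_inv_iff_mul_eq, mul_assoc, h1, mul_inv_cancel_left]
      rw [mul_assoc, h2, ← mul_assoc, ← pow_add, ← two_mul]
    rw [e1]
    have e2 : (u * v) ^ (2 * k) * (u * v) = 1 := by
      rw [← pow_succ, ← hk, pow_orderOf_eq_one]
    have e3 : (u * v) ^ (2 * k) = v * u := by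
      rw [mul_eq_one_iff_eq_inv] at e2
      rw [e2, mul_inv_rev, hu', hv']
    rw [e3, mul_assoc, hu, mul_one]

end Dihedral

section Main

variable {G : Type*} [Group G] [Finite G]

/-- The dihedral lemma modulo a subgroup `A` normalised by both elements. -/
theorem even_or_odd_mod (A : Subgroup G) {u v : G}
    (hu : u ∈ Subgroup.normalizer (A : Set G)) (hv : v ∈ Subgroup.normalizer (A : Set G))
    (hu2 : u * u ∈ A) (hv2 : v * v ∈ A) :
    (∃ n ∈ Subgroup.normalizer (A : Set G), v⁻¹ * (n * u * n⁻¹) ∈ A) ∨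
      ∃ w ∈ Subgroup.normalizer (A : Set G), w ∉ A ∧ w * w ∈ A ∧ u⁻¹ * (w * u * w⁻¹) ∈ A ∧
        v⁻¹ * (w * v * w⁻¹) ∈ A ∧
        ∃ n ∈ Subgroup.normalizer (A : Set G),
          (u * w)⁻¹ * (n * u * n⁻¹) ∈ A ∨ (u * w)⁻¹ * (n * v * n⁻¹) ∈ A := by
  classical
  let N := Subgroup.normalizer (A : Set G)
  let K : Subgroup N := A.subgroupOf N
  have : K.Normal := inferInstanceAs (A.subgroupOf (Subgroup.normalizer (A : Set G))).Normal
  let π : N →* N ⧸ K := QuotientGroup.mk' K
  have hπ : ∀ a b : N, π a = π b ↔ (a : G)⁻¹ * (b : G) ∈ A := by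
    intro a b
    change ((a : N ⧸ K) = (b : N ⧸ K)) ↔ _
    rw [QuotientGroup.eq]
    rfl
  have hπ1 : ∀ a : N, π a = 1 ↔ (a : G) ∈ A := by
    intro a
    have := hπ 1 a
    rw [map_one] at this
    rw [eq_comm, this]
    simp
  have hsurj : Function.Surjective π := QuotientGroup.mk'_surjective K
  let u' : N := ⟨u, hu⟩
  let v' : N := ⟨v, hv⟩
  have h1 : π u' * π u' = 1 := by
    rw [← map_mul, hπ1]; exact hu2
  have h2 : π v' * π v' = 1 := by
    rw [← map_mul, hπ1]; exact hv2
  rcases even_or_odd h1 h2 with ⟨n, hn⟩ | ⟨w, hw1, hw2, hwu, hwv, n, hn⟩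
  · left
    obtain ⟨n', rfl⟩ := hsurj n
    refine ⟨n', n'.2, ?_⟩
    rw [← map_inv, ← map_mul, ← map_mul, eq_comm, hπ] at hn
    exact hn
  · right
    obtain ⟨n', rfl⟩ := hsurj n
    obtain ⟨w', rfl⟩ := hsurj w
    refine ⟨w', w'.2, ?_, ?_, ?_, ?_, n', n'.2, ?_⟩
    · intro h
      exact hw1 ((hπ1 _).2 h)
    · rw [← map_mul, hπ1] at hw2
      exact hw2
    · rw [← map_inv, ← map_mul, ← map_mul, eq_comm, hπ] at hwu
      exact hwu
    · rw [← map_inv, ← map_mul, ← map_mul, eq_comm, hπ] at hwv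
      exact hwv
    · rcases hn with hn | hn
      · left
        rw [← map_inv, ← map_mul, ← map_mul, ← map_mul, eq_comm, hπ] at hn
        exact hn
      · right
        rw [← map_inv, ← map_mul, ← map_mul, ← map_mul, eq_comm, hπ] at hn
        exact hn

/-- `N_G(A) ≤ M` for every `D`-free subgroup `A ≠ 1` of `E`. -/
theorem normalizer_le (M E : Subgroup G) (D : Set G)
    (hD : ∀ g d : G, d ∈ D → g * d * g⁻¹ ∈ D) (hD2 : ∀ d ∈ D, d * d = 1)
    (hDM : ∀ g d : G, d ∈ D → d ∈ M → g * d * g⁻¹ ∈ M → g ∈ M)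
    (hEM : E ≤ M) (hE : ∀ e ∈ E, e * e = 1)
    (hE2 : ∀ a ∈ E, a ≠ 1 → a ∉ D → ∀ h ∈ M, h * a * h⁻¹ ∈ E → ∀ e ∈ E, h * e * h⁻¹ ∈ E)
    (hcount : ∀ A : Subgroup G, A ≤ E → A ≠ ⊥ → (∀ a ∈ A, a ∉ D) →
      ∃ u₁ ∈ E, u₁ ∈ D ∧ ∃ u₂ ∈ E, u₂ ∈ D ∧
        Nat.card {a : A // u₁ * (a : G) ∈ D} ≠ Nat.card {a : A // u₂ * (a : G) ∈ D}) :
    ∀ A : Subgroup G, A ≤ E → A ≠ ⊥ → (∀ a ∈ A, a ∉ D) →
      Subgroup.normalizer (A : Set G) ≤ M := by
  classical
  -- downward induction on the cardinality
  suffices H : ∀ n : ℕ, ∀ A : Subgroup G, Nat.card E - Nat.card A = n → A ≤ E → A ≠ ⊥ →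
      (∀ a ∈ A, a ∉ D) → Subgroup.normalizer (A : Set G) ≤ M from
    fun A h1 h2 h3 => H _ A rfl h1 h2 h3
  have hDiff : ∀ g d : G, g * d * g⁻¹ ∈ D ↔ d ∈ D := by
    intro g d
    refine ⟨fun h => ?_, hD g d⟩
    have := hD g⁻¹ _ h
    rwa [show g⁻¹ * (g * d * g⁻¹) * g⁻¹⁻¹ = d by group] at this
  have hEcomm : ∀ e ∈ E, ∀ f ∈ E, e * f = f * e := by
    intro e he f hf
    have h1 := hE e he
    have h2 := hE f hf
    have h3 := hE (e * f) (E.mul_mem he hf)
    have h1' : e⁻¹ = e := inv_eq_of_mul_eq_one_right h1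
    have h2' : f⁻¹ = f := inv_eq_of_mul_eq_one_right h2
    have h3' : (e * f)⁻¹ = e * f := inv_eq_of_mul_eq_one_right h3
    rw [← h3', mul_inv_rev, h1', h2']
  intro n
  induction n using Nat.strong_induction_on with
  | _ n ih =>
    intro A hn hAE hA1 hAD g hg
    obtain ⟨u₁, hu₁E, hu₁D, u₂, hu₂E, hu₂D, hne⟩ := hcount A hAE hA1 hAD
    have hnormE : ∀ e ∈ E, e ∈ Subgroup.normalizer (A : Set G) := by
      intro e he
      rw [Subgroup.mem_normalizer_iff]
      intro a
      constructor
      · intro ha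
        have : e * a * e⁻¹ = a := by rw [hEcomm e he a (hAE ha), mul_inv_cancel_right]
        rwa [this]
      · intro ha
        have h1 := hEcomm e he _ (hAE ha)
        have : a = e * a * e⁻¹ := by
          have h3 : a = e⁻¹ * (e * a * e⁻¹ * e) := by group
          rw [← h1, inv_mul_cancel_left] at h3
          exact h3
        rwa [this]
    obtain ⟨v, hvdef⟩ : ∃ v : G, v = g * u₂ * g⁻¹ := ⟨_, rfl⟩
    have hvD : v ∈ D := by rw [hvdef]; exact hD g u₂ hu₂D
    have hv : v ∈ Subgroup.normalizer (A : Set G) := by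
      rw [hvdef]
      exact Subgroup.mul_mem _ (Subgroup.mul_mem _ hg (hnormE _ hu₂E)) (Subgroup.inv_mem _ hg)
    have hconj : ∀ n ∈ Subgroup.normalizer (A : Set G), ∀ a ∈ A, n * a * n⁻¹ ∈ A := by
      intro n hn a ha
      exact (Subgroup.mem_normalizer_iff.1 hn a).1 ha
    have hconj' : ∀ n ∈ Subgroup.normalizer (A : Set G), ∀ a ∈ A, n⁻¹ * a * n ∈ A := by
      intro n hn a ha
      exact (Subgroup.mem_normalizer_iff''.1 hn a).1 ha
    have huM : ∀ u ∈ E, u ∈ D → ∀ m ∈ Subgroup.normalizer (A : Set G), ∀ w ∈ M,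
        u₁⁻¹ * (w * u₁ * w⁻¹) ∈ A → (u₁ * w)⁻¹ * (m * u * m⁻¹) ∈ A → w ∈ E := by
      intro u huE huD m hm w hwM _ h
      have h1 : m * u * m⁻¹ ∈ M := by
        have h2 : m * u * m⁻¹ = u₁ * w * ((u₁ * w)⁻¹ * (m * u * m⁻¹)) := by group
        rw [h2]
        exact M.mul_mem (M.mul_mem (hEM hu₁E) hwM) (hEM (hAE h))
      have hmM : m ∈ M := hDM m u huD (hEM huE) h1
      obtain ⟨a, ha, ha1⟩ := A.bot_or_exists_ne_one.resolve_left hA1
      have h3 : m * u * m⁻¹ ∈ E :=
        hE2 a (hAE ha) ha1 (hAD a ha) m hmM (hAE (hconj m hm a ha)) u huE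
      have h4 : w = u₁⁻¹ * (m * u * m⁻¹) * ((u₁ * w)⁻¹ * (m * u * m⁻¹))⁻¹ := by group
      rw [h4]
      exact E.mul_mem (E.mul_mem (E.inv_mem hu₁E) h3) (E.inv_mem (hAE h))
    have hvM : v ∈ M := by
      rcases even_or_odd_mod A (hnormE u₁ hu₁E) hv
        (by rw [hE u₁ hu₁E]; exact A.one_mem) (by rw [hD2 v hvD]; exact A.one_mem) with
        ⟨n, hn, hn2⟩ | ⟨w, hw, hwA, hww, hwu, hwv, n, hn, hn2⟩
      · exfalso
        apply hne
        -- the bijection a ↦ g⁻¹ b n a n⁻¹ g
        set b : G := v⁻¹ * (n * u₁ * n⁻¹) with hb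
        let e : A ≃ A :=
          { toFun := fun a => ⟨g⁻¹ * (b * (n * a * n⁻¹)) * g,
              hconj' g hg _ (A.mul_mem hn2 (hconj n hn _ a.2))⟩
            invFun := fun a => ⟨n⁻¹ * (b⁻¹ * (g * a * g⁻¹)) * n,
              hconj' n hn _ (A.mul_mem (A.inv_mem hn2) (hconj g hg _ a.2))⟩
            left_inv := by
              intro a
              apply Subtype.ext
              simp only
              group
            right_inv := by
              intro a
              apply Subtype.ext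
              simp only
              group }
        refine Nat.card_congr (e.subtypeEquiv ?_)
        intro a
        rw [← hDiff n, ← hDiff g (u₂ * _)]
        have : n * (u₁ * (a : G)) * n⁻¹ = g * (u₂ * ((e a : A) : G)) * g⁻¹ := by
          change n * (u₁ * (a : G)) * n⁻¹ =
            g * (u₂ * (g⁻¹ * (v⁻¹ * (n * u₁ * n⁻¹) * (n * a * n⁻¹)) * g)) * g⁻¹
          rw [hvdef]
          group
        rw [this]
      · have hwM : w ∈ M := by
          apply hDM w u₁ hu₁D (hEM hu₁E)
          have h2 : w * u₁ * w⁻¹ = u₁ * (u₁⁻¹ * (w * u₁ * w⁻¹)) := by group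
          rw [h2]
          exact M.mul_mem (hEM hu₁E) (hEM (hAE hwu))
        have hwE : w ∈ E := by
          rcases hn2 with hn2 | hn2
          · exact huM u₁ hu₁E hu₁D n hn w hwM hwu hn2
          · refine huM u₂ hu₂E hu₂D (n * g) (Subgroup.mul_mem _ hn hg) w hwM hwu ?_
            have : n * g * u₂ * (n * g)⁻¹ = n * v * n⁻¹ := by
              rw [hvdef]
              group
            rwa [this]
        have hww1 : w * w = 1 := hE w hwE
        have hwA' : ∀ a ∈ A, w * a = a * w := fun a ha => hEcomm w hwE a (hAE ha)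
        let A' : Subgroup G :=
          { carrier := {x | x ∈ A ∨ w * x ∈ A}
            one_mem' := Or.inl A.one_mem
            mul_mem' := by
              rintro x y (hx | hx) (hy | hy)
              · exact Or.inl (A.mul_mem hx hy)
              · right
                rw [← mul_assoc, hwA' x hx, mul_assoc]
                exact A.mul_mem hx hy
              · right
                rw [← mul_assoc]
                exact A.mul_mem hx hy
              · left
                have h5 : x * y = (w * x) * (w * y) := by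
                  have h6 : w * x * w = w * (w * x) := (hwA' _ hx).symm
                  rw [← mul_assoc (w * x), h6, ← mul_assoc w w, hww1, one_mul]
                rw [h5]
                exact A.mul_mem hx hy
            inv_mem' := by
              rintro x (hx | hx)
              · exact Or.inl (A.inv_mem hx)
              · right
                have h5 : w * x⁻¹ = (w * x)⁻¹ := by
                  have h6 : w * x * w = w * (w * x) := (hwA' _ hx).symm
                  rw [mul_inv_rev, inv_eq_of_mul_eq_one_right hww1]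
                  have h7 : x = w * x * w⁻¹ := by
                    rw [inv_eq_of_mul_eq_one_right hww1, h6, ← mul_assoc, hww1, one_mul]
                  have h8 : x * w = w * x := by
                    conv_lhs => rw [h7]
                    group
                  rw [mul_inv_eq_iff_eq_mul, mul_assoc, ← h8, inv_mul_cancel_left]
                change w * x⁻¹ ∈ A
                rw [h5]
                exact A.inv_mem hx }
        have hA'mem : ∀ x, x ∈ A' ↔ x ∈ A ∨ w * x ∈ A := fun x => Iff.rfl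
        have hAA' : A ≤ A' := fun x hx => Or.inl hx
        have hwA'2 : w ∈ A' := Or.inr (by rw [hww1]; exact A.one_mem)
        have hA'E : A' ≤ E := by
          rintro x (hx | hx)
          · exact hAE hx
          · have : x = w * (w * x) := by rw [← mul_assoc, hww1, one_mul]
            rw [this]
            exact E.mul_mem hwE (hAE hx)
        have hv2 : v * v = 1 := hD2 v hvD
        have hvi : v⁻¹ = v := inv_eq_of_mul_eq_one_right hv2
        have hvA' : ∀ x ∈ A', v * x * v⁻¹ ∈ A' := by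
          have hvw : v * w * v⁻¹ ∈ A' := by
            have h5 : v * w * v⁻¹ = (v⁻¹ * (w * v * w⁻¹)) * w := by
              rw [hvi]
              group
            rw [h5]
            exact A'.mul_mem (hAA' hwv) hwA'2
          rintro x (hx | hx)
          · exact hAA' (hconj v hv x hx)
          · have h5 : v * x * v⁻¹ = (v * w * v⁻¹) * (v * (w * x) * v⁻¹) := by
              have : x = w * (w * x) := by rw [← mul_assoc, hww1, one_mul]
              conv_lhs => rw [this]
              group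
            rw [h5]
            exact A'.mul_mem hvw (hAA' (hconj v hv _ hx))
        by_cases hA'D : ∀ a ∈ A', a ∉ D
        · have hlt : Nat.card A < Nat.card A' := by
            apply Set.ncard_lt_ncard (s := (A : Set G)) (t := (A' : Set G))
            refine ⟨hAA', fun h => hwA (h hwA'2)⟩
          have hle : Nat.card A' ≤ Nat.card E := Subgroup.card_le_of_le hA'E
          refine ih (Nat.card E - Nat.card A') (by omega) A' rfl hA'E ?_ hA'D ?_
          · intro h
            rw [h] at hAA'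
            exact hA1 (le_bot_iff.1 hAA')
          · rw [Subgroup.mem_normalizer_iff]
            intro x
            refine ⟨fun h => hvA' x h, fun h => ?_⟩
            have := hvA' _ h
            rw [hvi] at this
            have h6 : v * (v * x * v) * v = x := by
              rw [mul_assoc v x v, ← mul_assoc v v, hv2, one_mul, mul_assoc, hv2, mul_one]
            rwa [h6] at this
        · push Not at hA'D
          obtain ⟨x, hx, hxD⟩ := hA'D
          exact hDM v x hxD (hEM (hA'E hx)) (hEM (hA'E (hvA' x hx)))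
    rw [hvdef] at hvM
    exact hDM g u₂ hu₂D (hEM hu₂E) hvM

/-- Last step: `C_G(z) ≤ M`, `C_G(c) ≤ M`, commuting products. -/
theorem eq_top (M : Subgroup G) (z c : G) (hz : z * z = 1) (hc : c * c = 1) (hc1 : c ≠ 1)
    (hzM : z ∈ M)
    (hzDM : ∀ g : G, g * z * g⁻¹ ∈ M → g ∈ M)
    (hcDM : ∀ g : G, g * c * g⁻¹ ∈ M → ∃ m ∈ M, g * c * g⁻¹ = m * c * m⁻¹)
    (hCc : ∀ g : G, g * c * g⁻¹ = c → g ∈ M)
    (hzc : ∀ g : G, g * c * g⁻¹ ≠ z)
    (C4 : ∀ k ∈ M, k * z = z * k → z * k ≠ 1 →
      ((∃ m ∈ M, k = m * z * m⁻¹) ∨ ∃ m ∈ M, k = m * c * m⁻¹) →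
      ((∃ m ∈ M, z * k = m * z * m⁻¹) ∨ ∃ m ∈ M, z * k = m * c * m⁻¹))
    (hsimple : ∀ N : Subgroup G, N.Normal → N ≤ M → N = ⊥ ∨ N = M) : M = ⊤ := by
  have key : ∀ g : G, g * c * g⁻¹ ∈ M := by
    intro g
    obtain ⟨q, hq⟩ : ∃ q : G, q = g * c * g⁻¹ := ⟨_, rfl⟩
    have hq2 : q * q = 1 := by
      have : q * q = g * (c * c) * g⁻¹ := by rw [hq]; group
      rw [this, hc]; group
    rw [← hq]
    rcases even_or_odd hz hq2 with ⟨n, hn⟩ | ⟨w, hw1, hw2, hwz, hwq, n, hn⟩
    · exfalso
      apply hzc (n⁻¹ * g)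
      have h1 : z = n⁻¹ * q * n := by rw [← hn]; group
      rw [h1, hq]
      group
    · have hwM : w ∈ M := hzDM w (by rw [hwz]; exact hzM)
      have hkM : z * w ∈ M := M.mul_mem hzM hwM
      have hwz' : w * z = z * w := by
        have h1 : w * z = (w * z * w⁻¹) * w := by group
        rw [h1, hwz]
      have hk : (∃ m ∈ M, z * w = m * z * m⁻¹) ∨ ∃ m ∈ M, z * w = m * c * m⁻¹ := by
        rcases hn with hn | hn
        · exact Or.inl ⟨n, hzDM n (by rw [hn]; exact hkM), hn.symm⟩
        · right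
          have h1 : (n * g) * c * (n * g)⁻¹ = z * w := by
            rw [← hn, hq]; group
          obtain ⟨m, hm, hm2⟩ := hcDM (n * g) (by rw [h1]; exact hkM)
          exact ⟨m, hm, by rw [← h1, hm2]⟩
      have hzw : z * (z * w) = w := by rw [← mul_assoc, hz, one_mul]
      have h4 := C4 (z * w) hkM (by rw [mul_assoc, hwz']) (by rw [hzw]; exact hw1) hk
      rw [hzw] at h4
      have hqw : q * w * q⁻¹ = w := by
        have h1 : q * w * q⁻¹ = (q * q) * (q⁻¹ * (w * q * w⁻¹)) * w * (q * q)⁻¹ := by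
          rw [hwq]
          rw [hq2]
          have h2 : w * q = q * w := by
            have h3 : w * q = (w * q * w⁻¹) * w := by group
            rw [h3, hwq]
          rw [← h2]
          group
        rw [h1, hwq, hq2]
        group
      rcases h4 with ⟨m, hm, hm2⟩ | ⟨m, hm, hm2⟩
      · have h5 : m⁻¹ * q * m ∈ M := by
          apply hzDM
          have h6 : m⁻¹ * q * m * z * (m⁻¹ * q * m)⁻¹ = m⁻¹ * (q * (m * z * m⁻¹) * q⁻¹) * m := by
            group
          rw [h6, ← hm2, hqw, hm2]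
          have h7 : m⁻¹ * (m * z * m⁻¹) * m = z := by group
          rw [h7]
          exact hzM
        have h8 : q = m * (m⁻¹ * q * m) * m⁻¹ := by group
        rw [h8]
        exact M.mul_mem (M.mul_mem hm h5) (M.inv_mem hm)
      · have h5 : m⁻¹ * q * m ∈ M := by
          apply hCc
          have h6 : m⁻¹ * q * m * c * (m⁻¹ * q * m)⁻¹ = m⁻¹ * (q * (m * c * m⁻¹) * q⁻¹) * m := by
            group
          rw [h6, ← hm2, hqw, hm2]
          group
        have h8 : q = m * (m⁻¹ * q * m) * m⁻¹ := by group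
        rw [h8]
        exact M.mul_mem (M.mul_mem hm h5) (M.inv_mem hm)
  have hN : Subgroup.normalClosure {c} ≤ M := by
    rw [Subgroup.normalClosure, Subgroup.closure_le]
    intro x hx
    rw [Group.mem_conjugatesOfSet_iff] at hx
    obtain ⟨a, ha, hax⟩ := hx
    rw [Set.mem_singleton_iff] at ha
    subst ha
    obtain ⟨g, rfl⟩ := isConj_iff.1 hax
    exact key g
  have hcN : c ∈ Subgroup.normalClosure ({c} : Set G) :=
    Subgroup.subset_normalClosure (Set.mem_singleton c)
  rcases hsimple _ Subgroup.normalClosure_normal hN with h | h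
  · rw [h, Subgroup.mem_bot] at hcN
    exact absurd hcN hc1
  · rw [eq_top_iff]
    intro g _
    apply hzDM
    rw [← h]
    exact Subgroup.normalClosure_normal.conj_mem z (by rw [h]; exact hzM) g

end Main

section Embedding

variable {K G : Type*} [Group K] [Group G] [Finite G]

omit [Finite G] in
theorem card_centralizer_dvd (φ : K →* G) (hφ : Function.Injective φ) (a : K) (b : G) (g : G)
    (hg : g * b * g⁻¹ = φ a) :
    Nat.card (Subgroup.centralizer ({a} : Set K)) ∣
      Nat.card (Subgroup.centralizer ({b} : Set G)) := by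
  let f : Subgroup.centralizer ({a} : Set K) →* Subgroup.centralizer ({b} : Set G) :=
    { toFun := fun x => ⟨g⁻¹ * φ x * g, by
        rw [Subgroup.mem_centralizer_singleton_iff]
        have h1 : (x : K) * a = a * x := Subgroup.mem_centralizer_singleton_iff.1 x.2
        have h2 : φ x * φ a = φ a * φ x := by rw [← map_mul, h1, map_mul]
        rw [← hg] at h2
        have h3 : g⁻¹ * φ x * g * b = g⁻¹ * (φ x * (g * b * g⁻¹)) * g := by group
        rw [h3, h2]
        group⟩
      map_one' := by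
        apply Subtype.ext
        simp
      map_mul' := by
        intro x y
        apply Subtype.ext
        change g⁻¹ * φ ((x : K) * y) * g = g⁻¹ * φ x * g * (g⁻¹ * φ y * g)
        rw [map_mul]
        group }
  refine Subgroup.card_dvd_of_injective f ?_
  intro x y hxy
  have h1 : g⁻¹ * φ x * g = g⁻¹ * φ y * g := congrArg Subtype.val hxy
  apply Subtype.ext
  apply hφ
  have h2 : g⁻¹ * φ x = g⁻¹ * φ y := mul_right_cancel h1
  exact mul_left_cancel h2

omit [Finite G] in
/-- If the centraliser of `φ z` lies in the range, `|C_G(φ z)| = |C_K(z)|`. -/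
theorem card_centralizer_eq (φ : K →* G) (hφ : Function.Injective φ) (z : K)
    (hC : ∀ g : G, g * φ z * g⁻¹ = φ z → g ∈ φ.range) :
    Nat.card (Subgroup.centralizer ({φ z} : Set G)) =
      Nat.card (Subgroup.centralizer ({z} : Set K)) := by
  let f : Subgroup.centralizer ({z} : Set K) → Subgroup.centralizer ({φ z} : Set G) :=
    fun x => ⟨φ x, by
      rw [Subgroup.mem_centralizer_singleton_iff, ← map_mul, ← map_mul,
        Subgroup.mem_centralizer_singleton_iff.1 x.2]⟩
  symm
  refine Nat.card_congr (Equiv.ofBijective f ⟨?_, ?_⟩)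
  · intro x y hxy
    exact Subtype.ext (hφ (congrArg Subtype.val hxy))
  · intro y
    have h1 : (y : G) * φ z = φ z * y := Subgroup.mem_centralizer_singleton_iff.1 y.2
    obtain ⟨x, hx⟩ := hC y (by rw [h1]; group)
    refine ⟨⟨x, ?_⟩, Subtype.ext hx⟩
    rw [Subgroup.mem_centralizer_singleton_iff]
    apply hφ
    rw [map_mul, map_mul, hx, h1]

/-- **Closing.**  `K` simple group (identified), `φ : K → G` injective with
`C_G(φ z) ≤ φ(K)`; all other hypotheses are facts in `K`. -/
theorem surjective_of_facts [Finite K] (hsim : IsSimpleGroup K) (φ : K →* G)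
    (hφ : Function.Injective φ) (z c : K) (E : Subgroup K)
    (hz2 : z * z = 1) (hz1 : z ≠ 1) (hc2 : c * c = 1) (hc1 : c ≠ 1)
    (hC : ∀ g : G, g * φ z * g⁻¹ = φ z → g ∈ φ.range)
    (hzc : ¬ IsConj z c)
    (hLz : ∀ k : K, k * k = 1 → k ≠ 1 → ¬ IsConj z k →
      ¬ (Nat.card (Subgroup.centralizer ({k} : Set K)) ∣
        Nat.card (Subgroup.centralizer ({z} : Set K))))
    (hLc : ∀ k : K, k * k = 1 → k ≠ 1 → ¬ IsConj z k → ¬ IsConj c k →
      ¬ (Nat.card (Subgroup.centralizer ({k} : Set K)) ∣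
        Nat.card (Subgroup.centralizer ({c} : Set K))))
    (hE : ∀ e ∈ E, e * e = 1) (hcE : c ∈ E)
    (hE2 : ∀ a ∈ E, a ≠ 1 → ¬ IsConj z a → ∀ h : K, h * a * h⁻¹ ∈ E →
      ∀ e ∈ E, h * e * h⁻¹ ∈ E)
    (hcount : ∀ A : Subgroup K, A ≤ E → A ≠ ⊥ → (∀ a ∈ A, ¬ IsConj z a) →
      ∃ u₁ ∈ E, IsConj z u₁ ∧ ∃ u₂ ∈ E, IsConj z u₂ ∧
        Nat.card {a : A // IsConj z (u₁ * (a : K))} ≠ Nat.card {a : A // IsConj z (u₂ * (a : K))})
    (C4 : ∀ k : K, k * z = z * k → z * k ≠ 1 → (IsConj z k ∨ IsConj c k) →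
      (IsConj z (z * k) ∨ IsConj c (z * k))) :
    Function.Surjective φ := by
  classical
  set M : Subgroup G := φ.range with hM
  let D : Set G := {d | ∃ g : G, d = g * φ z * g⁻¹}
  have hDK : ∀ k : K, φ k ∈ D ↔ IsConj z k := by
    intro k
    constructor
    · rintro ⟨g, hg⟩
      by_contra hnot
      have hk2 : k * k = 1 := by
        apply hφ
        rw [map_mul, hg, map_one]
        have : g * φ z * g⁻¹ * (g * φ z * g⁻¹) = g * (φ (z * z)) * g⁻¹ := by
          rw [map_mul]; group
        rw [this, hz2, map_one]; group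
      have hk1 : k ≠ 1 := by
        rintro rfl
        rw [map_one] at hg
        apply hz1
        apply hφ
        rw [map_one]
        have : φ z = g⁻¹ * (g * φ z * g⁻¹) * g := by group
        rw [this, ← hg]; group
      apply hLz k hk2 hk1 hnot
      rw [← card_centralizer_eq φ hφ z hC]
      exact card_centralizer_dvd φ hφ k (φ z) g hg.symm
    · intro h
      obtain ⟨m, rfl⟩ := isConj_iff.1 h
      exact ⟨φ m, by simp⟩
  have hDconj : ∀ g d : G, d ∈ D → g * d * g⁻¹ ∈ D := by
    rintro g d ⟨x, rfl⟩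
    exact ⟨g * x, by group⟩
  have hD2 : ∀ d ∈ D, d * d = 1 := by
    rintro d ⟨g, rfl⟩
    have : g * φ z * g⁻¹ * (g * φ z * g⁻¹) = g * (φ (z * z)) * g⁻¹ := by
      rw [map_mul]; group
    rw [this, hz2, map_one]; group
  have hzDM : ∀ g : G, g * φ z * g⁻¹ ∈ M → g ∈ M := by
    intro g hg
    obtain ⟨k, hk⟩ := hg
    have h1 : IsConj z k := (hDK k).1 ⟨g, hk⟩
    obtain ⟨m, rfl⟩ := isConj_iff.1 h1
    have h2 : (φ m)⁻¹ * g ∈ M := by
      apply hC
      have h3 : (φ m)⁻¹ * g * φ z * ((φ m)⁻¹ * g)⁻¹ = (φ m)⁻¹ * (g * φ z * g⁻¹) * φ m := by group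
      rw [h3, ← hk]
      simp only [map_mul, map_inv]
      group
    have h4 : g = φ m * ((φ m)⁻¹ * g) := by group
    rw [h4]
    exact M.mul_mem ⟨m, rfl⟩ h2
  have hDM : ∀ g d : G, d ∈ D → d ∈ M → g * d * g⁻¹ ∈ M → g ∈ M := by
    rintro g d ⟨x, rfl⟩ h1 h2
    have hx : x ∈ M := hzDM x h1
    have h3 : g * (x * φ z * x⁻¹) * g⁻¹ = (g * x) * φ z * (g * x)⁻¹ := by group
    rw [h3] at h2
    have h4 := hzDM _ h2
    have h5 : g = (g * x) * x⁻¹ := by group
    rw [h5]
    exact M.mul_mem h4 (M.inv_mem hx)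
  -- the elementary abelian subgroup
  have hcD : φ c ∉ D := fun h => hzc ((hDK c).1 h)
  have hnorm := normalizer_le M (E.map φ) D hDconj hD2 hDM
    (by rintro _ ⟨e, _, rfl⟩; exact ⟨e, rfl⟩)
    (by rintro _ ⟨e, he, rfl⟩; rw [← map_mul, hE e he, map_one])
    (by
      rintro _ ⟨a, ha, rfl⟩ ha1 haD _ ⟨h, rfl⟩ hh _ ⟨e, he, rfl⟩
      rw [← map_inv, ← map_mul, ← map_mul] at hh ⊢
      obtain ⟨y, hy, hy2⟩ := hh
      refine ⟨_, hE2 a ha ?_ ?_ h ?_ e he, rfl⟩
      · rintro rfl
        exact ha1 (map_one φ)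
      · exact fun h => haD ((hDK a).2 h)
      · rw [← hφ hy2]; exact hy)
    (by
      intro A hAE hA1 hAD
      let A₀ : Subgroup K := A.comap φ
      have hmap : ∀ x ∈ A, ∃ y : K, y ∈ A₀ ∧ φ y = x := by
        intro x hx
        obtain ⟨y, hy, rfl⟩ := hAE hx
        exact ⟨y, hx, rfl⟩
      have hA₀E : A₀ ≤ E := by
        intro x hx
        obtain ⟨y, hy, hy2⟩ := hAE (show φ x ∈ A from hx)
        rw [← hφ hy2]; exact hy
      have hA₀1 : A₀ ≠ ⊥ := by
        intro h
        apply hA1
        rw [eq_bot_iff]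
        intro x hx
        obtain ⟨y, hy, rfl⟩ := hmap x hx
        rw [h, Subgroup.mem_bot] at hy
        rw [hy, map_one]; exact Subgroup.one_mem _
      obtain ⟨u₁, hu₁, hu₁c, u₂, hu₂, hu₂c, hne⟩ := hcount A₀ hA₀E hA₀1
        (fun a ha h => hAD (φ a) ha ((hDK a).2 h))
      refine ⟨φ u₁, ⟨u₁, hu₁, rfl⟩, (hDK u₁).2 hu₁c, φ u₂, ⟨u₂, hu₂, rfl⟩, (hDK u₂).2 hu₂c, ?_⟩
      have hequiv : ∀ u : K, Nat.card {a : A₀ // IsConj z (u * (a : K))} =
          Nat.card {a : A // φ u * (a : G) ∈ D} := by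
        intro u
        let e : A₀ ≃ A := Equiv.ofBijective (fun a => ⟨φ a, a.2⟩)
          ⟨fun x y hxy => Subtype.ext (hφ (congrArg Subtype.val hxy)), fun x => by
            obtain ⟨y, hy, hy2⟩ := hmap x x.2
            exact ⟨⟨y, hy⟩, Subtype.ext hy2⟩⟩
        refine Nat.card_congr (e.subtypeEquiv ?_)
        intro a
        rw [← hDK, map_mul]
        rfl
      rw [← hequiv, ← hequiv]
      exact hne)
  have hCc : ∀ g : G, g * φ c * g⁻¹ = φ c → g ∈ M := by
    intro g hg
    have hmem : ∀ x : G, x ∈ Subgroup.zpowers (φ c) ↔ x = 1 ∨ x = φ c := by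
      intro x
      constructor
      · rintro ⟨n, rfl⟩
        rcases Int.even_or_odd' n with ⟨m, rfl | rfl⟩
        · left
          change φ c ^ (2 * m) = 1
          rw [zpow_mul, zpow_two, ← map_mul, hc2, map_one, one_zpow]
        · right
          change φ c ^ (2 * m + 1) = φ c
          rw [zpow_add, zpow_mul, zpow_two, ← map_mul, hc2, map_one, one_zpow, one_mul, zpow_one]
      · rintro (rfl | rfl)
        · exact Subgroup.one_mem _
        · exact Subgroup.mem_zpowers _
    refine hnorm (Subgroup.zpowers (φ c)) ?_ ?_ ?_ ?_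
    · intro x hx
      rcases (hmem x).1 hx with rfl | rfl
      · exact Subgroup.one_mem _
      · exact ⟨c, hcE, rfl⟩
    · intro h
      have h1 : φ c ∈ Subgroup.zpowers (φ c) := Subgroup.mem_zpowers _
      rw [h, Subgroup.mem_bot] at h1
      exact hc1 (hφ (by rw [h1, map_one]))
    · intro x hx
      rcases (hmem x).1 hx with rfl | rfl
      · intro h
        have h1 : φ 1 ∈ D := by rw [map_one]; exact h
        have h2 := (hDK 1).1 h1
        exact hz1 (isConj_one_left.1 h2)
      · exact hcD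
    · rw [Subgroup.mem_normalizer_iff]
      intro x
      rw [hmem, hmem]
      constructor
      · rintro (rfl | rfl)
        · left; group
        · right; exact hg
      · rintro (h | h)
        · left
          have : x = g⁻¹ * (g * x * g⁻¹) * g := by group
          rw [this, h]; group
        · right
          have h3 : g * x * g⁻¹ = g * φ c * g⁻¹ := by rw [h, hg]
          exact mul_left_cancel (mul_right_cancel h3)
  have hfin := eq_top M (φ z) (φ c) (by rw [← map_mul, hz2, map_one])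
    (by rw [← map_mul, hc2, map_one]) (fun h => hc1 (hφ (by rw [h, map_one]))) ⟨z, rfl⟩ hzDM
    (by
      rintro g ⟨k, hk⟩
      have hk2 : k * k = 1 := by
        apply hφ
        rw [map_mul, hk, map_one]
        have : g * φ c * g⁻¹ * (g * φ c * g⁻¹) = g * (φ (c * c)) * g⁻¹ := by
          rw [map_mul]; group
        rw [this, hc2, map_one]; group
      have hk1 : k ≠ 1 := by
        rintro rfl
        rw [map_one] at hk
        apply hc1
        apply hφ
        rw [map_one]
        have : φ c = g⁻¹ * (g * φ c * g⁻¹) * g := by group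
        rw [this, ← hk]; group
      have hkz : ¬ IsConj z k := by
        intro h
        apply hcD
        have h1 := hDconj g⁻¹ _ ((hDK k).2 h)
        rw [hk] at h1
        have h2 : g⁻¹ * (g * φ c * g⁻¹) * g⁻¹⁻¹ = φ c := by group
        rwa [h2] at h1
      have hkc : IsConj c k := by
        by_contra hnot
        apply hLc k hk2 hk1 hkz hnot
        rw [← card_centralizer_eq φ hφ c hCc]
        exact card_centralizer_dvd φ hφ k (φ c) g hk.symm
      obtain ⟨m, rfl⟩ := isConj_iff.1 hkc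
      refine ⟨φ m, ⟨m, rfl⟩, ?_⟩
      rw [← hk]; simp)
    hCc
    (by
      intro g hg
      apply hcD
      refine ⟨g⁻¹, ?_⟩
      rw [← hg]; group)
    (by
      rintro _ ⟨k, rfl⟩ hk1 hk2 hk3
      have h1 : ∀ x y : K, (∃ m ∈ M, φ x = m * φ y * m⁻¹) ↔ IsConj y x := by
        intro x y
        rw [isConj_iff]
        constructor
        · rintro ⟨_, ⟨m, rfl⟩, hm⟩
          refine ⟨m, hφ ?_⟩
          rw [hm]; simp
        · rintro ⟨m, rfl⟩
          exact ⟨φ m, ⟨m, rfl⟩, by simp⟩
      rw [← map_mul, h1, h1]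
      rw [h1, h1] at hk3
      refine C4 k (hφ (by rw [map_mul, map_mul, hk1])) ?_ hk3
      intro h
      apply hk2
      rw [← map_mul, h, map_one])
    (by
      intro N hN hNM
      have h1 : (N.comap φ).Normal := hN.comap φ
      have hmap : (N.comap φ).map φ = N := by
        rw [Subgroup.map_comap_eq]
        exact inf_eq_right.2 hNM
      rcases hsim.eq_bot_or_eq_top_of_normal (N.comap φ) h1 with h | h
      · left
        rw [← hmap, h, Subgroup.map_bot]
      · right
        rw [← hmap, h, hM, MonoidHom.range_eq_map])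
  intro g
  have : g ∈ M := by rw [hfin]; trivial
  exact this

end Embedding

section Count

/-- The counting hypothesis from three numbers: `n = |E ∩ D|`, `m = |{u ∈ E ∩ D : u a ∈ D}|` for
every `a ∈ E \ D`, `a ≠ 1`. -/
theorem count_of_numbers {K : Type*} [Group K] [Finite K] (E : Subgroup K) (D : Set K) (n m : ℕ)
    (hn : Nat.card {u : K // u ∈ E ∧ u ∈ D} = n) (hn0 : n ≠ 0)
    (hm : ∀ a ∈ E, a ≠ 1 → a ∉ D →
      Nat.card {u : K // (u ∈ E ∧ u ∈ D) ∧ u * a ∈ D} = m)
    (A : Subgroup K) (hAE : A ≤ E) (hAD : ∀ a ∈ A, a ∉ D)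
    (hdvd : ¬ n ∣ m * (Nat.card A - 1)) :
    ∃ u₁ ∈ E, u₁ ∈ D ∧ ∃ u₂ ∈ E, u₂ ∈ D ∧
      Nat.card {a : A // u₁ * (a : K) ∈ D} ≠ Nat.card {a : A // u₂ * (a : K) ∈ D} := by
  classical
  by_contra hcon
  push Not at hcon
  have : Fintype K := Fintype.ofFinite K
  let U : Type _ := {u : K // u ∈ E ∧ u ∈ D}
  have : Fintype U := Fintype.ofFinite U
  have : Fintype A := Fintype.ofFinite A
  have hU : Fintype.card U = n := by rw [← Nat.card_eq_fintype_card]; exact hn
  obtain ⟨u₀⟩ : Nonempty U := by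
    rw [← Fintype.card_pos_iff, hU]; omega
  apply hdvd
  have h1 : ∑ u : U, ∑ a : A, (if (u : K) * (a : K) ∈ D then 1 else 0) =
      ∑ a : A, ∑ u : U, (if (u : K) * (a : K) ∈ D then 1 else 0) := Finset.sum_comm
  have h2 : ∑ u : U, ∑ a : A, (if (u : K) * (a : K) ∈ D then 1 else 0) =
      n * Nat.card {a : A // (u₀ : K) * (a : K) ∈ D} := by
    have : ∀ u : U, ∑ a : A, (if (u : K) * (a : K) ∈ D then 1 else 0) =
        Nat.card {a : A // (u₀ : K) * (a : K) ∈ D} := by
      intro u
      rw [← hcon u u.2.1 u.2.2 u₀ u₀.2.1 u₀.2.2, Nat.card_eq_fintype_card,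
        Fintype.card_subtype, Finset.card_filter]
    rw [Finset.sum_congr rfl fun u _ => this u, Finset.sum_const, Finset.card_univ, hU,
      smul_eq_mul]
  have h3 : ∑ a : A, ∑ u : U, (if (u : K) * (a : K) ∈ D then 1 else 0) =
      n + m * (Nat.card A - 1) := by
    have : ∀ a : A, ∑ u : U, (if (u : K) * (a : K) ∈ D then 1 else 0) =
        if a = 1 then n else m := by
      intro a
      rw [← Finset.card_filter, ← Fintype.card_subtype, ← Nat.card_eq_fintype_card]
      split_ifs with ha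
      · rw [← hn]
        refine Nat.card_congr ((Equiv.subtypeUnivEquiv ?_))
        intro u
        rw [ha, Subgroup.coe_one, mul_one]
        exact u.2.2
      · rw [← hm a (hAE a.2) (fun h => ha (Subtype.ext h)) (hAD a a.2)]
        refine Nat.card_congr ?_
        exact Equiv.subtypeSubtypeEquivSubtypeInter (fun u : K => u ∈ E ∧ u ∈ D)
          (fun u : K => u * (a : K) ∈ D)
    rw [Finset.sum_congr rfl fun a _ => this a, ← Finset.add_sum_erase _ _ (Finset.mem_univ 1),
      if_pos rfl]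
    congr 1
    rw [Finset.sum_congr rfl (g := fun _ => m)
      (fun a ha => if_neg (Finset.ne_of_mem_erase ha)), Finset.sum_const,
      Finset.card_erase_of_mem (Finset.mem_univ _), Finset.card_univ, smul_eq_mul, mul_comm,
      Nat.card_eq_fintype_card]
  rw [h2, h3] at h1
  exact (Nat.dvd_add_right (dvd_refl n)).1 ⟨_, h1.symm⟩

end Count

end Cfsg.Agent.SporRec.Closing249
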