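import Cfsg.Agent.Fischer.Derived
import Cfsg.Prelude.Def_Spor_Fi23

/-!
# The relations of the presented Fischer group `Fi₂₃` for elements of an arbitrary group

`IsCox x`: the Coxeter relations of `Y₃₄₂`; `spiderW`, `e7W`, `TW` the words of the spider relation, the
`E₇` relation and of the derived relation `(bcdhefdecdhi)^4 = 1`.
-/

set_option autoImplicit false
set_option linter.constructorNameAsVariable false

namespace Cfsg.Agent.SporRec.Fi23Rel

open Cfsg.Agent.Fischer

/-- The generators of the presentation. -/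
abbrev Gen := Cfsg.Spor.Fi23.Gen

/-- adjacency in the diagram `Y₃₄₂` -/
def adj (a b : Gen) : Bool :=
  Cfsg.Spor.Fi23.edges.any fun e => (e.1 = a ∧ e.2.2 = b) ∨ (e.1 = b ∧ e.2.2 = a)

/-- the label of a pair of generators -/
def lab (a b : Gen) : ℕ := if a = b then 1 else if adj a b then 3 else 2

theorem coxLabel_eq (a b : Gen) : Cfsg.Spor.coxLabel Cfsg.Spor.Fi23.edges a b = lab a b := by
  cases a <;> cases b <;> rfl

theorem mem_coxNodes (a : Gen) : a ∈ Cfsg.Spor.coxNodes Cfsg.Spor.Fi23.edges := by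
  cases a <;> decide

section rel
variable {G : Type*} [Group G]

/-- the Coxeter relations of the diagram `Y₃₄₂` -/
structure IsCox (x : Gen → G) : Prop where
  inv : ∀ a, x a * x a = 1
  comm : ∀ a b, adj a b = false → x a * x b = x b * x a
  braid : ∀ a b, adj a b = true → x a * x b * x a = x b * x a * x b

theorem IsCox.pow_lab {x : Gen → G} (h : IsCox x) (a b : Gen) : (x a * x b) ^ lab a b = 1 := by
  unfold lab
  split_ifs with h1 h2
  · subst h1; rw [pow_one, h.inv]
  · have hb := h.braid a b h2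
    calc (x a * x b) ^ 3 = (x a * x b * x a) * (x b * x a * x b) := by
          simp only [pow_succ, pow_zero, one_mul, mul_assoc]
      _ = (x b * x a * x b) * (x b * x a * x b) := by rw [hb]
      _ = x b * x a * (x b * x b) * x a * x b := by group
      _ = 1 := by rw [h.inv, mul_one, mul_assoc (x b), h.inv, mul_one, h.inv]
  · have hc := h.comm a b (by simpa using h2)
    calc (x a * x b) ^ 2 = (x a * x b) * (x a * x b) := pow_two _
      _ = (x b * x a) * (x a * x b) := by rw [hc]
      _ = x b * (x a * x a) * x b := by group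
      _ = 1 := by rw [h.inv, mul_one, h.inv]

/-- converse form -/
theorem isCox_of_pow_lab {x : Gen → G} (h : ∀ a b, (x a * x b) ^ lab a b = 1) : IsCox x := by
  have hinv : ∀ a, x a * x a = 1 := fun a => by
    have := h a a
    rwa [lab, if_pos rfl, pow_one] at this
  have hi : ∀ a, (x a)⁻¹ = x a := fun a => inv_eq_of_mul_eq_one_left (hinv a)
  refine ⟨hinv, ?_, ?_⟩
  · intro a b hab
    by_cases e : a = b
    · subst e; rfl
    · have h2 := h a b
      rw [lab, if_neg e, hab, if_neg (by simp), pow_two] at h2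
      have h3 := eq_inv_of_mul_eq_one_left h2
      rw [mul_inv_rev, hi, hi] at h3
      exact h3
  · intro a b hab
    have e : a ≠ b := by
      rintro rfl
      revert hab
      cases a <;> decide
    have h2 := h a b
    rw [lab, if_neg e, hab, if_pos rfl] at h2
    have h3 : (x a * x b * x a) * (x b * x a * x b) = 1 := by
      rw [← h2]; simp only [pow_succ, pow_zero, one_mul, mul_assoc]
    have h4 := eq_inv_of_mul_eq_one_left h3
    rw [mul_inv_rev, mul_inv_rev, hi, hi, ← mul_assoc] at h4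
    exact h4

theorem IsCox.inv_eq {x : Gen → G} (h : IsCox x) (a : Gen) : (x a)⁻¹ = x a :=
  inv_eq_of_mul_eq_one_left (h.inv a)

/-- the spider word `d c b d e f d h i` -/
def spiderW : List Gen := [.d, .c, .b, .d, .e, .f, .d, .h, .i]

/-- the Coxeter word `a b c d e f h` -/
def e7W : List Gen := [.a, .b, .c, .d, .e, .f, .h]

/-- the word `b c d h e f d e c d h i` -/
def tW : List Gen := [.b, .c, .d, .h, .e, .f, .d, .e, .c, .d, .h, .i]

/-- value of a word -/
def ev (x : Gen → G) (w : List Gen) : G := (w.map x).prod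

theorem ev_nil (x : Gen → G) : ev x [] = 1 := rfl
theorem ev_cons (x : Gen → G) (a : Gen) (w : List Gen) : ev x (a :: w) = x a * ev x w := by
  simp [ev]
theorem ev_append (x : Gen → G) (v w : List Gen) : ev x (v ++ w) = ev x v * ev x w := by
  simp [ev]
theorem ev_reverse {x : Gen → G} (h : IsCox x) (w : List Gen) : ev x w.reverse = (ev x w)⁻¹ := by
  induction w with
  | nil => simp [ev_nil]
  | cons a w ih =>
    rw [List.reverse_cons, ev_append, ih, ev_cons, ev_cons, ev_nil, mul_one, mul_inv_rev, h.inv_eq]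

/-- the eight generators `b, …, i` of `Y₂₃₂` -/
def L8 : Fin 8 → Gen := ![.b, .c, .d, .e, .f, .g, .h, .i]

theorem lab_L8 : ∀ i j : Fin 8, Derived.lab i j = lab (L8 i) (L8 j) := by decide

theorem IsCox.liftable {x : Gen → G} (h : IsCox x) : Derived.M8.IsLiftable (fun i => x (L8 i)) := by
  intro i j
  rw [Derived.M8_apply, lab_L8]
  exact h.pow_lab _ _

theorem ev_L8 (x : Gen → G) (w : List (Fin 8)) : Derived.ev (fun i => x (L8 i)) w = ev x (w.map L8) := by
  simp [Derived.ev, ev, Function.comp_def]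

/-- the word of the relation `T` on the eight generators -/
def t8 : List (Fin 8) := [0, 1, 2, 6, 3, 4, 2, 3, 1, 2, 6, 7]

theorem chk_T : Derived.chk (Derived.rep 4 t8)
    (Derived.rep 10 Derived.spider ++ [6, 7, 4, 1, 2, 0] ++ Derived.rep 10 Derived.spider ++ [0, 2, 1, 4, 7, 6]) =
      true := by decide +kernel

/-- the derived relation `(bcdhefdecdhi)^4 = 1` -/
theorem IsCox.T {x : Gen → G} (h : IsCox x) (hs : ev x spiderW ^ 10 = 1) : ev x tW ^ 4 = 1 := by
  have h1 := Derived.ev_eq_ev h.liftable chk_T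
  have h2 : Derived.ev (fun i => x (L8 i)) Derived.spider = ev x spiderW := ev_L8 x _
  have h3 : Derived.ev (fun i => x (L8 i)) t8 = ev x tW := ev_L8 x _
  have h4 : Derived.ev (fun i => x (L8 i)) [0, 2, 1, 4, 7, 6] =
      (Derived.ev (fun i => x (L8 i)) [6, 7, 4, 1, 2, 0])⁻¹ := by
    rw [← Derived.ev_reverse h.liftable]; rfl
  rw [Derived.ev_append, Derived.ev_append, Derived.ev_append, Derived.ev_rep, Derived.ev_rep, h2, h3, h4, hs,
    one_mul, mul_one, mul_inv_cancel] at h1
  exact h1

end rel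

/-! ### The presented group -/

/-- the relators of the presented group `Fi₂₃` -/
abbrev relators : Set (FreeGroup Gen) :=
  Cfsg.Spor.coxRelators Cfsg.Spor.Fi23.edges ∪ {r | r ∈ Cfsg.Spor.Fi23.extra}

/-- the generators of the presented group -/
def gen (a : Gen) : Cfsg.Spor.Fi23 := PresentedGroup.of a

theorem mk_of (a : Gen) : PresentedGroup.mk relators (FreeGroup.of a) = gen a := rfl

theorem gen_isCox : IsCox gen := by
  apply isCox_of_pow_lab
  intro a b
  have h : ((FreeGroup.of a * FreeGroup.of b) ^ lab a b : FreeGroup Gen) ∈ relators := by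
    refine Or.inl ⟨a, mem_coxNodes a, b, mem_coxNodes b, ?_⟩
    rw [coxLabel_eq]
  have h2 := PresentedGroup.one_of_mem h
  rw [map_pow, map_mul] at h2
  exact h2

theorem gen_spider : ev gen spiderW ^ 10 = 1 := by
  have h : ((Cfsg.Spor.Fi23.d * Cfsg.Spor.Fi23.c * Cfsg.Spor.Fi23.b * Cfsg.Spor.Fi23.d * Cfsg.Spor.Fi23.e *
      Cfsg.Spor.Fi23.f * Cfsg.Spor.Fi23.d * Cfsg.Spor.Fi23.h * Cfsg.Spor.Fi23.i) ^ 10 : FreeGroup Gen) ∈
      relators := Or.inr (by simp [Cfsg.Spor.Fi23.extra])
  have h2 := PresentedGroup.one_of_mem h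
  simp only [map_pow, map_mul] at h2
  rw [← h2]
  simp only [ev, spiderW, List.map_cons, List.map_nil, List.prod_cons, List.prod_nil, mul_one, ← mul_assoc]
  rfl

theorem gen_e7 : ev gen e7W ^ 9 = 1 := by
  have h : ((Cfsg.Spor.Fi23.a * Cfsg.Spor.Fi23.b * Cfsg.Spor.Fi23.c * Cfsg.Spor.Fi23.d * Cfsg.Spor.Fi23.e *
      Cfsg.Spor.Fi23.f * Cfsg.Spor.Fi23.h) ^ 9 : FreeGroup Gen) ∈
      relators := Or.inr (by simp [Cfsg.Spor.Fi23.extra])
  have h2 := PresentedGroup.one_of_mem h
  simp only [map_pow, map_mul] at h2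
  rw [← h2]
  simp only [ev, e7W, List.map_cons, List.map_nil, List.prod_cons, List.prod_nil, mul_one, ← mul_assoc]
  rfl

/-- the universal property -/
theorem lift_relators {G : Type*} [Group G] {x : Gen → G} (h : IsCox x) (hs : ev x spiderW ^ 10 = 1)
    (he : ev x e7W ^ 9 = 1) : ∀ r ∈ relators, FreeGroup.lift x r = 1 := by
  rintro r (⟨a, -, b, -, rfl⟩ | hr)
  · rw [coxLabel_eq, map_pow, map_mul, FreeGroup.lift_apply_of, FreeGroup.lift_apply_of]
    exact h.pow_lab a b
  · have hr' : r = (Cfsg.Spor.Fi23.d * Cfsg.Spor.Fi23.c * Cfsg.Spor.Fi23.b * Cfsg.Spor.Fi23.d * Cfsg.Spor.Fi23.e *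
        Cfsg.Spor.Fi23.f * Cfsg.Spor.Fi23.d * Cfsg.Spor.Fi23.h * Cfsg.Spor.Fi23.i) ^ 10 ∨
        r = (Cfsg.Spor.Fi23.a * Cfsg.Spor.Fi23.b * Cfsg.Spor.Fi23.c * Cfsg.Spor.Fi23.d * Cfsg.Spor.Fi23.e *
        Cfsg.Spor.Fi23.f * Cfsg.Spor.Fi23.h) ^ 9 := by
      simpa [Cfsg.Spor.Fi23.extra] using hr
    rcases hr' with rfl | rfl
    · simp only [map_pow, map_mul, FreeGroup.lift_apply_of]
      rw [← hs]
      simp only [ev, spiderW, List.map_cons, List.map_nil, List.prod_cons, List.prod_nil, mul_one, ← mul_assoc]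
    · simp only [map_pow, map_mul, FreeGroup.lift_apply_of]
      rw [← he]
      simp only [ev, e7W, List.map_cons, List.map_nil, List.prod_cons, List.prod_nil, mul_one, ← mul_assoc]

/-- the homomorphism defined by elements satisfying the relations -/
noncomputable def toHom {G : Type*} [Group G] {x : Gen → G} (h : IsCox x) (hs : ev x spiderW ^ 10 = 1)
    (he : ev x e7W ^ 9 = 1) : Cfsg.Spor.Fi23 →* G :=
  PresentedGroup.toGroup (lift_relators h hs he)

theorem toHom_gen {G : Type*} [Group G] {x : Gen → G} (h : IsCox x) (hs : ev x spiderW ^ 10 = 1)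
    (he : ev x e7W ^ 9 = 1) (a : Gen) : toHom h hs he (gen a) = x a :=
  PresentedGroup.toGroup.of (lift_relators h hs he)

theorem closure_gen : Subgroup.closure (Set.range gen) = ⊤ :=
  PresentedGroup.closure_range_of relators

end Cfsg.Agent.SporRec.Fi23Rel
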