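import Mathlib

set_option autoImplicit false

/-! The relators of the presented Suzuki group that do not involve `g`, as positive words in
`a, b, c, d, e, f = 0, …, 5` (all generators are involutions). -/

namespace Cfsg.Agent.SporRec.G24Rel

/-- positive relator words in `a, …, f` -/
def R6 : List (List (Fin 6)) := [
  -- a^2
  [0, 0],
  -- b^2
  [1, 1],
  -- c^2
  [2, 2],
  -- d^2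
  [3, 3],
  -- e^2
  [4, 4],
  -- f^2
  [5, 5],
  -- (ab)^5
  [0, 1, 0, 1, 0, 1, 0, 1, 0, 1],
  -- (ac)^2
  [0, 2, 0, 2],
  -- (ad)^2
  [0, 3, 0, 3],
  -- (ae)^2
  [0, 4, 0, 4],
  -- (af)^2
  [0, 5, 0, 5],
  -- (bc)^3
  [1, 2, 1, 2, 1, 2],
  -- (bd)^2
  [1, 3, 1, 3],
  -- (be)^2
  [1, 4, 1, 4],
  -- (bf)^3
  [1, 5, 1, 5, 1, 5],
  -- (cd)^8
  [2, 3, 2, 3, 2, 3, 2, 3, 2, 3, 2, 3, 2, 3, 2, 3],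
  -- (ce)^2
  [2, 4, 2, 4],
  -- (cf)^2
  [2, 5, 2, 5],
  -- (de)^3
  [3, 4, 3, 4, 3, 4],
  -- (df)^2
  [3, 5, 3, 5],
  -- (ef)^2
  [4, 5, 4, 5],
  -- a(cd)^4
  [0, 2, 3, 2, 3, 2, 3, 2, 3],
  -- (abcf)^5
  [0, 1, 2, 5, 0, 1, 2, 5, 0, 1, 2, 5, 0, 1, 2, 5, 0, 1, 2, 5],
  -- ((bcdcd)^5 e)^3
  [1, 2, 3, 2, 3, 1, 2, 3, 2, 3, 1, 2, 3, 2, 3, 1, 2, 3, 2, 3, 1, 2, 3, 2, 3, 4, 1, 2, 3, 2, 3, 1, 2, 3, 2, 3, 1, 2, 3, 2, 3, 1, 2, 3, 2, 3, 1, 2, 3, 2, 3, 4, 1, 2, 3, 2, 3, 1, 2, 3, 2, 3, 1, 2, 3, 2, 3, 1, 2, 3, 2, 3, 1, 2, 3, 2, 3, 4]]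

end Cfsg.Agent.SporRec.G24Rel
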