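import Cfsg.Agent.SporRec.G24Orb
import Cfsg.Agent.SporRec.G24Rel

set_option autoImplicit false

/-! Matrices `A 0, …, A 5` in `Gp = chevG2.group F4` satisfying the relators `R6` and generating `Gp`. -/

namespace Cfsg.Agent.SporRec.G24Match

open Cfsg.Lie Cfsg.Agent.SporRec.GF4 Cfsg.Agent.SporRec.G24Code Cfsg.Agent.SporRec.G24Mat
  Cfsg.Agent.SporRec.G24Orb Cfsg.Agent.SporRec.G24Rel

theorem fixes1 : ∀ p ∈ rt1, app (xc p.1 p.2) (2 ^ 26) = 2 ^ 26 := by decide +kernel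

theorem fixes2 : ∀ p ∈ rt2, app (xc p.1 p.2) (2 ^ 4) = 2 ^ 4 := by decide +kernel

theorem fixes3 : ∀ p ∈ rt3, app (xc p.1 p.2) (2 ^ 18) = 2 ^ 18 := by decide +kernel

/-- one step of the chain -/
theorem step (K : Subgroup (GL J F4)) (rt rt' : List (Fin 12 × Fin 3)) (hK : Kx rt ≤ K)
    (hK' : Kx rt' ≤ K) (b n Y P L D : ℕ) (hb : b < 2 ^ 28)
    (hfix : ∀ p ∈ rt', app (xc p.1 p.2) b = b)
    (tree : allb (okAt (rt.map fun p => xc p.1 p.2) (rt.map fun p => xc p.1 p.2).length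
      b n Y P L D) n = true)
    (sorted : allb (ltAt Y) (n - 1) = true) : n * Nat.card (Kx rt') ≤ Nat.card K := by
  have h1 := orbit_of_check (Kx rt) (forall2_x rt) (Kx_mem rt) b n Y P L D tree
  have h2 := chain_step K (Kx rt') hK' (dec b) (Kx_fix rt' b hb hfix) (vecs n Y) (by
    intro y hy
    classical
    unfold vecs at hy
    obtain ⟨k, hk, rfl⟩ := Finset.mem_image.1 hy
    obtain ⟨g, hg, hgv⟩ := h1 k (Finset.mem_range.1 hk)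
    exact ⟨g, hK hg, hgv⟩)
  rwa [card_vecs n Y sorted] at h2

theorem card_Gp_ge : 251596800 ≤ Nat.card Gp := by
  have hG : ∀ rt, Kx rt ≤ Gp := fun rt => Kx_le (fun p _ => gx_mem p.1 p.2)
  have s0 := step Gp rt0 rt1 (hG _) (hG _) _ _ _ _ _ _ (by norm_num) fixes1 tree0 sorted0
  have s1 := step (Kx rt1) rt1 rt2 le_rfl (Kx_mono (by decide)) _ _ _ _ _ _ (by norm_num) fixes2
    tree1 sorted1
  have s2 := step (Kx rt2) rt2 rt3 le_rfl (Kx_mono (by decide)) _ _ _ _ _ _ (by norm_num) fixes3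
    tree2 sorted2
  have s3 := step (Kx rt3) rt3 [] le_rfl (Kx_mono (by decide)) _ _ _ _ _ _ (by norm_num)
    (by intro p hp; simp at hp) tree3 sorted3
  have h4 : 1 ≤ Nat.card (Kx []) := Nat.one_le_iff_ne_zero.2 (Nat.card_pos).ne'
  have e : 251596800 = 4095 * (1024 * (15 * (4 * 1))) := by norm_num
  rw [e]
  calc 4095 * (1024 * (15 * (4 * 1))) ≤ 4095 * (1024 * (15 * (4 * Nat.card (Kx [])))) := by gcongr
    _ ≤ 4095 * (1024 * (15 * Nat.card (Kx rt3))) := by gcongr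
    _ ≤ 4095 * (1024 * Nat.card (Kx rt2)) := by gcongr
    _ ≤ 4095 * Nat.card (Kx rt1) := by gcongr
    _ ≤ Nat.card Gp := s0

/-- code of the matrix `A 2` -/
def Cc : List ℕ := [129, 194, 148, 232, 16, 32, 64, 128, 256, 512, 1024, 2048, 4096, 8192, 16416, 32816, 65600, 131200, 262656, 525056, 1048832, 2097664, 4203520, 8402944, 16793834, 33587327, 67240081, 134414562]

/-- the images of `a, …, f` -/
def A : Fin 6 → GL J F4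
  | 0 => gx 0 2
  | 1 => gx 11 0
  | 2 => gx 6 1 * (gx 0 0 * gx 6 1)
  | 3 => gx 7 0
  | 4 => gx 4 0
  | 5 => gx 0 0

/-- codes of the images -/
def AC : Fin 6 → List ℕ
  | 0 => xc 0 2
  | 1 => xc 11 0
  | 2 => Cc
  | 3 => xc 7 0
  | 4 => xc 4 0
  | 5 => xc 0 0

theorem Cc_check : Cc.length = 28 ∧ (∀ c ∈ Cc, c < 2 ^ 28) ∧
    ∀ j < 28, Cc.getD j 0 = appL [xc 6 1, xc 0 0, xc 6 1] (2 ^ j) := by decide +kernel

theorem isCode_A (i : Fin 6) : IsCode (A i : Matrix J J F4) (AC i) := by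
  fin_cases i
  · exact isCode_gx 0 2
  · exact isCode_gx 11 0
  · have h := isCode_prod (gs := [gx 6 1, gx 0 0, gx 6 1]) (forall2_x [(6, 1), (0, 0), (6, 1)])
      Cc_check.1 Cc_check.2.1 Cc_check.2.2
    have e : [gx 6 1, gx 0 0, gx 6 1].prod = A 2 := by
      simp only [List.prod_cons, List.prod_nil, mul_one]; rfl
    rw [e] at h
    exact h
  · exact isCode_gx 7 0
  · exact isCode_gx 4 0
  · exact isCode_gx 0 0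

theorem A_mem (i : Fin 6) : A i ∈ Gp := by
  fin_cases i
  · exact gx_mem 0 2
  · exact gx_mem 11 0
  · exact Gp.mul_mem (gx_mem 6 1) (Gp.mul_mem (gx_mem 0 0) (gx_mem 6 1))
  · exact gx_mem 7 0
  · exact gx_mem 4 0
  · exact gx_mem 0 0

theorem forall2_A (w : List (Fin 6)) :
    List.Forall₂ (fun (g : GL J F4) c => IsCode (g : Matrix J J F4) c) (w.map A) (w.map AC) := by
  induction w with
  | nil => exact List.Forall₂.nil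
  | cons i w ih => exact List.Forall₂.cons (isCode_A i) ih

/-- the word `w` acts trivially -/
def relOk (w : List (Fin 6)) : Bool :=
  (List.range 14).all fun p => appL (w.map AC) (4 ^ p) == 4 ^ p

theorem rel_check : R6.all relOk = true := by decide +kernel

theorem A_rel : ∀ w ∈ R6, (w.map A).prod = 1 := by
  intro w hw
  have h1 := List.all_eq_true.1 rel_check w hw
  refine prod_eq_of_check (gs' := []) (cs' := []) (forall2_A w) List.Forall₂.nil (fun p hp => ?_)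
  have h2 := List.all_eq_true.1 h1 p (List.mem_range.2 hp)
  exact (beq_iff_eq.1 h2)

/-- words in `a, …, f` for the root elements, index `3 r + t` -/
def WX : List (List (Fin 6)) := [
  [5],
  [1, 0, 1, 5, 0, 1, 0, 1, 0, 5, 1, 0, 1],
  [0],
  [3, 2, 1, 5, 3, 0, 1, 2, 0, 1, 0, 2, 1, 0, 3, 5, 1, 2, 3],
  [3, 2, 3, 1, 2, 0, 1, 5, 1, 2, 0, 1, 0, 2, 1, 5, 1, 0, 2, 1, 3, 2, 3],
  [3, 2, 1, 0, 1, 5, 0, 1, 2, 3, 2, 3, 2, 1, 0, 5, 1, 0, 1, 2, 3],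
  [4, 3, 1, 2, 0, 1, 5, 2, 3, 4, 0, 1, 2, 3, 2, 1, 0, 4, 3, 2, 5, 1, 0, 2, 1, 3, 4],
  [4, 3, 1, 2, 0, 1, 5, 1, 2, 3, 4, 1, 0, 1, 2, 3, 2, 1, 0, 1, 4, 3, 2, 1, 5, 1, 0, 2, 1, 3, 4],
  [4, 3, 1, 2, 3, 2, 1, 5, 4, 0, 1, 2, 3, 2, 1, 0, 4, 5, 1, 2, 3, 2, 1, 3, 4],
  [1, 2, 0, 1, 5, 2, 3, 4, 3, 0, 1, 2, 3, 2, 1, 0, 3, 4, 3, 2, 5, 1, 0, 2, 1],
  [1, 2, 0, 1, 5, 1, 2, 3, 4, 3, 1, 0, 1, 2, 3, 2, 1, 0, 1, 3, 4, 3, 2, 1, 5, 1, 0, 2, 1],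
  [4, 1, 2, 3, 2, 1, 5, 4, 0, 1, 2, 3, 2, 1, 0, 4, 5, 1, 2, 3, 2, 1, 4],
  [4],
  [3, 2, 3, 1, 0, 1, 2, 3, 4, 0, 1, 2, 3, 2, 1, 0, 4, 3, 2, 1, 0, 1, 3, 2, 3],
  [3, 2, 3, 1, 2, 3, 4, 0, 1, 0, 1, 2, 3, 2, 1, 0, 1, 0, 4, 3, 2, 1, 3, 2, 3],
  [2, 1, 5, 4, 3, 0, 1, 2, 0, 1, 0, 2, 1, 0, 3, 4, 5, 1, 2],
  [4, 2, 3, 1, 2, 0, 1, 5, 1, 2, 0, 1, 0, 2, 1, 5, 1, 0, 2, 1, 3, 2, 4],
  [2, 1, 0, 1, 5, 4, 0, 1, 2, 3, 2, 3, 2, 1, 0, 4, 5, 1, 0, 1, 2],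
  [3, 2, 1, 5, 0, 1, 2, 3, 2, 1, 0, 1, 2, 3, 2, 1, 0, 5, 1, 2, 3],
  [3, 2, 1, 0, 1, 5, 1, 2, 3, 2, 1, 2, 3, 2, 1, 5, 1, 0, 1, 2, 3],
  [2, 3, 1, 2, 1, 0, 1, 5, 0, 1, 2, 3, 2, 3, 2, 1, 0, 5, 1, 0, 1, 2, 1, 3, 2],
  [3],
  [4, 2, 3, 1, 0, 1, 2, 3, 4, 0, 1, 2, 3, 2, 1, 0, 4, 3, 2, 1, 0, 1, 3, 2, 4],
  [4, 2, 3, 1, 2, 3, 4, 0, 1, 0, 1, 2, 3, 2, 1, 0, 1, 0, 4, 3, 2, 1, 3, 2, 4],
  [4, 3, 2, 0, 1, 5, 1, 2, 3, 4, 0, 1, 2, 3, 2, 1, 0, 4, 3, 2, 1, 5, 1, 0, 2, 3, 4],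
  [4, 3, 2, 0, 1, 5, 2, 3, 4, 1, 0, 1, 2, 3, 2, 1, 0, 1, 4, 3, 2, 5, 1, 0, 2, 3, 4],
  [4, 3, 2, 0, 1, 5, 3, 4, 0, 1, 2, 3, 2, 1, 0, 4, 3, 5, 1, 0, 2, 3, 4],
  [2, 0, 1, 5, 1, 2, 3, 4, 3, 0, 1, 2, 3, 2, 1, 0, 3, 4, 3, 2, 1, 5, 1, 0, 2],
  [2, 0, 1, 5, 2, 3, 4, 3, 1, 0, 1, 2, 3, 2, 1, 0, 1, 3, 4, 3, 2, 5, 1, 0, 2],
  [2, 0, 1, 5, 3, 4, 3, 0, 1, 2, 3, 2, 1, 0, 3, 4, 3, 5, 1, 0, 2],
  [2, 1, 5, 4, 0, 1, 2, 3, 2, 1, 0, 1, 2, 3, 2, 1, 0, 4, 5, 1, 2],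
  [2, 1, 0, 1, 5, 4, 1, 2, 3, 2, 1, 2, 3, 2, 1, 4, 5, 1, 0, 1, 2],
  [5, 1, 2, 1, 0, 1, 5, 4, 0, 1, 2, 3, 2, 3, 2, 1, 0, 4, 5, 1, 0, 1, 2, 1, 5],
  [1],
  [0, 1, 5, 0, 1, 0, 5, 1, 0],
  [5, 1, 0, 1, 5]]

/-- the word for `x_r(t)` -/
def wx (r : Fin 12) (t : Fin 3) : List (Fin 6) := WX.getD (3 * r.val + t.val) []

theorem word_check : ∀ (r : Fin 12) (t : Fin 3), ∀ p < 14,
    appL ((wx r t).map AC) (4 ^ p) = appL [xc r t] (4 ^ p) := by decide +kernel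

theorem gx_eq (r : Fin 12) (t : Fin 3) : gx r t = ((wx r t).map A).prod := by
  have h := prod_eq_of_check (forall2_A (wx r t)) (forall2_x [(r, t)]) (word_check r t)
  rw [h]
  simp

theorem closure_A : Subgroup.closure (Set.range A) = Gp := by
  apply le_antisymm
  · refine (Subgroup.closure_le _).2 ?_
    rintro _ ⟨i, rfl⟩
    exact A_mem i
  · refine Gp_le (fun r t => ?_)
    rw [gx_eq]
    refine Subgroup.list_prod_mem _ (fun g hg => ?_)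
    obtain ⟨i, _, rfl⟩ := List.mem_map.1 hg
    exact Subgroup.subset_closure ⟨i, rfl⟩

end Cfsg.Agent.SporRec.G24Match
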