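import Cfsg.Prelude.Def_Spor_Suz
import Cfsg.Agent.SporRec.G24Rel

set_option autoImplicit false

/-! The images of `a, …, f` in the presented Suzuki group satisfy the relators `R6`. -/

namespace Cfsg.Agent.SporRec.G24Suz

open Cfsg.Spor Cfsg.Agent.SporRec.G24Rel

/-- canonical map from the free group -/
abbrev q : FreeGroup Suz.Gen →* Suz := PresentedGroup.mk (coxRelators Suz.edges ∪ {r | r ∈ Suz.extra})

/-- the words `a, …, f` -/
def gen : Fin 6 → Suz.Gen
  | 0 => .a
  | 1 => .b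
  | 2 => .c
  | 3 => .d
  | 4 => .e
  | 5 => .f

/-- the images of `a, …, f` in the presented group -/
def xs (i : Fin 6) : Suz := q (FreeGroup.of (gen i))

theorem mem_nodes : ∀ i : Fin 6, gen i ∈ coxNodes Suz.edges := by decide

theorem cox_rel (i j : Fin 6) (m : ℕ) (h : coxLabel Suz.edges (gen i) (gen j) = m) :
    (xs i * xs j) ^ m = 1 := by
  have h1 : q ((FreeGroup.of (gen i) * FreeGroup.of (gen j)) ^ m) = 1 := by
    apply PresentedGroup.one_of_mem
    exact Or.inl ⟨gen i, mem_nodes i, gen j, mem_nodes j, by rw [h]⟩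
  rw [map_pow, map_mul] at h1
  exact h1

theorem extra_rel {r : FreeGroup Suz.Gen} (h : r ∈ Suz.extra) : q r = 1 :=
  PresentedGroup.one_of_mem (Or.inr h)

/-- repeat a word -/
def rep (n : ℕ) (w : List (Fin 6)) : List (Fin 6) := (List.replicate n w).flatten

theorem prod_rep {G : Type*} [Group G] (x : Fin 6 → G) (n : ℕ) (w : List (Fin 6)) :
    ((rep n w).map x).prod = ((w.map x).prod) ^ n := by
  induction n with
  | zero => simp [rep]
  | succ n ih =>
    have : rep (n + 1) w = w ++ rep n w := by simp [rep, List.replicate_succ]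
    rw [this, List.map_append, List.prod_append, ih, pow_succ']

theorem prod_two {G : Type*} [Group G] (x : Fin 6 → G) (i j : Fin 6) (n : ℕ) :
    ((rep n [i, j]).map x).prod = (x i * x j) ^ n := by
  rw [prod_rep]; simp

/-- all relators in structured form -/
theorem R6_eq : R6 = [rep 1 [0, 0], rep 1 [1, 1], rep 1 [2, 2], rep 1 [3, 3], rep 1 [4, 4], rep 1 [5, 5],
    rep 5 [0, 1], rep 2 [0, 2], rep 2 [0, 3], rep 2 [0, 4], rep 2 [0, 5],
    rep 3 [1, 2], rep 2 [1, 3], rep 2 [1, 4], rep 3 [1, 5],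
    rep 8 [2, 3], rep 2 [2, 4], rep 2 [2, 5],
    rep 3 [3, 4], rep 2 [3, 5], rep 2 [4, 5],
    [0] ++ rep 4 [2, 3], rep 5 [0, 1, 2, 5], rep 3 (rep 5 [1, 2, 3, 2, 3] ++ [4])] := by
  decide

theorem xs_rel : ∀ w ∈ R6, (w.map xs).prod = 1 := by
  intro w hw
  rw [R6_eq] at hw
  simp only [List.mem_cons, List.not_mem_nil, or_false] at hw
  have ha : xs 0 * xs 0 = 1 := by simpa using cox_rel 0 0 1 (by decide)
  rcases hw with h | h | h | h | h | h | h | h | h | h | h | h | h | h | h | h | h | h | h | h | h |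
    h | h | h <;> subst h
  iterate 21 (rw [prod_two]; exact cox_rel _ _ _ (by decide))
  · have h1 := extra_rel (r := Suz.a * ((Suz.c * Suz.d) ^ 4)⁻¹) (by simp [Suz.extra])
    have h2 : xs 0 * ((xs 2 * xs 3) ^ 4)⁻¹ = 1 := by
      rw [map_mul, map_inv, map_pow, map_mul] at h1
      exact h1
    have h3 : xs 0 = (xs 2 * xs 3) ^ 4 := mul_inv_eq_one.1 h2
    rw [List.map_append, List.prod_append, prod_two, ← h3]
    simpa using ha
  · have h1 := extra_rel (r := (Suz.a * Suz.b * Suz.c * Suz.f) ^ 5) (by simp [Suz.extra])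
    rw [map_pow, map_mul, map_mul, map_mul] at h1
    rw [prod_rep]
    have e : ([0, 1, 2, 5].map xs).prod = xs 0 * xs 1 * xs 2 * xs 5 := by
      simp [mul_assoc]
    rw [e]
    exact h1
  · have h1 := extra_rel (r := ((Suz.b * Suz.c * Suz.d * Suz.c * Suz.d) ^ 5 * Suz.e) ^ 3)
      (by simp [Suz.extra])
    rw [map_pow, map_mul, map_pow, map_mul, map_mul, map_mul, map_mul] at h1
    rw [prod_rep, List.map_append, List.prod_append, prod_rep]
    have e : ([1, 2, 3, 2, 3].map xs).prod = xs 1 * xs 2 * xs 3 * xs 2 * xs 3 := by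
      simp [mul_assoc]
    have e' : ([4].map xs).prod = xs 4 := by simp
    rw [e, e']
    exact h1

/-- the subgroup of the statement is generated by the `xs i` -/
theorem map_closure_eq :
    ((Subgroup.closure ({Cfsg.Spor.Suz.a, Cfsg.Spor.Suz.b, Cfsg.Spor.Suz.c, Cfsg.Spor.Suz.d,
      Cfsg.Spor.Suz.e, Cfsg.Spor.Suz.f} : Set (FreeGroup Cfsg.Spor.Suz.Gen))).map
      (PresentedGroup.mk (Cfsg.Spor.coxRelators Cfsg.Spor.Suz.edges ∪
        {r | r ∈ Cfsg.Spor.Suz.extra}))) = Subgroup.closure (Set.range xs) := by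
  rw [MonoidHom.map_closure]
  congr 1
  ext y
  constructor
  · rintro ⟨w, hw, rfl⟩
    simp only [Set.mem_insert_iff, Set.mem_singleton_iff] at hw
    rcases hw with h | h | h | h | h | h <;> subst h
    · exact ⟨0, rfl⟩
    · exact ⟨1, rfl⟩
    · exact ⟨2, rfl⟩
    · exact ⟨3, rfl⟩
    · exact ⟨4, rfl⟩
    · exact ⟨5, rfl⟩
  · rintro ⟨i, rfl⟩
    refine ⟨FreeGroup.of (gen i), ?_, rfl⟩
    fin_cases i
    · exact Or.inl rfl
    · exact Or.inr (Or.inl rfl)
    · exact Or.inr (Or.inr (Or.inl rfl))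
    · exact Or.inr (Or.inr (Or.inr (Or.inl rfl)))
    · exact Or.inr (Or.inr (Or.inr (Or.inr (Or.inl rfl))))
    · exact Or.inr (Or.inr (Or.inr (Or.inr (Or.inr rfl))))

end Cfsg.Agent.SporRec.G24Suz
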