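import Cfsg.Agent.SporRec.TwoAn

/-!
# The double cover of `A₁₁`: involutions
-/

set_option autoImplicit false

namespace Cfsg.Agent.SporRec.TwoAnEleven

open Subgroup Equiv Cfsg.Agent.SporRec.TwoAn

section Perm

variable {α : Type*} [Fintype α] [DecidableEq α]

/-- Conjugate permutations fixing two points are conjugate by an even permutation. -/
theorem exists_even_conj {σ τ : Perm α} (h : IsConj σ τ) {a b : α} (hab : a ≠ b) (ha : σ a = a) (hb : σ b = b) :
    ∃ c ∈ alternatingGroup α, c * σ * c⁻¹ = τ := by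
  obtain ⟨c, hc⟩ := isConj_iff.1 h
  by_cases hce : c ∈ alternatingGroup α
  · exact ⟨c, hce, hc⟩
  refine ⟨c * swap a b, ?_, ?_⟩
  · rw [Perm.mem_alternatingGroup] at hce ⊢
    rw [map_mul, Perm.sign_swap hab]
    rcases Int.units_eq_one_or (Perm.sign c) with h1 | h1
    · exact absurd h1 hce
    · rw [h1]; decide
  · have hcomm : swap a b * σ = σ * swap a b := by
      have h2 := Equiv.mul_swap_eq_swap_mul σ a b
      rw [ha, hb] at h2
      exact h2.symm
    rw [mul_assoc c, hcomm, mul_inv_rev, ← hc]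
    simp only [mul_assoc, swap_inv, swap_mul_self_mul]

theorem cycleType_of_involution {σ : Perm α} (h : σ * σ = 1) {k : ℕ} (hk : σ.support.card = 2 * k) :
    σ.cycleType = Multiset.replicate k 2 := by
  have h2 : ∀ n ∈ σ.cycleType, n = 2 := by
    intro n hn
    have h3 : n ∣ 2 := (Perm.dvd_of_mem_cycleType hn).trans (orderOf_dvd_of_pow_eq_one (by rw [pow_two, h]))
    have h4 := Perm.two_le_of_mem_cycleType hn
    have := Nat.le_of_dvd (by norm_num) h3
    omega
  rw [Multiset.eq_replicate]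
  refine ⟨?_, h2⟩
  have h3 := Multiset.eq_replicate_of_mem h2
  have h4 := Perm.sum_cycleType σ
  rw [h3, Multiset.sum_replicate, hk, smul_eq_mul] at h4
  omega

end Perm

section Involution

variable {α : Type*} [Fintype α] [DecidableEq α] {C : Type*} [Group C] (K : Cover α C)

theorem card_support_of_involution (hα : Fintype.card α < 16) {g : C} (hg : g * g = 1) (h1 : g ≠ 1) (hz : g ≠ K.z) :
    (K.π g).support.card = 8 := by
  obtain ⟨h2, m, hm⟩ := K.sq_eq_one_iff.1 hg
  have h3 : (K.π g).support.card ≤ Fintype.card α := Finset.card_le_univ _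
  have h4 : m ≠ 0 := by
    rintro rfl
    rw [mul_zero, Finset.card_eq_zero, Perm.support_eq_empty_iff] at hm
    rcases (K.ker g).1 hm with h | h
    · exact h1 h
    · exact hz h
  omega

/-- In the double cover of `A_n`, `10 ≤ n < 16`, the involutions different from `z` are conjugate. -/
theorem conj_of_involution (hα : 10 ≤ Fintype.card α) (hα' : Fintype.card α < 16) {g h : C}
    (hg : g * g = 1) (hg1 : g ≠ 1) (hgz : g ≠ K.z) (hh : h * h = 1) (hh1 : h ≠ 1) (hhz : h ≠ K.z) :
    ∃ c, c * g * c⁻¹ = h := by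
  have hgs := card_support_of_involution K hα' hg hg1 hgz
  have hhs := card_support_of_involution K hα' hh hh1 hhz
  have hg2 := (K.sq_eq_one_iff.1 hg).1
  have hh2 := (K.sq_eq_one_iff.1 hh).1
  have hconj : IsConj (K.π g) (K.π h) := by
    rw [Perm.isConj_iff_cycleType_eq, cycleType_of_involution hg2 (k := 4) hgs,
      cycleType_of_involution hh2 (k := 4) hhs]
  have hc : 1 < (K.π g).supportᶜ.card := by
    rw [Finset.card_compl, hgs]; omega
  obtain ⟨a, ha, b, hb, hab⟩ := Finset.one_lt_card.1 hc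
  rw [Finset.mem_compl, Perm.notMem_support] at ha hb
  obtain ⟨c, hc, hcc⟩ := exists_even_conj hconj hab ha hb
  obtain ⟨d, rfl⟩ := K.exists_lift hc
  rw [← map_mul, ← map_inv, ← map_mul] at hcc
  rcases K.lift_eq hcc with e | e
  · exact ⟨d, e⟩
  · obtain ⟨w, hw⟩ := K.exists_conj_mul_z hh2 (by
      intro h0
      rw [h0, Perm.support_one, Finset.card_empty] at hhs
      exact absurd hhs (by norm_num))
    refine ⟨w * d, ?_⟩
    calc w * d * g * (w * d)⁻¹ = w * (d * g * d⁻¹) * w⁻¹ := by group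
      _ = w * h * w⁻¹ * K.z := by rw [e, ← mul_assoc, mul_assoc _ K.z, ← K.z_comm, ← mul_assoc]
      _ = h := by rw [hw, mul_assoc, K.z_mul_z, mul_one]

end Involution

/-- The vector space of dimension three over the field with two elements. -/
abbrev V := Fin 3 → ZMod 2

theorem V_add_self (v : V) : v + v = 0 := by
  funext i
  exact CharTwo.add_self_eq_zero (v i)

theorem card_V : Fintype.card V = 8 := by
  simp [ZMod.card]

section Affine

variable {r : ℕ}

/-- The translations of `V`, acting on `V ⊕ Fin r`. -/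
def T (r : ℕ) : Multiplicative V →* Perm (V ⊕ Fin r) where
  toFun v := Perm.sumCongr (Equiv.addLeft v.toAdd) 1
  map_one' := by
    ext x
    rcases x with x | x
    · simp
    · simp
  map_mul' v w := by
    rw [Perm.sumCongr_mul, one_mul]
    congr 1
    ext x : 1
    simp

/-- The translation by `v`. -/
abbrev t (r : ℕ) (v : V) : Perm (V ⊕ Fin r) := T r (Multiplicative.ofAdd v)

theorem t_inl (v w : V) : t r v (Sum.inl w) = Sum.inl (v + w) := rfl

theorem t_inr (v : V) (i : Fin r) : t r v (Sum.inr i) = Sum.inr i := rfl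

theorem mem_range_T {σ : Perm (V ⊕ Fin r)} : σ ∈ (T r).range ↔ ∃ v, σ = t r v := by
  constructor
  · rintro ⟨v, rfl⟩; exact ⟨v.toAdd, rfl⟩
  · rintro ⟨v, rfl⟩; exact ⟨_, rfl⟩

theorem t_injective : Function.Injective (t r) := by
  intro v w h
  have h2 := congrArg (fun f : Perm (V ⊕ Fin r) => f (Sum.inl 0)) h
  simpa [t_inl] using h2

theorem t_zero : t r 0 = 1 := by rw [t, ofAdd_zero, map_one]

theorem t_add (v w : V) : t r (v + w) = t r v * t r w := by rw [t, ofAdd_add, map_mul]

theorem t_mul_self (v : V) : t r v * t r v = 1 := by rw [← t_add, V_add_self, t_zero]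

theorem t_ne_one {v : V} (hv : v ≠ 0) : t r v ≠ 1 := by
  rw [← t_zero]; exact fun h => hv (t_injective h)

theorem card_support_t {v : V} (hv : v ≠ 0) : (t r v).support.card = 8 := by
  have h : (t r v).support = (Finset.univ : Finset V).map ⟨Sum.inl, Sum.inl_injective⟩ := by
    ext x
    rcases x with x | x
    · simp [Perm.mem_support, t_inl, hv]
    · simp [Perm.mem_support, t_inr]
  rw [h, Finset.card_map, Finset.card_univ, card_V]

theorem sign_t (v : V) : Perm.sign (t r v) = 1 := by
  by_cases hv : v = 0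
  · rw [hv, t_zero, map_one]
  rw [Perm.sign_of_cycleType, cycleType_of_involution (t_mul_self v) (k := 4) (card_support_t hv)]
  decide

theorem t_mem (v : V) : t r v ∈ alternatingGroup (V ⊕ Fin r) := by
  rw [Perm.mem_alternatingGroup, sign_t]

end Affine

section Linear

open Matrix

/-- The action of `GL₃(2)` on `V`. -/
def gl : GL (Fin 3) (ZMod 2) →* Perm V where
  toFun M := ⟨fun v => M.1 *ᵥ v, fun v => M⁻¹.1 *ᵥ v, fun v => by
    show M⁻¹.1 *ᵥ (M.1 *ᵥ v) = v
    rw [mulVec_mulVec, ← Units.val_mul, inv_mul_cancel, Units.val_one, one_mulVec], fun v => by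
    show M.1 *ᵥ (M⁻¹.1 *ᵥ v) = v
    rw [mulVec_mulVec, ← Units.val_mul, mul_inv_cancel, Units.val_one, one_mulVec]⟩
  map_one' := by
    ext v : 1
    show (1 : GL (Fin 3) (ZMod 2)).1 *ᵥ v = v
    rw [Units.val_one, one_mulVec]
  map_mul' M N := by
    ext v : 1
    show (M * N).1 *ᵥ v = M.1 *ᵥ (N.1 *ᵥ v)
    rw [mulVec_mulVec, Units.val_mul]

theorem gl_apply (M : GL (Fin 3) (ZMod 2)) (v : V) : gl M v = M.1 *ᵥ v := rfl

theorem gl_injective : Function.Injective gl := by
  intro M N h
  apply Units.ext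
  apply Matrix.ext_of_mulVec_single
  intro i
  exact congrArg (fun f : Perm V => f (Pi.single i 1)) h

theorem zmod2 (x : ZMod 2) : x = 0 ∨ x = 1 := by revert x; decide

/-- A transvection. -/
def tv (i j : Fin 3) (v : V) : V := fun a => if a = i then v a + v j else v a

theorem tv_tv (i j : Fin 3) (h : i ≠ j) (v : V) : tv i j (tv i j v) = v := by
  revert i j v; decide +kernel

/-- A transvection, as a permutation. -/
def tp (i j : Fin 3) (h : i ≠ j) : Perm V := ⟨tv i j, tv i j, tv_tv i j h, tv_tv i j h⟩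

theorem sign_tp (i j : Fin 3) (h : i ≠ j) : Perm.sign (tp i j h) = 1 := by
  revert i j h; decide +kernel

theorem sign_of_mulVec (N : Matrix (Fin 3) (Fin 3) (ZMod 2)) (hN : N.det ≠ 0) :
    ∀ e : Perm V, (∀ v, e v = N *ᵥ v) → Perm.sign e = 1 := by
  refine Matrix.diagonal_transvection_induction_of_det_ne_zero
    (fun N => ∀ e : Perm V, (∀ v, e v = N *ᵥ v) → Perm.sign e = 1) N hN ?_ ?_ ?_
  · intro D hD e he
    have h1 : e = 1 := by
      ext v : 1
      rw [he, Perm.one_apply]
      funext i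
      rw [det_diagonal, Finset.prod_ne_zero_iff] at hD
      rw [mulVec_diagonal, (zmod2 (D i)).resolve_left (hD i (Finset.mem_univ i)), one_mul]
    rw [h1, map_one]
  · rintro ⟨i, j, hij, c⟩ e he
    rcases zmod2 c with rfl | rfl
    · have h1 : e = 1 := by
        ext v : 1
        rw [he, Perm.one_apply, TransvectionStruct.toMatrix_mk, transvection_zero, one_mulVec]
      rw [h1, map_one]
    · have h1 : e = tp i j hij := by
        ext v : 1
        rw [he, TransvectionStruct.toMatrix_mk, transvection, add_mulVec, one_mulVec]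
        funext a
        show v a + _ = tv i j v a
        rw [tv]
        split_ifs with ha
        · subst ha
          simp [Matrix.single_mulVec]
        · simp [Matrix.single_mulVec, ha]
      rw [h1, sign_tp]
  · intro A B hA hB ihA ihB e he
    have h1 : e = gl (GeneralLinearGroup.mkOfDetNeZero A hA) * gl (GeneralLinearGroup.mkOfDetNeZero B hB) := by
      ext v : 1
      rw [he, ← mulVec_mulVec]
      rfl
    rw [h1, map_mul, ihA _ (fun v => rfl), ihB _ (fun v => rfl), one_mul]

theorem sign_gl (M : GL (Fin 3) (ZMod 2)) : Perm.sign (gl M) = 1 :=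
  sign_of_mulVec M.1 (by
    have := (Matrix.isUnit_iff_isUnit_det _).1 M.isUnit
    exact this.ne_zero) _ (fun _ => rfl)

theorem card_gl : Nat.card (GL (Fin 3) (ZMod 2)) = 168 := by
  rw [Matrix.card_GL_field, Fin.prod_univ_three, ZMod.card]
  rfl

/-- Additive permutations of `V` are linear. -/
theorem exists_gl (f : Perm V) (hf : ∀ v w, f (v + w) = f v + f w) : ∃ M, f = gl M := by
  let φ : V →+ V := ⟨⟨f, by
    have := hf 0 0
    rw [add_zero] at this
    exact (left_eq_add.mp this)⟩, hf⟩
  let L : V →ₗ[ZMod 2] V := φ.toZModLinearMap 2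
  let L' : V ≃ₗ[ZMod 2] V := LinearEquiv.ofBijective L f.bijective
  have hu : IsUnit (LinearMap.toMatrix' L) := by
    rw [Matrix.isUnit_iff_isUnit_det, LinearMap.det_toMatrix']
    exact L'.isUnit_det'
  obtain ⟨M, hM⟩ := hu
  refine ⟨M, ?_⟩
  ext v : 1
  rw [gl_apply, hM, LinearMap.toMatrix'_mulVec]
  rfl

end Linear

section Normalizer

variable {r : ℕ}

/-- The elements normalising the translations. -/
def nrm (u : V) (M : GL (Fin 3) (ZMod 2)) (τ : Perm (Fin r)) : Perm (V ⊕ Fin r) :=
  Perm.sumCongr (Equiv.addLeft u * gl M) τ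

theorem nrm_inl (u : V) (M : GL (Fin 3) (ZMod 2)) (τ : Perm (Fin r)) (v : V) :
    nrm u M τ (Sum.inl v) = Sum.inl (u + M.1.mulVec v) := rfl

theorem nrm_inr (u : V) (M : GL (Fin 3) (ZMod 2)) (τ : Perm (Fin r)) (i : Fin r) :
    nrm u M τ (Sum.inr i) = Sum.inr (τ i) := rfl

theorem t_eq (u : V) : t r u = nrm u 1 1 := by
  ext x
  rcases x with x | x
  · rw [nrm_inl, t_inl, Units.val_one, Matrix.one_mulVec]
  · rw [nrm_inr, t_inr, Perm.one_apply]

theorem nrm_mul_t (u : V) (M : GL (Fin 3) (ZMod 2)) (τ : Perm (Fin r)) (v : V) :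
    nrm u M τ * t r v = t r (M.1.mulVec v) * nrm u M τ := by
  ext x
  rcases x with x | x
  · rw [Perm.mul_apply, Perm.mul_apply, t_inl, nrm_inl, nrm_inl, t_inl, Matrix.mulVec_add, add_left_comm]
  · rw [Perm.mul_apply, Perm.mul_apply, t_inr, nrm_inr, t_inr]

theorem sign_nrm (u : V) (M : GL (Fin 3) (ZMod 2)) (τ : Perm (Fin r)) :
    Perm.sign (nrm u M τ) = Perm.sign τ := by
  have h : nrm u M τ = t r u * Perm.sumCongr (gl M) τ := by
    ext x
    rcases x with x | x <;> rfl
  rw [h, map_mul, sign_t, one_mul, Perm.sign_sumCongr, sign_gl, one_mul]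

theorem nrm_injective : Function.Injective
    (fun p : V × GL (Fin 3) (ZMod 2) × Perm (Fin r) => nrm p.1 p.2.1 p.2.2) := by
  rintro ⟨u, M, τ⟩ ⟨u', M', τ'⟩ h
  replace h : nrm u M τ = nrm u' M' τ' := h
  have h1 : ∀ v, u + M.1.mulVec v = u' + M'.1.mulVec v := fun v => by
    have := congrArg (fun f : Perm (V ⊕ Fin r) => f (Sum.inl v)) h
    exact Sum.inl_injective this
  have h2 : u = u' := by
    have := h1 0
    rwa [Matrix.mulVec_zero, Matrix.mulVec_zero, add_zero, add_zero] at this
  have h3 : M = M' := by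
    apply gl_injective
    ext v : 1
    have := h1 v
    rw [h2] at this
    exact add_left_cancel this
  have h4 : τ = τ' := by
    ext i : 1
    have := congrArg (fun f : Perm (V ⊕ Fin r) => f (Sum.inr i)) h
    exact Sum.inr_injective this
  rw [h2, h3, h4]

/-- A permutation normalising the translations has the obvious form. -/
theorem exists_nrm {σ : Perm (V ⊕ Fin r)} (h : ∀ v, ∃ v', σ * t r v = t r v' * σ) :
    ∃ u M τ, σ = nrm u M τ := by
  have hl : ∀ w, ∃ w', σ (Sum.inl w) = Sum.inl w' := by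
    intro w
    rcases hw : σ (Sum.inl w) with w' | j
    · exact ⟨w', rfl⟩
    exfalso
    obtain ⟨v', hv'⟩ := h (Pi.single 0 1)
    have h1 := congrArg (fun f : Perm (V ⊕ Fin r) => f (Sum.inl w)) hv'
    simp only [Perm.mul_apply] at h1
    rw [hw, t_inr, ← hw, σ.injective.eq_iff, t_inl, Sum.inl_injective.eq_iff, add_eq_right] at h1
    have := congrFun h1 0
    rw [Pi.single_eq_same] at this
    exact one_ne_zero this
  have hr : ∀ i, ∃ j, σ (Sum.inr i) = Sum.inr j := by
    intro i
    rcases hi : σ (Sum.inr i) with w | j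
    · exfalso
      obtain ⟨v', hv'⟩ := h (Pi.single 0 1)
      have h1 := congrArg (fun f : Perm (V ⊕ Fin r) => f (Sum.inr i)) hv'
      simp only [Perm.mul_apply] at h1
      rw [t_inr, hi, t_inl, Sum.inl_injective.eq_iff, right_eq_add] at h1
      rw [h1, t_zero, one_mul, mul_eq_left] at hv'
      exact t_ne_one (fun h => one_ne_zero (by
        have := congrFun h 0
        rwa [Pi.single_eq_same] at this)) hv'
    · exact ⟨j, rfl⟩
  have hrange : σ ∈ (Perm.sumCongrHom V (Fin r)).range := by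
    apply Perm.mem_sumCongrHom_range_of_perm_mapsTo_inl
    rintro _ ⟨w, rfl⟩
    obtain ⟨w', hw'⟩ := hl w
    exact ⟨w', hw'.symm⟩
  obtain ⟨⟨f, τ⟩, hfτ⟩ := hrange
  replace hfτ : σ = Perm.sumCongr f τ := hfτ.symm
  subst hfτ
  have h1 : ∀ v w, f (v + w) = f v - f 0 + f w := by
    intro v w
    obtain ⟨v', hv'⟩ := h v
    have h2 : ∀ x, f (v + x) = v' + f x := fun x => by
      have := congrArg (fun f : Perm (V ⊕ Fin r) => f (Sum.inl x)) hv'
      exact Sum.inl_injective this
    have h3 := h2 0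
    rw [add_zero] at h3
    rw [h2 w, h3, add_sub_cancel_right]
  obtain ⟨M, hM⟩ := exists_gl (Equiv.addLeft (-f 0) * f) (fun v w => by
    simp only [Perm.mul_apply, Equiv.coe_addLeft]
    rw [h1]; abel)
  refine ⟨f 0, M, τ, ?_⟩
  rw [nrm]
  congr 1
  rw [← hM]
  ext x : 1
  simp only [Perm.mul_apply, Equiv.coe_addLeft]
  rw [add_neg_cancel_left]

theorem exists_nrm_of_comm {σ : Perm (V ⊕ Fin r)} (h : ∀ v, σ * t r v = t r v * σ) :
    ∃ u τ, σ = nrm u 1 τ := by
  obtain ⟨u, M, τ, rfl⟩ := exists_nrm (fun v => ⟨v, h v⟩)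
  refine ⟨u, τ, ?_⟩
  have : M = 1 := by
    apply gl_injective
    rw [map_one]
    ext v : 1
    have h1 := h v
    rw [nrm_mul_t] at h1
    exact t_injective (mul_right_cancel h1)
  rw [this]

end Normalizer

section CoverGen

variable {α : Type*} [Fintype α] [DecidableEq α] {C : Type*} [Group C] (K : Cover α C)

theorem card_comap {S : Subgroup (Perm α)} (hS : S ≤ alternatingGroup α) :
    Nat.card (S.comap K.π) = 2 * Nat.card S := by
  have hsurj : Function.Surjective (K.π.subgroupComap S) := by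
    rintro ⟨s, hs⟩
    obtain ⟨g, hg⟩ := K.exists_lift (hS hs)
    exact ⟨⟨g, by rw [mem_comap, hg]; exact hs⟩, Subtype.ext hg⟩
  have hker : Nat.card (K.π.subgroupComap S).ker = 2 := by
    have e : (K.π.subgroupComap S).ker ≃ ({1, K.z} : Set C) :=
      { toFun := fun g => ⟨g.1.1, by
          have h : K.π g.1.1 = 1 := congrArg Subtype.val g.2
          exact (K.ker _).1 h⟩
        invFun := fun g => ⟨⟨g.1, by
          rw [mem_comap, (K.ker g.1).2 g.2]; exact S.one_mem⟩, Subtype.ext ((K.ker g.1).2 g.2)⟩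
        left_inv := fun g => rfl
        right_inv := fun g => rfl }
    rw [Nat.card_congr e, Nat.card_coe_set_eq, Set.ncard_pair K.z_ne.symm]
  rw [Subgroup.card_eq_card_quotient_mul_card_subgroup (K.π.subgroupComap S).ker, hker,
    Nat.card_congr (QuotientGroup.quotientKerEquivOfSurjective _ hsurj).toEquiv, mul_comm]

end CoverGen

section CoverV

variable {r : ℕ} {C : Type*} [Group C] (K : Cover (V ⊕ Fin r) C)

theorem range_T_le : (T r).range ≤ alternatingGroup (V ⊕ Fin r) := by
  rintro _ ⟨v, rfl⟩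
  exact t_mem v.toAdd

/-- The preimage of the group of translations. -/
def A : Subgroup C := (T r).range.comap K.π

theorem mem_A {g : C} : g ∈ A K ↔ ∃ v, K.π g = t r v := by
  rw [A, mem_comap, mem_range_T]

theorem z_mem_A : K.z ∈ A K := (mem_A K).2 ⟨0, by rw [K.π_z, t_zero]⟩

theorem mul_self_of_mem_A {g : C} (hg : g ∈ A K) : g * g = 1 := by
  obtain ⟨v, hv⟩ := (mem_A K).1 hg
  rw [K.sq_eq_one_iff, hv, t_mul_self]
  refine ⟨rfl, ?_⟩
  by_cases hv0 : v = 0
  · rw [hv0, t_zero, Perm.support_one]; exact dvd_zero _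
  · rw [card_support_t hv0]

theorem card_A : Nat.card (A K) = 16 := by
  rw [A, card_comap K range_T_le]
  have h : Function.Injective (T r) := fun v w h => t_injective h
  rw [← Nat.card_congr (MonoidHom.ofInjective h).toEquiv, Nat.card_eq_fintype_card, Fintype.card_multiplicative,
    card_V]

theorem comm_of_mem_A {g h : C} (hg : g ∈ A K) (hh : h ∈ A K) : g * h = h * g := by
  have h1 := mul_self_of_mem_A K hg
  have h2 := mul_self_of_mem_A K hh
  have h3 := mul_self_of_mem_A K ((A K).mul_mem hg hh)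
  have h4 : g⁻¹ = g := inv_eq_of_mul_eq_one_left h1
  have h5 : h⁻¹ = h := inv_eq_of_mul_eq_one_left h2
  have h6 : (g * h)⁻¹ = g * h := inv_eq_of_mul_eq_one_left h3
  rw [← h6, mul_inv_rev, h4, h5]

theorem exists_mem_A (v : V) : ∃ g ∈ A K, K.π g = t r v := by
  obtain ⟨g, hg⟩ := K.exists_lift (t_mem (r := r) v)
  exact ⟨g, (mem_A K).2 ⟨v, hg⟩, hg⟩

theorem disjoint_nrm (v : V) (τ : Perm (Fin r)) : (t r v).Disjoint (nrm 0 1 τ) := by
  intro x
  rcases x with x | x
  · right; rw [nrm_inl, Units.val_one, Matrix.one_mulVec, zero_add]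
  · left; exact t_inr v x

/-- The centraliser of `A`. -/
theorem mem_centralizer_A {g : C} : g ∈ centralizer (A K : Set C) ↔ ∃ u τ, K.π g = nrm u 1 τ := by
  constructor
  · intro hg
    apply exists_nrm_of_comm
    intro v
    obtain ⟨a, ha, hav⟩ := exists_mem_A K v
    rw [← hav, ← map_mul, ← map_mul, (mem_centralizer_iff.1 hg) a ha]
  · rintro ⟨u, τ, hg⟩
    rw [mem_centralizer_iff]
    intro a ha
    obtain ⟨b, hb, hbu⟩ := exists_mem_A K u
    have h1 : K.π (b⁻¹ * g) = nrm 0 1 τ := by
      rw [map_mul, map_inv, hbu, hg, inv_mul_eq_iff_eq_mul]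
      ext x
      rcases x with x | x
      · rw [Perm.mul_apply, nrm_inl, nrm_inl, t_inl, zero_add]
      · rw [Perm.mul_apply, nrm_inr, nrm_inr, t_inr]
    obtain ⟨v, hv⟩ := (mem_A K).1 ha
    have h2 : a * (b⁻¹ * g) = b⁻¹ * g * a := K.commute_of_disjoint (by rw [hv, h1]; exact disjoint_nrm v τ)
    have h3 : a * b = b * a := comm_of_mem_A K ha hb
    calc a * g = a * b * (b⁻¹ * g) := by group
      _ = b * (a * (b⁻¹ * g)) := by rw [h3, mul_assoc]
      _ = g * a := by rw [h2]; group

theorem mem_normalizer_A {g : C} : g ∈ normalizer (A K : Set C) ↔ ∃ u M τ, K.π g = nrm u M τ := by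
  rw [mem_normalizer_iff]
  constructor
  · intro hg
    apply exists_nrm
    intro v
    obtain ⟨a, ha, hav⟩ := exists_mem_A K v
    obtain ⟨v', hv'⟩ := (mem_A K).1 ((hg a).1 ha)
    refine ⟨v', ?_⟩
    rw [← hv', ← hav, ← map_mul, ← map_mul]
    congr 1
    group
  · rintro ⟨u, M, τ, hg⟩ a
    rw [mem_A, mem_A, map_mul, map_mul, map_inv, hg]
    constructor
    · rintro ⟨v, hv⟩
      exact ⟨_, by rw [hv, nrm_mul_t, mul_inv_cancel_right]⟩
    · rintro ⟨v, hv⟩
      refine ⟨M⁻¹.1.mulVec v, ?_⟩
      have h1 := nrm_mul_t u M τ (M⁻¹.1.mulVec v)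
      rw [Matrix.mulVec_mulVec, ← Units.val_mul, mul_inv_cancel, Units.val_one, Matrix.one_mulVec, ← hv,
        inv_mul_cancel_right] at h1
      exact (mul_left_cancel h1).symm

theorem mem_alternating_nrm {u : V} {M : GL (Fin 3) (ZMod 2)} {τ : Perm (Fin r)} :
    nrm u M τ ∈ alternatingGroup (V ⊕ Fin r) ↔ τ ∈ alternatingGroup (Fin r) := by
  rw [Perm.mem_alternatingGroup, Perm.mem_alternatingGroup, sign_nrm]

theorem card_normalizer_A : Nat.card (normalizer (A K : Set C)) =
    2 * (8 * (168 * Nat.card (alternatingGroup (Fin r)))) := by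
  have h1 : normalizer (A K : Set C) = ((normalizer (A K : Set C)).map K.π).comap K.π := by
    ext g
    rw [mem_comap, mem_map]
    constructor
    · intro hg; exact ⟨g, hg, rfl⟩
    · rintro ⟨h, hh, e⟩
      rw [mem_normalizer_A] at hh ⊢
      rwa [e] at hh
  have hle : (normalizer (A K : Set C)).map K.π ≤ alternatingGroup (V ⊕ Fin r) := by
    rintro _ ⟨g, -, rfl⟩
    exact K.mem_alternating g
  rw [h1, card_comap K hle]
  congr 1
  have e : (V × GL (Fin 3) (ZMod 2) × alternatingGroup (Fin r)) ≃ (normalizer (A K : Set C)).map K.π := by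
    refine Equiv.ofBijective (fun p => ⟨nrm p.1 p.2.1 p.2.2.1, ?_⟩) ⟨?_, ?_⟩
    · obtain ⟨g, hg⟩ := K.exists_lift (mem_alternating_nrm (u := p.1) (M := p.2.1).2 p.2.2.2)
      exact ⟨g, (mem_normalizer_A K).2 ⟨_, _, _, hg⟩, hg⟩
    · rintro ⟨u, M, τ⟩ ⟨u', M', τ'⟩ h
      have h2 := nrm_injective (r := r) (a₁ := (u, M, τ.1)) (a₂ := (u', M', τ'.1)) (congrArg Subtype.val h)
      simp only [Prod.mk.injEq] at h2 ⊢
      exact ⟨h2.1, h2.2.1, Subtype.ext h2.2.2⟩
    · rintro ⟨σ, g, hg, rfl⟩
      obtain ⟨u, M, τ, h⟩ := (mem_normalizer_A K).1 hg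
      have h2 := K.mem_alternating g
      rw [h, mem_alternating_nrm] at h2
      exact ⟨(u, M, ⟨τ, h2⟩), Subtype.ext h.symm⟩
  rw [← Nat.card_congr e, Nat.card_prod, Nat.card_prod, card_gl, Nat.card_eq_fintype_card, card_V]

theorem card_centralizer_A : Nat.card (centralizer (A K : Set C)) =
    2 * (8 * Nat.card (alternatingGroup (Fin r))) := by
  have h1 : centralizer (A K : Set C) = ((centralizer (A K : Set C)).map K.π).comap K.π := by
    ext g
    rw [mem_comap, mem_map]
    constructor
    · intro hg; exact ⟨g, hg, rfl⟩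
    · rintro ⟨h, hh, e⟩
      rw [mem_centralizer_A] at hh ⊢
      rwa [e] at hh
  have hle : (centralizer (A K : Set C)).map K.π ≤ alternatingGroup (V ⊕ Fin r) := by
    rintro _ ⟨g, -, rfl⟩
    exact K.mem_alternating g
  rw [h1, card_comap K hle]
  congr 1
  have e : (V × alternatingGroup (Fin r)) ≃ (centralizer (A K : Set C)).map K.π := by
    refine Equiv.ofBijective (fun p => ⟨nrm p.1 1 p.2.1, ?_⟩) ⟨?_, ?_⟩
    · obtain ⟨g, hg⟩ := K.exists_lift (mem_alternating_nrm (u := p.1) (M := 1).2 p.2.2)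
      exact ⟨g, (mem_centralizer_A K).2 ⟨_, _, hg⟩, hg⟩
    · rintro ⟨u, τ⟩ ⟨u', τ'⟩ h
      have h2 := nrm_injective (r := r) (a₁ := (u, 1, τ.1)) (a₂ := (u', 1, τ'.1)) (congrArg Subtype.val h)
      simp only [Prod.mk.injEq] at h2 ⊢
      exact ⟨h2.1, Subtype.ext h2.2.2⟩
    · rintro ⟨σ, g, hg, rfl⟩
      obtain ⟨u, τ, h⟩ := (mem_centralizer_A K).1 hg
      have h2 := K.mem_alternating g
      rw [h, mem_alternating_nrm] at h2
      exact ⟨(u, ⟨τ, h2⟩), Subtype.ext h.symm⟩
  rw [← Nat.card_congr e, Nat.card_prod, Nat.card_eq_fintype_card, card_V]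

end CoverV

section Label

theorem exists_mulEquiv {B : Type*} [Group B] (hB : Nat.card B = 8) (h : ∀ b : B, b * b = 1) :
    Nonempty (Multiplicative V ≃* B) := by
  have hcomm : ∀ a b : B, a * b = b * a := by
    intro a b
    have h4 : a⁻¹ = a := inv_eq_of_mul_eq_one_left (h a)
    have h5 : b⁻¹ = b := inv_eq_of_mul_eq_one_left (h b)
    have h6 : (a * b)⁻¹ = a * b := inv_eq_of_mul_eq_one_left (h _)
    rw [← h6, mul_inv_rev, h4, h5]
  let _ : CommGroup B := { mul_comm := hcomm }
  have : Finite B := Nat.finite_of_card_ne_zero (by rw [hB]; norm_num)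
  let _ : Module (ZMod 2) (Additive B) := AddCommGroup.zmodModule (n := 2) (fun x => by
    rw [two_nsmul]; exact h x.toMul)
  have : Module.Finite (ZMod 2) (Additive B) := Module.Finite.of_finite
  have hfr : Module.finrank (ZMod 2) (Additive B) = 3 := by
    have h1 := Module.natCard_eq_pow_finrank (K := ZMod 2) (V := Additive B)
    have h2 : Nat.card (Additive B) = 8 := by rw [← hB]; rfl
    rw [h2, Nat.card_zmod] at h1
    exact (Nat.pow_right_injective (le_refl 2) (show 2 ^ Module.finrank (ZMod 2) (Additive B) = 2 ^ 3 by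
      rw [← h1]))
  have e : V ≃+ Additive B := ((Module.finBasisOfFinrankEq _ _ hfr).equivFun.symm).toAddEquiv
  exact ⟨AddEquiv.toMultiplicativeLeft e⟩

variable {α : Type*} [Fintype α] [DecidableEq α]

/-- An elementary abelian group of order eight of permutations of `8 + r` points, `r ≤ 3`, all of whose non-trivial
elements move eight points, is regular on eight points and trivial on the others. -/
theorem exists_label {r : ℕ} (hr : r ≤ 3) (hα : Fintype.card α = 8 + r) (B : Subgroup (Perm α))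
    (hB : Nat.card B = 8) (h2 : ∀ b ∈ B, b * b = 1) (h8 : ∀ b ∈ B, b ≠ 1 → b.support.card = 8) :
    ∃ e : α ≃ V ⊕ Fin r, ∀ σ, σ ∈ B ↔ ∃ v, e.permCongr σ = t r v := by
  classical
  have hcomm : ∀ a ∈ B, ∀ b ∈ B, a * b = b * a := by
    intro a ha b hb
    have h4 : a⁻¹ = a := inv_eq_of_mul_eq_one_left (h2 a ha)
    have h5 : b⁻¹ = b := inv_eq_of_mul_eq_one_left (h2 b hb)
    have h6 : (a * b)⁻¹ = a * b := inv_eq_of_mul_eq_one_left (h2 _ (B.mul_mem ha hb))
    rw [← h6, mul_inv_rev, h4, h5]
  have hBf : Fintype.card B = 8 := by rw [← Nat.card_eq_fintype_card, hB]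
  -- the order of a stabiliser
  let s : α → ℕ := fun p => (Finset.univ.filter (fun b : B => (b : Perm α) p = p)).card
  have hsc : ∀ p, Fintype.card (MulAction.stabilizer B p) = s p := by
    intro p
    apply Fintype.card_of_subtype
    intro x
    rw [Finset.mem_filter]
    exact ⟨fun h => h.2, fun h => ⟨Finset.mem_univ _, h⟩⟩
  have hs : ∀ p, s p = 1 ∨ s p = 4 ∨ s p = 8 := by
    intro p
    have h1 := MulAction.card_orbit_mul_card_stabilizer_eq_card_group B p
    rw [hBf, hsc] at h1
    by_cases hs1 : s p = 1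
    · exact Or.inl hs1
    have hpos : 0 < s p := by rw [← hsc]; exact Fintype.card_pos
    have hlt : 1 < Fintype.card (MulAction.stabilizer B p) := by rw [hsc]; omega
    obtain ⟨⟨b, hb⟩, hb1⟩ := Fintype.exists_ne_of_one_lt_card hlt 1
    have hbp : (b : Perm α) p = p := hb
    have hbne : (b : Perm α) ≠ 1 := fun h => hb1 (Subtype.ext (Subtype.ext h))
    have horb : MulAction.orbit B p ⊆ ((b : Perm α).supportᶜ : Finset α) := by
      rintro _ ⟨c, rfl⟩
      rw [Finset.mem_coe, Finset.mem_compl, Perm.notMem_support]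
      show (b : Perm α) ((c : Perm α) p) = (c : Perm α) p
      rw [← Perm.mul_apply, hcomm _ b.2 _ c.2, Perm.mul_apply, hbp]
    have hle : Fintype.card (MulAction.orbit B p) ≤ 3 := by
      rw [← Set.toFinset_card]
      refine (Finset.card_le_card (t := (b : Perm α).supportᶜ) ?_).trans ?_
      · intro x hx
        rw [Set.mem_toFinset] at hx
        exact horb hx
      · rw [Finset.card_compl, hα, h8 _ b.2 hbne]; omega
    interval_cases Fintype.card (MulAction.orbit B p) <;> omega
  have hfix : ∀ p, s p = 8 ↔ ∀ b ∈ B, b p = p := by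
    intro p
    rw [← hBf, ← Finset.card_univ, Finset.card_filter_eq_iff]
    exact ⟨fun h b hb => h ⟨b, hb⟩ (Finset.mem_univ _), fun h b _ => h b.1 b.2⟩
  -- counting
  have hsum : ∑ p, s p = (8 + r) + 7 * r := by
    have h1 : ∑ p, s p = ∑ b : B, (Finset.univ.filter (fun p : α => (b : Perm α) p = p)).card := by
      simp only [s, Finset.card_filter]
      exact Finset.sum_comm
    rw [h1, ← Finset.add_sum_erase _ _ (Finset.mem_univ (1 : B))]
    congr 1
    · rw [OneMemClass.coe_one]
      simp [hα]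
    · rw [Finset.sum_congr rfl (g := fun _ => r)]
      · rw [Finset.sum_const, Finset.card_erase_of_mem (Finset.mem_univ _), Finset.card_univ, hBf, smul_eq_mul]
      · intro b hb
        have hb1 : (b : Perm α) ≠ 1 := fun h => (Finset.mem_erase.1 hb).1 (Subtype.ext h)
        have h3 : (Finset.univ.filter (fun p : α => (b : Perm α) p = p)) = (b : Perm α).supportᶜ := by
          ext p; simp
        rw [h3, Finset.card_compl, h8 _ b.2 hb1, hα, Nat.add_sub_cancel_left]
  have hpart : (Finset.univ.filter (fun p => s p = 1)).card + (Finset.univ.filter (fun p => s p = 4)).card +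
      (Finset.univ.filter (fun p => s p = 8)).card = 8 + r := by
    rw [← hα, ← Finset.card_univ, ← Finset.card_union_of_disjoint, ← Finset.card_union_of_disjoint]
    · congr 1
      ext p
      simpa [or_assoc] using hs p
    · rw [Finset.disjoint_left]
      intro p h1 h2
      simp at h1 h2
      omega
    · rw [Finset.disjoint_left]
      intro p h1 h2
      simp at h1 h2
      omega
  have hsum2 : (Finset.univ.filter (fun p => s p = 1)).card + 4 * (Finset.univ.filter (fun p => s p = 4)).card +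
      8 * (Finset.univ.filter (fun p => s p = 8)).card = (8 + r) + 7 * r := by
    rw [← hsum, Finset.card_filter, Finset.card_filter, Finset.card_filter, Finset.mul_sum, Finset.mul_sum,
      ← Finset.sum_add_distrib, ← Finset.sum_add_distrib]
    refine Finset.sum_congr rfl fun p _ => ?_
    rcases hs p with h | h | h <;> rw [h] <;> rfl
  have hpar : Nat.card α ≡ Nat.card (MulAction.fixedPoints B α) [MOD 2] := by
    have hp : IsPGroup 2 B := IsPGroup.of_card (n := 3) (by rw [hB]; norm_num)
    exact hp.card_modEq_card_fixedPoints α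
  have hF : Nat.card (MulAction.fixedPoints B α) = (Finset.univ.filter (fun p => s p = 8)).card := by
    rw [Nat.card_eq_fintype_card]
    apply Fintype.card_of_subtype
    intro p
    rw [Finset.mem_filter, hfix]
    exact ⟨fun h b => h.2 b.1 b.2, fun h => ⟨Finset.mem_univ _, fun b hb => h ⟨b, hb⟩⟩⟩
  rw [hF, Nat.card_eq_fintype_card, hα, Nat.ModEq] at hpar
  have h40 : (Finset.univ.filter (fun p => s p = 4)).card = 0 := by omega
  have h8r : (Finset.univ.filter (fun p => s p = 8)).card = r := by omega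
  have h1c : (Finset.univ.filter (fun p => s p = 1)).card = 8 := by omega
  obtain ⟨p₀, hp₀⟩ := Finset.card_pos.1 (show 0 < (Finset.univ.filter (fun p => s p = 1)).card by omega)
  rw [Finset.mem_filter] at hp₀
  have hreg : ∀ b : B, (b : Perm α) p₀ = p₀ → b = 1 := by
    intro b hb
    exact Finset.card_le_one.1 hp₀.2.le _ (by simpa using hb) _ (by simp)
  obtain ⟨φ⟩ := exists_mulEquiv hB (fun b => Subtype.ext (h2 b.1 b.2))
  have eF : Fin r ≃ {p // p ∈ Finset.univ.filter (fun p => s p = 8)} :=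
    (Fintype.equivFinOfCardEq (by rw [Fintype.card_coe, h8r])).symm
  have heF : ∀ i, ∀ b ∈ B, b (eF i).1 = (eF i).1 := by
    intro i
    have := (eF i).2
    rw [Finset.mem_filter, hfix] at this
    exact this.2
  let ψ : V ⊕ Fin r → α := Sum.elim (fun v => ((φ (Multiplicative.ofAdd v)) : Perm α) p₀) (fun i => (eF i).1)
  have hφ : ∀ v w, ((φ (Multiplicative.ofAdd (v + w))) : Perm α) =
      (φ (Multiplicative.ofAdd v) : Perm α) * (φ (Multiplicative.ofAdd w)) := by
    intro v w
    rw [ofAdd_add, map_mul]; rfl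
  have hinj : Function.Injective ψ := by
    have haux : ∀ v i, ψ (Sum.inl v) ≠ ψ (Sum.inr i) := by
      intro v i h
      have h3 : ((φ (Multiplicative.ofAdd v)) : Perm α) p₀ = (eF i).1 := h
      have h4 : p₀ = (eF i).1 := by
        rw [← heF i _ (φ (Multiplicative.ofAdd v)).2] at h3
        exact (Equiv.injective _) h3
      have h5 := (hfix p₀).2 (by rw [h4]; exact heF i)
      omega
    rintro (v | i) (w | j) h
    · congr 1
      have h3 : ((φ (Multiplicative.ofAdd v)) : Perm α) p₀ = ((φ (Multiplicative.ofAdd w)) : Perm α) p₀ := h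
      have h4 := hreg ((φ (Multiplicative.ofAdd w))⁻¹ * φ (Multiplicative.ofAdd v)) (by
        rw [Subgroup.coe_mul, Perm.mul_apply, h3, Subgroup.coe_inv, Perm.inv_eq_iff_eq])
      rw [inv_mul_eq_one] at h4
      exact (Multiplicative.ofAdd.injective (φ.injective h4)).symm
    · exact absurd h (haux v j)
    · exact absurd h.symm (haux w i)
    · congr 1
      exact eF.injective (Subtype.ext h)
  have hbij : Function.Bijective ψ := by
    rw [Fintype.bijective_iff_injective_and_card]
    refine ⟨hinj, ?_⟩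
    rw [Fintype.card_sum, card_V, Fintype.card_fin, hα]
  let e : α ≃ V ⊕ Fin r := (Equiv.ofBijective ψ hbij).symm
  have hconj : ∀ v, e.permCongr (φ (Multiplicative.ofAdd v) : Perm α) = t r v := by
    intro v
    ext x : 1
    rw [Equiv.permCongr_apply, ← Equiv.eq_symm_apply]
    show (φ (Multiplicative.ofAdd v) : Perm α) (ψ x) = ψ (t r v x)
    rcases x with w | i
    · rw [t_inl]
      show (φ (Multiplicative.ofAdd v) : Perm α) ((φ (Multiplicative.ofAdd w) : Perm α) p₀) =
        (φ (Multiplicative.ofAdd (v + w)) : Perm α) p₀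
      rw [hφ, Perm.mul_apply]
    · rw [t_inr]
      exact heF i _ (φ (Multiplicative.ofAdd v)).2
  refine ⟨e, fun σ => ⟨fun hσ => ?_, ?_⟩⟩
  · obtain ⟨v, hv⟩ := φ.surjective ⟨σ, hσ⟩
    refine ⟨v.toAdd, ?_⟩
    rw [← hconj, ofAdd_toAdd, hv]
  · rintro ⟨v, hv⟩
    rw [← hconj, e.permCongr.injective.eq_iff] at hv
    rw [hv]
    exact (φ (Multiplicative.ofAdd v)).2

end Label

section Main

variable {α : Type*} [Fintype α] [DecidableEq α] {C : Type*} [Group C] (K : Cover α C)

/-- A maximal elementary abelian two-subgroup. -/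
structure IsA (B : Subgroup C) : Prop where
  z_mem : K.z ∈ B
  card : Nat.card B = 16
  sq : ∀ b ∈ B, b * b = 1

theorem isA_A {r : ℕ} (K : Cover (V ⊕ Fin r) C) : IsA K (A K) :=
  ⟨z_mem_A K, card_A K, fun _ h => mul_self_of_mem_A K h⟩

theorem exists_label_A {r : ℕ} (hr : r ≤ 3) (hα : Fintype.card α = 8 + r) {B : Subgroup C} (hB : IsA K B) :
    ∃ e : α ≃ V ⊕ Fin r, B = A (K.congr e) := by
  have hBc : (B.map K.π).comap K.π = B := by
    rw [comap_map_eq, sup_eq_left]
    intro x hx
    rcases (K.ker x).1 hx with rfl | rfl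
    · exact B.one_mem
    · exact hB.z_mem
  have hle : B.map K.π ≤ alternatingGroup α := by
    rintro _ ⟨g, -, rfl⟩
    exact K.mem_alternating g
  have hcard : Nat.card (B.map K.π) = 8 := by
    have := card_comap K hle
    rw [hBc, hB.card] at this
    omega
  obtain ⟨e, he⟩ := exists_label hr hα (B.map K.π) hcard (by
    rintro _ ⟨b, hb, rfl⟩
    rw [← map_mul, hB.sq b hb, map_one]) (by
    rintro _ ⟨b, hb, rfl⟩ hb1
    refine card_support_of_involution K (by omega) (hB.sq b hb) ?_ ?_
    · rintro rfl; exact hb1 (map_one _)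
    · rintro rfl; exact hb1 K.π_z)
  refine ⟨e, ?_⟩
  ext g
  rw [← hBc, mem_comap, he, mem_A]
  rfl

/-- In the double cover of `A₁₀` or `A₁₁` the elementary abelian subgroups of order sixteen containing the centre
are conjugate. -/
theorem IsA.conj {r : ℕ} (hr2 : 2 ≤ r) (hr : r ≤ 3) (hα : Fintype.card α = 8 + r) {B B' : Subgroup C} (hB : IsA K B)
    (hB' : IsA K B') : ∃ c : C, B.map (MulAut.conj c).toMonoidHom = B' := by
  obtain ⟨e, he⟩ := exists_label_A K hr hα hB
  obtain ⟨e', he'⟩ := exists_label_A K hr hα hB'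
  -- make `e' ∘ e⁻¹` even
  obtain ⟨e'', he'', hs⟩ : ∃ e'' : α ≃ V ⊕ Fin r, B' = A (K.congr e'') ∧ Perm.sign (e.trans e''.symm) = 1 := by
    rcases Int.units_eq_one_or (Perm.sign (e.trans e'.symm)) with h | h
    · exact ⟨e', he', h⟩
    · let i : Fin r := ⟨0, by omega⟩
      let j : Fin r := ⟨1, by omega⟩
      have hij : i ≠ j := by
        intro h
        have := congrArg Fin.val h
        exact absurd this (by norm_num)
      let w : Perm (V ⊕ Fin r) := nrm 0 1 (swap i j)
      have hw : Perm.sign w = -1 := by rw [sign_nrm, Perm.sign_swap hij]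
      refine ⟨e'.trans w, ?_, ?_⟩
      · rw [he']
        ext g
        rw [mem_A, mem_A]
        have h1 : (K.congr (e'.trans w)).π g = w * (K.congr e').π g * w⁻¹ := by
          ext x : 1
          rfl
        rw [h1]
        refine exists_congr fun v => ?_
        have h2 : w * t r v = t r v * w := by
          rw [nrm_mul_t, Units.val_one, Matrix.one_mulVec]
        rw [mul_inv_eq_iff_eq_mul, ← h2, mul_right_inj]
      · have h1 : e.trans (e'.trans w).symm = (e.trans e'.symm) * e.symm.permCongr w⁻¹ := by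
          ext x : 1
          simp [Perm.mul_apply]
        rw [h1, map_mul, h, Perm.sign_permCongr, Perm.sign_inv, hw]
        decide
  obtain ⟨c, hc⟩ := K.exists_lift (Perm.mem_alternatingGroup.2 hs)
  refine ⟨c, ?_⟩
  ext g
  rw [mem_map_equiv, he, he'', mem_A, mem_A]
  refine exists_congr fun v => ?_
  have h1 : (K.congr e).π ((MulAut.conj c).symm g) = (K.congr e'').π g := by
    show e.permCongr (K.π (c⁻¹ * g * c)) = e''.permCongr (K.π g)
    rw [map_mul K.π, map_mul K.π, map_inv K.π, hc]
    ext x : 1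
    rw [Equiv.permCongr_apply, Equiv.permCongr_apply, Perm.mul_apply, Perm.mul_apply]
    show e ((e.trans e''.symm).symm (K.π g ((e.trans e''.symm) (e.symm x)))) = _
    simp
  rw [h1]

theorem exists_isA {r : ℕ} (hα : Fintype.card α = 8 + r) : ∃ B : Subgroup C, IsA K B := by
  have e : α ≃ V ⊕ Fin r := Fintype.equivOfCardEq (by rw [Fintype.card_sum, card_V, Fintype.card_fin, hα])
  exact ⟨A (K.congr e), (isA_A (K.congr e)).1, (isA_A (K.congr e)).2, (isA_A (K.congr e)).3⟩

/-- Permutations of the last points. -/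
def R (r : ℕ) : Perm (Fin r) →* Perm (V ⊕ Fin r) where
  toFun τ := nrm 0 1 τ
  map_one' := by rw [← t_eq, t_zero]
  map_mul' σ τ := by
    ext x
    rcases x with x | x
    · rw [Perm.mul_apply, nrm_inl, nrm_inl, nrm_inl, Units.val_one, Matrix.one_mulVec, zero_add,
        Matrix.one_mulVec, zero_add]
    · rw [Perm.mul_apply, nrm_inr, nrm_inr, nrm_inr, Perm.mul_apply]

theorem R_apply {r : ℕ} (τ : Perm (Fin r)) : R r τ = nrm 0 1 τ := rfl

theorem nrm_mul_R {r : ℕ} (u : V) (M : GL (Fin 3) (ZMod 2)) (σ τ : Perm (Fin r)) :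
    nrm u M σ * R r τ = nrm u M (σ * τ) := by
  ext x
  rcases x with x | x
  · rw [Perm.mul_apply, R_apply, nrm_inl, nrm_inl, nrm_inl, Units.val_one, Matrix.one_mulVec, zero_add]
  · rw [Perm.mul_apply, R_apply, nrm_inr, nrm_inr, nrm_inr, Perm.mul_apply]

theorem R_mul_nrm {r : ℕ} (u : V) (M : GL (Fin 3) (ZMod 2)) (σ τ : Perm (Fin r)) :
    R r τ * nrm u M σ = nrm u M (τ * σ) := by
  ext x
  rcases x with x | x
  · rw [Perm.mul_apply, R_apply, nrm_inl, nrm_inl, nrm_inl, Units.val_one, Matrix.one_mulVec, zero_add]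
  · rw [Perm.mul_apply, R_apply, nrm_inr, nrm_inr, nrm_inr, Perm.mul_apply]

theorem card_support_permCongr {β : Type*} [Fintype β] [DecidableEq β] (e : α ≃ β) (σ : Perm α) :
    (e.permCongr σ).support.card = σ.support.card := by
  rw [← Finset.card_map e.toEmbedding]
  congr 1
  ext x
  rw [Finset.mem_map_equiv, Perm.mem_support, Perm.mem_support, Equiv.permCongr_apply, Ne, Ne,
    ← Equiv.eq_symm_apply]

omit [Fintype α] [DecidableEq α] in
theorem disjoint_permCongr {β : Type*} (e : α ≃ β) {σ τ : Perm α}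
    (h : (e.permCongr σ).Disjoint (e.permCongr τ)) : σ.Disjoint τ := by
  intro p
  have := h (e p)
  simpa [Equiv.permCongr_apply] using this

/-- The structure of the normaliser of a maximal elementary abelian two-subgroup of the double cover of `A₁₁`. -/
theorem IsA.exists_x (hα : Fintype.card α = 11) {B : Subgroup C} (hB : IsA K B) :
    ∃ x : C, x ^ 3 = 1 ∧ x ≠ 1 ∧ (K.π x).IsThreeCycle ∧ (∀ b ∈ B, (K.π b).Disjoint (K.π x)) ∧
      centralizer (B : Set C) = B ⊔ zpowers x ∧ Nat.card (centralizer (B : Set C)) = 48 ∧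
      Nat.card (normalizer (B : Set C)) = 48 * 168 ∧ normalizer (B : Set C) ≤ centralizer {x} := by
  obtain ⟨e, he⟩ := exists_label_A K (r := 3) le_rfl hα hB
  set L := K.congr e with hL
  have hπ : ∀ g, L.π g = e.permCongr (K.π g) := fun g => rfl
  have hA3 : Nat.card (alternatingGroup (Fin 3)) = 3 := by
    rw [Nat.card_eq_fintype_card]; decide
  let c : Perm (Fin 3) := swap 0 1 * swap 1 2
  have hc3 : c ^ 3 = 1 := by decide
  have hcA : c ∈ alternatingGroup (Fin 3) := by
    rw [Perm.mem_alternatingGroup]; decide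
  have hτ' : ∀ τ : Perm (Fin 3), Perm.sign τ = 1 → τ = c ^ 0 ∨ τ = c ^ 1 ∨ τ = c ^ 2 := by decide
  have hτ : ∀ τ ∈ alternatingGroup (Fin 3), ∃ k : ℕ, τ = c ^ k := by
    intro τ h
    rcases hτ' τ (Perm.mem_alternatingGroup.1 h) with h | h | h
    exacts [⟨0, h⟩, ⟨1, h⟩, ⟨2, h⟩]
  obtain ⟨x, hx, hx3⟩ := L.exists_odd_lift (σ := R 3 c) (mem_alternating_nrm.2 hcA) (n := 3) (by decide) (by
    rw [← map_pow, hc3, map_one])
  have hxc : (R 3 c).support.card = 3 := by
    have h1 : (R 3 c).support = c.support.map ⟨Sum.inr, Sum.inr_injective⟩ := by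
      ext p
      rcases p with p | p
      · simp [Perm.mem_support, R_apply, nrm_inl]
      · simp [Perm.mem_support, R_apply, nrm_inr]
    rw [h1, Finset.card_map]
    decide
  refine ⟨x, hx3, ?_, ?_, ?_, ?_, ?_, ?_, ?_⟩
  · rintro rfl
    rw [← hx, map_one, Perm.support_one, Finset.card_empty] at hxc
    exact absurd hxc (by norm_num)
  · rw [← card_support_eq_three_iff, ← card_support_permCongr e, ← hπ, hx, hxc]
  · intro b hb
    rw [he, mem_A] at hb
    obtain ⟨v, hv⟩ := hb
    apply disjoint_permCongr e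
    rw [← hπ, ← hπ, hv, hx]
    exact disjoint_nrm v c
  · apply le_antisymm
    · intro g hg
      rw [he, mem_centralizer_A] at hg
      obtain ⟨u, τ, hg⟩ := hg
      have h1 := L.mem_alternating g
      rw [hg, mem_alternating_nrm] at h1
      obtain ⟨k, rfl⟩ := hτ τ h1
      obtain ⟨b, hb, hbu⟩ := exists_mem_A L u
      have h2 : L.π g = L.π (b * x ^ k) := by
        rw [hg, map_mul, map_pow, hx, hbu, t_eq, ← map_pow, nrm_mul_R, one_mul]
      rw [he]
      rcases L.lift_eq h2 with h3 | h3
      · rw [h3]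
        exact mul_mem_sup hb (pow_mem (mem_zpowers x) k)
      · rw [h3, L.z_comm, ← mul_assoc]
        exact mul_mem_sup (mul_mem (z_mem_A L) hb) (pow_mem (mem_zpowers x) k)
    · rw [he]
      refine sup_le ?_ ?_
      · intro b hb
        rw [mem_centralizer_iff]
        intro a ha
        exact comm_of_mem_A L ha hb
      · rw [zpowers_le, mem_centralizer_A]
        exact ⟨0, c, hx⟩
  · rw [he, card_centralizer_A, hA3]
  · rw [he, card_normalizer_A, hA3]
  · intro g hg
    rw [he, mem_normalizer_A] at hg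
    obtain ⟨u, M, τ, hg⟩ := hg
    have h1 := L.mem_alternating g
    rw [hg, mem_alternating_nrm] at h1
    obtain ⟨k, rfl⟩ := hτ τ h1
    rw [mem_centralizer_singleton_iff]
    have h2 : x * g = g * x := L.commute_of_odd (n := 3) (by decide) hx3 (by
      rw [hg, hx, nrm_mul_R, R_mul_nrm, ← pow_succ, ← pow_succ'])
    exact h2.symm

end Main

end Cfsg.Agent.SporRec.TwoAnEleven
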