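import Cfsg.Agent.Fischer.Order22
import Cfsg.Agent.Fischer.Fi22Order

/-!
# Fi22: the presented group is isomorphic to the permutation group on 3510 points
-/

set_option autoImplicit false

namespace Cfsg.Agent.SporRec.Fi22Iso

open Cfsg Cfsg.Agent.Fischer.Cert Cfsg.Agent.Fischer.Data22
  Cfsg.Agent.Fischer.Abstract Cfsg.Agent.Fischer.Centralizer
  Cfsg.Agent.Fischer.Group22 Cfsg.Agent.Fischer.Rank22

/-- the nodes of the presentation as generators of the permutation group -/
def cv : Spor.Fi22.Gen → Gen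
  | .a => .a
  | .b => .b
  | .c => .c
  | .d => .d
  | .e => .e
  | .f => .f
  | .g => .g
  | .h => .h
  | .i => .i

/-- the image of a node -/
noncomputable def f (x : Spor.Fi22.Gen) : G := g (cv x)

/-- the Coxeter word of two nodes -/
def cword (x y : Spor.Fi22.Gen) : List Gen :=
  (List.replicate (Spor.coxLabel Spor.Fi22.edges x y) [cv x, cv y]).flatten

/-- all nodes -/
def nodes : List Spor.Fi22.Gen := [.a, .b, .c, .d, .e, .f, .g, .h, .i]

theorem mem_nodes (x : Spor.Fi22.Gen) : x ∈ nodes := by cases x <;> decide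

theorem cword_mem : ∀ x ∈ nodes, ∀ y ∈ nodes,
    (x = y ∧ Spor.coxLabel Spor.Fi22.edges x y = 1) ∨ cword x y ∈ base ∨
      (cword y x ∈ base ∧ Spor.coxLabel Spor.Fi22.edges x y = Spor.coxLabel Spor.Fi22.edges y x) := by
  decide +kernel

theorem prod_replicate (w : List Gen) (n : ℕ) :
    ((List.replicate n w).flatten.map g).prod = (w.map g).prod ^ n := by
  induction n with
  | zero => simp
  | succ n ih => rw [List.replicate_succ, List.flatten_cons, List.map_append, List.prod_append, ih,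
      pow_succ']

theorem of_cword {x y : Spor.Fi22.Gen} (h : cword x y ∈ base) :
    (f x * f y) ^ Spor.coxLabel Spor.Fi22.edges x y = 1 := by
  have h1 := isRel_g _ h
  rw [isRel_def, cword, prod_replicate] at h1
  simpa [f] using h1

theorem swap_pow {P : Type*} [Group P] (p q : P) (n : ℕ) (h : (p * q) ^ n = 1) : (q * p) ^ n = 1 := by
  have h1 : q * p = q * (p * q) * q⁻¹ := by group
  rw [h1, conj_pow, h]
  group

theorem cox (x y : Spor.Fi22.Gen) : (f x * f y) ^ Spor.coxLabel Spor.Fi22.edges x y = 1 := by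
  rcases cword_mem x (mem_nodes x) y (mem_nodes y) with ⟨h1, h2⟩ | h | ⟨h1, h2⟩
  · subst h1
    rw [h2, pow_one]
    exact g_sq _
  · exact of_cword h
  · rw [h2]
    exact swap_pow _ _ _ (of_cword h1)

theorem rel_lift : ∀ r ∈ Spor.coxRelators Spor.Fi22.edges ∪ {r | r ∈ Spor.Fi22.extra},
    FreeGroup.lift f r = 1 := by
  rintro r (⟨x, _, y, _, rfl⟩ | hr)
  · simp only [map_pow, map_mul, FreeGroup.lift_apply_of]
    exact cox x y
  · have h1 := isRel_g rel1 (mem_base_of_decide (by decide +kernel))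
    have h2 := isRel_g rel2 (mem_base_of_decide (by decide +kernel))
    have h3 := isRel_g rel3 (mem_base_of_decide (by decide +kernel))
    rw [isRel_def] at h1 h2 h3
    rw [show rel1 = (List.replicate 10 [Gen.d, .c, .b, .d, .e, .f, .d, .h, .i]).flatten from rfl,
      prod_replicate] at h1
    rw [show rel2 = (List.replicate 9 [Gen.a, .b, .c, .d, .e, .f, .h]).flatten from rfl,
      prod_replicate] at h2
    rw [show rel3 = (List.replicate 9 [Gen.b, .c, .d, .e, .f, .g, .h]).flatten from rfl,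
      prod_replicate] at h3
    simp only [Spor.Fi22.extra, Set.mem_setOf_eq, List.mem_cons, List.not_mem_nil, or_false] at hr
    rcases hr with rfl | rfl | rfl
    · simpa [f, cv, mul_assoc] using h1
    · simpa [f, cv, mul_assoc] using h2
    · simpa [f, cv, mul_assoc] using h3

/-- the homomorphism from the presented group -/
noncomputable def ψ : Spor.Fi22 →* G := PresentedGroup.toGroup (f := f) rel_lift

theorem ψ_of (x : Spor.Fi22.Gen) : ψ (PresentedGroup.of x) = g (cv x) :=
  PresentedGroup.toGroup.of rel_lift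

theorem ψ_mk_of (x : Spor.Fi22.Gen) :
    ψ (PresentedGroup.mk (Spor.coxRelators Spor.Fi22.edges ∪ {r | r ∈ Spor.Fi22.extra})
      (FreeGroup.of x)) = g (cv x) := ψ_of x

theorem g_l : g .l = (g .a * g .b * g .c * g .d * g .e * g .h) ^ 5 := by
  have h4 := isRel_g rel4 (mem_base_of_decide (by decide +kernel))
  rw [isRel_def] at h4
  rw [show rel4 = (List.replicate 5 [Gen.a, .b, .c, .d, .e, .h]).flatten ++ [.l] from rfl,
    List.map_append, List.prod_append, prod_replicate] at h4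
  have h5 := eq_inv_of_mul_eq_one_left h4
  simp only [List.map_cons, List.map_nil, List.prod_cons, List.prod_nil, mul_one, g_inv] at h5
  rw [← h5]
  simp only [mul_assoc]

theorem ψ_surjective : Function.Surjective ψ := by
  rw [← MonoidHom.range_eq_top, eq_top_iff, ← closure_g, Subgroup.closure_le]
  have key : ∀ x : Spor.Fi22.Gen, g (cv x) ∈ ψ.range := fun x => ⟨_, ψ_of x⟩
  rintro _ ⟨s, rfl⟩
  cases s
  · exact key .a
  · exact key .b
  · exact key .c
  · exact key .d
  · exact key .e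
  · exact key .f
  · exact key .g
  · exact key .h
  · exact key .i
  · show g .l ∈ ψ.range
    rw [g_l]
    exact pow_mem (mul_mem (mul_mem (mul_mem (mul_mem (mul_mem (key .a) (key .b)) (key .c))
      (key .d)) (key .e)) (key .h)) 5

theorem ψ_bijective : Function.Bijective ψ := by
  have hc : Nat.card Spor.Fi22 = Nat.card G := by
    rw [Cfsg.Agent.Fischer.Fi22Order.card_fi22, Cfsg.Agent.Fischer.Order22.card_G]
  have : Finite Spor.Fi22 := Nat.finite_of_card_ne_zero (by
    rw [Cfsg.Agent.Fischer.Fi22Order.card_fi22]; norm_num)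
  exact (Nat.bijective_iff_surjective_and_card ψ).2 ⟨ψ_surjective, hc⟩

/-- the isomorphism -/
noncomputable def ψe : Spor.Fi22 ≃* G := MulEquiv.ofBijective ψ ψ_bijective

/-- the nine words -/
def ws : Set (FreeGroup Spor.Fi22.Gen) :=
  {Cfsg.Spor.Fi22.a, Cfsg.Spor.Fi22.c, Cfsg.Spor.Fi22.d, Cfsg.Spor.Fi22.e, Cfsg.Spor.Fi22.f,
    Cfsg.Spor.Fi22.g, Cfsg.Spor.Fi22.h, Cfsg.Spor.Fi22.i,
    (Cfsg.Spor.Fi22.a * Cfsg.Spor.Fi22.b * Cfsg.Spor.Fi22.c * Cfsg.Spor.Fi22.d *
      Cfsg.Spor.Fi22.e * Cfsg.Spor.Fi22.h) ^ 5}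

/-- the subgroup of the presented group -/
def K : Subgroup Spor.Fi22 := (Subgroup.closure ws).map
  (PresentedGroup.mk (Cfsg.Spor.coxRelators Cfsg.Spor.Fi22.edges ∪ {r | r ∈ Cfsg.Spor.Fi22.extra}))

theorem map_K : K.map ψ = H1 := by
  have h1 : K.map ψ = Subgroup.closure ((fun w => ψ (PresentedGroup.mk _ w)) '' ws) := by
    unfold K
    rw [Subgroup.map_map, MonoidHom.map_closure]
    rfl
  rw [h1, H1]
  have e := ψ_mk_of
  congr 1
  ext q
  constructor
  · rintro ⟨w, hw, rfl⟩
    rcases hw with rfl | rfl | rfl | rfl | rfl | rfl | rfl | rfl | rfl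
    · exact ⟨.a, rfl, (e .a).symm⟩
    · exact ⟨.c, rfl, (e .c).symm⟩
    · exact ⟨.d, rfl, (e .d).symm⟩
    · exact ⟨.e, rfl, (e .e).symm⟩
    · exact ⟨.f, rfl, (e .f).symm⟩
    · exact ⟨.g, rfl, (e .g).symm⟩
    · exact ⟨.h, rfl, (e .h).symm⟩
    · exact ⟨.i, rfl, (e .i).symm⟩
    · refine ⟨.l, rfl, ?_⟩
      rw [g_l]
      simp only [map_pow, map_mul, e]
      rfl
  · rintro ⟨s, hs, rfl⟩
    cases s
    · exact ⟨Spor.Fi22.a, by simp [ws], e .a⟩
    · exact absurd hs (by decide)
    · exact ⟨Spor.Fi22.c, by simp [ws], e .c⟩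
    · exact ⟨Spor.Fi22.d, by simp [ws], e .d⟩
    · exact ⟨Spor.Fi22.e, by simp [ws], e .e⟩
    · exact ⟨Spor.Fi22.f, by simp [ws], e .f⟩
    · exact ⟨Spor.Fi22.g, by simp [ws], e .g⟩
    · exact ⟨Spor.Fi22.h, by simp [ws], e .h⟩
    · exact ⟨Spor.Fi22.i, by simp [ws], e .i⟩
    · refine ⟨(Spor.Fi22.a * Spor.Fi22.b * Spor.Fi22.c * Spor.Fi22.d * Spor.Fi22.e *
        Spor.Fi22.h) ^ 5, by simp [ws], ?_⟩
      rw [g_l]
      simp only [map_pow, map_mul, e]
      rfl

/-- the subgroup is isomorphic to the point stabiliser -/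
noncomputable def Ke : C R ≃* K :=
  ((Subgroup.equivMapOfInjective K ψ ψ_bijective.1).trans
    (MulEquiv.subgroupCongr (map_K.trans Cfsg.Agent.Fischer.Unit22.C_eq_H1.symm))).symm

theorem isNonsplitDoubleCover_K : IsNonsplitDoubleCover K (PSU 6 Cfsg.Agent.SporRec.GF4.F4 2) :=
  isNonsplitDoubleCover_congr Ke Cfsg.Agent.Fischer.Unit22.isNonsplitDoubleCover_C

end Cfsg.Agent.SporRec.Fi22Iso
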