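import Cfsg.Agent.SporRec.TwoAnCycle

/-!
# Double covers of alternating groups: perfectness, normal subgroups, order, five-cycles
-/

set_option autoImplicit false
set_option linter.dupNamespace false

namespace Cfsg.Agent.SporRec.LyFiveCov

open Subgroup Equiv Cfsg.Agent.SporRec.TwoAn

variable {α : Type*} [Fintype α] [DecidableEq α] {C : Type*} [Group C] (K : Cover α C)

/-- The projection as a homomorphism onto the alternating group. -/
def proj : C →* alternatingGroup α := K.π.codRestrict (alternatingGroup α) K.mem_alternating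

theorem coe_proj (g : C) : ((proj K g : alternatingGroup α) : Perm α) = K.π g := rfl

theorem proj_surjective : Function.Surjective (proj K) := by
  rintro ⟨σ, hσ⟩
  obtain ⟨g, hg⟩ := K.exists_lift hσ
  exact ⟨g, Subtype.ext hg⟩

theorem mem_of_proj {N : Subgroup C} (hz : K.z ∈ N) {g : C} (h : proj K g ∈ N.map (proj K)) : g ∈ N := by
  obtain ⟨n, hn, he⟩ := h
  have h1 : K.π g = K.π n := (congrArg Subtype.val he).symm
  rcases K.lift_eq h1 with h2 | h2
  · rw [h2]; exact hn
  · rw [h2]; exact mul_mem hn hz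

include K in
theorem commutator_eq_top (hα : 5 ≤ Fintype.card α) : commutator C = ⊤ := by
  rw [eq_top_iff]
  intro g _
  apply mem_of_proj K (K.z_mem_commutator (by omega))
  rw [_root_.commutator_def, Subgroup.map_commutator, ← MonoidHom.range_eq_map,
    MonoidHom.range_eq_top.2 (proj_surjective K), ← _root_.commutator_def,
    commutator_alternatingGroup_eq_top (by rwa [Nat.card_eq_fintype_card])]
  exact mem_top _

theorem exists_sq (hα : 4 ≤ Fintype.card α) : ∃ g : C, g * g = K.z ∧ K.π g ≠ 1 := by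
  obtain ⟨f⟩ : Nonempty (Fin 4 ↪ α) := Function.Embedding.nonempty_of_card_le (by simpa using hα)
  have hne : ∀ i j : Fin 4, i ≠ j → f i ≠ f j := fun i j h e => h (f.injective e)
  obtain ⟨g, hg⟩ := K.exists_lift
    (Cover.swap_mul_swap_mem (f 0) (f 1) (f 2) (f 3) (hne _ _ (by decide)) (hne _ _ (by decide)))
  refine ⟨g, K.dbl (f 0) (f 1) (f 2) (f 3) (hne _ _ (by decide)) (hne _ _ (by decide))
      (hne _ _ (by decide)) (hne _ _ (by decide)) (hne _ _ (by decide)) (hne _ _ (by decide)) g hg, ?_⟩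
  intro h
  rw [hg] at h
  have h7 := congrFun (congrArg DFunLike.coe h) (f 0)
  rw [Perm.mul_apply, swap_apply_of_ne_of_ne (hne _ _ (by decide)) (hne _ _ (by decide)), swap_apply_left] at h7
  exact hne 1 0 (by decide) h7

theorem eq_bot_of_normal (hα : 5 ≤ Fintype.card α) {N : Subgroup C} (hN : N.Normal) (hz : K.z ∉ N) : N = ⊥ := by
  have hs : IsSimpleGroup (alternatingGroup α) :=
    alternatingGroup.isSimpleGroup (by rwa [Nat.card_eq_fintype_card])
  have hM : (N.map (proj K)).Normal := hN.map _ (proj_surjective K)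
  rcases hs.eq_bot_or_eq_top_of_normal _ hM with h | h
  · rw [eq_bot_iff]
    intro n hn
    have h1 : proj K n ∈ N.map (proj K) := mem_map_of_mem _ hn
    rw [h, mem_bot] at h1
    rcases (K.ker n).1 (congrArg Subtype.val h1) with h2 | h2
    · exact mem_bot.2 h2
    · rw [h2] at hn; exact absurd hn hz
  · exfalso
    obtain ⟨g, hg, -⟩ := exists_sq K (by omega)
    have h1 : proj K g ∈ N.map (proj K) := by rw [h]; exact mem_top _
    obtain ⟨n, hn, he⟩ := h1
    have h2 : K.π g = K.π n := (congrArg Subtype.val he).symm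
    have h3 : g * g = n * n := by
      rcases K.lift_eq h2 with h3 | h3
      · rw [h3]
      · rw [h3]
        calc n * K.z * (n * K.z) = n * (K.z * n) * K.z := by group
          _ = n * n * (K.z * K.z) := by rw [← K.z_comm]; group
          _ = n * n := by rw [K.z_mul_z, mul_one]
    apply hz
    rw [← hg, h3]
    exact mul_mem hn hn

include K in
theorem card_eq (hα : 2 ≤ Fintype.card α) : Nat.card C = (Fintype.card α).factorial := by
  have hnt : Nontrivial α := Fintype.one_lt_card_iff_nontrivial.1 (by omega)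
  have h1 := Subgroup.card_mul_index (proj K).ker
  rw [Subgroup.index_ker, MonoidHom.range_eq_top.2 (proj_surjective K), Subgroup.card_top] at h1
  have h2 : (proj K).ker = zpowers K.z := by
    ext x
    rw [MonoidHom.mem_ker]
    constructor
    · intro h
      rcases (K.ker x).1 (congrArg Subtype.val h) with h3 | h3
      · rw [h3]; exact one_mem _
      · rw [h3]; exact mem_zpowers _
    · rintro ⟨k, rfl⟩
      apply Subtype.ext
      show K.π (K.z ^ k) = 1
      rw [map_zpow, K.π_z, one_zpow]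
  rw [h2, Nat.card_zpowers, K.orderOf_z, two_mul_nat_card_alternatingGroup, Nat.card_perm,
    Nat.card_eq_fintype_card] at h1
  exact h1.symm

omit [Fintype α] in
/-- The computation with five-cycles. -/
theorem five_calc {σ : Perm α} {x0 x1 x2 x3 x4 : α} (h01 : x0 ≠ x1) (h02 : x0 ≠ x2) (h03 : x0 ≠ x3) (h04 : x0 ≠ x4)
    (h12 : x1 ≠ x2) (h13 : x1 ≠ x3) (h14 : x1 ≠ x4) (h23 : x2 ≠ x3) (h24 : x2 ≠ x4) (h34 : x3 ≠ x4)
    (s0 : σ x0 = x1) (s1 : σ x1 = x2) (s2 : σ x2 = x3) (s3 : σ x3 = x4) (s4 : σ x4 = x0)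
    (hfix : ∀ y, y ≠ x0 → y ≠ x1 → y ≠ x2 → y ≠ x3 → y ≠ x4 → σ y = y) :
    σ * (swap x1 x2 * swap x3 x4 * (σ * σ) * (swap x1 x2 * swap x3 x4)⁻¹) = swap x0 x2 * swap x1 x4 := by
  rw [mul_inv_rev, swap_inv, swap_inv]
  ext y
  simp only [Perm.mul_apply]
  by_cases y0 : y = x0
  · subst y0
    rw [swap_apply_of_ne_of_ne h01 h02, swap_apply_of_ne_of_ne h03 h04, s0, s1,
      swap_apply_of_ne_of_ne h23 h24, swap_apply_right, s1, swap_apply_of_ne_of_ne h01 h04, swap_apply_left]
  by_cases y1 : y = x1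
  · subst y1
    rw [swap_apply_left, swap_apply_of_ne_of_ne h23 h24, s2, s3, swap_apply_right,
      swap_apply_of_ne_of_ne h13.symm h23.symm, s3, swap_apply_left, swap_apply_of_ne_of_ne h04.symm h24.symm]
  by_cases y2 : y = x2
  · subst y2
    rw [swap_apply_right, swap_apply_of_ne_of_ne h13 h14, s1, s2, swap_apply_left,
      swap_apply_of_ne_of_ne h14.symm h24.symm, s4, swap_apply_of_ne_of_ne h12.symm h24, swap_apply_right]
  by_cases y3 : y = x3
  · subst y3
    rw [swap_apply_of_ne_of_ne h13.symm h23.symm, swap_apply_left, s4, s0,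
      swap_apply_of_ne_of_ne h13 h14, swap_apply_left, s2, swap_apply_of_ne_of_ne h13.symm h34,
      swap_apply_of_ne_of_ne h03.symm h23.symm]
  by_cases y4 : y = x4
  · subst y4
    rw [swap_apply_of_ne_of_ne h14.symm h24.symm, swap_apply_right, s3, s4,
      swap_apply_of_ne_of_ne h03 h04, swap_apply_of_ne_of_ne h01 h02, s0, swap_apply_right,
      swap_apply_of_ne_of_ne h01.symm h12]
  rw [swap_apply_of_ne_of_ne y1 y2, swap_apply_of_ne_of_ne y3 y4, hfix y y0 y1 y2 y3 y4, hfix y y0 y1 y2 y3 y4,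
    swap_apply_of_ne_of_ne y3 y4, swap_apply_of_ne_of_ne y1 y2, hfix y y0 y1 y2 y3 y4,
    swap_apply_of_ne_of_ne y1 y4, swap_apply_of_ne_of_ne y0 y2]

/-- A lift `s` of a five-cycle generates `z` together with some conjugate. -/
theorem five_cycle {s : C} (hc : (K.π s).IsCycle) (hs : (K.π s).support.card = 5) :
    ∃ a : C, (s * (a * (s * s) * a⁻¹)) * (s * (a * (s * s) * a⁻¹)) = K.z := by
  classical
  set σ := K.π s with hσ
  have ho : orderOf σ = 5 := by rw [hc.orderOf, hs]
  obtain ⟨x, hx⟩ := hc.nonempty_support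
  have hx' : σ x ≠ x := Perm.mem_support.1 hx
  have h5 : σ ^ 5 = 1 := by rw [← ho, pow_orderOf_eq_one]
  have hne : ∀ i j : ℕ, i < j → j < 5 → (σ ^ i) x ≠ (σ ^ j) x := by
    intro i j hij hj h
    have h1 : (σ ^ (j - i)) x = x := by
      have h2 : (σ ^ i) ((σ ^ (j - i)) x) = (σ ^ i) x := by
        rw [← Perm.mul_apply, ← pow_add, Nat.add_sub_cancel' hij.le, h]
      exact (σ ^ i).injective h2
    have h3 : σ ^ (j - i) = 1 := (hc.pow_eq_one_iff' hx').2 h1
    have h4 := orderOf_dvd_of_pow_eq_one h3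
    rw [ho] at h4
    have := Nat.le_of_dvd (by omega) h4
    omega
  have hstep : ∀ i : ℕ, σ ((σ ^ i) x) = (σ ^ (i + 1)) x := fun i => by
    rw [pow_succ', Perm.mul_apply]
  have hsub : ({(σ ^ 0) x, (σ ^ 1) x, (σ ^ 2) x, (σ ^ 3) x, (σ ^ 4) x} : Finset α) ⊆ σ.support := by
    intro y hy
    simp only [Finset.mem_insert, Finset.mem_singleton] at hy
    rcases hy with h | h | h | h | h <;> rw [h] <;> exact Perm.pow_apply_mem_support.2 hx
  have hcard : ({(σ ^ 0) x, (σ ^ 1) x, (σ ^ 2) x, (σ ^ 3) x, (σ ^ 4) x} : Finset α).card = 5 := by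
    rw [Finset.card_insert_of_notMem, Finset.card_insert_of_notMem, Finset.card_insert_of_notMem,
      Finset.card_pair (hne 3 4 (by norm_num) (by norm_num))]
    · simp only [Finset.mem_insert, Finset.mem_singleton, not_or]
      exact ⟨hne 2 3 (by norm_num) (by norm_num), hne 2 4 (by norm_num) (by norm_num)⟩
    · simp only [Finset.mem_insert, Finset.mem_singleton, not_or]
      exact ⟨hne 1 2 (by norm_num) (by norm_num), hne 1 3 (by norm_num) (by norm_num),
        hne 1 4 (by norm_num) (by norm_num)⟩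
    · simp only [Finset.mem_insert, Finset.mem_singleton, not_or]
      exact ⟨hne 0 1 (by norm_num) (by norm_num), hne 0 2 (by norm_num) (by norm_num),
        hne 0 3 (by norm_num) (by norm_num), hne 0 4 (by norm_num) (by norm_num)⟩
  have heq := Finset.eq_of_subset_of_card_le hsub (by rw [hcard, hs])
  obtain ⟨a, ha⟩ := K.exists_lift (Cover.swap_mul_swap_mem ((σ ^ 1) x) ((σ ^ 2) x) ((σ ^ 3) x) ((σ ^ 4) x)
    (hne 1 2 (by norm_num) (by norm_num)) (hne 3 4 (by norm_num) (by norm_num)))
  refine ⟨a, ?_⟩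
  have hcalc := five_calc (σ := σ) (x0 := (σ ^ 0) x) (x1 := (σ ^ 1) x) (x2 := (σ ^ 2) x) (x3 := (σ ^ 3) x)
    (x4 := (σ ^ 4) x)
    (hne 0 1 (by norm_num) (by norm_num)) (hne 0 2 (by norm_num) (by norm_num)) (hne 0 3 (by norm_num) (by norm_num))
    (hne 0 4 (by norm_num) (by norm_num)) (hne 1 2 (by norm_num) (by norm_num)) (hne 1 3 (by norm_num) (by norm_num))
    (hne 1 4 (by norm_num) (by norm_num)) (hne 2 3 (by norm_num) (by norm_num)) (hne 2 4 (by norm_num) (by norm_num))
    (hne 3 4 (by norm_num) (by norm_num)) (hstep 0) (hstep 1) (hstep 2) (hstep 3)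
    (by rw [hstep 4, h5, pow_zero]) (by
      intro y y0 y1 y2 y3 y4
      by_contra hy
      have h6 : y ∈ σ.support := Perm.mem_support.2 hy
      rw [← heq] at h6
      simp only [Finset.mem_insert, Finset.mem_singleton] at h6
      rcases h6 with h | h | h | h | h
      · exact y0 h
      · exact y1 h
      · exact y2 h
      · exact y3 h
      · exact y4 h)
  apply K.dbl ((σ ^ 0) x) ((σ ^ 2) x) ((σ ^ 1) x) ((σ ^ 4) x) (hne 0 2 (by norm_num) (by norm_num))
    (hne 0 1 (by norm_num) (by norm_num)) (hne 0 4 (by norm_num) (by norm_num))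
    (hne 1 2 (by norm_num) (by norm_num)).symm (hne 2 4 (by norm_num) (by norm_num))
    (hne 1 4 (by norm_num) (by norm_num))
  rw [map_mul, map_mul, map_mul, map_mul, map_inv, ha, ← hσ]
  exact hcalc

end Cfsg.Agent.SporRec.LyFiveCov
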