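import Cfsg.Agent.SporadicRecognition.CoxPres
import Cfsg.Agent.SporadicRecognition.ONK2All
import Cfsg.Agent.SporadicRecognition.ONK4All
import Cfsg.Agent.SporadicRecognition.ONK5All
import Cfsg.Agent.SporadicRecognition.ONK6All

/-!
In any group, six elements `a, …, f` satisfying the Coxeter relations of the path 3,3,8,3,3 and
`a f = (c d)^4` generate a finite subgroup of order at most `3753792 = |L₃(7):2|`.
Letters: `0 = c, 1 = d, 2 = a, 3 = f, 4 = b, 5 = e`.
-/

set_option autoImplicit false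
set_option maxRecDepth 100000

namespace Cfsg.Agent.SporRec.ONHUpper

open Cfsg.Agent.SporadicRecognition Cfsg.Agent.SporadicRecognition.CosetCert
  Cfsg.Agent.SporadicRecognition.CosetCertHyp
  Cfsg.Agent.SporadicRecognition.CosetChain Cfsg.Agent.SporadicRecognition.CoxPres

/-- squares, edges and commuting pairs -/
def cox : List (Nat × Nat × Nat) :=
  [(0,0,1),(1,1,1),(2,2,1),(3,3,1),(4,4,1),(5,5,1),
   (2,4,3),(4,0,3),(0,1,8),(1,5,3),(5,3,3),
   (2,0,2),(2,1,2),(2,5,2),(2,3,2),(4,1,2),(4,5,2),(4,3,2),(0,5,2),(0,3,2),(1,3,2)]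

/-- the relator `a f (c d)^-4` -/
def exAF : Ex := .m (.m (.g 2) (.g 3)) (.i (.p (.m (.g 0) (.g 1)) 4))

/-- all relators -/
def exs : List Ex := coxEx cox ++ [exAF]

/-- the relator words -/
def rels : List (List Nat) := exs.map (Ex.word fun x => x)

/-- Boolean version of `Ex.lt` -/
def ltb (k : Nat) : Ex → Bool
  | .g n => Nat.blt n k
  | .m a b => ltb k a && ltb k b
  | .i a => ltb k a
  | .p a _ => ltb k a

theorem lt_of_ltb {k : Nat} (e : Ex) (h : ltb k e = true) : e.lt k := by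
  induction e with
  | g n => exact Nat.le_of_ble_eq_true h
  | m a b iha ihb =>
    have h' : (ltb k a && ltb k b) = true := h
    rw [Bool.and_eq_true] at h'
    exact ⟨iha h'.1, ihb h'.2⟩
  | i a iha => exact iha h
  | p a n iha => exact iha h

theorem exs_lt : ∀ e ∈ exs, e.lt 6 := fun e he =>
  lt_of_ltb e (List.all_eq_true.mp (by decide : exs.all (ltb 6) = true) e he)

section

variable {G : Type*} [Group G] (s : Nat → G)

theorem sq (h : ∀ e ∈ exs, e.val s = 1) (x : Nat) (hx : x < 6) : s x * s x = 1 := by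
  have h' : ∀ x < 6, Ex.p (Ex.m (.g x) (.g x)) 1 ∈ exs := by
    intro x hx
    interval_cases x <;> simp [exs, coxEx, cox]
  have := h _ (h' x hx)
  simpa [Ex.val] using this

theorem rels_ev (h : ∀ e ∈ exs, e.val s = 1) : ∀ r ∈ rels, ev s r = 1 := by
  intro r hr
  obtain ⟨e, he, rfl⟩ := List.mem_map.mp hr
  rw [Ex.ev_word (k := 6) (fun x hx => ⟨hx, sq s h x hx⟩) e (exs_lt e he)]
  exact h e he

theorem card2 (h : ∀ e ∈ exs, e.val s = 1) : Finite (Subgroup.closure (s '' {x | x < 2})) ∧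
    Nat.card (Subgroup.closure (s '' {x | x < 2})) ≤ 16 * 1 := by
  have := card_step ONK2Data.C s rels [] ⊥ (fun x hx => ⟨hx, sq s h x (lt_trans hx (by decide))⟩)
    (fun r hr _ => rels_ev s h r hr) (by simp) (by decide +kernel) ONK2All.part inferInstance
  have h1 : Nat.card (⊥ : Subgroup G) = 1 := by simp
  rw [h1] at this
  exact this

theorem card4 (h : ∀ e ∈ exs, e.val s = 1) : Finite (Subgroup.closure (s '' {x | x < 4})) ∧
    Nat.card (Subgroup.closure (s '' {x | x < 4})) ≤ 2 * (16 * 1) := by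
  have := card_step ONK4Data.C s rels [[0],[1]] (Subgroup.closure (s '' {x | x < 2}))
    (fun x hx => ⟨hx, sq s h x (lt_trans hx (by decide))⟩)
    (fun r hr _ => rels_ev s h r hr) (fun w hw _ => sub_letters s 2 [[0],[1]] (by decide) w hw)
    (by decide +kernel) ONK4All.part (card2 s h).1
  exact ⟨this.1, this.2.trans (Nat.mul_le_mul_left _ (card2 s h).2)⟩

theorem card5 (h : ∀ e ∈ exs, e.val s = 1) : Finite (Subgroup.closure (s '' {x | x < 5})) ∧
    Nat.card (Subgroup.closure (s '' {x | x < 5})) ≤ 21 * (2 * (16 * 1)) := by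
  have := card_step ONK5Data.C s rels [[0],[1],[2],[3]] (Subgroup.closure (s '' {x | x < 4}))
    (fun x hx => ⟨hx, sq s h x (lt_trans hx (by decide))⟩)
    (fun r hr _ => rels_ev s h r hr)
    (fun w hw _ => sub_letters s 4 [[0],[1],[2],[3]] (by decide) w hw)
    (by decide +kernel) ONK5All.part (card4 s h).1
  exact ⟨this.1, this.2.trans (Nat.mul_le_mul_left _ (card4 s h).2)⟩

theorem card6 (h : ∀ e ∈ exs, e.val s = 1) : Finite (Subgroup.closure (s '' {x | x < 6})) ∧
    Nat.card (Subgroup.closure (s '' {x | x < 6})) ≤ 5586 * (21 * (2 * (16 * 1))) := by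
  have := card_step ONK6Data.C s rels [[0],[1],[2],[3],[4]] (Subgroup.closure (s '' {x | x < 5}))
    (fun x hx => ⟨hx, sq s h x hx⟩)
    (fun r hr _ => rels_ev s h r hr)
    (fun w hw _ => sub_letters s 5 [[0],[1],[2],[3],[4]] (by decide) w hw)
    (by decide +kernel) ONK6All.part (card5 s h).1
  exact ⟨this.1, this.2.trans (Nat.mul_le_mul_left _ (card5 s h).2)⟩

/-- `|⟨a, b, c, d, e, f⟩| ≤ 3753792`. -/
theorem card_le (h : ∀ e ∈ exs, e.val s = 1) : Finite (Subgroup.closure (s '' {x | x < 6})) ∧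
    Nat.card (Subgroup.closure (s '' {x | x < 6})) ≤ 3753792 :=
  ⟨(card6 s h).1, (card6 s h).2.trans (by norm_num)⟩

end

end Cfsg.Agent.SporRec.ONHUpper
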