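import Mathlib
import Cfsg.Agent.LieClassical.SLGen
import Cfsg.Agent.S0243

/-!
The group `L₃(7):2 = PSL(3,7) ⋊ ⟨inverse transpose⟩` with six outer involutions satisfying the
relations of the subgroup `⟨a, …, f⟩` of the presented O'Nan group.
-/

set_option autoImplicit false
set_option linter.style.haveILetI false

namespace Cfsg.Agent.SporRec.ONL37

open Matrix

/-- `SL(3,7)`. -/
abbrev SL37 := Matrix.SpecialLinearGroup (Fin 3) (ZMod 7)
/-- `PSL(3,7)`. -/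
abbrev PSL37 := Matrix.ProjectiveSpecialLinearGroup (Fin 3) (ZMod 7)

instance factPrimeSeven : Fact (Nat.Prime 7) := ⟨by norm_num⟩

/-! ### Inverse transpose -/

/-- Inverse transpose on `SL(3,7)`. -/
def tau0 : SL37 ≃* SL37 where
  toFun A := (A⁻¹).transpose
  invFun A := (A⁻¹).transpose
  left_inv A := by
    apply Subtype.ext
    change (Matrix.adjugate (Matrix.adjugate A.1)ᵀ)ᵀ = A.1
    rw [← Matrix.adjugate_transpose, Matrix.transpose_transpose, Matrix.adjugate_adjugate _ (by simp),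
      A.2]
    simp
  right_inv A := by
    apply Subtype.ext
    change (Matrix.adjugate (Matrix.adjugate A.1)ᵀ)ᵀ = A.1
    rw [← Matrix.adjugate_transpose, Matrix.transpose_transpose, Matrix.adjugate_adjugate _ (by simp),
      A.2]
    simp
  map_mul' A B := by
    apply Subtype.ext
    change (Matrix.adjugate (A.1 * B.1))ᵀ = (Matrix.adjugate A.1)ᵀ * (Matrix.adjugate B.1)ᵀ
    rw [Matrix.adjugate_mul_distrib, Matrix.transpose_mul]

theorem tau0_apply (A : SL37) : tau0 A = (A⁻¹).transpose := rfl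

theorem tau0_eq_of_mul (A B : SL37) (h : A.1 * B.1ᵀ = 1) : tau0 A = B := by
  have h1 : A * B.transpose = 1 := Subtype.ext h
  have h2 : A⁻¹ = B.transpose := inv_eq_of_mul_eq_one_right h1
  rw [tau0_apply, h2]
  apply Subtype.ext
  exact Matrix.transpose_transpose _

theorem tau0_tau0 (A : SL37) : tau0 (tau0 A) = A := tau0.left_inv A

/-- Inverse transpose on `PSL(3,7)`. -/
noncomputable def tau : PSL37 ≃* PSL37 :=
  QuotientGroup.congr (Subgroup.center SL37) (Subgroup.center SL37) tau0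
    (Subgroup.characteristic_iff_map_eq.mp inferInstance tau0)

theorem tau_mk (A : SL37) : tau (QuotientGroup.mk A : PSL37) = (QuotientGroup.mk (tau0 A) : PSL37) :=
  rfl

theorem tau_tau (x : PSL37) : tau (tau x) = x := by
  obtain ⟨A, rfl⟩ := QuotientGroup.mk_surjective x
  rw [tau_mk, tau_mk, tau0_tau0]

/-! ### Explicit matrices -/

/-- Nine entries of a 3×3 matrix over `ZMod 7`, as natural numbers. -/
structure T9 where
  /-- entry 00 -/ a : ℕ
  /-- entry 01 -/ b : ℕ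
  /-- entry 02 -/ c : ℕ
  /-- entry 10 -/ d : ℕ
  /-- entry 11 -/ e : ℕ
  /-- entry 12 -/ f : ℕ
  /-- entry 20 -/ g : ℕ
  /-- entry 21 -/ h : ℕ
  /-- entry 22 -/ i : ℕ

/-- the matrix of nine entries -/
def T9.toM (x : T9) : Matrix (Fin 3) (Fin 3) (ZMod 7) :=
  !![(x.a : ZMod 7), x.b, x.c; x.d, x.e, x.f; x.g, x.h, x.i]

/-- product -/
def T9.mul (x y : T9) : T9 :=
  ⟨(x.a * y.a + x.b * y.d + x.c * y.g) % 7, (x.a * y.b + x.b * y.e + x.c * y.h) % 7,
    (x.a * y.c + x.b * y.f + x.c * y.i) % 7,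
   (x.d * y.a + x.e * y.d + x.f * y.g) % 7, (x.d * y.b + x.e * y.e + x.f * y.h) % 7,
    (x.d * y.c + x.e * y.f + x.f * y.i) % 7,
   (x.g * y.a + x.h * y.d + x.i * y.g) % 7, (x.g * y.b + x.h * y.e + x.i * y.h) % 7,
    (x.g * y.c + x.h * y.f + x.i * y.i) % 7⟩

/-- transpose -/
def T9.tr (x : T9) : T9 := ⟨x.a, x.d, x.g, x.b, x.e, x.h, x.c, x.f, x.i⟩

/-- determinant -/
def T9.det (x : T9) : ℕ :=
  (x.a * (x.e * x.i + 6 * (x.f * x.h)) + 6 * (x.b * (x.d * x.i + 6 * (x.f * x.g))) +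
    x.c * (x.d * x.h + 6 * (x.e * x.g))) % 7

/-- Boolean equality -/
def T9.beq (x y : T9) : Bool :=
  x.a == y.a && x.b == y.b && x.c == y.c && x.d == y.d && x.e == y.e && x.f == y.f &&
    x.g == y.g && x.h == y.h && x.i == y.i

theorem T9.eq_of_beq (x y : T9) (h : T9.beq x y = true) : x = y := by
  simp only [T9.beq, Bool.and_eq_true, beq_iff_eq] at h
  cases x
  cases y
  simp_all

theorem T9.toM_mul (x y : T9) : (x.mul y).toM = x.toM * y.toM := by
  ext i j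
  fin_cases i <;> fin_cases j <;>
    simp [T9.toM, T9.mul, Matrix.mul_apply, Fin.sum_univ_three, ZMod.natCast_mod]

theorem T9.toM_tr (x : T9) : x.tr.toM = x.toMᵀ := by
  ext i j
  fin_cases i <;> fin_cases j <;> simp [T9.toM, T9.tr]

theorem T9.det_toM (x : T9) : x.toM.det = (x.det : ZMod 7) := by
  have h6 : (6 : ZMod 7) = -1 := by decide
  rw [Matrix.det_fin_three]
  simp only [T9.toM, T9.det, ZMod.natCast_mod, Matrix.of_apply, Matrix.cons_val', Matrix.cons_val_zero,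
    Matrix.cons_val_one, Matrix.cons_val]
  push_cast
  rw [h6]
  ring

/-- An element of `SL(3,7)` from nine entries. -/
def sl (x : T9) (h : x.det = 1 := by rfl) : SL37 := ⟨x.toM, by rw [T9.det_toM, h]; simp⟩

theorem sl_mul (x y z : T9) (hx : x.det = 1) (hy : y.det = 1) (hz : z.det = 1)
    (h : T9.beq (x.mul y) z = true) : sl x hx * sl y hy = sl z hz := by
  apply Subtype.ext
  have := T9.eq_of_beq _ _ h
  change x.toM * y.toM = z.toM
  rw [← this, T9.toM_mul]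

theorem toM_one : (⟨1, 0, 0, 0, 1, 0, 0, 0, 1⟩ : T9).toM = 1 := by
  ext i j
  fin_cases i <;> fin_cases j <;> simp [T9.toM]

theorem sl_one : sl ⟨1, 0, 0, 0, 1, 0, 0, 0, 1⟩ = 1 := Subtype.ext toM_one

theorem tau0_sl (x y : T9) (hx : x.det = 1) (hy : y.det = 1)
    (h : T9.beq (x.mul y.tr) ⟨1, 0, 0, 0, 1, 0, 0, 0, 1⟩ = true) : tau0 (sl x hx) = sl y hy := by
  apply tau0_eq_of_mul
  change x.toM * y.toMᵀ = 1
  rw [← T9.toM_tr, ← T9.toM_mul, T9.eq_of_beq _ _ h, toM_one]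

/-- `x ^ n` for nine entries. -/
def T9.pow (x : T9) : ℕ → T9
  | 0 => ⟨1, 0, 0, 0, 1, 0, 0, 0, 1⟩
  | n + 1 => (T9.pow x n).mul x

theorem T9.toM_pow (x : T9) (n : ℕ) : (x.pow n).toM = x.toM ^ n := by
  induction n with
  | zero => exact toM_one
  | succ n ih =>
    rw [pow_succ, ← ih, ← T9.toM_mul]
    rfl

theorem scalar_eq_toM (r : ℕ) : Matrix.scalar (Fin 3) (r : ZMod 7) = (⟨r, 0, 0, 0, r, 0, 0, 0, r⟩ : T9).toM := by
  rw [Matrix.scalar_apply]
  ext i j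
  rw [Matrix.diagonal_apply]
  fin_cases i <;> fin_cases j <;> simp [T9.toM]

theorem mem_center_of (x : T9) (hx : x.det = 1) (r : ℕ) (hr : r ^ 3 % 7 = 1)
    (h : T9.beq x ⟨r, 0, 0, 0, r, 0, 0, 0, r⟩ = true) : sl x hx ∈ Subgroup.center SL37 := by
  rw [Matrix.SpecialLinearGroup.mem_center_iff]
  refine ⟨(r : ZMod 7), ?_, ?_⟩
  · rw [Fintype.card_fin, ← Nat.cast_pow, ← ZMod.natCast_mod, hr]
    simp
  · rw [scalar_eq_toM, ← T9.eq_of_beq _ _ h]
    rfl

theorem pow_mem_center_of (x : T9) (hx : x.det = 1) (n r : ℕ) (hr : r ^ 3 % 7 = 1)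
    (h : T9.beq (x.pow n) ⟨r, 0, 0, 0, r, 0, 0, 0, r⟩ = true) : (sl x hx) ^ n ∈ Subgroup.center SL37 := by
  rw [Matrix.SpecialLinearGroup.mem_center_iff]
  refine ⟨(r : ZMod 7), ?_, ?_⟩
  · rw [Fintype.card_fin, ← Nat.cast_pow, ← ZMod.natCast_mod, hr]
    simp
  · rw [scalar_eq_toM, ← T9.eq_of_beq _ _ h, T9.toM_pow]
    rfl

/-! ### The group `Q = PSL(3,7):2` -/

/-- `tau` as an element of the automorphism group. -/
noncomputable def tauAut : MulAut PSL37 := tau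

theorem tauAut_apply (x : PSL37) : tauAut x = tau x := rfl

theorem tauAut_mul_self : tauAut * tauAut = 1 := by
  ext x
  exact tau_tau x

/-- `PSL(3,7):2`. -/
abbrev Q := PSL37 ⋊[(Subgroup.zpowers tauAut).subtype] (Subgroup.zpowers tauAut)

/-- The outer element `A σ`. -/
noncomputable def outer (A : SL37) : Q := ⟨(QuotientGroup.mk A : PSL37), ⟨tauAut, Subgroup.mem_zpowers _⟩⟩

/-- The inner element of a matrix. -/
noncomputable def inner (A : SL37) : Q := SemidirectProduct.inl (QuotientGroup.mk A : PSL37)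

theorem outer_mul_outer (A B : SL37) : outer A * outer B = inner (A * tau0 B) := by
  apply SemidirectProduct.ext
  · rfl
  · apply Subtype.ext
    exact tauAut_mul_self

theorem inner_mul_outer (A B : SL37) : inner A * outer B = outer (A * B) := by
  apply SemidirectProduct.ext
  · rfl
  · apply Subtype.ext
    exact one_mul _

theorem inner_mul (A B : SL37) : inner (A * B) = inner A * inner B :=
  (map_mul (SemidirectProduct.inl (φ := (Subgroup.zpowers tauAut).subtype))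
    (QuotientGroup.mk A : PSL37) (QuotientGroup.mk B : PSL37))

theorem inner_one : inner 1 = 1 :=
  map_one (SemidirectProduct.inl (φ := (Subgroup.zpowers tauAut).subtype))

theorem inner_pow (A : SL37) (n : ℕ) : inner (A ^ n) = inner A ^ n :=
  map_pow (SemidirectProduct.inl (φ := (Subgroup.zpowers tauAut).subtype))
    (QuotientGroup.mk A : PSL37) n

theorem inner_eq_one_iff (A : SL37) : inner A = 1 ↔ A ∈ Subgroup.center SL37 := by
  rw [← QuotientGroup.eq_one_iff]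
  constructor
  · intro h
    exact SemidirectProduct.inl_injective (h.trans (map_one _).symm)
  · intro h
    unfold inner
    rw [h]
    exact map_one _


/-! ### The six generators -/

/-- matrix of a -/ def mA : T9 := ⟨0, 0, 1, 0, 6, 0, 1, 0, 0⟩
/-- matrix of b -/ def mB : T9 := ⟨0, 1, 0, 1, 0, 0, 0, 0, 6⟩
/-- matrix of c -/ def mC : T9 := ⟨0, 0, 3, 0, 3, 0, 3, 0, 0⟩
/-- matrix of d -/ def mD : T9 := ⟨1, 2, 2, 2, 1, 5, 2, 5, 1⟩
/-- matrix of e -/ def mE : T9 := ⟨1, 0, 0, 0, 2, 0, 0, 0, 4⟩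
/-- matrix of f -/ def mF : T9 := ⟨1, 0, 0, 0, 1, 0, 0, 0, 1⟩
/-- inverse of c -/ def mC' : T9 := ⟨0, 0, 5, 0, 5, 0, 5, 0, 0⟩
/-- inverse of d -/ def mD' : T9 := ⟨4, 1, 1, 1, 4, 6, 1, 6, 4⟩
/-- inverse of e -/ def mE' : T9 := ⟨1, 0, 0, 0, 4, 0, 0, 0, 2⟩

/-- a -/ noncomputable def qa : Q := outer (sl mA)
/-- b -/ noncomputable def qb : Q := outer (sl mB)
/-- c -/ noncomputable def qc : Q := outer (sl mC)
/-- d -/ noncomputable def qd : Q := outer (sl mD)
/-- e -/ noncomputable def qe : Q := outer (sl mE)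
/-- f -/ noncomputable def qf : Q := outer (sl mF)

theorem outer_mul_outer_sl (x y z w : T9) (hx : x.det = 1) (hy : y.det = 1) (hz : z.det = 1)
    (hw : w.det = 1) (h1 : T9.beq (y.mul z.tr) ⟨1, 0, 0, 0, 1, 0, 0, 0, 1⟩ = true)
    (h2 : T9.beq (x.mul z) w = true) : outer (sl x hx) * outer (sl y hy) = inner (sl w hw) := by
  rw [outer_mul_outer, tau0_sl y z hy hz h1, sl_mul x z w hx hz hw h2]

theorem mul_pow_eq_one_of (x y z w : T9) (n r : ℕ) (hx : x.det = 1) (hy : y.det = 1)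
    (hz : z.det = 1) (hw : w.det = 1) (hr : r ^ 3 % 7 = 1)
    (h1 : T9.beq (y.mul z.tr) ⟨1, 0, 0, 0, 1, 0, 0, 0, 1⟩ = true)
    (h2 : T9.beq (x.mul z) w = true) (h3 : T9.beq (w.pow n) ⟨r, 0, 0, 0, r, 0, 0, 0, r⟩ = true) :
    (outer (sl x hx) * outer (sl y hy)) ^ n = 1 := by
  rw [outer_mul_outer_sl x y z w hx hy hz hw h1 h2, ← inner_pow, inner_eq_one_iff]
  exact pow_mem_center_of w hw n r hr h3

theorem qa_sq : qa * qa = 1 := by
  have := mul_pow_eq_one_of mA mA mA mF 1 1 rfl rfl rfl rfl rfl rfl rfl rfl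
  rwa [pow_one] at this
theorem qb_sq : qb * qb = 1 := by
  have := mul_pow_eq_one_of mB mB mB mF 1 1 rfl rfl rfl rfl rfl rfl rfl rfl
  rwa [pow_one] at this
theorem qc_sq : qc * qc = 1 := by
  have := mul_pow_eq_one_of mC mC mC' mF 1 1 rfl rfl rfl rfl rfl rfl rfl rfl
  rwa [pow_one] at this
theorem qd_sq : qd * qd = 1 := by
  have := mul_pow_eq_one_of mD mD mD' mF 1 1 rfl rfl rfl rfl rfl rfl rfl rfl
  rwa [pow_one] at this
theorem qe_sq : qe * qe = 1 := by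
  have := mul_pow_eq_one_of mE mE mE' mF 1 1 rfl rfl rfl rfl rfl rfl rfl rfl
  rwa [pow_one] at this
theorem qf_sq : qf * qf = 1 := by
  have := mul_pow_eq_one_of mF mF mF mF 1 1 rfl rfl rfl rfl rfl rfl rfl rfl
  rwa [pow_one] at this

theorem qab : (qa * qb) ^ 3 = 1 :=
  mul_pow_eq_one_of mA mB mB ⟨0, 0, 6, 6, 0, 0, 0, 1, 0⟩ 3 1 rfl rfl rfl rfl rfl rfl rfl rfl
theorem qbc : (qb * qc) ^ 3 = 1 :=
  mul_pow_eq_one_of mB mC mC' ⟨0, 5, 0, 0, 0, 5, 2, 0, 0⟩ 3 1 rfl rfl rfl rfl rfl rfl rfl rfl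
theorem qcd : (qc * qd) ^ 8 = 1 :=
  mul_pow_eq_one_of mC mD mD' ⟨3, 4, 5, 3, 5, 4, 5, 3, 3⟩ 8 1 rfl rfl rfl rfl rfl rfl rfl rfl
theorem qde : (qd * qe) ^ 3 = 1 :=
  mul_pow_eq_one_of mD mE mE' ⟨1, 1, 4, 2, 4, 3, 2, 6, 2⟩ 3 1 rfl rfl rfl rfl rfl rfl rfl rfl
theorem qef : (qe * qf) ^ 3 = 1 :=
  mul_pow_eq_one_of mE mF mF ⟨1, 0, 0, 0, 2, 0, 0, 0, 4⟩ 3 1 rfl rfl rfl rfl rfl rfl rfl rfl
theorem qac : (qa * qc) ^ 2 = 1 :=
  mul_pow_eq_one_of mA mC mC' ⟨5, 0, 0, 0, 2, 0, 0, 0, 5⟩ 2 4 rfl rfl rfl rfl rfl rfl rfl rfl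
theorem qad : (qa * qd) ^ 2 = 1 :=
  mul_pow_eq_one_of mA mD mD' ⟨1, 6, 4, 6, 3, 1, 4, 1, 1⟩ 2 4 rfl rfl rfl rfl rfl rfl rfl rfl
theorem qae : (qa * qe) ^ 2 = 1 :=
  mul_pow_eq_one_of mA mE mE' ⟨0, 0, 2, 0, 3, 0, 1, 0, 0⟩ 2 2 rfl rfl rfl rfl rfl rfl rfl rfl
theorem qaf : (qa * qf) ^ 2 = 1 :=
  mul_pow_eq_one_of mA mF mF mA 2 1 rfl rfl rfl rfl rfl rfl rfl rfl
theorem qbd : (qb * qd) ^ 2 = 1 :=
  mul_pow_eq_one_of mB mD mD' ⟨1, 4, 6, 4, 1, 1, 6, 1, 3⟩ 2 4 rfl rfl rfl rfl rfl rfl rfl rfl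
theorem qbe : (qb * qe) ^ 2 = 1 :=
  mul_pow_eq_one_of mB mE mE' ⟨0, 4, 0, 1, 0, 0, 0, 0, 5⟩ 2 4 rfl rfl rfl rfl rfl rfl rfl rfl
theorem qbf : (qb * qf) ^ 2 = 1 :=
  mul_pow_eq_one_of mB mF mF mB 2 1 rfl rfl rfl rfl rfl rfl rfl rfl
theorem qce : (qc * qe) ^ 2 = 1 :=
  mul_pow_eq_one_of mC mE mE' ⟨0, 0, 6, 0, 5, 0, 3, 0, 0⟩ 2 4 rfl rfl rfl rfl rfl rfl rfl rfl
theorem qcf : (qc * qf) ^ 2 = 1 :=
  mul_pow_eq_one_of mC mF mF mC 2 2 rfl rfl rfl rfl rfl rfl rfl rfl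
theorem qdf : (qd * qf) ^ 2 = 1 :=
  mul_pow_eq_one_of mD mF mF mD 2 2 rfl rfl rfl rfl rfl rfl rfl rfl

theorem qaf_eq : qa * qf = (qc * qd) ^ 4 := by
  have h1 : qa * qf = inner (sl mA) :=
    outer_mul_outer_sl mA mF mF mA rfl rfl rfl rfl rfl rfl
  have h2 : qc * qd = inner (sl ⟨3, 4, 5, 3, 5, 4, 5, 3, 3⟩) :=
    outer_mul_outer_sl mC mD mD' ⟨3, 4, 5, 3, 5, 4, 5, 3, 3⟩ rfl rfl rfl rfl rfl rfl
  have h3 : sl ⟨3, 4, 5, 3, 5, 4, 5, 3, 3⟩ * sl ⟨3, 4, 5, 3, 5, 4, 5, 3, 3⟩ =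
      sl ⟨4, 5, 4, 2, 0, 5, 4, 2, 4⟩ := sl_mul _ _ _ rfl rfl rfl rfl
  have h4 : sl ⟨4, 5, 4, 2, 0, 5, 4, 2, 4⟩ * sl ⟨4, 5, 4, 2, 0, 5, 4, 2, 4⟩ = sl mA :=
    sl_mul _ _ _ rfl rfl rfl rfl
  have h5 : ∀ y : Q, y ^ 4 = (y * y) * (y * y) := fun y => by
    simp only [pow_succ, pow_zero, one_mul, mul_assoc]
  rw [h1, h2, h5, ← inner_mul, h3, ← inner_mul, h4]

/-! ### Generation -/

/-- The subgroup generated by the six involutions. -/
noncomputable def S : Subgroup Q := Subgroup.closure {qa, qb, qc, qd, qe, qf}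

theorem qa_mem : qa ∈ S := Subgroup.subset_closure (by simp)
theorem qb_mem : qb ∈ S := Subgroup.subset_closure (by simp)
theorem qc_mem : qc ∈ S := Subgroup.subset_closure (by simp)
theorem qd_mem : qd ∈ S := Subgroup.subset_closure (by simp)
theorem qe_mem : qe ∈ S := Subgroup.subset_closure (by simp)
theorem qf_mem : qf ∈ S := Subgroup.subset_closure (by simp)

theorem iA_mem : inner (sl mA) ∈ S := by
  rw [← outer_mul_outer_sl mA mF mF mA rfl rfl rfl rfl rfl rfl]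
  exact S.mul_mem qa_mem qf_mem
theorem iB_mem : inner (sl mB) ∈ S := by
  rw [← outer_mul_outer_sl mB mF mF mB rfl rfl rfl rfl rfl rfl]
  exact S.mul_mem qb_mem qf_mem
theorem iC_mem : inner (sl mC) ∈ S := by
  rw [← outer_mul_outer_sl mC mF mF mC rfl rfl rfl rfl rfl rfl]
  exact S.mul_mem qc_mem qf_mem
theorem iD_mem : inner (sl mD) ∈ S := by
  rw [← outer_mul_outer_sl mD mF mF mD rfl rfl rfl rfl rfl rfl]
  exact S.mul_mem qd_mem qf_mem
theorem iE_mem : inner (sl mE) ∈ S := by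
  rw [← outer_mul_outer_sl mE mF mF mE rfl rfl rfl rfl rfl rfl]
  exact S.mul_mem qe_mem qf_mem
theorem iE'_mem : inner (sl mE') ∈ S := by
  rw [← outer_mul_outer_sl mF mE mE' mE' rfl rfl rfl rfl rfl rfl]
  exact S.mul_mem qf_mem qe_mem

/-- Elements `A` of `SL(3,7)` with `inner A ∈ S`. -/
noncomputable def S0 : Subgroup SL37 where
  carrier := {A | inner A ∈ S}
  mul_mem' {A B} hA hB := by
    change inner (A * B) ∈ S
    rw [inner_mul]
    exact S.mul_mem hA hB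
  one_mem' := by
    change inner 1 ∈ S
    rw [inner_one]
    exact S.one_mem
  inv_mem' {A} hA := by
    change inner A⁻¹ ∈ S
    have : inner A⁻¹ = (inner A)⁻¹ := by
      rw [eq_inv_iff_mul_eq_one, ← inner_mul, inv_mul_cancel, inner_one]
    rw [this]
    exact S.inv_mem hA

theorem mem_S0 (A : SL37) : A ∈ S0 ↔ inner A ∈ S := Iff.rfl

/-- word evaluation -/
def T9.prod : List T9 → T9
  | [] => ⟨1, 0, 0, 0, 1, 0, 0, 0, 1⟩
  | x :: l => x.mul (T9.prod l)

theorem sl_prod_mem (l : List T9) (hl : ∀ x ∈ l, ∃ h : x.det = 1, sl x h ∈ S0) (z : T9)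
    (hz : z.det = 1) (h : T9.beq (T9.prod l) z = true) : sl z hz ∈ S0 := by
  have key : ∃ B ∈ S0, B.1 = (T9.prod l).toM := by
    clear h
    induction l with
    | nil => exact ⟨1, S0.one_mem, toM_one.symm⟩
    | cons x l ih =>
      obtain ⟨B, hB, hB2⟩ := ih (fun y hy => hl y (List.mem_cons_of_mem _ hy))
      obtain ⟨h1, h2⟩ := hl x List.mem_cons_self
      refine ⟨sl x h1 * B, S0.mul_mem h2 hB, ?_⟩
      change x.toM * B.1 = (x.mul (T9.prod l)).toM
      rw [hB2, T9.toM_mul]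
  obtain ⟨B, hB, hB2⟩ := key
  have : sl z hz = B := by
    apply Subtype.ext
    rw [hB2, T9.eq_of_beq _ _ h]
    rfl
  rw [this]
  exact hB

theorem t01_mem : sl ⟨1, 1, 0, 0, 1, 0, 0, 0, 1⟩ ∈ S0 := by
  refine sl_prod_mem [mE', mD, mC, mB, mD, mC, mB, mD, mE', mD, mC, mB, mD, mC, mD, mE, mD, mC,
    mB, mD, mC, mD, mE] ?_ _ _ rfl
  intro x hx
  simp only [List.mem_cons, List.not_mem_nil, or_false] at hx
  have hB : ∃ h : mB.det = 1, sl mB h ∈ S0 := ⟨rfl, iB_mem⟩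
  have hC : ∃ h : mC.det = 1, sl mC h ∈ S0 := ⟨rfl, iC_mem⟩
  have hD : ∃ h : mD.det = 1, sl mD h ∈ S0 := ⟨rfl, iD_mem⟩
  have hE : ∃ h : mE.det = 1, sl mE h ∈ S0 := ⟨rfl, iE_mem⟩
  have hE' : ∃ h : mE'.det = 1, sl mE' h ∈ S0 := ⟨rfl, iE'_mem⟩
  rcases hx with rfl | rfl | rfl | rfl | rfl | rfl | rfl | rfl | rfl | rfl | rfl | rfl | rfl |
    rfl | rfl | rfl | rfl | rfl | rfl | rfl | rfl | rfl | rfl <;> assumption

theorem sl_mul_mem (x y z : T9) (hx : x.det = 1) (hy : y.det = 1) (hz : z.det = 1)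
    (h1 : sl x hx ∈ S0) (h2 : sl y hy ∈ S0) (h : T9.beq (x.mul y) z = true) : sl z hz ∈ S0 := by
  rw [← sl_mul x y z hx hy hz h]
  exact S0.mul_mem h1 h2

theorem conjA_mem (x y z : T9) (hx : x.det = 1) (hy : y.det = 1) (hz : z.det = 1)
    (h : sl x hx ∈ S0) (h1 : T9.beq (mA.mul x) y = true) (h2 : T9.beq (y.mul mA) z = true) :
    sl z hz ∈ S0 :=
  sl_mul_mem y mA z hy rfl hz (sl_mul_mem mA x y rfl hx hy iA_mem h h1) iA_mem h2

theorem conjB_mem (x y z : T9) (hx : x.det = 1) (hy : y.det = 1) (hz : z.det = 1)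
    (h : sl x hx ∈ S0) (h1 : T9.beq (mB.mul x) y = true) (h2 : T9.beq (y.mul mB) z = true) :
    sl z hz ∈ S0 :=
  sl_mul_mem y mB z hy rfl hz (sl_mul_mem mB x y rfl hx hy iB_mem h h1) iB_mem h2

theorem t10_mem : sl ⟨1, 0, 0, 1, 1, 0, 0, 0, 1⟩ ∈ S0 :=
  conjB_mem _ ⟨0, 1, 0, 1, 1, 0, 0, 0, 6⟩ _ rfl rfl rfl t01_mem rfl rfl
theorem t21_mem : sl ⟨1, 0, 0, 0, 1, 0, 0, 6, 1⟩ ∈ S0 :=
  conjA_mem _ ⟨0, 0, 1, 0, 6, 0, 1, 1, 0⟩ _ rfl rfl rfl t01_mem rfl rfl
theorem t12_mem : sl ⟨1, 0, 0, 0, 1, 6, 0, 0, 1⟩ ∈ S0 :=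
  conjA_mem _ ⟨0, 0, 1, 6, 6, 0, 1, 0, 0⟩ _ rfl rfl rfl t10_mem rfl rfl
theorem t20_mem : sl ⟨1, 0, 0, 0, 1, 0, 1, 0, 1⟩ ∈ S0 :=
  conjB_mem _ ⟨0, 1, 0, 1, 0, 0, 0, 1, 6⟩ _ rfl rfl rfl t21_mem rfl rfl
theorem t02_mem : sl ⟨1, 0, 1, 0, 1, 0, 0, 0, 1⟩ ∈ S0 :=
  conjB_mem _ ⟨0, 1, 6, 1, 0, 0, 0, 0, 6⟩ _ rfl rfl rfl t12_mem rfl rfl

theorem transvection_mem_of {i j : Fin 3} (hij : i ≠ j) (b : ZMod 7) (hb : b = 1 ∨ b = 6)
    (h : SpecialLinearGroup.transvection hij b ∈ S0) (c : ZMod 7) :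
    SpecialLinearGroup.transvection hij c ∈ S0 := by
  have h1 : ∀ n : ℕ, SpecialLinearGroup.transvection hij ((n : ZMod 7) * b) ∈ S0 := by
    intro n
    induction n with
    | zero =>
      rw [Nat.cast_zero, zero_mul, SpecialLinearGroup.transvection_coeff_zero]
      exact S0.one_mem
    | succ n ih =>
      rw [Nat.cast_succ, add_mul, one_mul, SpecialLinearGroup.transvection_add]
      exact S0.mul_mem ih h
  have h2 := h1 (c * b).val
  rw [ZMod.natCast_zmod_val, mul_assoc] at h2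
  rcases hb with rfl | rfl
  · simpa using h2
  · have h36 : (6 : ZMod 7) * 6 = 1 := by decide
    rwa [h36, mul_one] at h2

theorem transvection_mem (i j : Fin 3) (hij : i ≠ j) (c : ZMod 7) :
    SpecialLinearGroup.transvection hij c ∈ S0 := by
  have key : ∀ (b : ZMod 7) (x : T9) (hx : x.det = 1), sl x hx ∈ S0 →
      x.toM = 1 + Matrix.single i j b → (b = 1 ∨ b = 6) →
      SpecialLinearGroup.transvection hij c ∈ S0 := by
    intro b x hx h1 h2 h3
    refine transvection_mem_of hij b h3 ?_ c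
    have : sl x hx = SpecialLinearGroup.transvection hij b := Subtype.ext h2
    rwa [this] at h1
  fin_cases i <;> fin_cases j
  · exact absurd rfl hij
  · exact key 1 _ rfl t01_mem (by decide) (Or.inl rfl)
  · exact key 1 _ rfl t02_mem (by decide) (Or.inl rfl)
  · exact key 1 _ rfl t10_mem (by decide) (Or.inl rfl)
  · exact absurd rfl hij
  · exact key 6 _ rfl t12_mem (by decide) (Or.inr rfl)
  · exact key 1 _ rfl t20_mem (by decide) (Or.inl rfl)
  · exact key 6 _ rfl t21_mem (by decide) (Or.inr rfl)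
  · exact absurd rfl hij

theorem S0_eq_top : S0 = ⊤ := by
  rw [eq_top_iff]
  intro A _
  exact LieClassical.SLGen.transvection_induction (fun B => B ∈ S0) (fun i j h c => transvection_mem i j h c)
    (fun A B hA hB => S0.mul_mem hA hB) A

theorem inl_mem_S (x : PSL37) : (SemidirectProduct.inl x : Q) ∈ S := by
  obtain ⟨A, rfl⟩ := QuotientGroup.mk_surjective x
  have : A ∈ S0 := by rw [S0_eq_top]; trivial
  exact this

theorem S_eq_top : S = ⊤ := by
  rw [eq_top_iff]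
  rintro ⟨x, y, hy⟩ _
  have h1 : ∀ n : ℤ, (SemidirectProduct.inr ⟨tauAut ^ n, ⟨n, rfl⟩⟩ : Q) ∈ S := by
    intro n
    have hf : (SemidirectProduct.inr ⟨tauAut, Subgroup.mem_zpowers _⟩ : Q) = qf := by
      apply SemidirectProduct.ext
      · change (1 : PSL37) = QuotientGroup.mk (sl mF)
        rw [show sl mF = 1 from sl_one]
        rfl
      · rfl
    have : (SemidirectProduct.inr ⟨tauAut ^ n, ⟨n, rfl⟩⟩ : Q) = qf ^ n := by
      rw [← hf, ← map_zpow]
      congr 1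
    rw [this]
    exact S.zpow_mem qf_mem n
  obtain ⟨n, rfl⟩ := hy
  have h2 : (⟨x, ⟨tauAut ^ n, ⟨n, rfl⟩⟩⟩ : Q) = SemidirectProduct.inl x *
      SemidirectProduct.inr ⟨tauAut ^ n, ⟨n, rfl⟩⟩ := by
    apply SemidirectProduct.ext
    · simp
    · simp
  exact h2 ▸ S.mul_mem (inl_mem_S x) (h1 n)

/-- The six involutions generate `Q`. -/
theorem closure_gens : Subgroup.closure ({qa, qb, qc, qd, qe, qf} : Set Q) = ⊤ := S_eq_top


/-! ### Order and normal subgroups -/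

theorem tr_conj (X Y : SL37) : Matrix.trace (X * Y * X⁻¹ : SL37).1 = Matrix.trace Y.1 := by
  change Matrix.trace (X.1 * Y.1 * (X⁻¹).1) = Matrix.trace Y.1
  rw [Matrix.trace_mul_comm, ← Matrix.mul_assoc]
  have : (X⁻¹).1 * X.1 = 1 := congrArg Subtype.val (inv_mul_cancel X)
  rw [this, Matrix.one_mul]

/-- a matrix -/ def w1 : T9 := ⟨0, 0, 1, 1, 0, 0, 0, 1, 1⟩
/-- its inverse transpose -/ def w2 : T9 := ⟨0, 6, 1, 1, 0, 0, 0, 1, 0⟩

theorem outer_not_central (X : SL37) : ∃ A : SL37,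
    (QuotientGroup.mk X : PSL37) * tau (QuotientGroup.mk A) * (QuotientGroup.mk X : PSL37)⁻¹ ≠
      (QuotientGroup.mk A : PSL37) := by
  refine ⟨sl w1, ?_⟩
  intro h
  rw [tau_mk, tau0_sl w1 w2 rfl rfl rfl] at h
  have h1 : (QuotientGroup.mk (X * sl w2 * X⁻¹) : PSL37) = (QuotientGroup.mk (sl w1) : PSL37) := h
  have h2 := (QuotientGroup.eq.mp h1.symm)
  rw [Matrix.SpecialLinearGroup.mem_center_iff] at h2
  obtain ⟨r, hr, h2⟩ := h2
  have h3 : (X * sl w2 * X⁻¹ : SL37).1 = (sl w1).1 * Matrix.scalar (Fin 3) r := by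
    rw [h2]
    change _ = (sl w1 * ((sl w1)⁻¹ * (X * sl w2 * X⁻¹)) : SL37).1
    rw [mul_inv_cancel_left]
  have h4 := congrArg Matrix.trace h3
  rw [tr_conj, Matrix.scalar_apply] at h4
  have h5 : Matrix.trace ((sl w1).1 * Matrix.diagonal fun _ => r) = r := by
    rw [Matrix.trace_fin_three]
    simp [Matrix.mul_diagonal, sl, T9.toM, w1]
  have h6 : Matrix.trace (sl w2).1 = 0 := by
    rw [Matrix.trace_fin_three]
    simp [sl, T9.toM, w2]
  rw [h5, h6] at h4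
  rw [← h4] at hr
  simp at hr

theorem tauAut_ne_one : tauAut ≠ 1 := by
  intro h
  obtain ⟨A, hA⟩ := outer_not_central 1
  apply hA
  have : tau (QuotientGroup.mk A : PSL37) = (QuotientGroup.mk A : PSL37) := DFunLike.congr_fun h _
  rw [this]
  have h1 : (QuotientGroup.mk (1 : SL37) : PSL37) = 1 := rfl
  rw [h1, one_mul, inv_one, mul_one]

theorem orderOf_tauAut : orderOf tauAut = 2 :=
  haveI : Fact (Nat.Prime 2) := ⟨Nat.prime_two⟩
  orderOf_eq_prime (by rw [pow_two]; exact tauAut_mul_self) tauAut_ne_one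

theorem card_zpowers_tauAut : Nat.card (Subgroup.zpowers tauAut) = 2 := by
  rw [Nat.card_zpowers, orderOf_tauAut]

theorem card_PSL37 : Nat.card PSL37 = 1876896 := by
  have h := S0243.result (F := ZMod 7) (q := 7) (ZMod.card 7) 3 (by norm_num)
  simp only [Fin.prod_univ_three] at h
  have hg : Nat.gcd 3 (7 - 1) = 3 := by decide
  rw [hg] at h
  have h2 : 3 * (6 * Nat.card PSL37) = 33784128 := by
    rw [show (6 : ℕ) = 7 - 1 from rfl, h]
    rfl
  clear h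
  generalize Nat.card PSL37 = c at h2 ⊢
  omega

theorem card_Q : Nat.card Q = 3753792 := by
  rw [SemidirectProduct.card, card_PSL37, card_zpowers_tauAut]

/-- The subgroup `PSL(3,7)` of `Q`. -/
noncomputable def N0 : Subgroup Q := (SemidirectProduct.inl : PSL37 →* Q).range

theorem N0_eq_ker : N0 = (SemidirectProduct.rightHom : Q →* _).ker :=
  SemidirectProduct.range_inl_eq_ker_rightHom

theorem N0_normal : N0.Normal := by
  rw [N0_eq_ker]
  infer_instance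

theorem index_N0 : N0.index = 2 := by
  rw [N0_eq_ker, Subgroup.index_ker, MonoidHom.range_eq_top.mpr SemidirectProduct.rightHom_surjective]
  rw [Nat.card_congr Subgroup.topEquiv.toEquiv, card_zpowers_tauAut]

/-- `PSL(3,7)` as a subgroup of `Q`. -/
noncomputable def N0_equiv : N0 ≃* PSL37 :=
  (MonoidHom.ofInjective (f := (SemidirectProduct.inl : PSL37 →* Q)) SemidirectProduct.inl_injective).symm

theorem inner_mem_N0 (A : SL37) : inner A ∈ N0 := ⟨_, rfl⟩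

theorem qab_mem_N0 : qa * qb ∈ N0 := by
  unfold qa qb
  rw [outer_mul_outer]
  exact inner_mem_N0 _

theorem simple_PSL37 : IsSimpleGroup PSL37 :=
  LieClassical.SLGen.psl_isSimpleGroup (by simp)

/-- Every nontrivial normal subgroup of `Q` contains `PSL(3,7)`. -/
theorem N0_le_of_normal (N : Subgroup Q) [hN : N.Normal] (h : N ≠ ⊥) : N0 ≤ N := by
  have hs := simple_PSL37
  have hn : (N.comap (SemidirectProduct.inl : PSL37 →* Q)).Normal := hN.comap _
  rcases hs.eq_bot_or_eq_top_of_normal _ hn with h1 | h1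
  · exfalso
    apply h
    have hN0 := N0_normal
    have hinf : N ⊓ N0 = ⊥ := by
      rw [eq_bot_iff]
      rintro _ ⟨hx, y, rfl⟩
      have : y ∈ N.comap (SemidirectProduct.inl : PSL37 →* Q) := hx
      rw [h1, Subgroup.mem_bot] at this
      rw [this, map_one]
      exact Subgroup.one_mem _
    have hcomm : ∀ x ∈ N, ∀ y ∈ N0, Commute x y := fun x hx y hy =>
      Subgroup.commute_of_normal_of_disjoint N N0 hN hN0 (disjoint_iff.mpr hinf) x y hx hy
    rw [eq_bot_iff]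
    intro x hx
    obtain ⟨X, hX⟩ := QuotientGroup.mk_surjective x.left
    by_cases h2 : x.right = 1
    · have : x ∈ N ⊓ N0 := by
        refine ⟨hx, x.left, ?_⟩
        apply SemidirectProduct.ext
        · rfl
        · exact h2.symm
      rwa [hinf] at this
    · exfalso
      have h3 : (x.right : MulAut PSL37) = tauAut := by
        obtain ⟨n, hn⟩ := x.right.2
        have hn' : tauAut ^ n = (x.right : MulAut PSL37) := hn
        rcases Int.even_or_odd' n with ⟨k, hk | hk⟩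
        · exfalso
          apply h2
          apply Subtype.ext
          rw [← hn', hk, _root_.zpow_mul, zpow_ofNat, pow_two, tauAut_mul_self, _root_.one_zpow]
          rfl
        · rw [← hn', hk, _root_.zpow_add, _root_.zpow_mul, zpow_ofNat, pow_two, tauAut_mul_self, _root_.one_zpow, one_mul,
            zpow_one]
      obtain ⟨A, hA⟩ := outer_not_central X
      apply hA
      have h4 := hcomm x hx (inner A) (inner_mem_N0 A)
      have h5 := congrArg SemidirectProduct.left h4.eq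
      rw [SemidirectProduct.mul_left, SemidirectProduct.mul_left] at h5
      change x.left * (x.right : MulAut PSL37) (QuotientGroup.mk A : PSL37) =
        (QuotientGroup.mk A : PSL37) * (1 : MulAut PSL37) x.left at h5
      rw [h3, ← hX, MulAut.one_apply] at h5
      change (QuotientGroup.mk X : PSL37) * tau (QuotientGroup.mk A : PSL37) =
        (QuotientGroup.mk A : PSL37) * (QuotientGroup.mk X : PSL37) at h5
      rw [h5, mul_inv_cancel_right]
  · rintro _ ⟨y, rfl⟩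
    have : y ∈ N.comap (SemidirectProduct.inl : PSL37 →* Q) := by rw [h1]; trivial
    exact this

/-- A homomorphism out of `Q` that does not kill `qa * qb` is injective. -/
theorem injective_of_ne_one {H : Type*} [Group H] (φ : Q →* H) (h : φ (qa * qb) ≠ 1) :
    Function.Injective φ := by
  rw [← MonoidHom.ker_eq_bot_iff]
  by_contra hne
  have := N0_le_of_normal φ.ker hne qab_mem_N0
  exact h this

end Cfsg.Agent.SporRec.ONL37
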