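import Cfsg.Prelude.Def_Spor_ON
import Cfsg.Agent.SporRec.ONHUpper
import Cfsg.Agent.SporRec.ONL37

/-!
The subgroup `H = ⟨a, …, f⟩` of the presented O'Nan group is a quotient of `Q = PSL(3,7):2`,
and isomorphic to `Q` as soon as `a b ≠ 1` in the O'Nan group.
-/

set_option autoImplicit false
set_option maxRecDepth 100000

namespace Cfsg.Agent.SporRec.ONAssembly

open Cfsg.Agent.SporadicRecognition Cfsg.Agent.SporadicRecognition.CosetCert
  Cfsg.Agent.SporadicRecognition.CosetCertHyp
  Cfsg.Agent.SporadicRecognition.CosetChain Cfsg.Agent.SporadicRecognition.CoxPres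
open Cfsg.Agent.SporRec

/-- numbering of the generators -/
def gn : Nat → Spor.ON.Gen
  | 0 => .c
  | 1 => .d
  | 2 => .a
  | 3 => .f
  | 4 => .b
  | 5 => .e
  | _ => .g

/-- the generators in the presented group -/
def sg (n : Nat) : Spor.ON := PresentedGroup.of (gn n)

theorem exs_rel : ∀ e ∈ ONHUpper.exs, e.val sg = 1 := by
  intro e he
  rcases List.mem_append.mp he with h | h
  · exact coxEx_rel gn ONHUpper.cox (by decide) e h
  · refine extra_rel gn e ?_
    simp only [List.mem_cons, List.not_mem_nil, or_false] at h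
    subst h
    exact .tail _ (.head _)

/-- the generators of `Q` -/
noncomputable def qn : Nat → ONL37.Q
  | 0 => ONL37.qc
  | 1 => ONL37.qd
  | 2 => ONL37.qa
  | 3 => ONL37.qf
  | 4 => ONL37.qb
  | 5 => ONL37.qe
  | _ => 1

theorem exs_q : ∀ e ∈ ONHUpper.exs, e.val qn = 1 := by
  have h1 : ∀ e ∈ coxEx ONHUpper.cox, e.val qn = 1 := by
    intro e he
    obtain ⟨t, ht, rfl⟩ := List.mem_map.mp he
    simp only [ONHUpper.cox, List.mem_cons, List.not_mem_nil, or_false] at ht
    rcases ht with rfl | rfl | rfl | rfl | rfl | rfl | rfl | rfl | rfl | rfl | rfl | rfl | rfl |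
      rfl | rfl | rfl | rfl | rfl | rfl | rfl | rfl
    · exact (pow_one _).trans ONL37.qc_sq
    · exact (pow_one _).trans ONL37.qd_sq
    · exact (pow_one _).trans ONL37.qa_sq
    · exact (pow_one _).trans ONL37.qf_sq
    · exact (pow_one _).trans ONL37.qb_sq
    · exact (pow_one _).trans ONL37.qe_sq
    · exact ONL37.qab
    · exact ONL37.qbc
    · exact ONL37.qcd
    · exact ONL37.qde
    · exact ONL37.qef
    · exact ONL37.qac
    · exact ONL37.qad
    · exact ONL37.qae
    · exact ONL37.qaf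
    · exact ONL37.qbd
    · exact ONL37.qbe
    · exact ONL37.qbf
    · exact ONL37.qce
    · exact ONL37.qcf
    · exact ONL37.qdf
  intro e he
  rcases List.mem_append.mp he with h | h
  · exact h1 e h
  · simp only [List.mem_cons, List.not_mem_nil, or_false] at h
    subst h
    change ONL37.qa * ONL37.qf * ((ONL37.qc * ONL37.qd) ^ 4)⁻¹ = 1
    rw [ONL37.qaf_eq, mul_inv_cancel]

/-! ### The homomorphism from `Q` -/

/-- the pairs `(q_x, x)` -/
noncomputable def pn (n : Nat) : ONL37.Q × Spor.ON := (qn n, sg n)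

theorem exs_p : ∀ e ∈ ONHUpper.exs, e.val pn = 1 := by
  have h : ∀ e : Ex, e.val pn = (e.val qn, e.val sg) := by
    intro e
    induction e with
    | g n => rfl
    | m a b iha ihb => rw [Ex.val, Ex.val, Ex.val, iha, ihb]; rfl
    | i a iha => rw [Ex.val, Ex.val, Ex.val, iha]; rfl
    | p a n iha => rw [Ex.val, Ex.val, Ex.val, iha]; rfl
  intro e he
  rw [h, exs_q e he, exs_rel e he]
  rfl

/-- the graph of the homomorphism -/
noncomputable def D : Subgroup (ONL37.Q × Spor.ON) := Subgroup.closure (pn '' {x | x < 6})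

theorem finite_D : Finite D := (ONHUpper.card_le pn exs_p).1

theorem card_D : Nat.card D ≤ 3753792 := (ONHUpper.card_le pn exs_p).2

theorem closure_qn : Subgroup.closure (qn '' {x | x < 6}) = ⊤ := by
  rw [eq_top_iff, ← ONL37.closure_gens]
  apply Subgroup.closure_mono
  intro x hx
  simp only [Set.mem_insert_iff, Set.mem_singleton_iff] at hx
  rcases hx with rfl | rfl | rfl | rfl | rfl | rfl
  · exact ⟨2, by simp, rfl⟩
  · exact ⟨4, by simp, rfl⟩
  · exact ⟨0, by simp, rfl⟩
  · exact ⟨1, by simp, rfl⟩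
  · exact ⟨5, by simp, rfl⟩
  · exact ⟨3, by simp, rfl⟩

/-- first projection -/
noncomputable def p1 : D →* ONL37.Q := (MonoidHom.fst _ _).comp D.subtype

theorem p1_surjective : Function.Surjective p1 := by
  rw [← MonoidHom.range_eq_top, p1, MonoidHom.range_comp, Subgroup.range_subtype, D,
    MonoidHom.map_closure, Set.image_image]
  exact closure_qn

theorem p1_bijective : Function.Bijective p1 := by
  haveI := finite_D
  refine p1_surjective.bijective_of_nat_card_le ?_
  rw [ONL37.card_Q]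
  exact card_D

/-- The homomorphism `Q → ON` with image `⟨a, …, f⟩`. -/
noncomputable def theta : ONL37.Q →* Spor.ON :=
  ((MonoidHom.snd _ _).comp D.subtype).comp (MulEquiv.ofBijective p1 p1_bijective).symm.toMonoidHom

theorem theta_qn (n : Nat) (hn : n < 6) : theta (qn n) = sg n := by
  have hmem : pn n ∈ D := Subgroup.subset_closure ⟨n, hn, rfl⟩
  have h : (MulEquiv.ofBijective p1 p1_bijective).symm (qn n) = ⟨pn n, hmem⟩ := by
    rw [MulEquiv.symm_apply_eq]
    rfl
  change ((MulEquiv.ofBijective p1 p1_bijective).symm (qn n) : ONL37.Q × Spor.ON).2 = sg n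
  rw [h]
  rfl

theorem theta_qa : theta ONL37.qa = PresentedGroup.of Spor.ON.Gen.a := theta_qn 2 (by decide)
theorem theta_qb : theta ONL37.qb = PresentedGroup.of Spor.ON.Gen.b := theta_qn 4 (by decide)
theorem theta_qc : theta ONL37.qc = PresentedGroup.of Spor.ON.Gen.c := theta_qn 0 (by decide)
theorem theta_qd : theta ONL37.qd = PresentedGroup.of Spor.ON.Gen.d := theta_qn 1 (by decide)
theorem theta_qe : theta ONL37.qe = PresentedGroup.of Spor.ON.Gen.e := theta_qn 5 (by decide)
theorem theta_qf : theta ONL37.qf = PresentedGroup.of Spor.ON.Gen.f := theta_qn 3 (by decide)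

theorem range_theta : theta.range = Subgroup.closure (sg '' {x | x < 6}) := by
  rw [MonoidHom.range_eq_map, ← closure_qn, MonoidHom.map_closure]
  congr 1
  ext x
  constructor
  · rintro ⟨_, ⟨n, hn, rfl⟩, rfl⟩
    exact ⟨n, hn, (theta_qn n hn).symm⟩
  · rintro ⟨n, hn, rfl⟩
    exact ⟨_, ⟨n, hn, rfl⟩, theta_qn n hn⟩

/-- the subgroup of the statements S1692, S1693 -/
abbrev H : Subgroup Spor.ON :=
  (Subgroup.closure ({Cfsg.Spor.ON.a, Cfsg.Spor.ON.b, Cfsg.Spor.ON.c, Cfsg.Spor.ON.d,
    Cfsg.Spor.ON.e, Cfsg.Spor.ON.f} : Set (FreeGroup Cfsg.Spor.ON.Gen))).map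
    (PresentedGroup.mk (Cfsg.Spor.coxRelators Cfsg.Spor.ON.edges ∪ {r | r ∈ Cfsg.Spor.ON.extra}))

theorem H_eq : H = Subgroup.closure (sg '' {x | x < 6}) := by
  rw [H, MonoidHom.map_closure]
  congr 1
  ext x
  constructor
  · rintro ⟨w, hw, rfl⟩
    simp only [Set.mem_insert_iff, Set.mem_singleton_iff] at hw
    rcases hw with rfl | rfl | rfl | rfl | rfl | rfl
    · exact ⟨2, by simp, rfl⟩
    · exact ⟨4, by simp, rfl⟩
    · exact ⟨0, by simp, rfl⟩
    · exact ⟨1, by simp, rfl⟩
    · exact ⟨5, by simp, rfl⟩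
    · exact ⟨3, by simp, rfl⟩
  · rintro ⟨n, hn, rfl⟩
    have hn' : n < 6 := hn
    interval_cases n
    · exact ⟨Spor.ON.c, by simp, rfl⟩
    · exact ⟨Spor.ON.d, by simp, rfl⟩
    · exact ⟨Spor.ON.a, by simp, rfl⟩
    · exact ⟨Spor.ON.f, by simp, rfl⟩
    · exact ⟨Spor.ON.b, by simp, rfl⟩
    · exact ⟨Spor.ON.e, by simp, rfl⟩

theorem range_theta_eq : theta.range = H := range_theta.trans H_eq.symm

theorem finite_H : Finite H := by
  rw [H_eq]
  exact (ONHUpper.card_le sg exs_rel).1

theorem card_H_le : Nat.card H ≤ 3753792 := by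
  rw [H_eq]
  exact (ONHUpper.card_le sg exs_rel).2

section

variable (hab : (PresentedGroup.of Spor.ON.Gen.a * PresentedGroup.of Spor.ON.Gen.b : Spor.ON) ≠ 1)

include hab

theorem theta_injective : Function.Injective theta := by
  apply ONL37.injective_of_ne_one
  rw [map_mul, theta_qa, theta_qb]
  exact hab

/-- `Q ≅ H`. -/
noncomputable def thetaEquiv : ONL37.Q ≃* H :=
  (MonoidHom.ofInjective (theta_injective hab)).trans (MulEquiv.subgroupCongr range_theta_eq)

theorem card_H : Nat.card H = 3753792 := by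
  rw [← Nat.card_congr (thetaEquiv hab).toEquiv, ONL37.card_Q]

/-- the statement of S1693 from `a b ≠ 1`. -/
theorem exists_normal : ∃ N : Subgroup H, N.Normal ∧ N.index = 2 ∧
    Nonempty (N ≃* Matrix.ProjectiveSpecialLinearGroup (Fin 3) (ZMod 7)) := by
  refine ⟨ONL37.N0.map (thetaEquiv hab).toMonoidHom, ?_, ?_, ?_⟩
  · exact ONL37.N0_normal.map _ (thetaEquiv hab).surjective
  · have h1 := Subgroup.index_map_equiv ONL37.N0 (thetaEquiv hab)
    exact h1.trans ONL37.index_N0
  · exact ⟨((ONL37.N0.equivMapOfInjective (thetaEquiv hab).toMonoidHom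
      (thetaEquiv hab).injective).symm.trans ONL37.N0_equiv)⟩

end

end Cfsg.Agent.SporRec.ONAssembly
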