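import Cfsg.Agent.SporRec.ON45SchurData

/-!
Schur's lemma for the 45-dimensional representation: a matrix commuting with the seven generators is scalar.
-/

set_option autoImplicit false
set_option maxRecDepth 100000
set_option exponentiation.threshold 1000

namespace Cfsg.Agent.SporRec.ON45Schur

open Cfsg.Agent.SporRec.PackSeven Cfsg.Agent.SporRec.PackSevenOrb Cfsg.Agent.SporRec.ON45Mats
  Cfsg.Agent.SporRec.ON45SchurData Cfsg.Spor.ON
open Cfsg.Agent.SporadicB.ON45Core (MRels M45)

/-- packed linear combination `Y + c * Z` -/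
def lin (m c Y Z : ℕ) : ℕ := red (ones (Nat.mul 45 m)) (Nat.add Y (Nat.mul c Z))

theorem ok_lin (m c Y Z : ℕ) : Ok m (lin m c Y Z) := ok_red m _

theorem toMat_lin {m c Y Z : ℕ} (hc : c ≤ 6) (hY : Ok m Y) (hZ : Ok m Z) :
    toMat m (lin m c Y Z) = toMat m Y + (c : ZMod 7) • toMat m Z := by
  have h1 : Y + c * Z = pk (45 * m) (fun k => dg Y k + c * dg Z k) := by
    rw [← pk_add, ← pk_mul, pk_dg hY.lt, pk_dg hZ.lt]
  have h2 : ∀ k, dg Y k + c * dg Z k < 4096 := fun k => by
    have h3 := hY.le k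
    have h4 : c * dg Z k ≤ 6 * 6 := Nat.mul_le_mul hc (hZ.le k)
    omega
  ext i j
  have hij : 45 * (j : ℕ) + i < 45 * m := index_lt i.2 j.2
  rw [toMat_apply, Matrix.add_apply, Matrix.smul_apply, toMat_apply, toMat_apply, smul_eq_mul]
  have h5 : ent (lin m c Y Z) i j = (ent Y i j + c * ent Z i j) % 7 := by
    unfold ent
    change dg (red (ones (45 * m)) (Y + c * Z)) (45 * (j : ℕ) + i) = _
    rw [red_eq, h1]
    have h6 := dg_pk (n := 45 * m) (f := fun k => dg Y k + c * dg Z k) (fun k _ => h2 k)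
      (45 * (j : ℕ) + i)
    have h7 := dg_pk (n := 45 * m)
      (f := fun k => dg (pk (45 * m) (fun k => dg Y k + c * dg Z k)) k % 7)
      (fun k _ => lt_of_lt_of_le (Nat.mod_lt _ (by norm_num)) (by norm_num)) (45 * (j : ℕ) + i)
    rw [h7, if_pos hij, h6, if_pos hij]
  rw [h5, ZMod.natCast_mod, Nat.cast_add, Nat.cast_mul]

/-- the word of the eigenelement -/
def wh : List Gen := [.e, .g, .d, .c]

theorem ok_dX : Ok 45 dX := ok_of_okB (by decide +kernel)
theorem ok_dV : Ok 45 dV := ok_of_okB (by decide +kernel)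
theorem ok_dR : Ok 45 dR := ok_of_okB (by decide +kernel)
theorem ok_dB : Ok 45 dB := ok_of_okB (by decide +kernel)
theorem ok_dBi : Ok 45 dBi := ok_of_okB (by decide +kernel)

theorem chk1 : Nat.beq (lin 45 1 (lin 45 4 (mulP 45 dX (ev wh)) dX) (mulP 45 dV dR)) pI = true := by
  decide +kernel

theorem chk2 : Nat.beq (mulP 45 (ev wh) dV) (lin 45 3 0 dV) = true := by decide +kernel

theorem chk3 : Nat.beq (mulP 45 dB dBi) pI = true := by decide +kernel

theorem chk4 : Nat.beq (Nat.shiftRight dV 540) 0 = true := by decide +kernel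

theorem chk5 : Nat.beq (colN dB 0) (colN dV 0) = true := by decide +kernel

/-- the generators -/
def gl : List ℕ := [pA, pB, pC, pD, pE, pF, pG]

/-- check of the spinning -/
def spinB : Bool := allB (fun j => Bool.rec
    (Bool.rec false (Bool.rec false
      (Nat.beq (colN (mulP 45 (tnth gl (tb dG j)) dB) (tb dP j)) (colN dB j))
      (Nat.ble (Nat.succ (tb dG j)) 7)) (Nat.ble (Nat.succ (tb dP j)) j))
    true (Nat.beq j 0)) 45

theorem spinB_true : spinB = true := by decide +kernel

theorem spin (j : ℕ) (hj : j < 45) (h0 : j ≠ 0) :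
    ∃ x : Gen, ∃ k < j, colN (mulP 45 (pm x) dB) k = colN dB j := by
  have h1 := allB_spec spinB_true j hj
  cases hb : Nat.beq j 0 with
  | true => exact absurd (Nat.eq_of_beq_eq_true hb) h0
  | false =>
    rw [hb] at h1
    cases hc : Nat.ble (Nat.succ (tb dP j)) j with
    | false => rw [hc] at h1; exact absurd h1 (by simp)
    | true =>
      rw [hc] at h1
      cases hd : Nat.ble (Nat.succ (tb dG j)) 7 with
      | false => rw [hd] at h1; exact absurd h1 (by simp)
      | true =>
        rw [hd] at h1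
        have hmem : tnth gl (tb dG j) ∈ gl := tnth_mem (Nat.le_of_ble_eq_true hd)
        have hx : ∃ x : Gen, pm x = tnth gl (tb dG j) := by
          simp only [gl, List.mem_cons, List.not_mem_nil, or_false] at hmem
          rcases hmem with h | h | h | h | h | h | h
          · exact ⟨.a, h.symm⟩
          · exact ⟨.b, h.symm⟩
          · exact ⟨.c, h.symm⟩
          · exact ⟨.d, h.symm⟩
          · exact ⟨.e, h.symm⟩
          · exact ⟨.f, h.symm⟩
          · exact ⟨.g, h.symm⟩
        obtain ⟨x, hx⟩ := hx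
        refine ⟨x, tb dP j, Nat.le_of_ble_eq_true hc, ?_⟩
        rw [hx]
        exact Nat.eq_of_beq_eq_true h1

theorem eq1 : toMat 45 dX * toMat 45 (ev wh) + (4 : ZMod 7) • toMat 45 dX +
    toMat 45 dV * toMat 45 dR = 1 := by
  have h := Nat.eq_of_beq_eq_true chk1
  have h1 := congrArg (toMat 45) h
  rw [toMat_I, toMat_lin (by norm_num) (ok_lin _ _ _ _) (ok_mulP _ _ _),
    toMat_lin (by norm_num) (ok_mulP _ _ _) ok_dX, toMat_mulP ok_dX (ok_ev _),
    toMat_mulP ok_dV ok_dR] at h1
  rw [Nat.cast_one, one_smul] at h1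
  exact h1

theorem ok_zero : Ok 45 0 := ⟨by positivity, fun k => by rw [dg_zero]; omega⟩

theorem toMat_zero : toMat 45 0 = 0 := by
  ext i j
  rw [toMat_apply]
  simp [ent, dg_zero]

theorem eq2 : toMat 45 (ev wh) * toMat 45 dV = (3 : ZMod 7) • toMat 45 dV := by
  have h := Nat.eq_of_beq_eq_true chk2
  have h1 := congrArg (toMat 45) h
  rw [toMat_lin (by norm_num) ok_zero ok_dV, toMat_mulP (ok_ev _) ok_dV, toMat_zero, zero_add] at h1
  exact h1

theorem eq3 : toMat 45 dB * toMat 45 dBi = 1 := by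
  have h := Nat.eq_of_beq_eq_true chk3
  have h1 := congrArg (toMat 45) h
  rw [toMat_I, toMat_mulP ok_dB ok_dBi] at h1
  exact h1

theorem dV_lt : dV < 4096 ^ 45 := by
  have h := Nat.eq_of_beq_eq_true chk4
  change dV >>> 540 = 0 at h
  rw [Nat.shiftRight_eq_div_pow] at h
  have h1 : dV < 2 ^ 540 := (Nat.div_eq_zero_iff_lt (by positivity)).1 h
  calc dV < 2 ^ 540 := h1
    _ = 4096 ^ 45 := by rw [show (4096 : ℕ) = 2 ^ 12 by norm_num, ← pow_mul]

theorem dV_apply (i j : Fin 45) (hj : j ≠ 0) : toMat 45 dV i j = 0 := by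
  rw [toMat_apply]
  have h : ent dV i j = 0 := by
    unfold ent
    apply dg_eq_zero_of_lt dV_lt
    have : (j : ℕ) ≠ 0 := fun h => hj (Fin.ext h)
    omega
  rw [h, Nat.cast_zero]

/-- a matrix commuting with the eigenelement maps the eigenvector to a multiple -/
theorem eigen (M : M45) (hM : M * toMat 45 (ev wh) = toMat 45 (ev wh) * M) :
    ∃ μ : ZMod 7, Matrix.mulVec M (col 45 dB 0) = μ • col 45 dB 0 := by
  have hcol : col 45 dB 0 = col 45 dV 0 := col_eq_of_colN (Nat.eq_of_beq_eq_true chk5)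
  have h1 : toMat 45 (ev wh) * (M * toMat 45 dV) = (3 : ZMod 7) • (M * toMat 45 dV) := by
    rw [← mul_assoc, ← hM, mul_assoc, eq2, mul_smul_comm]
  have h2 : M * toMat 45 dV = toMat 45 dV * (toMat 45 dR * (M * toMat 45 dV)) := by
    have h3 := congrArg (fun T => T * (M * toMat 45 dV)) eq1
    simp only [add_mul, one_mul, mul_assoc, smul_mul_assoc] at h3
    rw [h1, mul_smul_comm, ← add_smul, show (3 : ZMod 7) + 4 = 0 by decide, zero_smul, zero_add] at h3
    exact h3.symm
  refine ⟨(toMat 45 dR * (M * toMat 45 dV)) 0 0, ?_⟩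
  rw [hcol]
  funext i
  have h4 := congrFun (congrFun h2 i) 0
  have h5 : Matrix.mulVec M (col 45 dV 0) i = (M * toMat 45 dV) i 0 := rfl
  rw [h5, h4, Matrix.mul_apply, Finset.sum_eq_single (0 : Fin 45)]
  · rw [Pi.smul_apply, smul_eq_mul, mul_comm]
    rfl
  · intro j _ hj
    rw [dV_apply i j hj, zero_mul]
  · intro h; exact absurd (Finset.mem_univ _) h

theorem commute_prod {M : M45} (h : ∀ x, M * mat x = mat x * M) (w : List Gen) :
    M * (w.map mat).prod = (w.map mat).prod * M := by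
  induction w with
  | nil => simp
  | cons x w ih =>
    rw [List.map_cons, List.prod_cons, ← mul_assoc, h x, mul_assoc, ih, mul_assoc]

/-- Schur's lemma. -/
theorem scalar_of_commute (M : M45) (h : ∀ x, M * mat x = mat x * M) :
    ∃ μ : ZMod 7, M = μ • (1 : M45) := by
  have hM : M * toMat 45 (ev wh) = toMat 45 (ev wh) * M := by
    rw [toMat_ev]
    exact commute_prod h wh
  obtain ⟨μ, hμ⟩ := eigen M hM
  have key : ∀ n : ℕ, ∀ hn : n < 45, Matrix.mulVec M (col 45 dB ⟨n, hn⟩) = μ • col 45 dB ⟨n, hn⟩ := by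
    intro n
    induction n using Nat.strong_induction_on with
    | _ n ih =>
      intro hn
      by_cases h0 : n = 0
      · subst h0
        exact hμ
      · obtain ⟨x, k, hk, hx⟩ := spin n hn h0
        have hk45 : k < 45 := lt_trans hk hn
        have h1 : col 45 dB ⟨n, hn⟩ = Matrix.mulVec (mat x) (col 45 dB ⟨k, hk45⟩) := by
          have h2 := mulVec_col (ok_pm x) ok_dB (⟨k, hk45⟩ : Fin 45)
          have h3 : col 45 (mulP 45 (pm x) dB) ⟨k, hk45⟩ = col 45 dB ⟨n, hn⟩ :=
            col_eq_of_colN hx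
          rw [← h3, ← h2]
          rfl
        rw [h1, Matrix.mulVec_mulVec, h x, ← Matrix.mulVec_mulVec, ih k hk hk45, Matrix.mulVec_smul]
  refine ⟨μ, ?_⟩
  have h1 : M * toMat 45 dB = μ • toMat 45 dB := by
    ext i j
    have h2 := congrFun (key j j.2) i
    exact h2
  calc M = M * (toMat 45 dB * toMat 45 dBi) := by rw [eq3, mul_one]
    _ = μ • (1 : M45) := by rw [← mul_assoc, h1, smul_mul_assoc, eq3]

end Cfsg.Agent.SporRec.ON45Schur
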