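import Cfsg.Agent.SporRec.ON45Orb
import Cfsg.Agent.SporRec.ON45Schur

/-!
The projective 45-dimensional representation `rho` of the presented O'Nan group, the divisibility
`460815505920 ∣ |image|`, and triviality of the centre when `rho` is injective.
-/

set_option autoImplicit false
set_option maxRecDepth 100000

namespace Cfsg.Agent.SporRec.ONLower

open Cfsg.Agent.SporRec.PackSeven Cfsg.Agent.SporRec.PackSevenOrb Cfsg.Agent.SporRec.ON45Mats
  Cfsg.Agent.SporRec.ON45Orb
open Cfsg.Spor.ON Cfsg.Agent.SporadicB.ONHom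
open Cfsg.Agent.SporadicB.ON45Core (MRels M45 dets mem_center_of_smul center_cases)

theorem det_mat (x : Gen) : (mat x).det = 1 := by
  obtain ⟨h1, h2, h3, h4, h5, h6, h7⟩ := dets mrels
  cases x
  · exact h7
  · exact h1
  · exact h2
  · exact h3
  · exact h4
  · exact h5
  · exact h6

/-- the generators in `SL(45, 7)` -/
def gs (x : Gen) : SL45 := ⟨mat x, det_mat x⟩

theorem coe_gs (x : Gen) : ((gs x : SL45) : M45) = mat x := rfl

/-- the group generated -/
def Γ : Subgroup SL45 := Subgroup.closure (Set.range gs)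

/-- value of a word -/
def wS (w : List Gen) : SL45 := (w.map gs).prod

theorem gs_mem (x : Gen) : gs x ∈ Γ := Subgroup.subset_closure ⟨x, rfl⟩

theorem wS_mem (w : List Gen) : wS w ∈ Γ := by
  apply Γ.list_prod_mem
  intro x hx
  obtain ⟨y, _, rfl⟩ := List.mem_map.1 hx
  exact gs_mem y

theorem coe_wS (w : List Gen) : ((wS w : SL45) : M45) = toMat 45 (ev w) := by
  rw [toMat_ev]
  induction w with
  | nil => rfl
  | cons x w ih =>
    rw [List.map_cons, List.prod_cons, ← ih]
    rfl

/-! ### Orders of elements -/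

/-- packed power -/
def pw (X : ℕ) (k : ℕ) : ℕ := Nat.rec pI (fun _ ih => mulP 45 X ih) k

theorem ok_pw (X k : ℕ) : Ok 45 (pw X k) := by
  cases k with
  | zero => exact ok_I
  | succ k => exact ok_mulP _ _ _

theorem toMat_pw {X : ℕ} (hX : Ok 45 X) (k : ℕ) : toMat 45 (pw X k) = toMat 45 X ^ k := by
  induction k with
  | zero => rw [pow_zero]; exact toMat_I
  | succ k ih =>
    rw [pow_succ', ← ih, ← toMat_mulP hX (ok_pw X k)]
    rfl

theorem coe_pow_wS (w : List Gen) (k : ℕ) : ((wS w ^ k : SL45) : M45) = toMat 45 (pw (ev w) k) := by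
  rw [toMat_pw (ok_ev w), ← coe_wS]
  exact Matrix.SpecialLinearGroup.coe_pow _ _

theorem dvd_card_of_prime {p : ℕ} (hp : p.Prime) (w : List Gen)
    (h1 : Nat.beq (pw (ev w) (3 * p)) pI = true) (h2 : Nat.beq (pw (ev w) 3) pI = false) :
    p ∣ Nat.card Γ := by
  have e1 : wS w ^ (3 * p) = 1 := by
    apply Subtype.ext
    refine (coe_pow_wS w _).trans ?_
    rw [Nat.eq_of_beq_eq_true h1, toMat_I]
    rfl
  have e2 : wS w ^ 3 ≠ 1 := by
    intro h
    have h3 := congrArg (fun x : SL45 => (x : M45)) h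
    have h4 : toMat 45 (pw (ev w) 3) = toMat 45 pI := by
      rw [← coe_pow_wS, toMat_I]
      exact h3
    have h5 := toMat_inj (ok_pw _ _) ok_I h4
    rw [h5, Nat.beq_refl] at h2
    exact absurd h2 (by simp)
  have h3 : orderOf (wS w) ∣ 3 * p := orderOf_dvd_of_pow_eq_one e1
  have h4 : ¬ orderOf (wS w) ∣ 3 := fun h => e2 (orderOf_dvd_iff_pow_eq_one.1 h)
  have h5 : p ∣ orderOf (wS w) := by
    by_contra hcon
    have hcop : Nat.Coprime (orderOf (wS w)) p := ((Nat.Prime.coprime_iff_not_dvd hp).2 hcon).symm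
    exact h4 (hcop.dvd_of_dvd_mul_right h3)
  refine h5.trans ?_
  have h6 : orderOf (⟨wS w, wS_mem w⟩ : Γ) ∣ Nat.card Γ := orderOf_dvd_natCard _
  rwa [Subgroup.orderOf_mk] at h6

theorem five_dvd : 5 ∣ Nat.card Γ :=
  dvd_card_of_prime (by norm_num) [.b, .c, .d, .g] (by decide +kernel) (by decide +kernel)

theorem eleven_dvd : 11 ∣ Nat.card Γ :=
  dvd_card_of_prime (by norm_num) [.g, .b, .c, .d, .e] (by decide +kernel) (by decide +kernel)

theorem nineteen_dvd : 19 ∣ Nat.card Γ :=
  dvd_card_of_prime (by norm_num) [.a, .b, .c, .d, .e, .f] (by decide +kernel) (by decide +kernel)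

theorem thirtyone_dvd : 31 ∣ Nat.card Γ :=
  dvd_card_of_prime (by norm_num) [.b, .d, .g, .e, .c] (by decide +kernel) (by decide +kernel)

/-! ### Sylow subgroups from orbits -/

theorem dvd_of_orb {m X : ℕ} (hm : 0 < m) {W : List (List Gen)} {T : List ℕ} {P I σ : ℕ}
    (h : orbB m X (List.zip (W.map ev) T) P I σ = true) : m ∣ Nat.card Γ := by
  have key : ∀ p ∈ List.zip (W.map ev) T, ∃ w : List Gen, p.1 = ev w := by
    rintro ⟨x, y⟩ hp
    obtain ⟨w, _, hw⟩ := List.mem_map.1 (List.of_mem_zip hp).1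
    exact ⟨w, hw.symm⟩
  refine dvd_card_of_orbB hm h ?_ Γ ?_
  · intro p hp
    obtain ⟨w, hw⟩ := key p hp
    rw [hw]; exact ok_ev w
  · intro p hp
    obtain ⟨w, hw⟩ := key p hp
    exact ⟨wS w, wS_mem w, by rw [hw]; exact coe_wS w⟩

theorem two_dvd : 512 ∣ Nat.card Γ := dvd_of_orb (by norm_num) orb_two
theorem three_dvd : 243 ∣ Nat.card Γ := dvd_of_orb (by norm_num) orb_three
theorem seven_dvd : 343 ∣ Nat.card Γ := dvd_of_orb (by norm_num) orb_seven

theorem dvd_card_Γ : 3 * 460815505920 ∣ Nat.card Γ := by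
  have h1 : 512 * 243 ∣ Nat.card Γ := Nat.Coprime.mul_dvd_of_dvd_of_dvd (by norm_num) two_dvd three_dvd
  have h2 : 512 * 243 * 343 ∣ Nat.card Γ := Nat.Coprime.mul_dvd_of_dvd_of_dvd (by norm_num) h1 seven_dvd
  have h3 : 512 * 243 * 343 * 5 ∣ Nat.card Γ := Nat.Coprime.mul_dvd_of_dvd_of_dvd (by norm_num) h2 five_dvd
  have h4 : 512 * 243 * 343 * 5 * 11 ∣ Nat.card Γ :=
    Nat.Coprime.mul_dvd_of_dvd_of_dvd (by norm_num) h3 eleven_dvd
  have h5 : 512 * 243 * 343 * 5 * 11 * 19 ∣ Nat.card Γ :=
    Nat.Coprime.mul_dvd_of_dvd_of_dvd (by norm_num) h4 nineteen_dvd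
  have h6 : 512 * 243 * 343 * 5 * 11 * 19 * 31 ∣ Nat.card Γ :=
    Nat.Coprime.mul_dvd_of_dvd_of_dvd (by norm_num) h5 thirtyone_dvd
  have e : 512 * 243 * 343 * 5 * 11 * 19 * 31 = 3 * 460815505920 := by norm_num
  rwa [e] at h6

/-! ### The projective representation -/

/-- the projection modulo scalars -/
def pr : SL45 →* SL45 ⧸ Subgroup.center SL45 := QuotientGroup.mk' _

theorem pr_eq_one_of_smul {x : SL45} (r : ZMod 7) (hx : (x : M45) = r • (1 : M45)) : pr x = 1 :=
  (QuotientGroup.eq_one_iff x).2 (mem_center_of_smul hx)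

theorem pr_eq_one {x : SL45} (hx : (x : M45) = 1) : pr x = 1 :=
  pr_eq_one_of_smul 1 (by rw [hx, one_smul])

theorem pr_congr {x y : SL45} (h : (x : M45) = (y : M45)) : pr x = pr y := by
  rw [Subtype.ext h]

theorem pr_eq_one_iff {x : SL45} : pr x = 1 ↔ x ∈ Subgroup.center SL45 := QuotientGroup.eq_one_iff x

/-- The relations hold modulo scalars. -/
theorem rels_pr : Rels (pr (gs .a)) (pr (gs .b)) (pr (gs .c)) (pr (gs .d)) (pr (gs .e)) (pr (gs .f))
    (pr (gs .g)) := by
  have h := mrels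
  refine ⟨?_, ?_, ?_, ?_, ?_, ?_, ?_, ?_, ?_, ?_, ?_, ?_, ?_, ?_, ?_, ?_, ?_, ?_, ?_, ?_, ?_, ?_, ?_, ?_, ?_, ?_, ?_⟩ <;>
    simp only [← map_mul, ← map_pow]
  · exact pr_eq_one h.aa
  · exact pr_eq_one h.bb
  · exact pr_eq_one h.cc
  · exact pr_eq_one h.dd
  · exact pr_eq_one h.ee
  · exact pr_eq_one h.ff
  · exact pr_eq_one h.ab
  · exact pr_eq_one h.bc
  · exact pr_eq_one h.de
  · exact pr_eq_one h.ef
  · exact pr_congr h.ac
  · exact pr_congr h.ad
  · exact pr_congr h.ae
  · exact pr_congr h.af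
  · exact pr_congr h.bd
  · exact pr_congr h.be
  · exact pr_congr h.bf
  · exact pr_congr h.ce
  · exact pr_congr h.cf
  · exact pr_congr h.df
  · exact pr_congr h.afcd
  · exact pr_congr h.afgg
  · exact pr_congr h.cdg
  · exact pr_congr h.dcg
  · exact pr_eq_one_of_smul 4 h.bcdg
  · exact pr_eq_one_of_smul 4 h.gb
  · exact pr_eq_one_of_smul 4 h.ge

/-- The projective 45-dimensional representation of the presented O'Nan group over `ZMod 7`. -/
def rho : Cfsg.Spor.ON →* SL45 ⧸ Subgroup.center SL45 := hom rels_pr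

theorem rho_of (x : Gen) : rho (PresentedGroup.of x) = pr (gs x) := by
  rw [show rho (PresentedGroup.of x) = _ from hom_of rels_pr x]
  cases x <;> rfl

theorem range_rho : rho.range = Γ.map pr := by
  change (hom rels_pr).range = _
  rw [range_hom, Γ, MonoidHom.map_closure, ← Set.range_comp]
  congr 1
  ext y
  constructor
  · rintro ⟨x, rfl⟩
    exact ⟨x, by cases x <;> rfl⟩
  · rintro ⟨x, rfl⟩
    exact ⟨x, by cases x <;> rfl⟩

theorem card_center_dvd : Nat.card (Subgroup.center SL45) ∣ 3 := by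
  have h3 : ∀ z : Subgroup.center SL45, z ^ 3 = 1 := by
    intro z
    apply Subtype.ext
    apply Subtype.ext
    change ((z : SL45) ^ 3 : SL45).1 = 1
    rw [Matrix.SpecialLinearGroup.coe_pow]
    have key : ∀ r : ZMod 7, r ^ 3 = 1 → (r • (1 : M45)) ^ 3 = 1 := by
      intro r hr
      rw [smul_pow, hr, one_pow, one_smul]
    rcases center_cases z.2 with h | h | h
    · rw [h]; exact key _ (by decide)
    · rw [h]; exact key _ (by decide)
    · rw [h]; exact key _ (by decide)
  have : Finite (Subgroup.center SL45) := inferInstance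
  have : Fact (Nat.Prime 3) := ⟨by norm_num⟩
  have hp : IsPGroup 3 (Subgroup.center SL45) := fun z => ⟨1, by rw [pow_one]; exact h3 z⟩
  obtain ⟨n, hn⟩ := IsPGroup.iff_card.1 hp
  have hle : Nat.card (Subgroup.center SL45) ≤ 3 := by
    classical
    let f : Subgroup.center SL45 → Fin 3 := fun z =>
      if ((z : SL45) : M45) = (1 : ZMod 7) • 1 then 0 else if ((z : SL45) : M45) = (2 : ZMod 7) • 1 then 1
      else 2
    have hf : Function.Injective f := by
      intro x y hxy
      have hval : ∀ z : Subgroup.center SL45, f z = 0 ∧ ((z : SL45) : M45) = (1 : ZMod 7) • 1 ∨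
          f z = 1 ∧ ((z : SL45) : M45) = (2 : ZMod 7) • 1 ∨
          f z = 2 ∧ ((z : SL45) : M45) = (4 : ZMod 7) • 1 := by
        intro z
        by_cases h1 : ((z : SL45) : M45) = (1 : ZMod 7) • 1
        · left; exact ⟨if_pos h1, h1⟩
        · by_cases h2 : ((z : SL45) : M45) = (2 : ZMod 7) • 1
          · right; left; exact ⟨(if_neg h1).trans (if_pos h2), h2⟩
          · right; right
            refine ⟨(if_neg h1).trans (if_neg h2), ?_⟩
            rcases center_cases z.2 with h | h | h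
            · exact absurd h h1
            · exact absurd h h2
            · exact h
      apply Subtype.ext
      apply Subtype.ext
      rcases hval x with ⟨hx, ex⟩ | ⟨hx, ex⟩ | ⟨hx, ex⟩ <;>
        rcases hval y with ⟨hy, ey⟩ | ⟨hy, ey⟩ | ⟨hy, ey⟩ <;>
        first
        | exact ex.trans ey.symm
        | (exfalso; rw [hx, hy] at hxy; revert hxy; decide)
    have := Nat.card_le_card_of_injective f hf
    rwa [Nat.card_eq_fintype_card (α := Fin 3), Fintype.card_fin] at this
  rw [hn] at hle ⊢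
  have : n ≤ 1 := by
    by_contra hcon
    have h2 : 3 ^ 2 ≤ 3 ^ n := Nat.pow_le_pow_right (by norm_num) (by omega)
    omega
  calc 3 ^ n ∣ 3 ^ 1 := pow_dvd_pow 3 this
    _ = 3 := pow_one 3

theorem dvd_card_range : 460815505920 ∣ Nat.card rho.range := by
  let ψ : Γ →* SL45 ⧸ Subgroup.center SL45 := pr.comp Γ.subtype
  have hψ : ψ.range = rho.range := by
    rw [range_rho, MonoidHom.range_comp, Subgroup.range_subtype]
  have hker : Nat.card ψ.ker ∣ 3 := by
    refine Dvd.dvd.trans ?_ card_center_dvd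
    let j : ψ.ker →* Subgroup.center SL45 :=
      { toFun := fun x => ⟨x.1.1, pr_eq_one_iff.1 x.2⟩
        map_one' := rfl
        map_mul' := fun _ _ => rfl }
    have hj : Function.Injective j := by
      intro x y hxy
      apply Subtype.ext
      apply Subtype.ext
      exact congrArg (fun z : Subgroup.center SL45 => (z : SL45)) hxy
    exact Subgroup.card_dvd_of_injective j hj
  have hmul : Nat.card ψ.range * Nat.card ψ.ker = Nat.card Γ := by
    rw [← Subgroup.index_ker, mul_comm]
    exact Subgroup.card_mul_index _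
  rw [← hψ]
  have h1 := dvd_card_Γ
  rw [← hmul] at h1
  have h2 : Nat.card ψ.ker = 1 ∨ Nat.card ψ.ker = 3 := (Nat.dvd_prime (by norm_num)).1 hker
  rcases h2 with h2 | h2
  · rw [h2, mul_one] at h1
    exact (Dvd.intro_left 3 rfl).trans h1
  · rw [h2, mul_comm 3] at h1
    exact Nat.dvd_of_mul_dvd_mul_right (by norm_num) h1

/-- The presented O'Nan group is not trivial: `a b ≠ 1`. -/
theorem ab_ne_one : (PresentedGroup.of Gen.a * PresentedGroup.of Gen.b : Cfsg.Spor.ON) ≠ 1 := by
  intro h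
  have h1 := congrArg rho h
  rw [map_mul, map_one, rho_of, rho_of, ← map_mul, pr_eq_one_iff] at h1
  have h2 : ((gs .a * gs .b : SL45) : M45) = toMat 45 (ev [.a, .b]) := by
    rw [toMat_ev, aux2]
    rfl
  have h4 : ∀ c : ℕ, c < 7 → Nat.beq (ev [.a, .b]) (pS c) = false →
      ((gs .a * gs .b : SL45) : M45) ≠ (c : ZMod 7) • (1 : M45) := by
    intro c hc hb hr
    rw [h2, ← toMat_S c hc] at hr
    rw [toMat_inj (ok_ev _) (ok_S c hc) hr, Nat.beq_refl] at hb
    exact absurd hb (by simp)
  rcases center_cases h1 with h5 | h5 | h5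
  · exact h4 1 (by norm_num) (by decide +kernel) (by rw [h5, Nat.cast_one])
  · exact h4 2 (by norm_num) (by decide +kernel) h5
  · exact h4 4 (by norm_num) (by decide +kernel) h5

/-! ### Consequences of the upper bound -/

theorem card_of_le [Finite Cfsg.Spor.ON] (h : Nat.card Cfsg.Spor.ON ≤ 460815505920) :
    Nat.card Cfsg.Spor.ON = 460815505920 ∧ Function.Injective rho := by
  have h1 : Nat.card rho.range ≤ Nat.card Cfsg.Spor.ON :=
    Nat.card_le_card_of_surjective rho.rangeRestrict rho.rangeRestrict_surjective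
  have : Finite rho.range := Finite.of_surjective rho.rangeRestrict rho.rangeRestrict_surjective
  have h2 : 460815505920 ≤ Nat.card rho.range := Nat.le_of_dvd Nat.card_pos dvd_card_range
  have h3 : Nat.card Cfsg.Spor.ON = 460815505920 := le_antisymm h (h2.trans h1)
  refine ⟨h3, ?_⟩
  have h4 : Function.Bijective rho.rangeRestrict :=
    rho.rangeRestrict_surjective.bijective_of_nat_card_le (by omega)
  intro x y hxy
  exact h4.1 (Subtype.ext hxy)

/-- a scalar factor of a commutation relation with an element of order dividing 4 -/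
theorem factor_eq_one {M A : M45} {r : ZMod 7} (hM : M ≠ 0) (h : M * A = r • (A * M)) (hA : A ^ 4 = 1)
    (hr : r ^ 3 = 1) : r = 1 := by
  have key : ∀ n : ℕ, M * A ^ n = r ^ n • (A ^ n * M) := by
    intro n
    induction n with
    | zero => simp
    | succ n ih =>
      rw [pow_succ, ← mul_assoc, ih, smul_mul_assoc, mul_assoc, h, mul_smul_comm, smul_smul, ← mul_assoc,
        pow_succ]
  have h4 := key 4
  rw [hA, mul_one, one_mul] at h4
  have h5 : r ^ 4 = r := by
    rw [pow_succ, hr, one_mul]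
  rw [h5] at h4
  obtain ⟨i, j, hij⟩ : ∃ i j, M i j ≠ 0 := by
    by_contra hcon
    push Not at hcon
    exact hM (by ext i j; exact hcon i j)
  have h6 := congrFun (congrFun h4 i) j
  rw [Matrix.smul_apply, smul_eq_mul] at h6
  have h7 : (r - 1) * M i j = 0 := by rw [sub_mul, one_mul, ← h6, sub_self]
  have hz : ∀ x y : ZMod 7, x * y = 0 → x = 0 ∨ y = 0 := by decide
  rcases hz _ _ h7 with h8 | h8
  · exact sub_eq_zero.1 h8
  · exact absurd h8 hij

theorem mat_pow_four (x : Gen) : mat x ^ 4 = 1 := by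
  have hsq : ∀ A : M45, A * A = 1 → A ^ 4 = 1 := by
    intro A hA
    have : A ^ 4 = (A * A) * (A * A) := by rw [← pow_two, ← pow_two, ← pow_mul]
    rw [this, hA, mul_one]
  have h := mrels
  cases x
  · have h8 : mat .g ^ 4 = (mat .g * mat .g) * (mat .g * mat .g) := by
      rw [← pow_two, ← pow_two, ← pow_mul]
    rw [h8, ← h.afgg]
    calc (mat .a * mat .f) * (mat .a * mat .f) = (mat .a * mat .f) * (mat .f * mat .a) := by rw [h.af]
      _ = mat .a * (mat .f * mat .f) * mat .a := by simp only [mul_assoc]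
      _ = 1 := by rw [h.ff, mul_one, h.aa]
  · exact hsq _ h.aa
  · exact hsq _ h.bb
  · exact hsq _ h.cc
  · exact hsq _ h.dd
  · exact hsq _ h.ee
  · exact hsq _ h.ff

/-- The centre of the presented O'Nan group is trivial if `rho` is injective. -/
theorem center_eq_bot (hinj : Function.Injective rho) : Subgroup.center Cfsg.Spor.ON = ⊥ := by
  rw [eq_bot_iff]
  intro z hz
  rw [Subgroup.mem_bot]
  apply hinj
  rw [map_one]
  obtain ⟨M, hM⟩ : ∃ M : SL45, pr M = rho z := QuotientGroup.mk'_surjective _ _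
  have hM0 : (M : M45) ≠ 0 := by
    intro h
    have h1 : (M : M45).det = 1 := M.2
    rw [h, Matrix.det_zero] at h1
    exact absurd h1 (by decide)
  have hcomm : ∀ x : Gen, (M : M45) * mat x = mat x * (M : M45) := by
    intro x
    have h1 : pr (M * gs x) = pr (gs x * M) := by
      rw [map_mul, map_mul, hM, ← rho_of, ← map_mul, ← map_mul, Subgroup.mem_center_iff.1 hz]
    have h2 : pr ((gs x * M)⁻¹ * (M * gs x)) = 1 := by rw [map_mul, map_inv, h1, inv_mul_cancel]
    have h3 : ∃ r : ZMod 7, r ^ 3 = 1 ∧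
        (((gs x * M)⁻¹ * (M * gs x) : SL45) : M45) = r • (1 : M45) := by
      rcases center_cases (pr_eq_one_iff.1 h2) with h | h | h
      · exact ⟨1, by decide, h⟩
      · exact ⟨2, by decide, h⟩
      · exact ⟨4, by decide, h⟩
    obtain ⟨r, hr3, hr⟩ := h3
    have h4 : (M : M45) * mat x = r • (mat x * (M : M45)) := by
      have h5 : M * gs x = (gs x * M) * ((gs x * M)⁻¹ * (M * gs x)) := by group
      have h6 : ((M * gs x : SL45) : M45) =
          ((gs x * M : SL45) : M45) * (((gs x * M)⁻¹ * (M * gs x) : SL45) : M45) := by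
        conv_lhs => rw [h5]
        exact Matrix.SpecialLinearGroup.coe_mul _ _
      rw [hr, mul_smul_comm, mul_one] at h6
      exact h6
    have h5 := factor_eq_one hM0 h4 (mat_pow_four x) hr3
    rw [h5, one_smul] at h4
    exact h4
  obtain ⟨μ, hμ⟩ := ON45Schur.scalar_of_commute _ hcomm
  rw [← hM]
  exact pr_eq_one_of_smul μ hμ

end Cfsg.Agent.SporRec.ONLower
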