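import Cfsg.Agent.SporRec.ONL37
import Cfsg.Agent.Lib.SimpleByPrime

/-!
Simplicity of a group generated by `L₃(7):2` (as a subgroup of index 122760) and an element `g`
satisfying the O'Nan relations, if its centre lies in the subgroup.
-/

set_option autoImplicit false

namespace Cfsg.Agent.SporRec.ONSimple

open Cfsg.Agent.SporRec.ONL37

theorem outer_mul_outer_mem (A B : SL37) : outer A * outer B ∈ N0 := by
  rw [outer_mul_outer]
  exact inner_mem_N0 _

/-- The data: a copy of `L₃(7):2` and an element `g` with the O'Nan relations. -/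
structure IsONPair {G : Type*} [Group G] (φ : Q →* G) (g : G) : Prop where
  inj : Function.Injective φ
  index : φ.range.index = 122760
  gen : ∀ N : Subgroup G, φ.range ≤ N → g ∈ N → N = ⊤
  g_sq : φ qa * φ qf = g ^ 2
  rel1 : (φ qb * φ qc * φ qd * g) ^ 5 = 1
  rel2 : g * φ qb * ((φ qc)⁻¹ * g * φ qc) * ((φ qb)⁻¹ * g * φ qb) * ((φ qc)⁻¹ * g * φ qc) = 1

variable {G : Type*} [Group G] {φ : Q →* G} {g : G}

theorem IsONPair.card_range (h : IsONPair φ g) : Nat.card φ.range = 3753792 := by
  rw [← card_Q]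
  exact (Nat.card_congr (MonoidHom.ofInjective h.inj).toEquiv).symm

theorem IsONPair.card (h : IsONPair φ g) : Nat.card G = 460815505920 := by
  rw [← Subgroup.card_mul_index φ.range, h.card_range, h.index]

theorem IsONPair.finite (h : IsONPair φ g) : Finite G :=
  Nat.finite_of_card_ne_zero (by rw [h.card]; norm_num)

theorem IsONPair.eq_top (h : IsONPair φ g) (N : Subgroup G) [hN : N.Normal]
    (hN0 : N0.map φ ≤ N) : N = ⊤ := by
  let π : G →* G ⧸ N := QuotientGroup.mk' N
  have hπ : ∀ x, π x = 1 ↔ x ∈ N := fun x => QuotientGroup.eq_one_iff x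
  have key : ∀ A B : SL37, π (φ (outer A)) * π (φ (outer B)) = 1 := by
    intro A B
    rw [← map_mul, ← map_mul, hπ]
    exact hN0 ⟨_, outer_mul_outer_mem A B, rfl⟩
  obtain ⟨s, hs⟩ : ∃ s, s = π (φ qa) := ⟨_, rfl⟩
  have hss : s * s = 1 := by rw [hs]; exact key _ _
  have hall : ∀ A, π (φ (outer A)) = s := by
    intro A
    have h1 := key (sl mA) A
    change π (φ qa) * _ = 1 at h1
    rw [← hs] at h1
    rw [← mul_right_inj s, h1, hss]
  have hsinv : s⁻¹ = s := inv_eq_of_mul_eq_one_left hss
  have hg2 : π g ^ 2 = 1 := by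
    rw [← map_pow, ← h.g_sq, map_mul]
    exact key _ _
  have hb : π (φ qb) = s := hall _
  have hc : π (φ qc) = s := hall _
  have hd : π (φ qd) = s := hall _
  have h2 := congrArg π h.rel2
  simp only [map_mul, map_inv, map_one, hb, hc, hsinv] at h2
  have hg4 : π g * π g = 1 := by rw [← pow_two, hg2]
  have hs1 : s = 1 := by
    have e : π g * s * (s * π g * s) * (s * π g * s) * (s * π g * s) =
        π g * (s * s) * π g * (s * s) * π g * (s * s) * π g * s := by group
    rw [e, hss] at h2
    simp only [mul_one] at h2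
    rw [hg4, one_mul, hg4, one_mul] at h2
    exact h2
  have h1 := congrArg π h.rel1
  simp only [map_pow, map_mul, map_one, hb, hc, hd, hs1, one_mul] at h1
  have hg1 : π g = 1 := by
    have e : π g ^ 5 = π g ^ 2 * π g ^ 2 * π g := by group
    rw [e, hg2, one_mul, one_mul] at h1
    exact h1
  have hqf : φ qf ∈ N := by
    rw [← hπ, show π (φ qf) = s from hall _, hs1]
  apply h.gen N _ ((hπ g).mp hg1)
  rintro _ ⟨x, rfl⟩
  have hx : x ∈ Subgroup.closure ({qa, qb, qc, qd, qe, qf} : Set Q) := by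
    rw [closure_gens]
    trivial
  have hmem : ∀ A, φ (outer A) ∈ N := by
    intro A
    rw [← hπ, hall, hs1]
  have hle : Subgroup.closure ({qa, qb, qc, qd, qe, qf} : Set Q) ≤ N.comap φ := by
    rw [Subgroup.closure_le]
    intro y hy
    simp only [Set.mem_insert_iff, Set.mem_singleton_iff] at hy
    rcases hy with rfl | rfl | rfl | rfl | rfl | rfl <;> exact hmem _
  exact hle hx

theorem nontrivial_PSL37 : Nontrivial PSL37 := simple_PSL37.toNontrivial

theorem card_N0 : Nat.card N0 = 1876896 := by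
  rw [Nat.card_congr N0_equiv.toEquiv, card_PSL37]

theorem simple_N0 : IsSimpleGroup N0 :=
  haveI := simple_PSL37
  haveI : Nontrivial N0 := N0_equiv.toEquiv.nontrivial
  IsSimpleGroup.isSimpleGroup_of_surjective N0_equiv.symm.toMonoidHom N0_equiv.symm.surjective

/-- A proper normal subgroup meets `PSL(3,7)` trivially. -/
theorem IsONPair.disjoint (h : IsONPair φ g) (N : Subgroup G) [hN : N.Normal] (hne : N ≠ ⊤)
    (x : Q) (hx : x ∈ N0) (hxN : φ x ∈ N) : x = 1 := by
  have hs := simple_N0
  have hn : (N.comap (φ.comp N0.subtype)).Normal := hN.comap _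
  rcases hs.eq_bot_or_eq_top_of_normal _ hn with h1 | h1
  · have : (⟨x, hx⟩ : N0) ∈ N.comap (φ.comp N0.subtype) := hxN
    rw [h1, Subgroup.mem_bot] at this
    exact congrArg Subtype.val this
  · exfalso
    apply hne
    apply h.eq_top N
    rintro _ ⟨y, hy, rfl⟩
    have : (⟨y, hy⟩ : N0) ∈ N.comap (φ.comp N0.subtype) := by rw [h1]; trivial
    exact this

theorem IsONPair.card_dvd (h : IsONPair φ g) (N : Subgroup G) [hN : N.Normal] (hne : N ≠ ⊤) :
    Nat.card N ∣ 245520 := by
  have hfin := h.finite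
  have h1 : Nat.card (N ⊔ N0.map φ : Subgroup G) = Nat.card N * 1876896 := by
    have h2 : Nat.card (N0.map φ) = 1876896 := by
      rw [← card_N0]
      exact (Nat.card_congr (N0.equivMapOfInjective φ h.inj).toEquiv).symm
    have h3 : Disjoint N (N0.map φ) := by
      rw [disjoint_iff, eq_bot_iff]
      rintro _ ⟨hy, x, hx, rfl⟩
      rw [h.disjoint N hne x hx hy, map_one]
      exact Subgroup.one_mem _
    have h4 : (⊥ : Subgroup G).relIndex N * N.relIndex (N ⊔ N0.map φ) =
        (⊥ : Subgroup G).relIndex (N ⊔ N0.map φ) := Subgroup.relIndex_mul_relIndex _ _ _ bot_le le_sup_left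
    rw [Subgroup.relIndex_bot_left, Subgroup.relIndex_bot_left, Subgroup.relIndex_sup_left,
      ← Subgroup.inf_relIndex_right, disjoint_iff.mp h3, Subgroup.relIndex_bot_left, h2] at h4
    exact h4.symm
  have h2 : Nat.card (N ⊔ N0.map φ : Subgroup G) ∣ Nat.card G := Subgroup.card_subgroup_dvd_card _
  rw [h1, h.card] at h2
  have h3 : (460815505920 : ℕ) = 245520 * 1876896 := by norm_num
  rw [h3] at h2
  exact Nat.dvd_of_mul_dvd_mul_right (by norm_num) h2

theorem center_Q : Subgroup.center Q = ⊥ := by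
  by_contra hne
  have h1 := N0_le_of_normal (Subgroup.center Q) hne
  have h2 : inner (sl ⟨1, 1, 0, 0, 1, 0, 0, 0, 1⟩) * inner (sl ⟨1, 0, 0, 1, 1, 0, 0, 0, 1⟩) =
      inner (sl ⟨1, 0, 0, 1, 1, 0, 0, 0, 1⟩) * inner (sl ⟨1, 1, 0, 0, 1, 0, 0, 0, 1⟩) :=
    Subgroup.mem_center_iff.mp (h1 (inner_mem_N0 _)) _
  rw [← inner_mul, ← inner_mul, sl_mul _ _ ⟨2, 1, 0, 1, 1, 0, 0, 0, 1⟩ rfl rfl rfl rfl,
    sl_mul _ _ ⟨1, 1, 0, 1, 2, 0, 0, 0, 1⟩ rfl rfl rfl rfl] at h2
  have h3 : inner (sl ⟨2, 1, 0, 1, 1, 0, 0, 0, 1⟩ * sl ⟨2, 6, 0, 6, 1, 0, 0, 0, 1⟩) = 1 := by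
    rw [inner_mul, h2, ← inner_mul, sl_mul _ _ ⟨1, 0, 0, 0, 1, 0, 0, 0, 1⟩ rfl rfl rfl rfl, sl_one,
      inner_one]
  rw [sl_mul _ _ ⟨3, 6, 0, 1, 0, 0, 0, 0, 1⟩ rfl rfl rfl rfl, inner_eq_one_iff,
    Matrix.SpecialLinearGroup.mem_center_iff] at h3
  obtain ⟨r, _, h4⟩ := h3
  have h5 := congrFun (congrFun h4 0) 1
  have h6 : (sl ⟨3, 6, 0, 1, 0, 0, 0, 0, 1⟩ : SL37).1 0 1 = 6 := by decide
  rw [h6] at h5
  simp at h5
  exact absurd h5.symm (by decide)

/-- The main theorem: simplicity from the data and the centre lying in the subgroup. -/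
theorem IsONPair.isSimpleGroup (h : IsONPair φ g)
    (hcen : Subgroup.center G ≤ φ.range) : IsSimpleGroup G := by
  have hfin := h.finite
  have hcen' : Subgroup.center G = ⊥ := by
    rw [eq_bot_iff]
    intro z hz
    obtain ⟨y, rfl⟩ := hcen hz
    have hy : y ∈ Subgroup.center Q := by
      rw [Subgroup.mem_center_iff]
      intro x
      apply h.inj
      rw [map_mul, map_mul]
      exact Subgroup.mem_center_iff.mp hz _
    rw [center_Q, Subgroup.mem_bot] at hy
    rw [hy, map_one]
    exact Subgroup.one_mem _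
  have hnt : Nontrivial G := by
    rw [← Finite.one_lt_card_iff_nontrivial, h.card]
    norm_num
  refine ⟨fun N hN => ?_⟩
  by_cases hne : N = ⊤
  · right; exact hne
  left
  have hdvd := h.card_dvd N hne
  haveI : Fact (Nat.Prime 19) := ⟨by norm_num⟩
  haveI : Finite N0 := Nat.finite_of_card_ne_zero (by rw [card_N0]; norm_num)
  obtain ⟨x, hx⟩ := exists_prime_orderOf_dvd_card' (G := N0) 19 (by rw [card_N0]; norm_num)
  have hx19 : (φ x.1) ^ 19 = 1 := by
    rw [← map_pow]
    have : x ^ 19 = 1 := by rw [← hx]; exact pow_orderOf_eq_one x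
    have h2 : (x.1) ^ 19 = 1 := congrArg Subtype.val this
    rw [h2, map_one]
  have hcomm := Lib.SimpleByPrime.commute_of_normal (p := 19) (by norm_num) N
    (fun hd => by
      have := hd.trans hdvd
      norm_num at this)
    (fun r i hr hi hri hmod => by
      have h1 : r ^ i ∣ 245520 := hri.trans hdvd
      have hr1 : r ∣ 245520 := (dvd_pow_self r hi.ne').trans h1
      have hr2 : r = 2 ∨ r = 3 ∨ r = 5 ∨ r = 11 ∨ r = 31 := by
        have hf : (245520 : ℕ) = 2 ^ 4 * 3 ^ 2 * 5 * 11 * 31 := by norm_num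
        rw [hf] at hr1
        have hp := hr.prime
        rcases hp.dvd_or_dvd hr1 with h2 | h2
        · rcases hp.dvd_or_dvd h2 with h2 | h2
          · rcases hp.dvd_or_dvd h2 with h2 | h2
            · rcases hp.dvd_or_dvd h2 with h2 | h2
              · left; exact (Nat.prime_dvd_prime_iff_eq hr Nat.prime_two).mp (hp.dvd_of_dvd_pow h2)
              · right; left
                exact (Nat.prime_dvd_prime_iff_eq hr Nat.prime_three).mp (hp.dvd_of_dvd_pow h2)
            · right; right; left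
              exact (Nat.prime_dvd_prime_iff_eq hr Nat.prime_five).mp h2
          · right; right; right; left
            exact (Nat.prime_dvd_prime_iff_eq hr (by norm_num)).mp h2
        · right; right; right; right
          exact (Nat.prime_dvd_prime_iff_eq hr (by norm_num)).mp h2
      have hi5 : i < 5 := by
        by_contra hi5
        have h3 : r ^ 5 ∣ 245520 := (pow_dvd_pow r (not_lt.mp hi5)).trans h1
        rcases hr2 with rfl | rfl | rfl | rfl | rfl <;> norm_num at h3
      rcases hr2 with rfl | rfl | rfl | rfl | rfl <;> interval_cases i <;>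
        first
        | exact absurd hmod (by decide)
        | exact absurd h1 (by norm_num))
    (φ x.1) hx19
  have hC : Subgroup.centralizer (N : Set G) = ⊤ := by
    by_contra hC
    have hxC : φ x.1 ∈ Subgroup.centralizer (N : Set G) := by
      rw [Subgroup.mem_centralizer_iff]
      intro y hy
      exact (hcomm y hy).symm
    have := h.disjoint (Subgroup.centralizer (N : Set G)) hC x.1 x.2 hxC
    have hx1 : x = 1 := Subtype.ext this
    rw [hx1, orderOf_one] at hx
    norm_num at hx
  rw [eq_bot_iff, ← hcen']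
  exact Subgroup.centralizer_eq_top_iff_subset.mp hC

end Cfsg.Agent.SporRec.ONSimple
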