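import Cfsg.Agent.SporRec.ONAssembly
import Cfsg.Agent.SporRec.ONLower
import Cfsg.Agent.SporRec.ONSimple
import Cfsg.Prelude.Def_Sporadic

/-!
The O'Nan group: from the upper bound `122760` for the index of `⟨a, …, f⟩` to the exact index and simplicity.
-/

set_option autoImplicit false

namespace Cfsg.Agent.SporRec.ONFinal

open Cfsg.Agent.SporRec.ONL37 Cfsg.Agent.SporRec.ONAssembly Cfsg.Agent.SporRec.ONLower
open Cfsg.Spor.ON (Gen extra edges)

theorem rel_mk {r : FreeGroup Gen} (hr : r ∈ extra) :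
    PresentedGroup.mk (Cfsg.Spor.coxRelators edges ∪ {r | r ∈ extra}) r = 1 :=
  PresentedGroup.one_of_mem (Or.inr hr)

theorem eq_top_of_gen (N : Subgroup Cfsg.Spor.ON)
    (h : ∀ x : Gen, (PresentedGroup.of x : Cfsg.Spor.ON) ∈ N) : N = ⊤ := by
  rw [eq_top_iff, ← PresentedGroup.closure_range_of, Subgroup.closure_le]
  rintro _ ⟨x, rfl⟩
  exact h x

variable (h0 : ONAssembly.H.index ≠ 0) (hle : ONAssembly.H.index ≤ 122760)

include h0 hle

theorem index_eq : ONAssembly.H.index = 122760 ∧ Nat.card Cfsg.Spor.ON = 460815505920 ∧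
    Function.Injective rho := by
  have hH := card_H ab_ne_one
  have hmul : Nat.card ONAssembly.H * ONAssembly.H.index = Nat.card Cfsg.Spor.ON :=
    Subgroup.card_mul_index _
  rw [hH] at hmul
  have hpos : Nat.card Cfsg.Spor.ON ≠ 0 := by
    rw [← hmul]
    exact Nat.mul_ne_zero (by norm_num) h0
  have : Finite Cfsg.Spor.ON := Nat.finite_of_card_ne_zero hpos
  have hle' : Nat.card Cfsg.Spor.ON ≤ 460815505920 := by
    rw [← hmul]
    calc 3753792 * ONAssembly.H.index ≤ 3753792 * 122760 := Nat.mul_le_mul_left _ hle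
      _ = 460815505920 := by norm_num
  obtain ⟨h1, h2⟩ := card_of_le hle'
  refine ⟨?_, h1, h2⟩
  rw [h1] at hmul
  omega

theorem isONPair : ONSimple.IsONPair theta (PresentedGroup.of Gen.g : Cfsg.Spor.ON) where
  inj := theta_injective ab_ne_one
  index := by
    rw [range_theta_eq]
    exact (index_eq h0 hle).1
  gen := by
    intro N hN hg
    have h : ∀ q, theta q ∈ N := fun q => hN ⟨q, rfl⟩
    apply eq_top_of_gen
    intro x
    cases x
    · exact hg
    · rw [← theta_qa]; exact h _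
    · rw [← theta_qb]; exact h _
    · rw [← theta_qc]; exact h _
    · rw [← theta_qd]; exact h _
    · rw [← theta_qe]; exact h _
    · rw [← theta_qf]; exact h _
  g_sq := by
    rw [theta_qa, theta_qf]
    have h := rel_mk (r := (Cfsg.Spor.ON.a * Cfsg.Spor.ON.f) * ((Cfsg.Spor.ON.g ^ 2)⁻¹)) (.head _)
    rw [map_mul, map_inv, map_mul, map_pow] at h
    exact mul_inv_eq_one.1 h
  rel1 := by
    rw [theta_qb, theta_qc, theta_qd]
    have h := rel_mk (r := (Cfsg.Spor.ON.b * Cfsg.Spor.ON.c * Cfsg.Spor.ON.d * Cfsg.Spor.ON.g) ^ 5)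
      (.tail _ (.tail _ (.tail _ (.tail _ (.head _)))))
    rw [map_pow, map_mul, map_mul, map_mul] at h
    exact h
  rel2 := by
    rw [theta_qb, theta_qc]
    have h := rel_mk (r := Cfsg.Spor.ON.g * Cfsg.Spor.ON.b *
      (Cfsg.Spor.ON.c⁻¹ * Cfsg.Spor.ON.g * Cfsg.Spor.ON.c) *
      (Cfsg.Spor.ON.b⁻¹ * Cfsg.Spor.ON.g * Cfsg.Spor.ON.b) *
      (Cfsg.Spor.ON.c⁻¹ * Cfsg.Spor.ON.g * Cfsg.Spor.ON.c))
      (.tail _ (.tail _ (.tail _ (.tail _ (.tail _ (.head _))))))
    simp only [map_mul, map_inv] at h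
    exact h

/-- Simplicity and order of the presented O'Nan group. -/
theorem isON : Cfsg.IsON Cfsg.Spor.ON := by
  obtain ⟨_, h1, h2⟩ := index_eq h0 hle
  refine ⟨(isONPair h0 hle).isSimpleGroup ?_, h1⟩
  rw [center_eq_bot h2]
  exact bot_le

end Cfsg.Agent.SporRec.ONFinal
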