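import Cfsg.Agent.SporRec.ONBulkIndex

/-!
The subgroup `⟨a, …, f⟩` of the presented O'Nan group has index at most `122760`.
-/

set_option autoImplicit false

namespace Cfsg.Agent.SporRec.ONIndexUpper

/-- The index of `⟨a, …, f⟩` in the presented O'Nan group is at most `122760`. -/
theorem index_le : ONAssembly.H.index ≤ 122760 := ONBulkIndex.index_aux.2

theorem index_ne_zero : ONAssembly.H.index ≠ 0 := ONBulkIndex.index_aux.1

end Cfsg.Agent.SporRec.ONIndexUpper
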