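import Cfsg.Agent.SporRec.LyHexRel

/-!
# The BN-pair count for `G₂(5)`

A group generated by elements satisfying `RelP` and `RelN` has order at most `5859000000`.
-/

set_option autoImplicit false
set_option linter.dupNamespace false
set_option linter.unusedSectionVars false

namespace Cfsg.Agent.SporRec.LyHexCount

open Subgroup Cfsg.Agent.SporRec.LyHexRel

section closure

variable {H : Type*} [Group H]

theorem conj_closure {g : H} {S : Set H} {L : Subgroup H} (h : ∀ s ∈ S, g * s * g⁻¹ ∈ L) :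
    ∀ k ∈ closure S, g * k * g⁻¹ ∈ L := by
  intro k hk
  have : closure S ≤ L.comap (MulAut.conj g).toMonoidHom := by
    rw [closure_le]
    exact fun s hs => h s hs
  exact this hk

theorem closure_insert_eq (x : H) (S : Set H) : closure (insert x S) = zpowers x ⊔ closure S := by
  rw [Set.insert_eq, Subgroup.closure_union, ← zpowers_eq_closure]

theorem mem_insert_closure {x : H} {S : Set H} (h : ∀ s ∈ S, x * s * x⁻¹ ∈ closure S) {n : ℕ} (hn : 0 < n)
    (hx : x ^ n = 1) {g : H} : g ∈ closure (insert x S) ↔ ∃ i < n, ∃ k ∈ closure S, g = x ^ i * k := by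
  rw [closure_insert_eq]
  exact mem_zpowers_sup (zpowers_le_normalizer (conj_closure h) n hn hx) hn hx

theorem card_insert_closure {x : H} {S : Set H} (h : ∀ s ∈ S, x * s * x⁻¹ ∈ closure S) {n : ℕ} (hn : 0 < n)
    (hx : x ^ n = 1) {c : ℕ} (hc : Finite (closure S) ∧ Nat.card (closure S) ≤ c) :
    Finite (closure (insert x S)) ∧ Nat.card (closure (insert x S)) ≤ n * c := by
  rw [closure_insert_eq]
  exact card_zpowers_sup_le (zpowers_le_normalizer (conj_closure h) n hn hx) hn hx hc.1 hc.2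

theorem card_singleton_closure {x : H} {n : ℕ} (hn : 0 < n) (hx : x ^ n = 1) :
    Finite (closure ({x} : Set H)) ∧ Nat.card (closure ({x} : Set H)) ≤ n := by
  have hfin : IsOfFinOrder x := isOfFinOrder_iff_pow_eq_one.2 ⟨n, hn, hx⟩
  rw [← zpowers_eq_closure]
  refine ⟨(finite_zpowers.2 hfin).to_subtype, ?_⟩
  rw [Nat.card_zpowers]
  exact Nat.le_of_dvd hn (orderOf_dvd_of_pow_eq_one hx)

end closure

/-- Membership of a word in a subgroup generated by letters. -/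
macro "mem_word" : tactic => `(tactic| (repeat' first
  | apply mul_mem | apply pow_mem | apply inv_mem | exact subset_closure (by simp)))

section basic

variable {H : Type*} [Group H] (e : Els H)

/-- `⟨x₁₀, x₁₁⟩` -/
def K10 : Subgroup H := closure {e.x10, e.x11}
def K9 : Subgroup H := closure {e.x9, e.x10, e.x11}
def K8 : Subgroup H := closure {e.x8, e.x9, e.x10, e.x11}
/-- `O₅(P₂)` -/
def R : Subgroup H := closure {e.x7, e.x8, e.x9, e.x10, e.x11}
/-- `O₅(P₁)` -/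
def E : Subgroup H := closure {e.x6, e.x8, e.x9, e.x10, e.x11}
def U : Subgroup H := closure {e.x6, e.x7, e.x8, e.x9, e.x10, e.x11}
def T : Subgroup H := closure {e.t6, e.t7}
def Q1 : Subgroup H := closure {e.x7, e.x8, e.x9, e.x10, e.x11, e.t6, e.t7}
def Q2 : Subgroup H := closure {e.x6, e.x8, e.x9, e.x10, e.x11, e.t6, e.t7}
def B : Subgroup H := closure {e.x6, e.x7, e.x8, e.x9, e.x10, e.x11, e.t6, e.t7}
def P : Subgroup H := closure {e.x6, e.x7, e.x8, e.x9, e.x10, e.x11, e.t6, e.t7, e.A}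

variable {e}

theorem conj_of_comm {a b w : H} (h : a * b * a⁻¹ * b⁻¹ = w) : a * b * a⁻¹ = w * b := by
  rw [← h]; group

theorem conj_of_comm' {a b w : H} (h : a * b * a⁻¹ * b⁻¹ = w) : b * a * b⁻¹ = w⁻¹ * a := by
  rw [← h]; group

theorem conj_of_eq {a b : H} (h : a * b = b * a) : a * b * a⁻¹ = b := by
  rw [h, mul_inv_cancel_right]

theorem conj_of_eq' {a b : H} (h : b * a = a * b) : a * b * a⁻¹ = b := by
  rw [← h, mul_inv_cancel_right]

variable (h : RelP e)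
include h

theorem norm_10 : ∀ s ∈ ({e.x11} : Set H), e.x10 * s * e.x10⁻¹ ∈ closure ({e.x11} : Set H) := by
  rintro s rfl
  rw [conj_of_eq h.c1011]; mem_word

theorem norm_9 : ∀ s ∈ ({e.x10, e.x11} : Set H), e.x9 * s * e.x9⁻¹ ∈ closure ({e.x10, e.x11} : Set H) := by
  rintro s (rfl | rfl)
  · rw [conj_of_eq h.c910]; mem_word
  · rw [conj_of_eq h.c911]; mem_word

theorem norm_8 : ∀ s ∈ ({e.x9, e.x10, e.x11} : Set H),
    e.x8 * s * e.x8⁻¹ ∈ closure ({e.x9, e.x10, e.x11} : Set H) := by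
  rintro s (rfl | rfl | rfl)
  · rw [conj_of_comm h.c89]; mem_word
  · rw [conj_of_eq h.c810]; mem_word
  · rw [conj_of_eq h.c811]; mem_word

theorem norm_7 : ∀ s ∈ ({e.x8, e.x9, e.x10, e.x11} : Set H),
    e.x7 * s * e.x7⁻¹ ∈ closure ({e.x8, e.x9, e.x10, e.x11} : Set H) := by
  rintro s (rfl | rfl | rfl | rfl)
  · rw [conj_of_comm h.c78]; mem_word
  · rw [conj_of_comm h.c79]; mem_word
  · rw [conj_of_eq h.c710]; mem_word
  · rw [conj_of_eq h.c711]; mem_word

theorem norm_68 : ∀ s ∈ ({e.x8, e.x9, e.x10, e.x11} : Set H),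
    e.x6 * s * e.x6⁻¹ ∈ closure ({e.x8, e.x9, e.x10, e.x11} : Set H) := by
  rintro s (rfl | rfl | rfl | rfl)
  · rw [conj_of_eq h.c68]; mem_word
  · rw [conj_of_eq h.c69]; mem_word
  · rw [conj_of_comm h.c610]; mem_word
  · rw [conj_of_eq h.c611]; mem_word

theorem norm_6 : ∀ s ∈ ({e.x7, e.x8, e.x9, e.x10, e.x11} : Set H),
    e.x6 * s * e.x6⁻¹ ∈ closure ({e.x7, e.x8, e.x9, e.x10, e.x11} : Set H) := by
  rintro s (rfl | rfl | rfl | rfl | rfl)
  · rw [conj_of_comm h.c67]; mem_word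
  · rw [conj_of_eq h.c68]; mem_word
  · rw [conj_of_eq h.c69]; mem_word
  · rw [conj_of_comm h.c610]; mem_word
  · rw [conj_of_eq h.c611]; mem_word

theorem norm_7E : ∀ s ∈ ({e.x6, e.x8, e.x9, e.x10, e.x11} : Set H),
    e.x7 * s * e.x7⁻¹ ∈ closure ({e.x6, e.x8, e.x9, e.x10, e.x11} : Set H) := by
  rintro s (rfl | rfl | rfl | rfl | rfl)
  · rw [conj_of_comm' h.c67]; mem_word
  · rw [conj_of_comm h.c78]; mem_word
  · rw [conj_of_comm h.c79]; mem_word
  · rw [conj_of_eq h.c710]; mem_word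
  · rw [conj_of_eq h.c711]; mem_word

theorem norm_t7U : ∀ s ∈ ({e.x6, e.x7, e.x8, e.x9, e.x10, e.x11} : Set H),
    e.t7 * s * e.t7⁻¹ ∈ closure ({e.x6, e.x7, e.x8, e.x9, e.x10, e.x11} : Set H) := by
  rintro s (rfl | rfl | rfl | rfl | rfl | rfl)
  · rw [h.s76]; mem_word
  · rw [h.s77]; mem_word
  · rw [h.s78]; mem_word
  · rw [h.s79]; mem_word
  · rw [h.s710]; mem_word
  · rw [h.s711]; mem_word

theorem norm_t6U : ∀ s ∈ ({e.t7, e.x6, e.x7, e.x8, e.x9, e.x10, e.x11} : Set H),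
    e.t6 * s * e.t6⁻¹ ∈ closure ({e.t7, e.x6, e.x7, e.x8, e.x9, e.x10, e.x11} : Set H) := by
  rintro s (rfl | rfl | rfl | rfl | rfl | rfl | rfl)
  · rw [conj_of_eq h.q67]; mem_word
  · rw [h.s66]; mem_word
  · rw [h.s67]; mem_word
  · rw [h.s68]; mem_word
  · rw [h.s69]; mem_word
  · rw [h.s610]; mem_word
  · rw [h.s611]; mem_word

/-! ### Normal forms -/

theorem mem_K10 {g : H} (hg : g ∈ K10 e) : ∃ l m : ℕ, l < 5 ∧ m < 5 ∧ g = e.x10 ^ l * e.x11 ^ m := by
  obtain ⟨l, hl, k, hk, rfl⟩ := (mem_insert_closure (norm_10 h) (n := 5) (by norm_num) h.p10).1 hg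
  obtain ⟨m, hm, rfl⟩ : ∃ m < 5, k = e.x11 ^ m := by
    rw [← zpowers_eq_closure] at hk
    have hfin : IsOfFinOrder e.x11 := isOfFinOrder_iff_pow_eq_one.2 ⟨5, by norm_num, h.p11⟩
    classical
    have h1 := (hfin.mem_zpowers_iff_mem_range_orderOf).1 hk
    simp only [Finset.mem_image, Finset.mem_range] at h1
    obtain ⟨m, hm, rfl⟩ := h1
    exact ⟨m, lt_of_lt_of_le hm (Nat.le_of_dvd (by norm_num) (orderOf_dvd_of_pow_eq_one h.p11)), rfl⟩
  exact ⟨l, m, hl, hm, rfl⟩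

theorem mem_K9 {g : H} (hg : g ∈ K9 e) : ∃ i < 5, ∃ k ∈ K10 e, g = e.x9 ^ i * k :=
  (mem_insert_closure (norm_9 h) (n := 5) (by norm_num) h.p9).1 hg

theorem mem_K8 {g : H} (hg : g ∈ K8 e) : ∃ i < 5, ∃ k ∈ K9 e, g = e.x8 ^ i * k :=
  (mem_insert_closure (norm_8 h) (n := 5) (by norm_num) h.p8).1 hg

theorem mem_R {g : H} (hg : g ∈ R e) : ∃ i < 5, ∃ k ∈ K8 e, g = e.x7 ^ i * k :=
  (mem_insert_closure (norm_7 h) (n := 5) (by norm_num) h.p7).1 hg

theorem mem_E {g : H} (hg : g ∈ E e) : ∃ i < 5, ∃ k ∈ K8 e, g = e.x6 ^ i * k :=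
  (mem_insert_closure (norm_68 h) (n := 5) (by norm_num) h.p6).1 hg

theorem mem_U {g : H} (hg : g ∈ U e) : ∃ i < 5, ∃ k ∈ R e, g = e.x6 ^ i * k :=
  (mem_insert_closure (norm_6 h) (n := 5) (by norm_num) h.p6).1 hg

omit h in
theorem U_eq : U e = closure {e.x7, e.x6, e.x8, e.x9, e.x10, e.x11} := by
  rw [U, Set.insert_comm]

theorem mem_U' {g : H} (hg : g ∈ U e) : ∃ i < 5, ∃ k ∈ E e, g = e.x7 ^ i * k := by
  rw [U_eq] at hg
  exact (mem_insert_closure (norm_7E h) (n := 5) (by norm_num) h.p7).1 hg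

omit h in
theorem B_eq : B e = closure {e.t6, e.t7, e.x6, e.x7, e.x8, e.x9, e.x10, e.x11} := by
  unfold B
  congr 1
  ext x
  simp only [Set.mem_insert_iff, Set.mem_singleton_iff]
  tauto

theorem mem_B {g : H} (hg : g ∈ B e) : ∃ u ∈ U e, ∃ τ ∈ T e, g = u * τ := by
  have h1 : g⁻¹ ∈ closure {e.t6, e.t7, e.x6, e.x7, e.x8, e.x9, e.x10, e.x11} := by
    rw [← B_eq]; exact inv_mem hg
  obtain ⟨i, -, k, hk, h2⟩ := (mem_insert_closure (norm_t6U h) (n := 4) (by norm_num) h.q6).1 h1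
  obtain ⟨j, -, u, hu, rfl⟩ := (mem_insert_closure (norm_t7U h) (n := 4) (by norm_num) h.q7).1 hk
  refine ⟨u⁻¹, inv_mem hu, (e.t7 ^ j)⁻¹ * (e.t6 ^ i)⁻¹, ?_, ?_⟩
  · unfold T; mem_word
  · rw [← inv_inv g, h2]; group

omit h in
theorem T_le_Q1 : T e ≤ Q1 e := closure_mono (by intro x; simp only [Set.mem_insert_iff, Set.mem_singleton_iff]; tauto)

omit h in
theorem T_le_Q2 : T e ≤ Q2 e := closure_mono (by intro x; simp only [Set.mem_insert_iff, Set.mem_singleton_iff]; tauto)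

omit h in
theorem R_le_Q1 : R e ≤ Q1 e := closure_mono (by intro x; simp only [Set.mem_insert_iff, Set.mem_singleton_iff]; tauto)

omit h in
theorem E_le_Q2 : E e ≤ Q2 e := closure_mono (by intro x; simp only [Set.mem_insert_iff, Set.mem_singleton_iff]; tauto)

omit h in
theorem Q1_le_B : Q1 e ≤ B e := closure_mono (by intro x; simp only [Set.mem_insert_iff, Set.mem_singleton_iff]; tauto)

omit h in
theorem Q2_le_B : Q2 e ≤ B e := closure_mono (by intro x; simp only [Set.mem_insert_iff, Set.mem_singleton_iff]; tauto)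

theorem mem_B1 {g : H} (hg : g ∈ B e) : ∃ x ∈ zpowers e.x6, ∃ q ∈ Q1 e, g = x * q := by
  obtain ⟨u, hu, τ, hτ, rfl⟩ := mem_B h hg
  obtain ⟨i, -, r, hr, rfl⟩ := mem_U h hu
  exact ⟨e.x6 ^ i, npow_mem_zpowers _ _, r * τ, mul_mem (R_le_Q1 hr) (T_le_Q1 hτ), mul_assoc _ _ _⟩

theorem mem_B2 {g : H} (hg : g ∈ B e) : ∃ x ∈ zpowers e.x7, ∃ q ∈ Q2 e, g = x * q := by
  obtain ⟨u, hu, τ, hτ, rfl⟩ := mem_B h hg
  obtain ⟨i, -, r, hr, rfl⟩ := mem_U' h hu
  exact ⟨e.x7 ^ i, npow_mem_zpowers _ _, r * τ, mul_mem (E_le_Q2 hr) (T_le_Q2 hτ), mul_assoc _ _ _⟩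

theorem card_R : Finite (R e) ∧ Nat.card (R e) ≤ 3125 := by
  have h1 := card_singleton_closure (n := 5) (by norm_num) h.p11
  have h2 := card_insert_closure (norm_10 h) (n := 5) (by norm_num) h.p10 h1
  have h3 := card_insert_closure (norm_9 h) (n := 5) (by norm_num) h.p9 h2
  have h4 := card_insert_closure (norm_8 h) (n := 5) (by norm_num) h.p8 h3
  exact card_insert_closure (norm_7 h) (n := 5) (by norm_num) h.p7 h4

theorem card_B : Finite (B e) ∧ Nat.card (B e) ≤ 250000 := by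
  have h2 := card_insert_closure (norm_6 h) (n := 5) (by norm_num) h.p6 (card_R h)
  have h3 := card_insert_closure (norm_t7U h) (n := 4) (by norm_num) h.q7 h2
  rw [B_eq]
  exact card_insert_closure (norm_t6U h) (n := 4) (by norm_num) h.q6 h3

/-- `A` normalises `Q₂`. -/
theorem conj_A : ∀ q ∈ Q2 e, e.A * q * e.A⁻¹ ∈ Q2 e := by
  apply conj_closure
  unfold Q2
  rintro s (rfl | rfl | rfl | rfl | rfl | rfl | rfl)
  · rw [h.a6]; mem_word
  · rw [h.a8]; mem_word
  · rw [h.a9]; mem_word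
  · rw [h.a10]; mem_word
  · rw [h.a11]; mem_word
  · rw [h.at6]; mem_word
  · rw [h.at7]; mem_word

omit h in
/-- `N` normalises `Q₁`. -/
theorem conj_N {N : H} (k : RelN e N) : ∀ q ∈ Q1 e, N * q * N⁻¹ ∈ Q1 e := by
  apply conj_closure
  unfold Q1
  rintro s (rfl | rfl | rfl | rfl | rfl | rfl | rfl)
  · rw [k.n7]; mem_word
  · rw [k.n8]; mem_word
  · rw [k.n9]; mem_word
  · rw [k.n10]; mem_word
  · rw [k.n11]; mem_word
  · rw [k.nt6]; mem_word
  · rw [k.nt7]; mem_word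

omit h in
theorem conj_inv {Q : Subgroup H} {n : H} (h1 : ∀ q ∈ Q, n * q * n⁻¹ ∈ Q) (h2 : n * n ∈ Q) :
    ∀ q ∈ Q, n⁻¹ * q * n ∈ Q := by
  intro q hq
  have h3 : n⁻¹ * q * n = (n * n)⁻¹ * (n * q * n⁻¹) * (n * n) := by group
  rw [h3]
  exact mul_mem (mul_mem (inv_mem h2) (h1 q hq)) h2

theorem AA_mem : e.A * e.A ∈ Q2 e := by
  rw [h.aa]; unfold Q2; mem_word

omit h in
theorem NN_mem {N : H} (k : RelN e N) : N * N ∈ Q1 e := by
  rw [k.nn]; unfold Q1; mem_word

end basic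

/-! ### Sets `X n S` -/

section step

variable {H : Type*} [Group H]

/-- `X n S` -/
def stp (X : Subgroup H) (n : H) (S : Set H) : Set H := {g | ∃ x ∈ X, ∃ s ∈ S, g = x * n * s}

theorem stp_B {B Q X : Subgroup H} {n : H} {S : Set H} (hX : X ≤ B) (hdec : ∀ b ∈ B, ∃ x ∈ X, ∃ q ∈ Q, b = x * q)
    (hn : ∀ q ∈ Q, n⁻¹ * q * n ∈ B) (hS : ∀ b ∈ B, ∀ s ∈ S, b * s ∈ S) :
    ∀ b ∈ B, ∀ s ∈ stp X n S, b * s ∈ stp X n S := by
  rintro b hb _ ⟨x, hx, s, hs, rfl⟩
  obtain ⟨y, hy, q, hq, h1⟩ := hdec (b * x) (mul_mem hb (hX hx))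
  refine ⟨y, hy, n⁻¹ * q * n * s, hS _ (hn q hq) s hs, ?_⟩
  calc b * (x * n * s) = (b * x) * n * s := by group
    _ = y * n * (n⁻¹ * q * n * s) := by rw [h1]; group

theorem stp_up {X : Subgroup H} {n : H} {S : Set H} : ∀ s ∈ S, n * s ∈ stp X n S := by
  intro s hs
  exact ⟨1, one_mem _, s, hs, by rw [one_mul]⟩

theorem stp_n {B X : Subgroup H} {n : H} {S : Set H} (hS : ∀ b ∈ B, ∀ s ∈ S, b * s ∈ S)
    (hSS : ∀ b ∈ B, ∀ s ∈ stp X n S, b * s ∈ stp X n S)
    (hr : ∀ x ∈ X, n * x * n ∈ B ∨ ∃ b ∈ B, ∃ b' ∈ B, n * x * n = b * n * b') :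
    ∀ s ∈ stp X n S, n * s ∈ S ∨ n * s ∈ stp X n S := by
  rintro _ ⟨x, hx, s, hs, rfl⟩
  rcases hr x hx with h | ⟨b, hb, b', hb', h⟩
  · left
    have := hS _ h s hs
    convert this using 1
    group
  · right
    have h1 := hSS b hb _ (stp_up (X := X) (n := n) _ (hS b' hb' s hs))
    convert h1 using 1
    calc n * (x * n * s) = (n * x * n) * s := by group
      _ = b * (n * (b' * s)) := by rw [h]; group

theorem stp_card {X : Subgroup H} {n : H} {S : Set H} (hX : Finite X ∧ Nat.card X ≤ 5) (hS : S.Finite) {c : ℕ}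
    (hc : S.ncard ≤ c) : (stp X n S).Finite ∧ (stp X n S).ncard ≤ 5 * c := by
  have hX' : (X : Set H).Finite := hX.1
  have h1 : stp X n S = (fun p : H × H => p.1 * n * p.2) '' ((X : Set H) ×ˢ S) := by
    ext g
    constructor
    · rintro ⟨x, hx, s, hs, rfl⟩
      exact ⟨(x, s), ⟨hx, hs⟩, rfl⟩
    · rintro ⟨⟨x, s⟩, ⟨hx, hs⟩, rfl⟩
      exact ⟨x, hx, s, hs, rfl⟩
  have h2 : ((X : Set H) ×ˢ S).Finite := hX'.prod hS
  rw [h1]
  refine ⟨h2.image _, (Set.ncard_image_le h2).trans ?_⟩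
  rw [Set.ncard_prod]
  have h3 : (X : Set H).ncard ≤ 5 := hX.2
  exact Nat.mul_le_mul h3 hc

end step

/-! ### The count -/

section count

variable {H : Type*} [Group H] {e : Els H} (h : RelP e)
include h

omit h in
theorem x6_le_B : zpowers e.x6 ≤ B e := by
  rw [zpowers_le]; unfold B; mem_word

omit h in
theorem x7_le_B : zpowers e.x7 ≤ B e := by
  rw [zpowers_le]; unfold B; mem_word

theorem card_x6 : Finite (zpowers e.x6) ∧ Nat.card (zpowers e.x6) ≤ 5 := by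
  rw [zpowers_eq_closure]; exact card_singleton_closure (by norm_num) h.p6

theorem card_x7 : Finite (zpowers e.x7) ∧ Nat.card (zpowers e.x7) ≤ 5 := by
  rw [zpowers_eq_closure]; exact card_singleton_closure (by norm_num) h.p7

omit h in
theorem pow_cases {x : H} (hx : x ^ 5 = 1) {y : H} (hy : y ∈ zpowers x) :
    y = 1 ∨ y = x ∨ y = x ^ 2 ∨ y = x ^ 3 ∨ y = x ^ 4 := by
  classical
  have hfin : IsOfFinOrder x := isOfFinOrder_iff_pow_eq_one.2 ⟨5, by norm_num, hx⟩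
  have h1 := (hfin.mem_zpowers_iff_mem_range_orderOf).1 hy
  simp only [Finset.mem_image, Finset.mem_range] at h1
  obtain ⟨m, hm, rfl⟩ := h1
  have hm5 : m < 5 := lt_of_lt_of_le hm (Nat.le_of_dvd (by norm_num) (orderOf_dvd_of_pow_eq_one hx))
  interval_cases m
  · left; rw [pow_zero]
  · right; left; rw [pow_one]
  · right; right; left; rfl
  · right; right; right; left; rfl
  · right; right; right; right; rfl

theorem rank_A : ∀ x ∈ zpowers e.x7, e.A * x * e.A ∈ B e ∨ ∃ b ∈ B e, ∃ b' ∈ B e, e.A * x * e.A = b * e.A * b' := by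
  intro x hx
  rcases pow_cases h.p7 hx with rfl | rfl | rfl | rfl | rfl
  · left; rw [mul_one]; exact Q2_le_B (AA_mem h)
  · right; exact ⟨_, (by unfold B; mem_word), _, (by unfold B; mem_word), h.r1⟩
  · right; exact ⟨_, (by unfold B; mem_word), _, (by unfold B; mem_word), h.r2⟩
  · right; exact ⟨_, (by unfold B; mem_word), _, (by unfold B; mem_word), h.r3⟩
  · right; exact ⟨_, (by unfold B; mem_word), _, (by unfold B; mem_word), h.r4⟩

theorem rank_N {N : H} (k : RelN e N) :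
    ∀ x ∈ zpowers e.x6, N * x * N ∈ B e ∨ ∃ b ∈ B e, ∃ b' ∈ B e, N * x * N = b * N * b' := by
  intro x hx
  rcases pow_cases h.p6 hx with rfl | rfl | rfl | rfl | rfl
  · left; rw [mul_one]; exact Q1_le_B (NN_mem k)
  · right; exact ⟨_, (by unfold B; mem_word), _, (by unfold B; mem_word), k.m1⟩
  · right; exact ⟨_, (by unfold B; mem_word), _, (by unfold B; mem_word), k.m2⟩
  · right; exact ⟨_, (by unfold B; mem_word), _, (by unfold B; mem_word), k.m3⟩
  · right; exact ⟨_, (by unfold B; mem_word), _, (by unfold B; mem_word), k.m4⟩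

/-- The cosets of the parabolic subgroup. -/
theorem card_P : Finite (P e) ∧ Nat.card (P e) ≤ 1500000 := by
  obtain ⟨hfB, hcB⟩ := card_B h
  have hBB : ∀ b ∈ B e, ∀ s ∈ (B e : Set H), b * s ∈ (B e : Set H) := fun b hb s hs => mul_mem hb hs
  have hS1 : ∀ b ∈ B e, ∀ s ∈ stp (zpowers e.x7) e.A (B e : Set H), b * s ∈ stp (zpowers e.x7) e.A (B e : Set H) :=
    stp_B x7_le_B (fun b hb => mem_B2 h hb)
      (fun q hq => Q2_le_B (conj_inv (conj_A h) (AA_mem h) q hq)) hBB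
  have hA := stp_n hBB hS1 (rank_A h)
  have hfin0 : (B e : Set H).Finite := hfB
  have hc0 : (B e : Set H).ncard ≤ 250000 := hcB
  obtain ⟨hfin1, hc1⟩ := stp_card (n := e.A) (card_x7 h) hfin0 hc0
  have hsub : (P e : Set H) ⊆ (B e : Set H) ∪ stp (zpowers e.x7) e.A (B e : Set H) := by
    intro g hg
    have hgA : ∀ s ∈ (B e : Set H) ∪ stp (zpowers e.x7) e.A (B e : Set H),
        e.A * s ∈ (B e : Set H) ∪ stp (zpowers e.x7) e.A (B e : Set H) := by
      rintro s (hs | hs)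
      · exact Or.inr (stp_up s hs)
      · exact hA s hs
    have hgB : ∀ b ∈ B e, ∀ s ∈ (B e : Set H) ∪ stp (zpowers e.x7) e.A (B e : Set H),
        b * s ∈ (B e : Set H) ∪ stp (zpowers e.x7) e.A (B e : Set H) := by
      rintro b hb s (hs | hs)
      · exact Or.inl (hBB b hb s hs)
      · exact Or.inr (hS1 b hb s hs)
    have hgA' : ∀ s ∈ (B e : Set H) ∪ stp (zpowers e.x7) e.A (B e : Set H),
        e.A⁻¹ * s ∈ (B e : Set H) ∪ stp (zpowers e.x7) e.A (B e : Set H) := by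
      intro s hs
      have h1 : e.A⁻¹ * s = (e.A * e.A)⁻¹ * (e.A * s) := by group
      rw [h1]
      exact hgB _ (inv_mem (Q2_le_B (AA_mem h))) _ (hgA s hs)
    have hcl : ∀ x ∈ ({e.x6, e.x7, e.x8, e.x9, e.x10, e.x11, e.t6, e.t7, e.A} : Set H), x = e.A ∨ x ∈ B e := by
      rintro x (rfl | rfl | rfl | rfl | rfl | rfl | rfl | rfl | rfl)
      all_goals first
        | (left; rfl)
        | (right; unfold B; mem_word)
    refine closure_induction_left (p := fun g _ => g ∈ (B e : Set H) ∪ stp (zpowers e.x7) e.A (B e : Set H))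
      (Or.inl (one_mem _)) ?_ ?_ hg
    · intro x hx y _ hy
      rcases hcl x hx with rfl | hx'
      · exact hgA y hy
      · exact hgB x hx' y hy
    · intro x hx y _ hy
      rcases hcl x hx with rfl | hx'
      · exact hgA' y hy
      · exact hgB _ (inv_mem hx') y hy
  have hfinU := hfin0.union hfin1
  refine ⟨hfinU.subset hsub, ?_⟩
  calc Nat.card (P e) = (P e : Set H).ncard := rfl
    _ ≤ ((B e : Set H) ∪ stp (zpowers e.x7) e.A (B e : Set H)).ncard := Set.ncard_le_ncard hsub hfinU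
    _ ≤ (B e : Set H).ncard + (stp (zpowers e.x7) e.A (B e : Set H)).ncard := Set.ncard_union_le _ _
    _ ≤ 1500000 := by omega

end count

section count2

variable {H : Type*} [Group H] {e : Els H} (h : RelP e) {N : H} (k : RelN e N)

/-- The group generated. -/
def Gam (e : Els H) (N : H) : Subgroup H := closure ((P e : Set H) ∪ {N})

/-- The sets of cosets. -/
def C (e : Els H) (N : H) : ℕ → Set H
  | 0 => (P e : Set H)
  | (m + 1) => if Even m then stp (zpowers e.x6) N (C e N m) else stp (zpowers e.x7) e.A (C e N m)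

theorem C_even (m : ℕ) (hm : Even m) : C e N (m + 1) = stp (zpowers e.x6) N (C e N m) := by
  rw [C, if_pos hm]

theorem C_odd (m : ℕ) (hm : ¬ Even m) : C e N (m + 1) = stp (zpowers e.x7) e.A (C e N m) := by
  rw [C, if_neg hm]

theorem B_le_P : B e ≤ P e := closure_mono (by intro x; simp only [Set.mem_insert_iff, Set.mem_singleton_iff]; tauto)

theorem A_mem_P : e.A ∈ P e := by unfold P; mem_word

include h k

theorem C_B (m : ℕ) : ∀ b ∈ B e, ∀ s ∈ C e N m, b * s ∈ C e N m := by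
  induction m with
  | zero => exact fun b hb s hs => mul_mem (B_le_P hb) hs
  | succ m ih =>
    by_cases hm : Even m
    · rw [C_even m hm]
      exact stp_B x6_le_B (fun b hb => mem_B1 h hb) (fun q hq => Q1_le_B (conj_inv (conj_N k) (NN_mem k) q hq)) ih
    · rw [C_odd m hm]
      exact stp_B x7_le_B (fun b hb => mem_B2 h hb) (fun q hq => Q2_le_B (conj_inv (conj_A h) (AA_mem h) q hq)) ih

theorem C_card (m : ℕ) : (C e N m).Finite ∧ (C e N m).ncard ≤ 5 ^ m * 1500000 := by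
  induction m with
  | zero =>
    obtain ⟨h1, h2⟩ := card_P h
    exact ⟨h1, by rw [pow_zero, one_mul]; exact h2⟩
  | succ m ih =>
    by_cases hm : Even m
    · rw [C_even m hm, pow_succ', mul_assoc]
      exact stp_card (card_x6 h) ih.1 ih.2
    · rw [C_odd m hm, pow_succ', mul_assoc]
      exact stp_card (card_x7 h) ih.1 ih.2

/-- `N` on `C m` -/
theorem N_up (m : ℕ) (hm : Even m) : ∀ s ∈ C e N m, N * s ∈ C e N (m + 1) := by
  rw [C_even m hm]; exact stp_up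

theorem A_up (m : ℕ) (hm : ¬ Even m) : ∀ s ∈ C e N m, e.A * s ∈ C e N (m + 1) := by
  rw [C_odd m hm]; exact stp_up

theorem N_down (m : ℕ) (hm : Even m) : ∀ s ∈ C e N (m + 1), N * s ∈ C e N m ∨ N * s ∈ C e N (m + 1) := by
  have h1 := C_B h k (m + 1)
  rw [C_even m hm] at h1 ⊢
  exact stp_n (C_B h k m) h1 (rank_N h k)

theorem A_down (m : ℕ) (hm : ¬ Even m) : ∀ s ∈ C e N (m + 1), e.A * s ∈ C e N m ∨ e.A * s ∈ C e N (m + 1) := by
  have h1 := C_B h k (m + 1)
  rw [C_odd m hm] at h1 ⊢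
  exact stp_n (C_B h k m) h1 (rank_A h)

omit h k in
theorem conj_pow_mem {g x y : H} {S : Subgroup H} (h1 : g * x * g⁻¹ = y) (hy : y ∈ S) :
    ∀ u ∈ zpowers x, g * u * g⁻¹ ∈ S := conj_mem_of_zpowers (by rw [h1]; exact hy)

theorem A_top : ∀ s ∈ C e N 5, e.A * s ∈ C e N 5 := by
  intro s hs
  have e5 : C e N 5 = stp (zpowers e.x6) N (C e N 4) := C_even 4 (by decide)
  have e4 : C e N 4 = stp (zpowers e.x7) e.A (C e N 3) := C_odd 3 (by decide)
  have e3 : C e N 3 = stp (zpowers e.x6) N (C e N 2) := C_even 2 (by decide)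
  have e2 : C e N 2 = stp (zpowers e.x7) e.A (C e N 1) := C_odd 1 (by decide)
  have e1 : C e N 1 = stp (zpowers e.x6) N (C e N 0) := C_even 0 (by decide)
  have hs' := hs
  rw [e5, e4, e3, e2, e1] at hs'
  obtain ⟨u1, hu1, _, ⟨u2, hu2, _, ⟨u3, hu3, _, ⟨u4, hu4, _, ⟨u5, hu5, δ, hδ, rfl⟩, rfl⟩, rfl⟩, rfl⟩, rfl⟩ := hs'
  have b1 : e.A * u1 * e.A⁻¹ ∈ B e := conj_pow_mem h.a6 (by unfold B; mem_word) u1 hu1
  have g2 : (e.A * N) * e.x7 * (e.A * N)⁻¹ = e.x9 := by
    calc (e.A * N) * e.x7 * (e.A * N)⁻¹ = e.A * (N * e.x7 * N⁻¹) * e.A⁻¹ := by group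
      _ = e.x9 := by rw [k.n7, h.a8]
  have b2 : (e.A * N) * u2 * (e.A * N)⁻¹ ∈ B e := conj_pow_mem g2 (by unfold B; mem_word) u2 hu2
  have g3 : (e.A * N * e.A) * e.x6 * (e.A * N * e.A)⁻¹ = e.x11 := by
    calc (e.A * N * e.A) * e.x6 * (e.A * N * e.A)⁻¹ = e.A * (N * (e.A * e.x6 * e.A⁻¹) * N⁻¹) * e.A⁻¹ := by group
      _ = e.x11 := by rw [h.a6, k.n10, h.a11]
  have b3 : (e.A * N * e.A) * u3 * (e.A * N * e.A)⁻¹ ∈ B e := conj_pow_mem g3 (by unfold B; mem_word) u3 hu3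
  have g4 : (e.A * N * e.A * N) * e.x7 * (e.A * N * e.A * N)⁻¹ = e.x8 ^ 4 := by
    calc (e.A * N * e.A * N) * e.x7 * (e.A * N * e.A * N)⁻¹
        = e.A * (N * (e.A * (N * e.x7 * N⁻¹) * e.A⁻¹) * N⁻¹) * e.A⁻¹ := by group
      _ = e.x8 ^ 4 := by rw [k.n7, h.a8, k.n9, h.a9]
  have b4 : (e.A * N * e.A * N) * u4 * (e.A * N * e.A * N)⁻¹ ∈ B e :=
    conj_pow_mem g4 (by unfold B; mem_word) u4 hu4
  have g5 : (e.A * N * e.A * N * e.A) * e.x6 * (e.A * N * e.A * N * e.A)⁻¹ = (e.x6 ^ 4) ^ 4 := by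
    calc (e.A * N * e.A * N * e.A) * e.x6 * (e.A * N * e.A * N * e.A)⁻¹
        = e.A * (N * (e.A * (N * (e.A * e.x6 * e.A⁻¹) * N⁻¹) * e.A⁻¹) * N⁻¹) * e.A⁻¹ := by group
      _ = (e.x6 ^ 4) ^ 4 := by rw [h.a6, k.n10, h.a11, k.n11, ← conj_pow, h.a10]
  have b5 : (e.A * N * e.A * N * e.A) * u5 * (e.A * N * e.A * N * e.A)⁻¹ ∈ B e :=
    conj_pow_mem g5 (by unfold B; mem_word) u5 hu5
  have key : e.A * (u1 * N * (u2 * e.A * (u3 * N * (u4 * e.A * (u5 * N * δ))))) =
      ((e.A * u1 * e.A⁻¹) * ((e.A * N) * u2 * (e.A * N)⁻¹) * ((e.A * N * e.A) * u3 * (e.A * N * e.A)⁻¹) *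
        ((e.A * N * e.A * N) * u4 * (e.A * N * e.A * N)⁻¹) *
        ((e.A * N * e.A * N * e.A) * u5 * (e.A * N * e.A * N * e.A)⁻¹)) *
        (N * (e.A * (N * (e.A * (N * (e.A * δ)))))) := by
    have h1 : N * (e.A * (N * (e.A * (N * (e.A * δ))))) = (e.A * N * e.A * N * e.A * N) * δ := by
      rw [k.braid]; group
    rw [h1]; group
  rw [key]
  apply C_B h k 5 _ (mul_mem (mul_mem (mul_mem (mul_mem b1 b2) b3) b4) b5)
  have d0 : e.A * δ ∈ C e N 0 := mul_mem A_mem_P hδ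
  exact N_up h k 4 (by decide) _ (A_up h k 3 (by decide) _ (N_up h k 2 (by decide) _
    (A_up h k 1 (by decide) _ (N_up h k 0 (by decide) _ d0))))

/-- The union. -/
theorem mem_union : ∀ g ∈ Gam e N, ∃ m < 6, g ∈ C e N m := by
  have hB : ∀ b ∈ B e, ∀ s : H, (∃ m < 6, s ∈ C e N m) → ∃ m < 6, b * s ∈ C e N m := by
    rintro b hb s ⟨m, hm, hs⟩
    exact ⟨m, hm, C_B h k m b hb s hs⟩
  have hA : ∀ s : H, (∃ m < 6, s ∈ C e N m) → ∃ m < 6, e.A * s ∈ C e N m := by
    rintro s ⟨m, hm, hs⟩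
    interval_cases m
    · exact ⟨0, by norm_num, mul_mem A_mem_P hs⟩
    · exact ⟨2, by norm_num, A_up h k 1 (by decide) s hs⟩
    · rcases A_down h k 1 (by decide) s hs with h1 | h1
      · exact ⟨1, by norm_num, h1⟩
      · exact ⟨2, by norm_num, h1⟩
    · exact ⟨4, by norm_num, A_up h k 3 (by decide) s hs⟩
    · rcases A_down h k 3 (by decide) s hs with h1 | h1
      · exact ⟨3, by norm_num, h1⟩
      · exact ⟨4, by norm_num, h1⟩
    · exact ⟨5, by norm_num, A_top h k s hs⟩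
  have hN : ∀ s : H, (∃ m < 6, s ∈ C e N m) → ∃ m < 6, N * s ∈ C e N m := by
    rintro s ⟨m, hm, hs⟩
    interval_cases m
    · exact ⟨1, by norm_num, N_up h k 0 (by decide) s hs⟩
    · rcases N_down h k 0 (by decide) s hs with h1 | h1
      · exact ⟨0, by norm_num, h1⟩
      · exact ⟨1, by norm_num, h1⟩
    · exact ⟨3, by norm_num, N_up h k 2 (by decide) s hs⟩
    · rcases N_down h k 2 (by decide) s hs with h1 | h1
      · exact ⟨2, by norm_num, h1⟩
      · exact ⟨3, by norm_num, h1⟩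
    · exact ⟨5, by norm_num, N_up h k 4 (by decide) s hs⟩
    · rcases N_down h k 4 (by decide) s hs with h1 | h1
      · exact ⟨4, by norm_num, h1⟩
      · exact ⟨5, by norm_num, h1⟩
  have hA' : ∀ s : H, (∃ m < 6, s ∈ C e N m) → ∃ m < 6, e.A⁻¹ * s ∈ C e N m := by
    intro s hs
    have h1 : e.A⁻¹ * s = (e.A * e.A)⁻¹ * (e.A * s) := by group
    rw [h1]
    exact hB _ (inv_mem (Q2_le_B (AA_mem h))) _ (hA s hs)
  have hN' : ∀ s : H, (∃ m < 6, s ∈ C e N m) → ∃ m < 6, N⁻¹ * s ∈ C e N m := by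
    intro s hs
    have h1 : N⁻¹ * s = (N * N)⁻¹ * (N * s) := by group
    rw [h1]
    exact hB _ (inv_mem (Q1_le_B (NN_mem k))) _ (hN s hs)
  have hcl : ∀ x ∈ ({e.x6, e.x7, e.x8, e.x9, e.x10, e.x11, e.t6, e.t7, e.A} : Set H), x = e.A ∨ x ∈ B e := by
    rintro x (rfl | rfl | rfl | rfl | rfl | rfl | rfl | rfl | rfl)
    all_goals first
      | (left; rfl)
      | (right; unfold B; mem_word)
  have hP : ∀ p ∈ P e, ∀ s : H, (∃ m < 6, s ∈ C e N m) → ∃ m < 6, p * s ∈ C e N m := by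
    intro p hp
    induction hp using closure_induction with
    | mem x hx =>
      rcases hcl x hx with rfl | hx'
      · exact hA
      · exact hB x hx'
    | one => intro s hs; rw [one_mul]; exact hs
    | mul x y _ _ ihx ihy => intro s hs; rw [mul_assoc]; exact ihx _ (ihy _ hs)
    | inv x hx ih =>
      -- finite order
      intro s hs
      obtain ⟨hf, -⟩ := card_P h
      have hx' : x ∈ P e := hx
      have hfo : IsOfFinOrder x := by
        have := isOfFinOrder_of_finite (⟨x, hx'⟩ : P e)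
        exact (Submonoid.isOfFinOrder_coe).2 this
      obtain ⟨n, hn, hxn⟩ := isOfFinOrder_iff_pow_eq_one.1 hfo
      have h2 : x⁻¹ = x ^ (n - 1) := by
        rw [inv_eq_iff_mul_eq_one, ← pow_succ', Nat.sub_add_cancel hn, hxn]
      rw [h2]
      have h3 : ∀ j : ℕ, ∀ s : H, (∃ m < 6, s ∈ C e N m) → ∃ m < 6, x ^ j * s ∈ C e N m := by
        intro j
        induction j with
        | zero => intro s hs; rw [pow_zero, one_mul]; exact hs
        | succ j ihj => intro s hs; rw [pow_succ, mul_assoc]; exact ihj _ (ih _ hs)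
      exact h3 _ s hs
  intro g hg
  refine closure_induction_left (p := fun g _ => ∃ m < 6, g ∈ C e N m) ⟨0, by norm_num, one_mem _⟩ ?_ ?_ hg
  · rintro x (hx | rfl) y _ hy
    · exact hP x hx y hy
    · exact hN y hy
  · rintro x (hx | rfl) y _ hy
    · exact hP _ (inv_mem hx) y hy
    · exact hN' y hy

/-- The bound for the order. -/
theorem card_Gam : Finite (Gam e N) ∧ Nat.card (Gam e N) ≤ 5859000000 := by
  have hsub : (Gam e N : Set H) ⊆ C e N 0 ∪ (C e N 1 ∪ (C e N 2 ∪ (C e N 3 ∪ (C e N 4 ∪ C e N 5)))) := by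
    intro g hg
    obtain ⟨m, hm, hgm⟩ := mem_union h k g hg
    interval_cases m
    · exact Or.inl hgm
    · exact Or.inr (Or.inl hgm)
    · exact Or.inr (Or.inr (Or.inl hgm))
    · exact Or.inr (Or.inr (Or.inr (Or.inl hgm)))
    · exact Or.inr (Or.inr (Or.inr (Or.inr (Or.inl hgm))))
    · exact Or.inr (Or.inr (Or.inr (Or.inr (Or.inr hgm))))
  have f := C_card h k
  have hfin : (C e N 0 ∪ (C e N 1 ∪ (C e N 2 ∪ (C e N 3 ∪ (C e N 4 ∪ C e N 5))))).Finite :=
    (f 0).1.union ((f 1).1.union ((f 2).1.union ((f 3).1.union ((f 4).1.union (f 5).1))))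
  refine ⟨hfin.subset hsub, ?_⟩
  have h0 := (f 0).2
  have h1 := (f 1).2
  have h2 := (f 2).2
  have h3 := (f 3).2
  have h4 := (f 4).2
  have h5 := (f 5).2
  calc Nat.card (Gam e N) = (Gam e N : Set H).ncard := rfl
    _ ≤ _ := Set.ncard_le_ncard hsub hfin
    _ ≤ (C e N 0).ncard + ((C e N 1).ncard + ((C e N 2).ncard + ((C e N 3).ncard + ((C e N 4).ncard +
          (C e N 5).ncard)))) := by
        refine (Set.ncard_union_le _ _).trans (Nat.add_le_add_left ?_ _)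
        refine (Set.ncard_union_le _ _).trans (Nat.add_le_add_left ?_ _)
        refine (Set.ncard_union_le _ _).trans (Nat.add_le_add_left ?_ _)
        refine (Set.ncard_union_le _ _).trans (Nat.add_le_add_left ?_ _)
        exact Set.ncard_union_le _ _
    _ ≤ 5859000000 := by
        norm_num at h0 h1 h2 h3 h4 h5
        omega

end count2

end Cfsg.Agent.SporRec.LyHexCount
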