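import Cfsg.Agent.SporRec.LyFive
import Cfsg.Agent.SporRec.LyHexCount

/-!
# Input for the construction of `G₂(5)` in a group of Lyons type

`HexIn F`: root elements `x₆, …, x₁₁`, torus elements `t₆, t₇` and the Weyl element `A = n_α` of `E : GL₂(5)`
inside `N_G(⟨f⟩)`, with their images in `A₁₁`.
-/

set_option autoImplicit false
set_option linter.dupNamespace false

namespace Cfsg.Agent.SporRec.LyHexIn

open Subgroup Equiv Cfsg.Agent.SporRec.TwoAn Cfsg.Agent.SporRec.LyType Cfsg.Agent.SporRec.LyFive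
open Cfsg.Agent.SporRec.LyHexRel Cfsg.Agent.SporRec.LyHexCount

/-- `b = x₇ ↦ (0 1 2 3 4)` -/
def p7 : Perm (Fin 11) := swap 0 1 * swap 1 2 * swap 2 3 * swap 3 4

/-- `x₁₁ = c₅² ↦ (5 7 9 6 8)` -/
def p11 : Perm (Fin 11) := swap 5 7 * swap 7 9 * swap 9 6 * swap 6 8

/-- `t₆ ↦ (0 4 1 2)(6 7 9 8)` -/
def pt6 : Perm (Fin 11) := (swap 0 4 * swap 4 1 * swap 1 2) * (swap 6 7 * swap 7 9 * swap 9 8)

/-- `t₇ ↦ (0 1)(2 4)` -/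
def pt7 : Perm (Fin 11) := swap 0 1 * swap 2 4

/-- `A ↦ (0 4)(1 2)` -/
def pA : Perm (Fin 11) := swap 0 4 * swap 1 2

/-- Root elements of the parabolic subgroup `P₁`. -/
structure HexIn {G : Type*} [Group G] {L : LyType G} (F : LyFive L) where
  e : Els G
  rel : RelP e
  m6 : e.x6 ∈ F.E
  m8 : e.x8 ∈ F.E
  m9 : e.x9 ∈ F.E
  m10 : e.x10 ∈ F.E
  m11 : e.x11 ∈ zpowers F.f
  x11_ne : e.x11 ≠ 1
  t7_sq : e.t7 ^ 2 = L.t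
  k7 : e.x7 * L.t = L.t * e.x7
  k11 : e.x11 * L.t = L.t * e.x11
  kt6 : e.t6 * L.t = L.t * e.t6
  kt7 : e.t7 * L.t = L.t * e.t7
  kA : e.A * L.t = L.t * e.A
  π7 : L.K.π ⟨e.x7, L.mem_iff.2 k7⟩ = p7
  π11 : L.K.π ⟨e.x11, L.mem_iff.2 k11⟩ = p11
  πt6 : L.K.π ⟨e.t6, L.mem_iff.2 kt6⟩ = pt6
  πt7 : L.K.π ⟨e.t7, L.mem_iff.2 kt7⟩ = pt7
  πA : L.K.π ⟨e.A, L.mem_iff.2 kA⟩ = pA

end Cfsg.Agent.SporRec.LyHexIn
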