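import Cfsg.Agent.R10.CliffWord
import Cfsg.Agent.SporRec.LyHexIn

/-!
# The element `d` does not commute with the 3-cycle `x`

`not_comm`: an element `d` with `d t₆ d⁻¹ = t₆³ t₇³`, `d t₇ d⁻¹ = t₇`, `d² = t₇²` does not commute with a lift `x` of
order `3` of the 3-cycle `(3 5 10)`: a calculation of signs in `2.A₁₁`.
-/

set_option autoImplicit false
set_option linter.dupNamespace false

namespace Cfsg.Agent.SporRec.LyHexB6

open Subgroup Equiv Cfsg.Agent.SporRec.TwoAn Cfsg.Agent.SporRec.LyType Cfsg.Agent.SporRec.LyFive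
open Cfsg.Agent.SporRec.LyHexRel Cfsg.Agent.SporRec.LyHexCount Cfsg.Agent.SporRec.LyHexIn
open Cfsg.Agent.R10.CliffWord Cfsg.Agent.R10.CliffSign Cfsg.Agent.R10.CliffWord.Eval

/-! ### words -/

/-- `t₆` -/
def w6 : List (Fin 11 × Fin 11) := [(0, 4), (4, 1), (1, 2), (6, 7), (7, 9), (9, 8)]

/-- `A` -/
def wA : List (Fin 11 × Fin 11) := [(0, 4), (1, 2)]

/-- `t₇ = t₆⁻¹ A t₆ A⁻¹` -/
def w7 : List (Fin 11 × Fin 11) := w6.reverse ++ wA ++ w6 ++ wA.reverse

/-- the two candidates for `d` -/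
def wd : Bool → List (Fin 11 × Fin 11)
  | true => [(6, 7), (9, 8)]
  | false => [(6, 8), (7, 9)]

/-- the sign -/
theorem good_sign (b : Bool) :
    good ((wd b ++ w6 ++ (wd b).reverse) ++ (npow w6 3 ++ npow w7 3 ++ zw).reverse) = true := by
  cases b <;> decide +kernel

section cover

variable {C : Type*} [Group C] {K : Cover (Fin 11) C} (ev : Eval K)

theorem lift_word {w : List (Fin 11 × Fin 11)} (hw : ok w = true) {g : C} (hg : ∀ x, K.π g x = pw w x) :
    ∃ ζ : C, (∀ h : C, h * ζ = ζ * h) ∧ ζ * ζ = 1 ∧ g = ev.val w * ζ := by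
  have h1 : K.π g = K.π (ev.val w) := Perm.ext fun x => by rw [hg, ev.π_val hw]
  rcases K.lift_eq h1 with h | h
  · exact ⟨1, fun h => by rw [mul_one, one_mul], mul_one 1, by rw [h, mul_one]⟩
  · exact ⟨K.z, fun h => K.z_comm h, K.z_mul_z, h⟩

theorem conj_central {u v ζ ξ : C} (hξ : ∀ h : C, h * ξ = ξ * h) :
    u * ξ * (v * ζ) * (u * ξ)⁻¹ = u * (v * ζ) * u⁻¹ := by
  calc u * ξ * (v * ζ) * (u * ξ)⁻¹ = u * (ξ * (v * ζ)) * ξ⁻¹ * u⁻¹ := by group
    _ = u * ((v * ζ) * ξ) * ξ⁻¹ * u⁻¹ := by rw [hξ]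
    _ = u * (v * ζ) * u⁻¹ := by group

/-- The sign calculation. -/
theorem false_of_sign {g6 gA g7 gd : C} (h6 : ∀ x, K.π g6 x = pw w6 x) (hA : ∀ x, K.π gA x = pw wA x)
    (hat : gA * g6 * gA⁻¹ = g6 * g7) (b : Bool) (hd : ∀ x, K.π gd x = pw (wd b) x)
    (hrel : gd * g6 * gd⁻¹ = g6 ^ 3 * g7 ^ 3) : False := by
  obtain ⟨ev⟩ := exists_eval K
  obtain ⟨ζ, hζ, hζζ, rfl⟩ := lift_word ev (w := w6) rfl h6
  obtain ⟨α, hα, -, rfl⟩ := lift_word ev (w := wA) rfl hA
  obtain ⟨δ, hδ, -, rfl⟩ := lift_word ev (w := wd b) (by cases b <;> rfl) hd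
  rw [conj_central hα] at hat
  rw [conj_central hδ] at hrel
  -- the value of `g7`
  have e7 : g7 = ev.val w7 := by
    have h1 : g7 = (ev.val w6 * ζ)⁻¹ * (ev.val wA * (ev.val w6 * ζ) * (ev.val wA)⁻¹) := by
      rw [hat]; group
    have h2 : (ev.val w6 * ζ)⁻¹ * (ev.val wA * (ev.val w6 * ζ) * (ev.val wA)⁻¹) =
        (ev.val w6)⁻¹ * ev.val wA * ev.val w6 * (ev.val wA)⁻¹ := by
      calc (ev.val w6 * ζ)⁻¹ * (ev.val wA * (ev.val w6 * ζ) * (ev.val wA)⁻¹)
          = ζ⁻¹ * ((ev.val w6)⁻¹ * ev.val wA * ev.val w6) * (ζ * (ev.val wA)⁻¹) := by group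
        _ = ζ⁻¹ * ((ev.val w6)⁻¹ * ev.val wA * ev.val w6) * ((ev.val wA)⁻¹ * ζ) := by rw [hζ]
        _ = ζ⁻¹ * ((ev.val w6)⁻¹ * ev.val wA * ev.val w6 * (ev.val wA)⁻¹ * ζ) := by group
        _ = ζ⁻¹ * (ζ * ((ev.val w6)⁻¹ * ev.val wA * ev.val w6 * (ev.val wA)⁻¹)) := by rw [hζ]
        _ = (ev.val w6)⁻¹ * ev.val wA * ev.val w6 * (ev.val wA)⁻¹ := by group
    rw [h1, h2, ev.val_inv (w := w6) rfl, ev.val_inv (w := wA) rfl, ev.val_mul (v := w6.reverse) (w := wA) rfl rfl,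
      ev.val_mul (v := w6.reverse ++ wA) (w := w6) rfl rfl,
      ev.val_mul (v := w6.reverse ++ wA ++ w6) (w := wA.reverse) rfl rfl]
    rfl
  -- the relation without signs
  have h3 : ev.val (wd b) * ev.val w6 * (ev.val (wd b))⁻¹ = ev.val w6 ^ 3 * ev.val w7 ^ 3 := by
    have h4 : (ev.val w6 * ζ) ^ 3 = ev.val w6 ^ 3 * ζ := by
      have hc : Commute (ev.val w6) ζ := hζ _
      rw [hc.mul_pow, pow_succ ζ 2, pow_two, hζζ, one_mul]
    rw [h4, e7] at hrel
    have h5 : ev.val (wd b) * (ev.val w6 * ζ) * (ev.val (wd b))⁻¹ =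
        ev.val (wd b) * ev.val w6 * (ev.val (wd b))⁻¹ * ζ := by
      calc ev.val (wd b) * (ev.val w6 * ζ) * (ev.val (wd b))⁻¹ =
          ev.val (wd b) * ev.val w6 * (ζ * (ev.val (wd b))⁻¹) := by group
        _ = ev.val (wd b) * ev.val w6 * ((ev.val (wd b))⁻¹ * ζ) := by rw [hζ]
        _ = _ := by group
    have h6 : ev.val w6 ^ 3 * ζ * ev.val w7 ^ 3 = ev.val w6 ^ 3 * ev.val w7 ^ 3 * ζ := by
      rw [mul_assoc, ← hζ, mul_assoc]
    rw [h5, h6] at hrel
    exact mul_right_cancel hrel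
  have hwd : ok (wd b) = true := by cases b <;> rfl
  have hwdr : ok (wd b).reverse = true := ok_reverse hwd
  have hl : ev.val (wd b) * ev.val w6 * (ev.val (wd b))⁻¹ = ev.val (wd b ++ w6 ++ (wd b).reverse) := by
    rw [ev.val_inv hwd, ev.val_mul hwd (w := w6) rfl, ev.val_mul (ok_append hwd (w := w6) rfl) hwdr]
  have hr : ev.val w6 ^ 3 * ev.val w7 ^ 3 * K.z = ev.val (npow w6 3 ++ npow w7 3 ++ zw) := by
    rw [ev.val_pow (w := w6) rfl, ev.val_pow (w := w7) rfl, ev.val_mul (v := npow w6 3) (w := npow w7 3) rfl rfl,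
      ← ev.val_zw, ev.val_mul (v := npow w6 3 ++ npow w7 3) (w := zw) rfl rfl]
  have h7 : ev.val (wd b ++ w6 ++ (wd b).reverse) = ev.val (npow w6 3 ++ npow w7 3 ++ zw) :=
    ev.val_eq (ok_append (ok_append hwd (w := w6) rfl) hwdr) rfl (good_sign b)
  rw [← hl, ← hr, h3] at h7
  exact K.mul_z_ne _ h7.symm

end cover

/-! ### the permutation of `d` -/

/-- the permutation `t₆³ t₇³` -/
def q : Fin 11 → Fin 11 := ![4, 2, 0, 3, 1, 5, 8, 6, 9, 7, 10]

/-- the permutation `t₇` -/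
def s7 : Fin 11 → Fin 11 := ![1, 0, 4, 3, 2, 5, 6, 7, 8, 9, 10]

/-- the permutation `t₆` -/
def s6 : Fin 11 → Fin 11 := ![4, 2, 0, 3, 1, 5, 7, 9, 6, 8, 10]

/-- the permutation `(3 5 10)` -/
def s3 : Fin 11 → Fin 11 := ![0, 1, 2, 5, 4, 10, 6, 7, 8, 9, 3]

/-- the permutation determined by the values at `0`, `6`, `3` -/
def fn (u v w : Fin 11) : Fin 11 → Fin 11 :=
  ![u, q (q u), q (q (q u)), w, q u, s3 w, v, q v, q (q (q v)), q (q v), s3 (s3 w)]

/-- number of moved points -/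
def moved (f : Fin 11 → Fin 11) : ℕ := ((List.finRange 11).filter fun x => f x ≠ x).length

/-- the admissible triples -/
def adm (u v w : Fin 11) : Bool :=
  (List.finRange 11).all (fun x => decide (fn u v w (fn u v w x) = x)) &&
  (List.finRange 11).all (fun x => decide (fn u v w (s7 x) = s7 (fn u v w x))) &&
  (List.finRange 11).all (fun x => decide (fn u v w (s6 x) = q (fn u v w x))) &&
  (List.finRange 11).all (fun x => decide (fn u v w (s3 x) = s3 (fn u v w x))) &&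
  decide (moved (fn u v w) % 8 = 4)

set_option maxRecDepth 100000 in
theorem adm_spec : ∀ u v w : Fin 11, adm u v w = true →
    (∀ x, fn u v w x = pw (wd true) x) ∨ (∀ x, fn u v w x = pw (wd false) x) := by
  decide +kernel

/-- `δ` is determined by three values -/
theorem eq_fn {δ : Fin 11 → Fin 11} (h6 : ∀ x, δ (s6 x) = q (δ x)) (h3 : ∀ x, δ (s3 x) = s3 (δ x)) (x : Fin 11) :
    δ x = fn (δ 0) (δ 6) (δ 3) x := by
  have e4 : δ 4 = q (δ 0) := h6 0
  have e1 : δ 1 = q (δ 4) := h6 4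
  have e2 : δ 2 = q (δ 1) := h6 1
  have e7 : δ 7 = q (δ 6) := h6 6
  have e9 : δ 9 = q (δ 7) := h6 7
  have e8 : δ 8 = q (δ 9) := h6 9
  have e5 : δ 5 = s3 (δ 3) := h3 3
  have e10 : δ 10 = s3 (δ 5) := h3 5
  fin_cases x
  · rfl
  · show δ 1 = q (q (δ 0)); rw [e1, e4]
  · show δ 2 = q (q (q (δ 0))); rw [e2, e1, e4]
  · rfl
  · exact e4
  · exact e5
  · rfl
  · exact e7
  · show δ 8 = q (q (q (δ 6))); rw [e8, e9, e7]
  · show δ 9 = q (q (δ 6)); rw [e9, e7]
  · show δ 10 = s3 (s3 (δ 3)); rw [e10, e5]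

theorem candidates {δ : Perm (Fin 11)} (hδ : δ * δ = 1) (h7 : ∀ x, δ (s7 x) = s7 (δ x))
    (h6 : ∀ x, δ (s6 x) = q (δ x)) (h3 : ∀ x, δ (s3 x) = s3 (δ x)) (hc : δ.support.card % 8 = 4) :
    ∃ b, ∀ x, δ x = pw (wd b) x := by
  have hfn : ∀ x, fn (δ 0) (δ 6) (δ 3) x = δ x := fun x => (eq_fn h6 h3 x).symm
  have h1 : adm (δ 0) (δ 6) (δ 3) = true := by
    rw [adm]
    simp only [Bool.and_eq_true, List.all_eq_true, List.mem_finRange, forall_const, decide_eq_true_eq, hfn]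
    refine ⟨⟨⟨⟨fun x => ?_, h7⟩, h6⟩, h3⟩, ?_⟩
    · have := congrArg (fun f : Perm (Fin 11) => f x) hδ
      simpa using this
    · have h4 : fn (δ 0) (δ 6) (δ 3) = δ := funext hfn
      have h5 : δ.support = ((List.finRange 11).filter fun x => δ x ≠ x).toFinset := by
        ext x
        simp
      rw [h5, List.toFinset_card_of_nodup ((List.nodup_finRange 11).filter _)] at hc
      rw [h4, moved]
      exact hc
  rcases adm_spec _ _ _ h1 with h2 | h2
  · exact ⟨true, fun x => by rw [← hfn, h2]⟩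
  · exact ⟨false, fun x => by rw [← hfn, h2]⟩

/-! ### the main statement -/

section main

variable {G : Type*} [Group G] {L : LyType G} {F : LyFive L}

/-- the 3-cycle -/
def p3 : Perm (Fin 11) := swap 3 5 * swap 5 10

theorem p3_apply (x : Fin 11) : p3 x = s3 x := by revert x; decide

theorem pt6_apply (x : Fin 11) : pt6 x = s6 x := by revert x; decide

theorem pt7_apply (x : Fin 11) : pt7 x = s7 x := by revert x; decide

theorem q_apply (x : Fin 11) : (pt6 ^ 3 * pt7 ^ 3) x = q x := by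
  have h : ∀ y, (pt6 ^ 3 * pt7 ^ 3) y = s6 (s6 (s6 (s7 (s7 (s7 y))))) := by
    intro y
    simp only [pow_succ, pow_zero, one_mul, Perm.mul_apply, pt6_apply, pt7_apply]
  rw [h]
  revert x
  decide

/-- (B6) `d` does not commute with a lift of order 3 of the 3-cycle `(3 5 10)`. -/
theorem not_comm (I : HexIn F) {d x : G} (h6 : d * I.e.t6 * d⁻¹ = I.e.t6 ^ 3 * I.e.t7 ^ 3)
    (h7 : d * I.e.t7 * d⁻¹ = I.e.t7) (hd : d * d = I.e.t7 ^ 2) (hxt : x * L.t = L.t * x)
    (hxπ : L.K.π ⟨x, L.mem_iff.2 hxt⟩ = p3 ∨ L.K.π ⟨x, L.mem_iff.2 hxt⟩ = p3⁻¹) : d * x ≠ x * d := by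
  intro hdx
  have hdt : d * L.t = L.t * d := by
    rw [← I.t7_sq, pow_two]
    have h8 : d * I.e.t7 = I.e.t7 * d := by
      rw [mul_inv_eq_iff_eq_mul] at h7
      exact h7
    rw [← mul_assoc, h8, mul_assoc, h8, ← mul_assoc]
  let gd : centralizer ({L.t} : Set G) := ⟨d, L.mem_iff.2 hdt⟩
  let gx : centralizer ({L.t} : Set G) := ⟨x, L.mem_iff.2 hxt⟩
  let g6 : centralizer ({L.t} : Set G) := ⟨I.e.t6, L.mem_iff.2 I.kt6⟩
  let g7 : centralizer ({L.t} : Set G) := ⟨I.e.t7, L.mem_iff.2 I.kt7⟩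
  let gA : centralizer ({L.t} : Set G) := ⟨I.e.A, L.mem_iff.2 I.kA⟩
  have k6 : gd * g6 * gd⁻¹ = g6 ^ 3 * g7 ^ 3 := Subtype.ext h6
  have k7 : gd * g7 * gd⁻¹ = g7 := Subtype.ext h7
  have kd : gd * gd = L.K.z := Subtype.ext (by
    show d * d = (L.K.z : G)
    rw [L.hz, hd, I.t7_sq])
  have kx : gd * gx = gx * gd := Subtype.ext hdx
  have kA : gA * g6 * gA⁻¹ = g6 * g7 := Subtype.ext I.rel.at6
  set δ := L.K.π gd with hδ
  -- the permutation
  have m6 : δ * pt6 * δ⁻¹ = pt6 ^ 3 * pt7 ^ 3 := by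
    have := congrArg L.K.π k6
    rw [map_mul, map_mul, map_inv, map_mul, map_pow, map_pow] at this
    rw [← hδ, show L.K.π g6 = pt6 from I.πt6, show L.K.π g7 = pt7 from I.πt7] at this
    exact this
  have m7 : δ * pt7 * δ⁻¹ = pt7 := by
    have := congrArg L.K.π k7
    rw [map_mul, map_mul, map_inv] at this
    rw [← hδ, show L.K.π g7 = pt7 from I.πt7] at this
    exact this
  have md : δ * δ = 1 := by
    have := congrArg L.K.π kd
    rwa [map_mul, L.K.π_z] at this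
  have mx : δ * p3 = p3 * δ := by
    have h1 := congrArg L.K.π kx
    rw [map_mul, map_mul, ← hδ] at h1
    rcases hxπ with h2 | h2
    · rwa [show L.K.π gx = p3 from h2] at h1
    · rw [show L.K.π gx = p3⁻¹ from h2] at h1
      calc δ * p3 = p3 * (p3⁻¹ * δ) * p3 := by group
        _ = p3 * (δ * p3⁻¹) * p3 := by rw [h1]
        _ = p3 * δ := by group
  have hcard : δ.support.card % 8 = 4 := by
    have h1 : 4 ∣ δ.support.card := L.K.four_dvd (g := gd) md
    have h2 : ¬ 8 ∣ δ.support.card := by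
      intro h
      have h3 := (L.K.sq_eq_one_iff (g := gd)).2 ⟨md, h⟩
      rw [kd] at h3
      exact L.K.z_ne h3
    omega
  obtain ⟨b, hb⟩ := candidates (δ := δ) md
    (fun y => by
      have h1 : δ * pt7 = pt7 * δ := by rwa [mul_inv_eq_iff_eq_mul] at m7
      have := congrArg (fun f : Perm (Fin 11) => f y) h1
      simp only [Perm.mul_apply] at this
      rw [pt7_apply, pt7_apply] at this
      exact this)
    (fun y => by
      have h1 : δ * pt6 = pt6 ^ 3 * pt7 ^ 3 * δ := by rwa [mul_inv_eq_iff_eq_mul] at m6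
      have := congrArg (fun f : Perm (Fin 11) => f y) h1
      rw [Perm.mul_apply, Perm.mul_apply, pt6_apply, q_apply] at this
      exact this)
    (fun y => by
      have := congrArg (fun f : Perm (Fin 11) => f y) mx
      simp only [Perm.mul_apply] at this
      rw [p3_apply, p3_apply] at this
      exact this) hcard
  refine false_of_sign (K := L.K) (g6 := g6) (gA := gA) (g7 := g7) (gd := gd) ?_ ?_ kA b hb k6
  · intro y
    rw [show L.K.π g6 = pt6 from I.πt6]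
    revert y; decide
  · intro y
    rw [show L.K.π gA = pA from I.πA]
    revert y; decide

end main

end Cfsg.Agent.SporRec.LyHexB6
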