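import Mathlib

/-!
The permutation of the element `d` on eleven points.
-/

set_option autoImplicit false

namespace Cfsg.Agent.SporRec.LyHexPerm

open Equiv


/-- `a` -/
def pa : Fin 11 → Fin 11 := ![1, 0, 2, 3, 4, 5, 8, 6, 9, 7, 10]
/-- `a³` -/
def pa3 : Fin 11 → Fin 11 := ![1, 0, 2, 3, 4, 5, 7, 9, 6, 8, 10]
/-- `b` -/
def pb : Fin 11 → Fin 11 := ![1, 2, 3, 4, 0, 5, 6, 7, 8, 9, 10]
/-- `c5` -/
def p5 : Fin 11 → Fin 11 := ![0, 1, 2, 3, 4, 6, 7, 8, 9, 5, 10]
/-- the 3-cycle -/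
def px : Fin 11 → Fin 11 := ![0, 1, 2, 5, 4, 10, 6, 7, 8, 9, 3]

/-- `d` -/
def dv : Fin 11 → Fin 11 := ![0, 1, 2, 3, 4, 10, 6, 8, 7, 9, 5]

theorem p69 : ∀ q : Fin 11, (q = 6 ∨ q = 7 ∨ q = 8 ∨ q = 9) → q = px q := by decide +kernel

theorem p69' : ∀ q : Fin 11, (q = 6 ∨ q = 7 ∨ q = 8 ∨ q = 9) → (pa q = 6 ∨ pa q = 7 ∨ pa q = 8 ∨ pa q = 9) := by
  decide +kernel

theorem step1 : ∀ p : Fin 11, pb p = pa p → pb p ≠ p → p = 0 := by decide +kernel

theorem step2 : ∀ r : Fin 11, pa r = r → r ≠ 2 → r ≠ 3 → r ≠ 4 → r = 5 ∨ r = 10 := by decide +kernel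

theorem step3 : ∀ q : Fin 11, q ≠ 0 → q ≠ 1 → q ≠ 2 → q ≠ 3 → q ≠ 4 → q ≠ 5 → q ≠ 10 →
    q = 6 ∨ q = 7 ∨ q = 8 ∨ q = 9 := by
  decide +kernel

theorem perm_d (δ : Perm (Fin 11))
    (hb : δ * (swap 0 1 * swap 1 2 * swap 2 3 * swap 3 4) = (swap 0 1 * swap 1 2 * swap 2 3 * swap 3 4) * δ)
    (ha : (swap 0 1 * swap 6 8 * swap 8 9 * swap 9 7) * δ = δ * (swap 0 1 * swap 6 8 * swap 8 9 * swap 9 7) ^ 3)
    (h5 : (δ * (swap 5 6 * swap 6 7 * swap 7 8 * swap 8 9)) ^ 5 = 1)
    (hx : δ * (swap 3 5 * swap 5 10) ≠ (swap 3 5 * swap 5 10) * δ) :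
    δ = swap 5 10 * swap 7 8 := by
  have ka : ∀ k, (swap 0 1 * swap 6 8 * swap 8 9 * swap 9 7 : Perm (Fin 11)) k = pa k := by decide +kernel
  have ka3 : ∀ k, ((swap 0 1 * swap 6 8 * swap 8 9 * swap 9 7 : Perm (Fin 11)) ^ 3) k = pa3 k := by decide +kernel
  have kb : ∀ k, (swap 0 1 * swap 1 2 * swap 2 3 * swap 3 4 : Perm (Fin 11)) k = pb k := by decide +kernel
  have k5 : ∀ k, (swap 5 6 * swap 6 7 * swap 7 8 * swap 8 9 : Perm (Fin 11)) k = p5 k := by decide +kernel
  have kx : ∀ k, (swap 3 5 * swap 5 10 : Perm (Fin 11)) k = px k := by decide +kernel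
  have ga : ∀ k, δ (pa3 k) = pa (δ k) := by
    intro k
    have := congrArg (fun f : Perm (Fin 11) => f k) ha
    simp only [Perm.mul_apply (f := δ), ka3] at this
    rw [← this, ← ka]
    rfl
  have gb : ∀ k, δ (pb k) = pb (δ k) := by
    intro k
    have := congrArg (fun f : Perm (Fin 11) => f k) hb
    simp only [Perm.mul_apply (f := δ), kb] at this
    rw [this, ← kb]
    rfl
  have g5 : ∀ k, δ (p5 (δ (p5 (δ (p5 (δ (p5 (δ (p5 k))))))))) = k := by
    intro k
    have e : ∀ k, (δ * (swap 5 6 * swap 6 7 * swap 7 8 * swap 8 9) : Perm (Fin 11)) k = δ (p5 k) := by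
      intro k
      rw [Perm.mul_apply, k5]
    have := congrArg (fun f : Perm (Fin 11) => f k) h5
    generalize δ * (swap 5 6 * swap 6 7 * swap 7 8 * swap 8 9) = ρ at e this
    have h : ρ (ρ (ρ (ρ (ρ k)))) = k := by
      have h' : (ρ ^ 5) k = ρ (ρ (ρ (ρ (ρ k)))) := by
        simp only [pow_succ, pow_zero, one_mul, Perm.mul_apply]
      rw [← h']
      exact this
    rwa [e, e, e, e, e] at h
  have gx : ¬ ∀ k, δ (px k) = px (δ k) := by
    intro h
    apply hx
    apply Perm.ext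
    intro k
    show δ ((swap 3 5 * swap 5 10 : Perm (Fin 11)) k) = (swap 3 5 * swap 5 10 : Perm (Fin 11)) (δ k)
    rw [kx, kx]
    exact h k
  have inj : ∀ {i j : Fin 11}, i ≠ j → δ i ≠ δ j := fun h h' => h (δ.injective h')
  have A0 : δ 1 = pa (δ 0) := by
    have := ga 0
    rwa [show pa3 0 = 1 by decide +kernel] at this
  have A5 : δ 5 = pa (δ 5) := by
    have := ga 5
    rwa [show pa3 5 = 5 by decide +kernel] at this
  have A10 : δ 10 = pa (δ 10) := by
    have := ga 10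
    rwa [show pa3 10 = 10 by decide +kernel] at this
  have A6 : δ 7 = pa (δ 6) := by
    have := ga 6
    rwa [show pa3 6 = 7 by decide +kernel] at this
  have A7 : δ 9 = pa (δ 7) := by
    have := ga 7
    rwa [show pa3 7 = 9 by decide +kernel] at this
  have A9 : δ 8 = pa (δ 9) := by
    have := ga 9
    rwa [show pa3 9 = 8 by decide +kernel] at this
  have B0 : δ 1 = pb (δ 0) := by
    have := gb 0
    rwa [show pb 0 = 1 by decide +kernel] at this
  have B1 : δ 2 = pb (δ 1) := by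
    have := gb 1
    rwa [show pb 1 = 2 by decide +kernel] at this
  have B2 : δ 3 = pb (δ 2) := by
    have := gb 2
    rwa [show pb 2 = 3 by decide +kernel] at this
  have B3 : δ 4 = pb (δ 3) := by
    have := gb 3
    rwa [show pb 3 = 4 by decide +kernel] at this
  have d0 : δ 0 = 0 := by
    apply step1
    · exact B0.symm.trans A0
    · intro h
      exact inj (i := 1) (j := 0) (by decide) (B0.trans h)
  have d1 : δ 1 = 1 := by rw [B0, d0]; decide +kernel
  have d2 : δ 2 = 2 := by rw [B1, d1]; decide +kernel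
  have d3 : δ 3 = 3 := by rw [B2, d2]; decide +kernel
  have d4 : δ 4 = 4 := by rw [B3, d3]; decide +kernel
  have ne : ∀ {i j v : Fin 11}, δ j = v → i ≠ j → δ i ≠ v := fun hj hij h => hij (δ.injective (h.trans hj.symm))
  have d5 : δ 5 = 5 ∨ δ 5 = 10 :=
    step2 _ A5.symm (ne d2 (by decide)) (ne d3 (by decide)) (ne d4 (by decide))
  have d10 : δ 10 = 5 ∨ δ 10 = 10 :=
    step2 _ A10.symm (ne d2 (by decide)) (ne d3 (by decide)) (ne d4 (by decide))
  have d510 : δ 5 ≠ δ 10 := inj (by decide)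
  have h510 : δ 5 = 5 ∧ δ 10 = 10 ∨ δ 5 = 10 ∧ δ 10 = 5 := by
    rcases d5 with h | h <;> rcases d10 with h' | h'
    · exact absurd (h.trans h'.symm) d510
    · exact Or.inl ⟨h, h'⟩
    · exact Or.inr ⟨h, h'⟩
    · exact absurd (h.trans h'.symm) d510
  have n5 : δ 6 ≠ 5 ∧ δ 6 ≠ 10 := by
    rcases h510 with ⟨h, h'⟩ | ⟨h, h'⟩
    · exact ⟨ne h (by decide), ne h' (by decide)⟩
    · exact ⟨ne h' (by decide), ne h (by decide)⟩
  have d6 : δ 6 = 6 ∨ δ 6 = 7 ∨ δ 6 = 8 ∨ δ 6 = 9 :=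
    step3 _ (ne d0 (by decide)) (ne d1 (by decide)) (ne d2 (by decide)) (ne d3 (by decide)) (ne d4 (by decide))
      n5.1 n5.2
  have e7 : δ 7 = pa (δ 6) := A6
  have e9 : δ 9 = pa (δ 7) := A7
  have e8 : δ 8 = pa (δ 9) := A9
  have d7 : δ 7 = 6 ∨ δ 7 = 7 ∨ δ 7 = 8 ∨ δ 7 = 9 := by rw [e7]; exact p69' _ d6
  have d9 : δ 9 = 6 ∨ δ 9 = 7 ∨ δ 9 = 8 ∨ δ 9 = 9 := by rw [e9]; exact p69' _ d7
  have d8 : δ 8 = 6 ∨ δ 8 = 7 ∨ δ 8 = 8 ∨ δ 8 = 9 := by rw [e8]; exact p69' _ d9
  rcases h510 with ⟨h5', h10'⟩ | ⟨h5', h10'⟩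
  · exfalso
    apply gx
    intro k
    fin_cases k
    · exact d0.trans (congrArg px d0.symm)
    · exact d1.trans (congrArg px d1.symm)
    · exact d2.trans (congrArg px d2.symm)
    · exact h5'.trans (congrArg px d3.symm)
    · exact d4.trans (congrArg px d4.symm)
    · exact h10'.trans (congrArg px h5'.symm)
    · exact p69 _ d6
    · exact p69 _ d7
    · exact p69 _ d8
    · exact p69 _ d9
    · exact d3.trans (congrArg px h10'.symm)
  · rcases d6 with h6 | h6 | h6 | h6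
    · have f7 : δ 7 = 8 := by rw [e7, h6]; decide +kernel
      have f9 : δ 9 = 9 := by rw [e9, f7]; decide +kernel
      have f8 : δ 8 = 7 := by rw [e8, f9]; decide +kernel
      apply Perm.ext
      intro k
      have key : ∀ k, dv k = (swap 5 10 * swap 7 8 : Perm (Fin 11)) k := by decide +kernel
      rw [← key k]
      fin_cases k
      · exact d0
      · exact d1
      · exact d2
      · exact d3
      · exact d4
      · exact h5'
      · exact h6
      · exact f7
      · exact f8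
      · exact f9
      · exact h10'
    · have f7 : δ 7 = 6 := by rw [e7, h6]; decide +kernel
      have f9 : δ 9 = 8 := by rw [e9, f7]; decide +kernel
      have f8 : δ 8 = 9 := by rw [e8, f9]; decide +kernel
      exfalso
      have g := g5 5
      rw [show δ (p5 5) = 7 from h6] at g
      rw [show δ (p5 7) = 9 from f8] at g
      rw [show δ (p5 9) = 10 from h5'] at g
      rw [show δ (p5 10) = 5 from h10'] at g
      rw [show δ (p5 5) = 7 from h6] at g
      exact absurd g (by decide)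
    · have f7 : δ 7 = 9 := by rw [e7, h6]; decide +kernel
      have f9 : δ 9 = 7 := by rw [e9, f7]; decide +kernel
      have f8 : δ 8 = 6 := by rw [e8, f9]; decide +kernel
      exfalso
      have g := g5 5
      rw [show δ (p5 5) = 8 from h6] at g
      rw [show δ (p5 8) = 7 from f9] at g
      rw [show δ (p5 7) = 6 from f8] at g
      rw [show δ (p5 6) = 9 from f7] at g
      rw [show δ (p5 9) = 10 from h5'] at g
      exact absurd g (by decide)
    · have f7 : δ 7 = 7 := by rw [e7, h6]; decide +kernel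
      have f9 : δ 9 = 6 := by rw [e9, f7]; decide +kernel
      have f8 : δ 8 = 8 := by rw [e8, f9]; decide +kernel
      exfalso
      have g := g5 5
      rw [show δ (p5 5) = 9 from h6] at g
      rw [show δ (p5 9) = 10 from h5'] at g
      rw [show δ (p5 10) = 5 from h10'] at g
      rw [show δ (p5 5) = 9 from h6] at g
      rw [show δ (p5 9) = 10 from h5'] at g
      exact absurd g (by decide)

end Cfsg.Agent.SporRec.LyHexPerm
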