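import Cfsg.Agent.SporRec.LyHexOf

/-!
The relations 1–44 in a group of Lyons type from a homomorphism of the matrix group `M7`, and the permutation of `d`.
-/

set_option autoImplicit false
set_option linter.dupNamespace false

namespace Cfsg.Agent.SporRec.LyHexRel44

open Subgroup Equiv Cfsg.Agent.SporRec.TwoAn Cfsg.Agent.SporRec.LyType Cfsg.Agent.SporRec.LyFive
open Cfsg.Agent.SporRec.LyHexRel Cfsg.Agent.SporRec.LyHexIn Cfsg.Agent.SporRec.LyHexModel
open Cfsg.Agent.SporRec.LyHexOf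
open Cfsg.Agent.SporRec.LyG2.Rel Cfsg.Agent.SporRec.LyG2.Rel28 Cfsg.Agent.SporRec.LyG2.Bound
open Cfsg.Agent.SporRec.LyG2.P28 Cfsg.Agent.SporRec.LyG2.M7 Cfsg.Agent.SporRec.LyG2.Pres
open Cfsg.Agent.SporadicRecognition.CosetCert (ev ev_nil ev_cons ev_append)

/-! ### The relations 1–44 in `M7` -/

/-- letters as elements of `M7` -/
def x (k : ℕ) : M7 := ⟨X k, X_mem k⟩

theorem holds_M7 : Holds (x 0) (x 2) (x 4) (x 6) (x 8) (x 10) (x 12) (x 14) (x 16) := by
  constructor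
  · intro r hr
    apply M7.subtype_injective
    rw [map_ev_col1, map_one]
    exact holds_X.rel r hr
  · apply M7.subtype_injective
    rw [map_mul, map_one]
    exact holds_X.ee

theorem rel44_M7 : Rel44 (x 0) (x 2) (x 4) (x 6) (x 8) (x 4) (x 10) (x 12) (x 14) (x 16) :=
  Cfsg.Agent.SporRec.LyG2.RelBack.of_holds holds_M7

section hom

variable {G : Type*} [Group G] {L : LyType G} {F : LyFive L} {a b c c2 c3 c4 c5 : G}

/-- A homomorphism of `M7` extending the root elements gives the relations 1–44. -/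
theorem rel44 (h : Rel28 a b c c2 c3 c4 c5) (φ : M7 →* G)
    (h7 : φ (x 32) = (els a b c c2 c3 c4 c5).x7)
    (h8 : φ (x 34) = (els a b c c2 c3 c4 c5).x8) (h9 : φ (x 36) = (els a b c c2 c3 c4 c5).x9)
    (h10 : φ (x 38) = (els a b c c2 c3 c4 c5).x10) (h11 : φ (x 40) = (els a b c c2 c3 c4 c5).x11)
    (h6 : φ (x 42) = (els a b c c2 c3 c4 c5).t6)
    (hA : φ ⟨A7, A7_mem⟩ = (els a b c c2 c3 c4 c5).A) :
    Rel44 a b c (φ (x 6)) (φ (x 8)) c c2 c3 c4 c5 := by
  have ea : x 0 = ⟨A7, A7_mem⟩ * x 42 ^ 3 := Subtype.ext a_eq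
  have eb : x 2 = x 32 := Subtype.ext b_eq
  have ec : x 4 = x 34 ^ 2 * x 36 * x 38 ^ 4 * x 40 ^ 2 := Subtype.ext c_eq
  have fa : φ (x 0) = a := by
    rw [ea, map_mul, map_pow, hA, h6]
    have k := eq_of_check h (wA ++ wt6 ++ wt6 ++ wt6) [0] (by decide +kernel)
    rw [ev_append, ev_append, ev_append, ev_cons, ev_nil, mul_one] at k
    rw [pow_succ, pow_succ, pow_one, ← mul_assoc, ← mul_assoc]
    exact k
  have fb : φ (x 2) = b := by
    rw [eb, h7]
    show ev (col2 a b c c2 c3 c4 c5) [2] = b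
    rw [ev_cons, ev_nil, mul_one]
    rfl
  have fc : φ (x 4) = c := by
    rw [ec, map_mul, map_mul, map_mul, map_pow, map_pow, map_pow, h8, h9, h10, h11]
    have k := eq_of_check h (w8 ++ w8 ++ w9 ++ (w10 ++ w10 ++ w10 ++ w10) ++ (w11 ++ w11)) [4] (by decide +kernel)
    rw [ev_append, ev_append, ev_append, ev_append, ev_append, ev_append, ev_append, ev_append, ev_cons, ev_nil,
      mul_one] at k
    rw [pow_two, pow_two, show (4 : ℕ) = 1 + 1 + 1 + 1 from rfl, pow_succ _ (1 + 1 + 1), pow_succ _ (1 + 1),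
      pow_succ _ 1, pow_one]
    exact k
  have R := rel44_M7.map φ
  rw [fa, fb, fc] at R
  have f2 : φ (x 10) = c2 := (mul_inv_eq_one.mp R.r7).trans (mul_inv_eq_one.mp h.r7).symm
  have f3 : φ (x 12) = c3 := (mul_inv_eq_one.mp R.r8).trans (mul_inv_eq_one.mp h.r8).symm
  have f4 : φ (x 14) = c4 := (mul_inv_eq_one.mp R.r9).trans (mul_inv_eq_one.mp h.r9).symm
  rw [f2, f3, f4] at R
  have f5 : φ (x 16) = c5 := (mul_inv_eq_one.mp R.r10).trans (mul_inv_eq_one.mp h.r10).symm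
  rwa [f5] at R

end hom

end Cfsg.Agent.SporRec.LyHexRel44
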