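import Cfsg.Agent.SporRec.LyHexMain
import Cfsg.Agent.SporRec.LyHexB6
import Cfsg.Agent.SporRec.LyHexRel44
import Cfsg.Agent.SporRec.LyHexPerm

/-!
The relations 1–44 of the presentation of the Lyons group in a group of Lyons type, with the permutation of `d`.
-/

set_option autoImplicit false
set_option linter.dupNamespace false

namespace Cfsg.Agent.SporRec.LyHexFinal

open Subgroup Equiv Cfsg.Agent.SporRec.TwoAn Cfsg.Agent.SporRec.LyType Cfsg.Agent.SporRec.LyFive
open Cfsg.Agent.SporRec.LyHexRel Cfsg.Agent.SporRec.LyHexIn Cfsg.Agent.SporRec.LyHexModel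
open Cfsg.Agent.SporRec.LyHexOf Cfsg.Agent.SporRec.LyHexRel44
open Cfsg.Agent.SporRec.LyG2.Rel Cfsg.Agent.SporRec.LyG2.M7
open Cfsg.Agent.SporadicRecognition.CosetCert (ev ev_nil ev_cons ev_append)

variable {G : Type*} [Group G] {L : LyType G} {F : LyFive L} {a b c c2 c3 c4 c5 : G}

theorem d6 : x 6 * x 42 * (x 6)⁻¹ = x 42 ^ 3 * x 44 ^ 3 := by
  rw [mul_inv_eq_iff_eq_mul]
  apply Subtype.ext
  have k := ev_eq [6, 42] [42, 42, 42, 44, 44, 44, 6] (by decide +kernel)
  simp only [ev_cons, ev_nil, mul_one] at k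
  show X 6 * X 42 = X 42 ^ 3 * X 44 ^ 3 * X 6
  simp only [pow_succ, pow_zero, one_mul, mul_assoc]
  exact k

theorem d7 : x 6 * x 44 * (x 6)⁻¹ = x 44 := by
  rw [mul_inv_eq_iff_eq_mul]
  apply Subtype.ext
  have k := ev_eq [6, 44] [44, 6] (by decide +kernel)
  simp only [ev_cons, ev_nil, mul_one] at k
  exact k

theorem dd : x 6 * x 6 = x 44 ^ 2 := by
  apply Subtype.ext
  have k := ev_eq [6, 6] [44, 44] (by decide +kernel)
  simp only [ev_cons, ev_nil, mul_one] at k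
  show X 6 * X 6 = X 44 ^ 2
  rw [pow_two]
  exact k

/-- **Relations 1–44** in a group of Lyons type, and the image of `d` in `A₁₁`. -/
theorem exists_rel44 [Finite G] (h : Data28 F a b c c2 c3 c4 c5) :
    ∃ d e : G, Rel44 a b c d e c c2 c3 c4 c5 ∧
      ∃ hd : d * L.t = L.t * d, L.K.π ⟨d, L.mem_iff.2 hd⟩ = swap 5 10 * swap 7 8 := by
  obtain ⟨φ, N, -, -, h7, h8, h9, h10, h11, ht6, ht7, hA, -⟩ := LyHexMain.exists_hom (hexIn h)
  have R := rel44 h.rel φ h7 h8 h9 h10 h11 ht6 hA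
  refine ⟨φ (x 6), φ (x 8), R, ?_⟩
  have hd : φ (x 6) * L.t = L.t * φ (x 6) := by
    have k := mul_inv_eq_one.mp R.r40
    rw [← h.a4, ← k, ← pow_succ, ← pow_succ']
  refine ⟨hd, ?_⟩
  have e6 : φ (x 42) = (hexIn h).e.t6 := ht6
  have e7 : φ (x 44) = (hexIn h).e.t7 := ht7
  have q6 : φ (x 6) * (hexIn h).e.t6 * (φ (x 6))⁻¹ = (hexIn h).e.t6 ^ 3 * (hexIn h).e.t7 ^ 3 := by
    rw [← e6, ← e7, ← map_inv, ← map_mul, ← map_mul, d6, map_mul, map_pow, map_pow]
  have q7 : φ (x 6) * (hexIn h).e.t7 * (φ (x 6))⁻¹ = (hexIn h).e.t7 := by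
    rw [← e7, ← map_inv, ← map_mul, ← map_mul, d7]
  have qd : φ (x 6) * φ (x 6) = (hexIn h).e.t7 ^ 2 := by
    rw [← e7, ← map_mul, dd, map_pow]
  generalize φ (x 6) = d at R hd q6 q7 qd ⊢
  let gd : centralizer ({L.t} : Set G) := ⟨d, L.mem_iff.2 hd⟩
  let ga : centralizer ({L.t} : Set G) := ⟨a, L.mem_iff.2 h.ka⟩
  let gb : centralizer ({L.t} : Set G) := ⟨b, L.mem_iff.2 h.kb⟩
  let g5 : centralizer ({L.t} : Set G) := ⟨c5, L.mem_iff.2 h.k5⟩
  show L.K.π gd = _
  apply LyHexPerm.perm_d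
  · have k : gd * gb = gb * gd := by
      apply Subtype.ext
      show d * b = b * d
      have k := R.r41
      have : d * b = b * d * (b⁻¹ * d⁻¹ * b * d)⁻¹⁻¹⁻¹ := by group
      rw [this, k]
      group
    have k' := congrArg L.K.π k
    rw [map_mul, map_mul] at k'
    rw [← h.πb]
    exact k'
  · have k : ga * gd = gd * ga ^ 3 := by
      apply Subtype.ext
      show a * d = d * a ^ 3
      rw [← mul_inv_eq_one.mp R.r42]
      group
    have k' := congrArg L.K.π k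
    rw [map_mul, map_mul, map_pow] at k'
    rw [← h.πa]
    exact k'
  · have k : (gd * g5) ^ 5 = 1 := by
      apply Subtype.ext
      exact R.r43
    have k' := congrArg L.K.π k
    rw [map_pow, map_mul, map_one] at k'
    rw [← h.π5]
    exact k'
  · intro hc
    obtain ⟨gx, hx, hx3⟩ := L.K.exists_odd_lift (σ := swap 3 5 * swap 5 10)
      (Cover.swap_mul_swap_mem 3 5 5 10 (by decide) (by decide)) (n := 3) (by decide) (by decide +kernel)
    have hcm : gx * gd = gd * gx := L.K.commute_of_odd (n := 3) (by decide) hx3 (by rw [hx]; exact hc.symm)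
    have hxt : (gx : G) * L.t = L.t * gx := L.mem_iff.1 gx.2
    exact LyHexB6.not_comm (hexIn h) q6 q7 qd hxt (Or.inl hx) (congrArg Subtype.val hcm).symm

end Cfsg.Agent.SporRec.LyHexFinal
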