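import Cfsg.Agent.SporRec.LyFiveInv
import Cfsg.Agent.SporRec.TwoAnEleven

/-!
# Groups of Lyons type: the normaliser of an elementary abelian subgroup of order sixteen

It centralises an element of order three, and contains an element of order five inverted by an involution.
-/

set_option autoImplicit false

namespace Cfsg.Agent.SporRec.LyA1

open Subgroup Equiv Cfsg Cfsg.Agent.SporRec.TwoAn Cfsg.Agent.SporRec.LyType Cfsg.Agent.SporRec.TwoAnEleven
open Cfsg.Agent.SporRec.LyFiveInv Cfsg.Agent.SporRec.LyFiveCore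

section general

variable {G : Type*} [Group G]

theorem mem_inf_cent {N : Subgroup G} {g a : G} : g ∈ N ⊓ centralizer {a} ↔ g ∈ N ∧ g * a = a * g := by
  rw [mem_inf, mem_centralizer_singleton_iff]

/-- Orbits and stabilisers for the conjugation by a subgroup. -/
theorem card_conj [Finite G] (N : Subgroup G) (t : G) {S : Set G} (h1 : ∀ n ∈ N, n * t * n⁻¹ ∈ S)
    (h2 : ∀ s ∈ S, ∃ n ∈ N, n * t * n⁻¹ = s) :
    Nat.card N = Nat.card S * Nat.card (N ⊓ centralizer {t} : Subgroup G) := by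
  classical
  let _ : MulAction N G := MulAction.compHom G (MulAut.conj.comp N.subtype : N →* MulAut G)
  have hsm : ∀ (n : N) (g : G), n • g = n * g * (n : G)⁻¹ := fun n g => rfl
  have ho : MulAction.orbit N t = S := by
    ext s
    constructor
    · rintro ⟨n, rfl⟩
      exact h1 n n.2
    · intro hs
      obtain ⟨n, hn, e⟩ := h2 s hs
      exact ⟨⟨n, hn⟩, e⟩
  have hs : MulAction.stabilizer N t = (N ⊓ centralizer {t} : Subgroup G).subgroupOf N := by
    ext n
    rw [MulAction.mem_stabilizer_iff, mem_subgroupOf, mem_inf, mem_centralizer_singleton_iff, hsm,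
      mul_inv_eq_iff_eq_mul]
    exact ⟨fun h => ⟨n.2, h⟩, fun h => h.2⟩
  have h3 := Nat.card_congr (MulAction.orbitProdStabilizerEquivGroup N t)
  rw [Nat.card_prod, hs, ho, Nat.card_congr (subgroupOfEquivOfLe inf_le_left).toEquiv] at h3
  exact h3.symm

theorem zmod5_pow_four : ∀ r : ZMod 5, r ≠ 0 → r ^ 4 = 1 := by decide

theorem zmod5_pow_two : ∀ r : ZMod 5, r ^ 2 = 1 → r = 1 ∨ r = 4 := by decide

theorem zmod5_eq_one {r : ZMod 5} {j : ℕ} (h : r ^ (2 * j + 1) = 1) : r = 1 := by
  have hr : r ≠ 0 := by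
    intro h0
    rw [h0, zero_pow (by omega)] at h
    exact absurd h (by decide)
  have h10 : orderOf r ∣ 4 := orderOf_dvd_of_pow_eq_one (zmod5_pow_four _ hr)
  have h11 : orderOf r ∣ 2 * j + 1 := orderOf_dvd_of_pow_eq_one h
  have h12 : orderOf r ∣ 1 := by
    have : Nat.Coprime 4 (2 * j + 1) := by
      have : Nat.Coprime (2 ^ 2) (2 * j + 1) := Nat.Coprime.pow_left 2 (by simp)
      exact this
    rw [← this]; exact Nat.dvd_gcd h10 h11
  exact orderOf_eq_one_iff.1 (Nat.dvd_one.1 h12)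

/-- An automorphism of order five without fixed points. -/
theorem card_modEq_of_fpf [Finite G] {F : Subgroup G} {y : G} (hy : y ^ 5 = 1) (hF : ∀ e ∈ F, y * e * y⁻¹ ∈ F)
    (hfix : ∀ e ∈ F, y * e * y⁻¹ = e → e = 1) : Nat.card F ≡ 1 [MOD 5] := by
  classical
  have hp : Fact (Nat.Prime 5) := ⟨by norm_num⟩
  have : Fintype F := Fintype.ofFinite F
  let f : Function.End F := fun e => ⟨y * e * y⁻¹, hF e e.2⟩
  have h1 : ∀ (n : ℕ) (e : F), (((f ^ n : Function.End F) e : F) : G) = y ^ n * e * (y ^ n)⁻¹ := by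
    intro n
    induction n with
    | zero =>
      intro e
      rw [pow_zero, pow_zero, one_mul, inv_one, mul_one]; rfl
    | succ n ih =>
      intro e
      have h2 : ((f ^ (n + 1) : Function.End F) e : F) = (f ^ n : Function.End F) (f e) := by
        rw [pow_succ]; rfl
      rw [h2, ih]
      show y ^ n * (y * e * y⁻¹) * (y ^ n)⁻¹ = _
      rw [pow_succ]; group
  have h2 : (f ^ 5 ^ 1 : Function.End F) = 1 := by
    funext e
    apply Subtype.ext
    rw [h1, pow_one, hy, one_mul, inv_one, mul_one]; rfl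
  have h3 := Equiv.Perm.card_fixedPoints_modEq (f := f) (p := 5) (n := 1) h2
  rw [Nat.card_eq_fintype_card]
  refine h3.trans ?_
  have h4 : Fintype.card (Function.fixedPoints f) = 1 := by
    rw [Fintype.card_eq_one_iff]
    refine ⟨⟨1, ?_⟩, ?_⟩
    · show f 1 = 1
      apply Subtype.ext
      show y * ((1 : F) : G) * y⁻¹ = ((1 : F) : G)
      rw [OneMemClass.coe_one, mul_one, mul_inv_cancel]
    · rintro ⟨e, he⟩
      apply Subtype.ext
      apply Subtype.ext
      exact hfix e e.2 (congrArg Subtype.val he)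
  rw [h4]

/-- A group acting on the non-trivial elements of another one with stabilisers of a given order. -/
theorem card_dvd_of_stab [Finite G] (D E : Subgroup G) (hDE : ∀ d ∈ D, ∀ e ∈ E, d * e * d⁻¹ ∈ E) {m : ℕ}
    (hm : ∀ b ∈ E, b ≠ 1 → Nat.card (D ⊓ centralizer {b} : Subgroup G) = m) :
    (Nat.card D / m) ∣ (Nat.card E - 1) := by
  classical
  have hF1 : Fintype D := Fintype.ofFinite D
  have hF2 : Fintype {e : E // e ≠ 1} := Fintype.ofFinite _
  let _ : MulAction D {e : E // e ≠ 1} :=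
    { smul := fun d e => ⟨⟨d * (e : E) * (d : G)⁻¹, hDE d d.2 e.1 e.1.2⟩, fun h =>
        e.2 (Subtype.ext (conj_eq_one_iff.1 (congrArg Subtype.val h)))⟩
      one_smul := fun e => Subtype.ext (Subtype.ext (by
        show ((1 : D) : G) * (e : E) * ((1 : D) : G)⁻¹ = (e : E)
        rw [OneMemClass.coe_one, one_mul, inv_one, mul_one]))
      mul_smul := fun a b e => Subtype.ext (Subtype.ext (by
        show ((a * b : D) : G) * (e : E) * ((a * b : D) : G)⁻¹ = a * (b * (e : E) * (b : G)⁻¹) * (a : G)⁻¹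
        rw [Subgroup.coe_mul]; group)) }
  have hsm : ∀ (d : D) (e : {e : E // e ≠ 1}), (((d • e : {e : E // e ≠ 1}) : E) : G) = d * (e : E) * (d : G)⁻¹ :=
    fun d e => rfl
  have h1 := MulAction.card_eq_sum_card_group_div_card_stabilizer D {e : E // e ≠ 1}
  have h2 : ∀ e : {e : E // e ≠ 1}, Fintype.card (MulAction.stabilizer D e) = m := by
    intro e
    have hne : ((e : E) : G) ≠ 1 := fun h => e.2 (Subtype.ext h)
    rw [← hm e.1 e.1.2 hne, ← Nat.card_eq_fintype_card,
      ← Nat.card_congr (subgroupOfEquivOfLe (inf_le_left : D ⊓ centralizer {((e : E) : G)} ≤ D)).toEquiv]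
    congr 1
    have : MulAction.stabilizer D e = (D ⊓ centralizer {((e : E) : G)}).subgroupOf D := by
      ext d
      rw [MulAction.mem_stabilizer_iff, mem_subgroupOf, mem_inf, mem_centralizer_singleton_iff]
      constructor
      · intro h
        have h3 := congrArg (fun x : {e : E // e ≠ 1} => ((x : E) : G)) h
        rw [hsm] at h3
        exact ⟨d.2, mul_inv_eq_iff_eq_mul.1 h3⟩
      · intro h
        apply Subtype.ext
        apply Subtype.ext
        rw [hsm]
        exact mul_inv_eq_iff_eq_mul.2 h.2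
    rw [this]
  have h3 : Fintype.card {e : E // e ≠ 1} = Nat.card E - 1 := by
    have : Fintype E := Fintype.ofFinite E
    rw [Nat.card_eq_fintype_card, ← Fintype.card_subtype_eq (1 : E), Fintype.card_subtype_compl]
  rw [← h3, h1, Finset.sum_congr rfl (fun ω _ => by rw [h2]), Finset.sum_const, smul_eq_mul,
    ← Nat.card_eq_fintype_card]
  exact Dvd.intro_left _ rfl

theorem exists_of_mem_sup {B : Subgroup G} {x : G} (hx : ∀ b ∈ B, b * x = x * b) {g : G}
    (hg : g ∈ B ⊔ zpowers x) : ∃ b ∈ B, ∃ k : ℤ, g = b * x ^ k := by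
  have hc : ∀ b ∈ B, ∀ k : ℤ, x ^ k * b = b * x ^ k := fun b hb k =>
    ((show Commute b x from hx b hb).zpow_right k).eq.symm
  let S : Subgroup G :=
    { carrier := {g | ∃ b ∈ B, ∃ k : ℤ, g = b * x ^ k}
      mul_mem' := by
        rintro _ _ ⟨b, hb, k, rfl⟩ ⟨c, hcB, l, rfl⟩
        exact ⟨b * c, B.mul_mem hb hcB, k + l, by
          rw [zpow_add]
          calc b * x ^ k * (c * x ^ l) = b * (x ^ k * c) * x ^ l := by group
            _ = b * (c * x ^ k) * x ^ l := by rw [hc c hcB]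
            _ = b * c * (x ^ k * x ^ l) := by group⟩
      one_mem' := ⟨1, B.one_mem, 0, by simp⟩
      inv_mem' := by
        rintro _ ⟨b, hb, k, rfl⟩
        exact ⟨b⁻¹, B.inv_mem hb, -k, by rw [mul_inv_rev, ← zpow_neg, hc _ (B.inv_mem hb)]⟩ }
  have h1 : B ⊔ zpowers x ≤ S := by
    refine sup_le (fun b hb => ⟨b, hb, 0, by simp⟩) ?_
    rw [zpowers_le]
    exact ⟨1, B.one_mem, 1, by simp⟩
  exact h1 hg

/-- A group of order `120960` with a small centraliser of an element of order five. -/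
theorem exists_inverting [Finite G] (hG : Nat.card G = 120960) {y : G} (hy : y ^ 5 = 1) (hy1 : y ≠ 1)
    (h15 : 15 ∣ Nat.card (centralizer ({y} : Set G))) (h45 : Nat.card (centralizer ({y} : Set G)) ∣ 45) :
    ∃ τ : G, τ * τ = 1 ∧ τ ≠ 1 ∧ τ * y * τ⁻¹ = y⁻¹ := by
  have hp : Fact (Nat.Prime 5) := ⟨by norm_num⟩
  have hoy : orderOf y = 5 := orderOf_eq_prime hy hy1
  have hcy : Nat.card (zpowers y) = 5 := by rw [Nat.card_zpowers, hoy]
  have hfac : (Nat.card G).factorization 5 = 1 := by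
    rw [hG]
    have : (120960 : ℕ) = 5 ^ 1 * 24192 := by norm_num
    rw [this, Nat.factorization_mul (by norm_num) (by norm_num), Nat.factorization_pow]
    rw [Finsupp.add_apply, Finsupp.smul_apply, Nat.Prime.factorization_self (by norm_num),
      Nat.factorization_eq_zero_of_not_dvd (by norm_num : ¬ 5 ∣ 24192)]
    norm_num
  let P : Sylow 5 G := Sylow.ofCard (zpowers y) (by rw [hcy, hfac, pow_one])
  have hP : (P : Subgroup G) = zpowers y := rfl
  have h1 : Nat.card (Sylow 5 G) ≡ 1 [MOD 5] := card_sylow_modEq_one 5 G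
  rw [P.card_eq_index_normalizer] at h1
  change (normalizer (zpowers y : Set G)).index ≡ 1 [MOD 5] at h1
  have h2 := (normalizer (zpowers y : Set G)).index_mul_card
  rw [hG] at h2
  -- elements of the normaliser
  have hnor : ∀ m ∈ normalizer (zpowers y : Set G), ∃ k : ℕ, m * y * m⁻¹ = y ^ k := by
    intro m hm
    have h3 : m * y * m⁻¹ ∈ zpowers y := (mem_normalizer_iff.1 hm y).1 (mem_zpowers y)
    obtain ⟨k, hk⟩ := mem_powers_iff_mem_zpowers.2 h3
    exact ⟨k, hk.symm⟩
  have hpow : ∀ (m : G) (k : ℕ), m * y * m⁻¹ = y ^ k → ∀ n : ℕ, m ^ n * y * (m ^ n)⁻¹ = y ^ k ^ n := by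
    intro m k hk n
    induction n with
    | zero => simp
    | succ n ih =>
      calc m ^ (n + 1) * y * (m ^ (n + 1))⁻¹ = m * (m ^ n * y * (m ^ n)⁻¹) * m⁻¹ := by
            rw [pow_succ']; group
        _ = m * y ^ k ^ n * m⁻¹ := by rw [ih]
        _ = (m * y * m⁻¹) ^ k ^ n := by rw [conj_pow]
        _ = y ^ k ^ (n + 1) := by rw [hk, ← pow_mul, pow_succ']
  have hle : centralizer ({y} : Set G) ≤ normalizer (zpowers y : Set G) := by
    intro g hg
    rw [mem_centralizer_singleton_iff] at hg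
    rw [mem_normalizer_iff]
    intro h
    have h3 : ∀ g : G, Commute g y → ∀ h ∈ zpowers y, g * h * g⁻¹ ∈ zpowers y := by
      rintro g hg _ ⟨k, rfl⟩
      have : g * y ^ k * g⁻¹ = y ^ k := by rw [mul_inv_eq_iff_eq_mul]; exact (hg.zpow_right k).eq
      show g * y ^ k * g⁻¹ ∈ zpowers y
      rw [this]; exact zpow_mem (mem_zpowers y) k
    refine ⟨h3 g hg h, fun h4 => ?_⟩
    have h5 := h3 g⁻¹ (show Commute g y from hg).inv_left _ h4
    have h6 : g⁻¹ * (g * h * g⁻¹) * g⁻¹⁻¹ = h := by group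
    rwa [h6] at h5
  by_cases hodd : Odd (Nat.card (normalizer (zpowers y : Set G)))
  · exfalso
    have hge : normalizer (zpowers y : Set G) ≤ centralizer ({y} : Set G) := by
      intro m hm
      obtain ⟨k, hk⟩ := hnor m hm
      have h3 := hpow m k hk (Nat.card (normalizer (zpowers y : Set G)))
      have h4 : m ^ Nat.card (normalizer (zpowers y : Set G)) = 1 := by
        have := pow_card_eq_one' (x := (⟨m, hm⟩ : normalizer (zpowers y : Set G)))
        exact congrArg Subtype.val this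
      rw [h4, one_mul, inv_one, mul_one] at h3
      have h5 : y ^ k ^ Nat.card (normalizer (zpowers y : Set G)) = y ^ 1 := by rw [← h3, pow_one]
      rw [pow_eq_pow_iff_modEq, hoy] at h5
      -- `k` is one modulo five
      have h6 : k ≡ 1 [MOD 5] := by
        obtain ⟨j, hj⟩ := hodd
        rw [hj] at h5
        have h8 : ((k : ZMod 5)) ^ (2 * j + 1) = 1 := by
          have := (ZMod.natCast_eq_natCast_iff _ _ _).2 h5
          push_cast at this; exact this
        have h9 : ((k : ZMod 5)) = 1 := zmod5_eq_one h8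
        have := (ZMod.natCast_eq_natCast_iff k 1 5).1 (by push_cast; exact h9)
        exact this
      rw [mem_centralizer_singleton_iff]
      have h7 : y ^ k = y := by
        conv_rhs => rw [← pow_one y]
        rw [pow_eq_pow_iff_modEq, hoy]; exact h6
      rw [h7] at hk
      exact mul_inv_eq_iff_eq_mul.1 hk
    have heq := le_antisymm hge hle
    rw [heq] at h1 h2
    obtain ⟨a, ha⟩ := h15
    have h45' : a ∣ 3 := by
      rw [ha] at h45
      exact Nat.dvd_of_mul_dvd_mul_left (by norm_num : 0 < 15) h45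
    rcases (Nat.dvd_prime (by norm_num)).1 h45' with rfl | rfl
    · rw [ha] at h2
      have : (centralizer ({y} : Set G)).index = 8064 := by omega
      rw [this] at h1
      exact absurd h1 (by decide)
    · rw [ha] at h2
      have : (centralizer ({y} : Set G)).index = 2688 := by omega
      rw [this] at h1
      exact absurd h1 (by decide)
  · rw [Nat.not_odd_iff_even] at hodd
    have : Fact (Nat.Prime 2) := ⟨by norm_num⟩
    obtain ⟨τ, hτ⟩ := exists_prime_orderOf_dvd_card' 2 hodd.two_dvd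
    have hτ2 : (τ : G) * τ = 1 := by
      have := pow_orderOf_eq_one τ
      rw [hτ, pow_two] at this
      exact congrArg Subtype.val this
    have hτ1 : (τ : G) ≠ 1 := by
      intro h
      have : τ = 1 := Subtype.ext h
      rw [this, orderOf_one] at hτ
      norm_num at hτ
    refine ⟨τ, hτ2, hτ1, ?_⟩
    obtain ⟨k, hk⟩ := hnor τ τ.2
    have h3 := hpow τ k hk 2
    rw [pow_two, hτ2, one_mul, inv_one, mul_one] at h3
    have h5 : y ^ k ^ 2 = y ^ 1 := by rw [← h3, pow_one]
    rw [pow_eq_pow_iff_modEq, hoy] at h5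
    have h8 : ((k : ZMod 5)) ^ 2 = 1 := by
      have := (ZMod.natCast_eq_natCast_iff _ _ _).2 h5
      push_cast at this; exact this
    rcases zmod5_pow_two _ h8 with h9 | h9
    · exfalso
      have h10 := (ZMod.natCast_eq_natCast_iff k 1 5).1 (by push_cast; exact h9)
      have h11 : y ^ k = y := by
        conv_rhs => rw [← pow_one y]
        rw [pow_eq_pow_iff_modEq, hoy]; exact h10
      rw [h11] at hk
      have hmem : (τ : G) ∈ centralizer ({y} : Set G) := by
        rw [mem_centralizer_singleton_iff]; exact mul_inv_eq_iff_eq_mul.1 hk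
      have h12 : orderOf (⟨τ, hmem⟩ : centralizer ({y} : Set G)) = 2 :=
        orderOf_eq_prime (Subtype.ext (by rw [pow_two]; exact hτ2)) (fun h => hτ1 (congrArg Subtype.val h))
      have h13 : 2 ∣ 45 := by
        rw [← h12]; exact (_root_.orderOf_dvd_natCard _).trans h45
      exact absurd h13 (by norm_num)
    · have h10 := (ZMod.natCast_eq_natCast_iff k 4 5).1 (by push_cast; exact h9)
      rw [hk, eq_inv_iff_mul_eq_one, ← pow_succ, ← orderOf_dvd_iff_pow_eq_one, hoy]
      have := h10.add_right 1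
      exact (Nat.modEq_zero_iff_dvd).1 (this.trans (by decide))

end general

section lyons

variable {G : Type*} [Group G] (L : LyType G)

include L in
/-- Elementary abelian subgroups of order sixteen containing `t` are conjugate in the centraliser of `t`. -/
theorem conj_of_sq [Finite G] {E F : Subgroup G} (hE : Nat.card E = 16) (hEs : ∀ e ∈ E, e * e = 1)
    (htE : L.t ∈ E) (hF : Nat.card F = 16) (hFs : ∀ e ∈ F, e * e = 1) (htF : L.t ∈ F) :
    ∃ c : G, c * L.t = L.t * c ∧ E.map (MulAut.conj c).toMonoidHom = F := by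
  have hcomm : ∀ X : Subgroup G, (∀ e ∈ X, e * e = 1) → L.t ∈ X → X ≤ centralizer ({L.t} : Set G) := by
    intro X hX ht e he
    rw [mem_centralizer_singleton_iff]
    have h1 := hX _ (X.mul_mem he ht)
    have h2 : e⁻¹ = e := inv_eq_of_mul_eq_one_left (hX e he)
    have h3 : (e * L.t)⁻¹ = e * L.t := inv_eq_of_mul_eq_one_left h1
    rw [← h3, mul_inv_rev, h2, L.t_inv]
  have hA : ∀ X : Subgroup G, Nat.card X = 16 → (∀ e ∈ X, e * e = 1) → L.t ∈ X →
      IsA L.K (X.subgroupOf (centralizer ({L.t} : Set G))) := by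
    intro X hc hX ht
    refine ⟨?_, ?_, ?_⟩
    · rw [mem_subgroupOf, L.hz]; exact ht
    · rw [Nat.card_congr (subgroupOfEquivOfLe (hcomm X hX ht)).toEquiv, hc]
    · intro b hb
      exact Subtype.ext (hX b hb)
  obtain ⟨c, hc⟩ := IsA.conj L.K (r := 3) (by norm_num) le_rfl (by simp) (hA E hE hEs htE) (hA F hF hFs htF)
  refine ⟨c, L.mem_iff.1 c.2, ?_⟩
  have h1 := congrArg (Subgroup.map (centralizer ({L.t} : Set G)).subtype) hc
  rw [subgroupOf_map_subtype, inf_eq_left.2 (hcomm F hFs htF)] at h1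
  rw [← h1]
  ext g
  constructor
  · rintro ⟨e, he, rfl⟩
    exact ⟨MulAut.conj c ⟨e, hcomm E hEs htE he⟩, ⟨⟨e, hcomm E hEs htE he⟩, he, rfl⟩, rfl⟩
  · rintro ⟨_, ⟨e, he, rfl⟩, rfl⟩
    exact ⟨e, he, rfl⟩

include L in
/-- The normaliser of an elementary abelian subgroup of order sixteen is transitive on its involutions. -/
theorem fusion [Finite G] {E : Subgroup G} (hE : Nat.card E = 16) (hEs : ∀ e ∈ E, e * e = 1)
    (htE : L.t ∈ E) {b : G} (hb : b ∈ E) (hb1 : b ≠ 1) :
    ∃ n ∈ normalizer (E : Set G), n * L.t * n⁻¹ = b := by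
  obtain ⟨g, hg⟩ := L.one b (hEs b hb) hb1
  obtain ⟨c, hc, hcE⟩ := conj_of_sq (L.rebase g hg) (E := E.map (MulAut.conj g).toMonoidHom) (F := E) (by
    rw [← hE]
    exact (Nat.card_congr (E.equivMapOfInjective _ (MulAut.conj g).injective).toEquiv).symm) (by
    rintro _ ⟨e, he, rfl⟩
    rw [← map_mul, hEs e he, map_one]) ⟨L.t, htE, hg⟩ hE hEs hb
  rw [LyType.rebase_t] at hc
  refine ⟨c * g, ?_, ?_⟩
  · have h1 : ∀ e ∈ E, (c * g) * e * (c * g)⁻¹ ∈ E := by
      intro e he
      have h2 : c * (g * e * g⁻¹) * c⁻¹ ∈ (E.map (MulAut.conj g).toMonoidHom).map (MulAut.conj c).toMonoidHom :=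
        ⟨g * e * g⁻¹, ⟨e, he, rfl⟩, rfl⟩
      rw [hcE] at h2
      have h3 : (c * g) * e * (c * g)⁻¹ = c * (g * e * g⁻¹) * c⁻¹ := by group
      rw [h3]; exact h2
    have hfin : Finite E := inferInstance
    rw [mem_normalizer_iff]
    intro h
    refine ⟨h1 h, fun h4 => ?_⟩
    -- surjectivity by finiteness
    have hinj : Function.Injective (fun e : E => (⟨(c * g) * e * (c * g)⁻¹, h1 e e.2⟩ : E)) := by
      intro a b hab
      have h5 : (c * g) * (a : G) * (c * g)⁻¹ = (c * g) * b * (c * g)⁻¹ := congrArg Subtype.val hab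
      exact Subtype.ext (mul_left_cancel (mul_right_cancel h5))
    obtain ⟨e, he⟩ := (Finite.injective_iff_surjective.1 hinj) ⟨_, h4⟩
    have h5 : (c * g) * (e : G) * (c * g)⁻¹ = (c * g) * h * (c * g)⁻¹ := congrArg Subtype.val he
    rw [← mul_left_cancel (mul_right_cancel h5)]
    exact e.2
  · calc c * g * L.t * (c * g)⁻¹ = c * (g * L.t * g⁻¹) * c⁻¹ := by group
      _ = c * b * c⁻¹ := by rw [hg]
      _ = b := by rw [hc, mul_inv_cancel_right]

/-- Some lift of a three-cycle commutes with an element of order five and an involution inverting it. -/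
theorem exists_y_aux [Finite G] : ∃ x y τ : G, Three L x ∧ y ^ 5 = 1 ∧ y ≠ 1 ∧ y * x = x * y ∧ τ * τ = 1 ∧ τ ≠ 1 ∧
    τ * x = x * τ ∧ τ * y * τ⁻¹ = y⁻¹ := by
  classical
  obtain ⟨B, hB⟩ := exists_isA L.K (r := 3) (by simp)
  obtain ⟨x, hx3, hx1, hxc, hdis, hcent, hc48, hn, hnx⟩ := hB.exists_x L.K (by simp)
  have hinjC : Function.Injective (centralizer ({L.t} : Set G)).subtype := Subtype.val_injective
  let E : Subgroup G := B.map (centralizer ({L.t} : Set G)).subtype
  have htE : L.t ∈ E := ⟨L.K.z, hB.z_mem, L.hz⟩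
  have hE : Nat.card E = 16 := by
    rw [← hB.card]
    exact (Nat.card_congr (B.equivMapOfInjective _ hinjC).toEquiv).symm
  have hEs : ∀ e ∈ E, e * e = 1 := by
    rintro _ ⟨b, hb, rfl⟩
    rw [← map_mul, hB.sq b hb, map_one]
  -- the normaliser
  have hNt : normalizer (E : Set G) ⊓ centralizer {L.t} =
      (normalizer (B : Set (centralizer ({L.t} : Set G)))).map (centralizer ({L.t} : Set G)).subtype := by
    ext g
    constructor
    · rintro ⟨h1, h2⟩
      refine ⟨⟨g, h2⟩, ?_, rfl⟩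
      rw [SetLike.mem_coe, mem_normalizer_iff]
      intro b
      have h3 := mem_normalizer_iff.1 h1 b
      have h4 : ∀ c : centralizer ({L.t} : Set G), (c : G) ∈ E ↔ c ∈ B := by
        intro c
        constructor
        · rintro ⟨d, hd, e⟩
          rw [← hinjC e]; exact hd
        · intro hc; exact ⟨c, hc, rfl⟩
      exact (h4 b).symm.trans (h3.trans (h4 (⟨g, h2⟩ * b * ⟨g, h2⟩⁻¹)))
    · rintro ⟨c, hc, rfl⟩
      refine ⟨?_, c.2⟩
      show (c : G) ∈ normalizer (E : Set G)
      have h1 : ∀ c ∈ normalizer (B : Set (centralizer ({L.t} : Set G))), ∀ e ∈ E, (c : G) * e * (c : G)⁻¹ ∈ E := by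
        rintro c hc _ ⟨b, hb, rfl⟩
        exact ⟨c * b * c⁻¹, (mem_normalizer_iff.1 hc b).1 hb, rfl⟩
      rw [mem_normalizer_iff]
      intro h
      refine ⟨h1 c hc h, fun h2 => ?_⟩
      have h3 := h1 c⁻¹ (inv_mem hc) _ h2
      have h4 : ((c⁻¹ : centralizer ({L.t} : Set G)) : G) * ((c : G) * h * (c : G)⁻¹) *
          ((c⁻¹ : centralizer ({L.t} : Set G)) : G)⁻¹ = h := by
        rw [Subgroup.coe_inv]; group
      rwa [h4] at h3
  have hNtc : Nat.card (normalizer (E : Set G) ⊓ centralizer {L.t} : Subgroup G) = 48 * 168 := by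
    rw [hNt, ← hn]
    exact (Nat.card_congr (Subgroup.equivMapOfInjective _ _ hinjC).toEquiv).symm
  have hNcard : Nat.card (normalizer (E : Set G)) = 120960 := by
    have hS : Nat.card ((E : Set G) \ {1} : Set G) = 15 := by
      have h1 : ((E : Set G) \ {1} : Set G).ncard = (E : Set G).ncard - 1 :=
        Set.ncard_sdiff_singleton_of_mem E.one_mem
      rw [Nat.card_coe_set_eq, h1, ← Nat.card_coe_set_eq]
      have : Nat.card (E : Set G) = 16 := hE
      rw [this]
    rw [card_conj (normalizer (E : Set G)) L.t (S := (E : Set G) \ {1}), hS, hNtc]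
    · intro n hn
      refine ⟨(mem_normalizer_iff.1 hn L.t).1 htE, fun h => L.t_ne ?_⟩
      exact conj_eq_one_iff.1 h
    · rintro s ⟨hs, hs1⟩
      exact fusion L hE hEs htE hs hs1
  -- the centraliser
  have hZ : ∀ g : G, (∀ e ∈ E, e * g = g * e) → ∃ e ∈ E, ∃ k : ℤ, g = e * (x : G) ^ k := by
    intro g hg
    have hgC : g ∈ centralizer ({L.t} : Set G) := L.mem_iff.2 (hg _ htE).symm
    have h1 : (⟨g, hgC⟩ : centralizer ({L.t} : Set G)) ∈ centralizer (B : Set (centralizer ({L.t} : Set G))) := by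
      rw [mem_centralizer_iff]
      intro b hb
      exact Subtype.ext (hg b ⟨b, hb, rfl⟩)
    rw [hcent] at h1
    have hcomm : ∀ b ∈ B, b * x = x * b := by
      intro b hb
      have : x ∈ centralizer (B : Set (centralizer ({L.t} : Set G))) := by
        rw [hcent]; exact mem_sup_right (mem_zpowers x)
      exact mem_centralizer_iff.1 this b hb
    obtain ⟨b, hb, k, e⟩ := exists_of_mem_sup hcomm h1
    exact ⟨b, ⟨b, hb, rfl⟩, k, congrArg Subtype.val e⟩
  have hxE : ∀ e ∈ E, e * (x : G) = x * e := by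
    rintro _ ⟨b, hb, rfl⟩
    have : x ∈ centralizer (B : Set (centralizer ({L.t} : Set G))) := by
      rw [hcent]; exact mem_sup_right (mem_zpowers x)
    exact congrArg Subtype.val (mem_centralizer_iff.1 this b hb)
  have hxG3 : (x : G) ^ 3 = 1 := congrArg Subtype.val hx3
  have hxG1 : (x : G) ≠ 1 := fun h => hx1 (Subtype.ext h)
  have hox : orderOf (x : G) = 3 := orderOf_eq_prime hxG3 hxG1
  have hExp : ∀ e ∈ E, ∀ k : ℤ, (e * (x : G) ^ k) ^ 3 = e := by
    intro e he k
    have h1 : Commute e ((x : G) ^ k) := (show Commute e (x : G) from hxE e he).zpow_right k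
    have h2 : ((x : G) ^ k) ^ 3 = 1 := by
      rw [← zpow_natCast, ← zpow_mul, mul_comm, zpow_mul, zpow_natCast, hxG3, one_zpow]
    rw [h1.mul_pow, h2, mul_one, pow_succ, pow_two, hEs e he, one_mul]
  have hxz : ∀ k : ℤ, (x : G) ^ k = 1 ∨ (x : G) ^ k = x ∨ (x : G) ^ k = (x : G)⁻¹ := by
    intro k
    have h1 : (x : G) ^ k = (x : G) ^ (k % 3) := by
      have h2 := zpow_mod_orderOf (x : G) k
      rw [hox] at h2
      exact h2.symm
    have h2 : k % 3 = 0 ∨ k % 3 = 1 ∨ k % 3 = 2 := by omega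
    rcases h2 with h | h | h
    · left; rw [h1, h, zpow_zero]
    · right; left; rw [h1, h, zpow_one]
    · right; right; rw [h1, h, eq_inv_iff_mul_eq_one, ← zpow_add_one]
      exact_mod_cast hxG3
  -- `x` is central in the normaliser
  have hNx : ∀ n ∈ normalizer (E : Set G), n * (x : G) = x * n := by
    have hconj : ∀ n ∈ normalizer (E : Set G), n * (x : G) * n⁻¹ = x ∨ n * (x : G) * n⁻¹ = (x : G)⁻¹ := by
      intro n hn
      obtain ⟨e, he, k, h⟩ := hZ (n * (x : G) * n⁻¹) (by
        intro e he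
        have h1 : n⁻¹ * e * n ∈ E := (mem_normalizer_iff''.1 hn e).1 he
        have h2 := hxE _ h1
        calc e * (n * (x : G) * n⁻¹) = n * ((n⁻¹ * e * n) * x) * n⁻¹ := by group
          _ = n * (x * (n⁻¹ * e * n)) * n⁻¹ := by rw [h2]
          _ = n * (x : G) * n⁻¹ * e := by group)
      have h1 : (n * (x : G) * n⁻¹) ^ 3 = 1 := by rw [conj_pow, hxG3, mul_one, mul_inv_cancel]
      rw [h, hExp e he] at h1
      rw [h1, one_mul] at h
      rcases hxz k with h2 | h2 | h2
      · exfalso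
        rw [h2] at h
        exact hxG1 (conj_eq_one_iff.1 h)
      · left; rw [h, h2]
      · right; rw [h, h2]
    by_contra hcon
    push Not at hcon
    obtain ⟨n, hn, hnx'⟩ := hcon
    have hn' : n * (x : G) * n⁻¹ = (x : G)⁻¹ := by
      rcases hconj n hn with h | h
      · exact absurd (mul_inv_eq_iff_eq_mul.1 h) hnx'
      · exact h
    have h1 := card_conj (normalizer (E : Set G)) (x : G) (S := {(x : G), (x : G)⁻¹}) (by
      intro m hm
      rcases hconj m hm with h | h
      · exact Or.inl h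
      · exact Or.inr h) (by
      rintro s (rfl | rfl)
      · exact ⟨1, one_mem _, by rw [one_mul, inv_one, mul_one]⟩
      · exact ⟨n, hn, hn'⟩)
    have h2 : Nat.card ({(x : G), (x : G)⁻¹} : Set G) = 2 := by
      rw [Nat.card_coe_set_eq, Set.ncard_pair]
      intro h
      rw [eq_inv_iff_mul_eq_one, ← pow_two] at h
      have h3 : orderOf (x : G) ∣ 2 := orderOf_dvd_of_pow_eq_one h
      rw [hox] at h3
      exact absurd h3 (by norm_num)
    have h3 : (48 * 168) ∣ Nat.card (normalizer (E : Set G) ⊓ centralizer {(x : G)} : Subgroup G) := by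
      rw [← hNtc]
      apply card_dvd_of_le
      refine le_inf inf_le_left ?_
      rw [hNt]
      rintro _ ⟨c, hc, rfl⟩
      rw [mem_centralizer_singleton_iff]
      exact congrArg Subtype.val (mem_centralizer_singleton_iff.1 (hnx hc))
    rw [hNcard, h2] at h1
    obtain ⟨j, hj⟩ := h3
    omega
  -- an element of order five
  have h5 : Fact (Nat.Prime 5) := ⟨by norm_num⟩
  have h3 : Fact (Nat.Prime 3) := ⟨by norm_num⟩
  obtain ⟨y, hy⟩ := exists_prime_orderOf_dvd_card' (G := normalizer (E : Set G)) 5 (by rw [hNcard]; norm_num)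
  have hy5 : y ^ 5 = 1 := by rw [← hy, pow_orderOf_eq_one]
  have hy1 : y ≠ 1 := by
    intro h
    rw [h, orderOf_one] at hy
    norm_num at hy
  have hyG5 : (y : G) ^ 5 = 1 := congrArg Subtype.val hy5
  have hyG1 : (y : G) ≠ 1 := fun h => hy1 (Subtype.ext h)
  have hfpf : ∀ b ∈ E, (y : G) * b * (y : G)⁻¹ = b → b = 1 := by
    intro b hb hyb
    by_contra hb1
    obtain ⟨n, hn, hnb⟩ := fusion L hE hEs htE hb hb1
    have h1 : n⁻¹ * (y : G) * n ∈ normalizer (E : Set G) ⊓ centralizer {L.t} := by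
      refine mem_inf_cent.2 ⟨mul_mem (mul_mem (inv_mem hn) y.2) hn, ?_⟩
      have h2 : L.t = n⁻¹ * b * n := by rw [← hnb]; group
      calc n⁻¹ * (y : G) * n * L.t = n⁻¹ * (y : G) * n * (n⁻¹ * b * n) := by rw [← h2]
        _ = n⁻¹ * ((y : G) * b * (y : G)⁻¹) * y * n := by group
        _ = n⁻¹ * b * y * n := by rw [hyb]
        _ = (n⁻¹ * b * n) * (n⁻¹ * y * n) := by group
        _ = L.t * (n⁻¹ * y * n) := by rw [← h2]
    have h2 : orderOf (n⁻¹ * (y : G) * n) = 5 := by
      refine orderOf_eq_prime ?_ ?_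
      · have : n⁻¹ * (y : G) * n = n⁻¹ * (y : G) * n⁻¹⁻¹ := by rw [inv_inv]
        rw [this, conj_pow, hyG5]; group
      · intro h
        apply hyG1
        have : (y : G) = n * (n⁻¹ * (y : G) * n) * n⁻¹ := by group
        rw [this, h]; group
    have h3 : 5 ∣ 48 * 168 := by
      rw [← h2, ← hNtc]
      exact Subgroup.orderOf_dvd_natCard _ h1
    exact absurd h3 (by norm_num)
  have hyE : ∀ e ∈ E, (y : G) * e * (y : G)⁻¹ ∈ E := fun e he => (mem_normalizer_iff.1 y.2 e).1 he
  -- the centraliser of `y`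
  have hxN : (x : G) ∈ normalizer (E : Set G) := by
    rw [mem_normalizer_iff]
    have h1 : ∀ e ∈ E, (x : G) * e * (x : G)⁻¹ = e := fun e he => by
      rw [mul_inv_eq_iff_eq_mul]; exact (hxE e he).symm
    intro h
    refine ⟨fun hh => by rw [h1 h hh]; exact hh, fun hh => ?_⟩
    have h2 := h1 _ hh
    have h3 : (x : G) * h * (x : G)⁻¹ = h := by
      have h4 : (x : G)⁻¹ * ((x : G) * ((x : G) * h * (x : G)⁻¹) * (x : G)⁻¹) * x =
          (x : G)⁻¹ * ((x : G) * h * (x : G)⁻¹) * x := by rw [h2]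
      have h5 : (x : G)⁻¹ * ((x : G) * ((x : G) * h * (x : G)⁻¹) * (x : G)⁻¹) * x = (x : G) * h * (x : G)⁻¹ := by
        group
      have h6 : (x : G)⁻¹ * ((x : G) * h * (x : G)⁻¹) * x = h := by group
      rw [h5, h6] at h4
      exact h4
    rw [h3] at hh; exact hh
  let D : Subgroup G := normalizer (E : Set G) ⊓ centralizer {(y : G)}
  have hDb : ∀ b ∈ E, b ≠ 1 → Nat.card (D ⊓ centralizer {b} : Subgroup G) = 3 := by
    intro b hb hb1
    have h1 : D ⊓ centralizer {b} = zpowers (x : G) := by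
      apply le_antisymm
      · intro d hd
        obtain ⟨hd1, hdb⟩ := mem_inf_cent.1 hd
        obtain ⟨hdN, hdy⟩ := mem_inf_cent.1 hd1
        let F : Subgroup G := E ⊓ centralizer {d}
        have hF : Nat.card F ≡ 1 [MOD 5] := by
          refine card_modEq_of_fpf hyG5 ?_ (fun e he => hfpf e (mem_inf_cent.1 he).1)
          intro e he'
          obtain ⟨he, hed⟩ := mem_inf_cent.1 he'
          refine mem_inf_cent.2 ⟨hyE e he, ?_⟩
          have c1 : Commute d (y : G) := hdy
          have c2 : Commute e d := hed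
          exact ((c1.symm.mul_left c2).mul_left c1.symm.inv_left).eq
        have hFd : Nat.card F ∣ 16 := by rw [← hE]; exact card_dvd_of_le inf_le_left
        have hbF : b ∈ F := mem_inf_cent.2 ⟨hb, hdb.symm⟩
        have hF1 : Nat.card F ≠ 1 := by
          intro h
          rw [Subgroup.card_eq_one] at h
          rw [h, mem_bot] at hbF
          exact hb1 hbF
        have hF16 : Nat.card F = 16 := by
          have h2 : Nat.card F ≤ 16 := Nat.le_of_dvd (by norm_num) hFd
          generalize Nat.card F = q at *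
          interval_cases q <;> first | rfl | (exfalso; revert hF; decide) | (exfalso; revert hFd; decide) |
            exact absurd rfl hF1
        have hFE : F = E := Subgroup.eq_of_le_of_card_ge inf_le_left (by rw [hF16, hE])
        obtain ⟨e, he, k, h⟩ := hZ d (by
          intro e he
          rw [← hFE] at he
          exact (mem_inf_cent.1 he).2)
        have hey : (y : G) * e * (y : G)⁻¹ = e := by
          rw [mul_inv_eq_iff_eq_mul]
          have c1 : Commute (y : G) d := (show Commute d (y : G) from hdy).symm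
          have c2 : Commute (y : G) (x : G) := hNx y y.2
          have h2 : e = d * ((x : G) ^ k)⁻¹ := by rw [h]; group
          rw [h2]
          exact (c1.mul_right (c2.zpow_right k).inv_right).eq
        have he1 := hfpf e he hey
        rw [h, he1, one_mul]
        exact zpow_mem (mem_zpowers _) k
      · rw [zpowers_le]
        exact mem_inf_cent.2 ⟨mem_inf_cent.2 ⟨hxN, (hNx y y.2).symm⟩, (hxE b hb).symm⟩
    rw [h1, Nat.card_zpowers, hox]
  have hD15 := card_dvd_of_stab D E (fun d hd e he => (mem_normalizer_iff.1 (mem_inf_cent.1 hd).1 e).1 he) hDb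
  rw [hE] at hD15
  have hxD : (x : G) ∈ D := mem_inf_cent.2 ⟨hxN, (hNx y y.2).symm⟩
  have hyD : (y : G) ∈ D := mem_inf_cent.2 ⟨y.2, rfl⟩
  have hD3 : 3 ∣ Nat.card D := by rw [← hox]; exact Subgroup.orderOf_dvd_natCard _ hxD
  have hD5 : 5 ∣ Nat.card D := by
    have : orderOf (y : G) = 5 := orderOf_eq_prime hyG5 hyG1
    rw [← this]; exact Subgroup.orderOf_dvd_natCard _ hyD
  have hDc : Nat.card (centralizer ({y} : Set (normalizer (E : Set G)))) = Nat.card D := by
    rw [← Nat.card_congr (subgroupOfEquivOfLe (inf_le_left : D ≤ normalizer (E : Set G))).toEquiv]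
    congr 1
    have : centralizer ({y} : Set (normalizer (E : Set G))) = D.subgroupOf (normalizer (E : Set G)) := by
      ext g
      rw [mem_subgroupOf, mem_centralizer_singleton_iff]
      constructor
      · intro h
        exact mem_inf_cent.2 ⟨g.2, congrArg Subtype.val h⟩
      · intro h
        exact Subtype.ext (mem_inf_cent.1 h).2
    rw [this]
  obtain ⟨τ, hτ2, hτ1, hτy⟩ := exists_inverting hNcard hy5 hy1 (by
    rw [hDc]; exact Nat.Coprime.mul_dvd_of_dvd_of_dvd (by norm_num) hD3 hD5) (by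
    rw [hDc]
    obtain ⟨j, hj⟩ := hD3
    rw [hj, Nat.mul_div_cancel_left _ (by norm_num)] at hD15
    rw [hj]
    exact Nat.mul_dvd_mul_left 3 hD15)
  refine ⟨x, y, τ, ⟨L.mem_iff.1 x.2, hxG3, hxc⟩, hyG5, hyG1, hNx y y.2, congrArg Subtype.val hτ2,
    fun h => hτ1 (Subtype.ext h), hNx τ τ.2, congrArg Subtype.val hτy⟩

variable {L}

/-- A lift of a three-cycle commutes with an element of order five and an involution inverting it. -/
theorem exists_y [Finite G] {x : G} (hx : Three L x) : ∃ y τ : G, y ^ 5 = 1 ∧ y ≠ 1 ∧ y * x = x * y ∧ τ * τ = 1 ∧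
    τ ≠ 1 ∧ τ * x = x * τ ∧ τ * y * τ⁻¹ = y⁻¹ := by
  obtain ⟨x₀, y, τ, hx₀, hy5, hy1, hyx, hτ2, hτ1, hτx, hτy⟩ := exists_y_aux L
  obtain ⟨c, hc⟩ := isConj_iff.1 (alternatingGroup.isThreeCycle_isConj (by simp)
    (σ := ⟨_, L.K.mem_alternating ⟨x₀, L.mem_iff.2 hx₀.comm⟩⟩) (τ := ⟨_, L.K.mem_alternating ⟨x, L.mem_iff.2 hx.comm⟩⟩)
    hx₀.cyc hx.cyc)
  obtain ⟨g, hg⟩ := L.K.exists_lift c.2
  have h1 : g * ⟨x₀, L.mem_iff.2 hx₀.comm⟩ * g⁻¹ = ⟨x, L.mem_iff.2 hx.comm⟩ := by
    apply L.K.odd_lift_unique (n := 3) (by decide)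
    · rw [conj_pow, show (⟨x₀, L.mem_iff.2 hx₀.comm⟩ : centralizer ({L.t} : Set G)) ^ 3 = 1 from
        Subtype.ext hx₀.pow, mul_one, mul_inv_cancel]
    · exact Subtype.ext hx.pow
    · rw [map_mul, map_mul, map_inv, hg]
      exact congrArg Subtype.val hc
  have h2 : (g : G) * x₀ * (g : G)⁻¹ = x := congrArg Subtype.val h1
  refine ⟨g * y * (g : G)⁻¹, g * τ * (g : G)⁻¹, ?_, ?_, ?_, ?_, ?_, ?_, ?_⟩
  · rw [conj_pow, hy5, mul_one, mul_inv_cancel]
  · exact fun h => hy1 (conj_eq_one_iff.1 h)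
  · rw [← h2]
    calc (g : G) * y * (g : G)⁻¹ * (g * x₀ * (g : G)⁻¹) = g * (y * x₀) * (g : G)⁻¹ := by group
      _ = g * (x₀ * y) * (g : G)⁻¹ := by rw [hyx]
      _ = _ := by group
  · calc (g : G) * τ * (g : G)⁻¹ * (g * τ * (g : G)⁻¹) = g * (τ * τ) * (g : G)⁻¹ := by group
      _ = 1 := by rw [hτ2]; group
  · exact fun h => hτ1 (conj_eq_one_iff.1 h)
  · rw [← h2]
    calc (g : G) * τ * (g : G)⁻¹ * (g * x₀ * (g : G)⁻¹) = g * (τ * x₀) * (g : G)⁻¹ := by group
      _ = g * (x₀ * τ) * (g : G)⁻¹ := by rw [hτx]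
      _ = _ := by group
  · calc (g : G) * τ * (g : G)⁻¹ * (g * y * (g : G)⁻¹) * (g * τ * (g : G)⁻¹)⁻¹ = g * (τ * y * τ⁻¹) * (g : G)⁻¹ := by
          group
      _ = (g * y * (g : G)⁻¹)⁻¹ := by rw [hτy]; group

/-- A lift of a three-cycle disjoint from `f` commutes with a `5`-element of the core outside `⟨f⟩`. -/
theorem exists_core_elem [Finite G] {x f : G} (hx : Three L x) (hf : Five L f)
    (hd : (L.K.π ⟨f, L.mem_iff.2 hf.comm⟩).Disjoint (L.K.π ⟨x, L.mem_iff.2 hx.comm⟩)) :
    ∃ e ∈ core f, e ∉ zpowers f ∧ e * x = x * e ∧ ∃ n : ℕ, e ^ 5 ^ n = 1 := by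
  obtain ⟨y, τ, hy5, hy1, hyx, hτ2, hτ1, hτx, hτy⟩ := exists_y hx
  exact (core_and hx hf hd hy5 hy1 hyx hτ2 hτx hτy).1

/-- There is a three-cycle disjoint from `f`. -/
theorem exists_three {f : G} (hf : Five L f) : ∃ (x : G) (hx : Three L x),
    (L.K.π ⟨f, L.mem_iff.2 hf.comm⟩).Disjoint (L.K.π ⟨x, L.mem_iff.2 hx.comm⟩) := by
  classical
  set F := L.K.π ⟨f, L.mem_iff.2 hf.comm⟩ with hF
  have h1 : 2 < F.supportᶜ.card := by
    rw [Finset.card_compl, hf.card, Fintype.card_fin]; norm_num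
  obtain ⟨a, b, c, ha, hb, hc, hab, hac, hbc⟩ := Finset.two_lt_card_iff.1 h1
  rw [Finset.mem_compl, Perm.notMem_support] at ha hb hc
  have h3 : (swap a b * swap a c).IsThreeCycle := Perm.isThreeCycle_swap_mul_swap_same hab hac hbc
  obtain ⟨x, hx, hx3⟩ := L.K.exists_odd_lift (σ := swap a b * swap a c) h3.mem_alternatingGroup (n := 3) (by decide) (by
    rw [← h3.orderOf, pow_orderOf_eq_one])
  refine ⟨x, ⟨L.mem_iff.1 x.2, congrArg Subtype.val hx3, ?_⟩, ?_⟩
  · show (L.K.π x).IsThreeCycle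
    rw [hx]; exact h3
  · show F.Disjoint (L.K.π x)
    rw [hx]
    intro p
    by_cases hp : F p = p
    · exact Or.inl hp
    · right
      have hpa : p ≠ a := fun h => hp (h ▸ ha)
      have hpb : p ≠ b := fun h => hp (h ▸ hb)
      have hpc : p ≠ c := fun h => hp (h ▸ hc)
      rw [Perm.mul_apply, swap_apply_of_ne_of_ne hpa hpc, swap_apply_of_ne_of_ne hpa hpb]

/-- Steps (2), (3), (4): `25` divides the order of `O(C_G(f))`. -/
theorem dvd_card_core [Finite G] {f : G} (hf : Five L f) : 25 ∣ Nat.card (core f) := by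
  obtain ⟨x, hx, hd⟩ := exists_three hf
  obtain ⟨y, τ, hy5, hy1, hyx, hτ2, hτ1, hτx, hτy⟩ := exists_y hx
  exact core_dvd hx hf hd hy5 hy1 hyx hτ2 hτx hτy

end lyons

end Cfsg.Agent.SporRec.LyA1
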