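import Cfsg.Agent.SporRec.LyFiveDvd
import Cfsg.Agent.SporRec.LyA1

/-!
# Groups of Lyons type: the normaliser of a subgroup of order five, unconditionally
-/

set_option autoImplicit false

namespace Cfsg.Agent.SporRec.LyFiveFinal

open Subgroup Equiv Cfsg Cfsg.Agent.SporRec.TwoAn Cfsg.Agent.SporRec.LyType
open Cfsg.Agent.SporRec.LyFiveCore Cfsg.Agent.SporRec.LyFiveCard Cfsg.Agent.SporRec.LyFiveFrame
open Cfsg.Agent.SporRec.LyFiveTwenty Cfsg.Agent.SporRec.LyFiveSix Cfsg.Agent.SporRec.LyFiveBuild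
open Cfsg.Agent.SporRec.LyFiveInv

variable {G : Type*} [Group G] {L : LyType G} [Finite G]

/-- The core of the centraliser of `f` is extraspecial of order `5 ^ 5`. -/
theorem exists_lyFive {f : G} (hf : Five L f) :
    Nonempty (Extraspecial hf) ∧ ∃ M : Cfsg.Agent.SporRec.LyFive.LyFive L, M.f = f ∧ M.E = core f := by
  obtain ⟨x, hx, hd⟩ := LyA1.exists_three hf
  obtain ⟨e, he, hef, hex, -⟩ := LyA1.exists_core_elem hx hf hd
  obtain ⟨hcard, hv25⟩ := card_core_of_dvd hf (LyA1.dvd_card_core hf)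
  obtain ⟨v, w, h, hv, hv1, hvt1, hvt, hvf, -⟩ := exists_vwh hf
  have hE : Extraspecial hf := extraspecial hf hcard hv hvf (hv25 v hv hvt hvf)
  exact ⟨⟨hE⟩, build hf hE ⟨x, hx.comm, hx.pow, hx.comm_of_disjoint hf hd, hx.cyc, e, he, hef, hex⟩, rfl, rfl⟩

/-- There is a lift of order five of a five-cycle. -/
theorem exists_five (L : LyType G) : ∃ f, Five L f := by
  obtain ⟨f, hf, hf5⟩ := L.K.exists_odd_lift (σ := c5) (by
    rw [Perm.mem_alternatingGroup]; decide) (n := 5) (by decide) (by decide)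
  refine ⟨f, L.mem_iff.1 f.2, congrArg Subtype.val hf5, ?_, ?_⟩
  · show (L.K.π f).IsCycle
    rw [hf]; exact c5_isCycle
  · show (L.K.π f).support.card = 5
    rw [hf]; exact c5_card

end Cfsg.Agent.SporRec.LyFiveFinal
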