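import Cfsg.Agent.SporadicRecognition.SuzOrder

/-!
The presented Suzuki group has no commuting elements of order 13 and 11.
-/

set_option autoImplicit false
set_option maxRecDepth 100000
set_option exponentiation.threshold 4000

namespace Cfsg.Agent.SporRec.SuzNo143

open scoped Pointwise
open Cfsg.Spor Cfsg.Agent.Lib.PermNet Cfsg.Agent.Lib.PermNetOrbit Cfsg.Agent.SporadicRecognition.SuzPhi
  Cfsg.Agent.SporadicRecognition.SuzOrder

/-- Points moved by a word (planes `b < m`). -/
noncomputable def moved (k : ℕ) (w : List Net) (m : ℕ) : ℕ :=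
  Nat.rec (motive := fun _ => ℕ) 0
    (fun b ih => seq (Nat.xor (appWord w (plane k b)) (plane k b)) fun x => Nat.lor x ih) m

theorem moved_spec {N k : ℕ} {w : List Net} (hw : WOk N w) (m q : ℕ) (h : (moved k w m).testBit q = true) :
    wperm w q ≠ q := by
  intro he
  induction m with
  | zero =>
    have : (0 : ℕ).testBit q = true := h
    rw [Nat.zero_testBit] at this
    exact absurd this (by simp)
  | succ m ih =>
    have e : moved k w (m + 1) = (appWord w (plane k m) ^^^ plane k m) ||| moved k w m := by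
      show seq (Nat.xor (appWord w (plane k m)) (plane k m)) (fun x => Nat.lor x (moved k w m)) = _
      rw [seq_eq]; rfl
    rw [e, Nat.testBit_or, Bool.or_eq_true] at h
    rcases h with h | h
    · rw [Nat.testBit_xor, testBit_appWord hw, he, Bool.xor_self] at h
      exact absurd h (by simp)
    · exact ih h

/-- An element of order 13. -/
noncomputable def w13 : List Suz.Gen := [.a, .b, .c, .b, .d, .e, .f]

theorem w13_pow : (el w13) ^ 13 = 1 := by
  apply φ_injective
  rw [map_pow, φ_el, wperm_wd, ← rp_prod, map_one]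
  exact triv_spec (by decide +kernel)

theorem w13_moved : ∀ q, 0 < q → q < 1782 → φ (el w13) q ≠ q := by
  intro q h1 h2
  rw [φ_el]
  apply moved_spec (wd_ok w13) (k := 11) 11
  have h3 : moved 11 (wd w13) 11 &&& (2 ^ 1782 - 2) = 2 ^ 1782 - 2 := by decide +kernel
  have h4 : (2 ^ 1782 - 2 : ℕ).testBit q = true := by
    have e : (2 ^ 1782 - 2 : ℕ) = 2 ^ 1782 - (1 + 1) := rfl
    rw [e, Nat.testBit_two_pow_sub_succ (by decide +kernel)]
    rw [Bool.and_eq_true, decide_eq_true_eq]
    refine ⟨h2, ?_⟩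
    have : (1 : ℕ).testBit q = false := Nat.testBit_lt_two_pow (Nat.one_lt_two_pow (by omega))
    rw [this]; rfl
  have h5 := congrArg (fun x => Nat.testBit x q) h3
  simp only [Nat.testBit_and, h4, Bool.and_true] at h5
  exact h5

theorem w13_zero : φ (el w13) 0 = 0 := by
  rw [φ_el, ← ptWord_eq (wd_ok w13)]
  decide +kernel

theorem φ_zero_lt (g : Suz) : φ g 0 < 1782 := by
  have h1 : φ g 0 ∈ {p : ℕ | ∃ x ∈ Subgroup.closure S7, φ x 0 = p} := ⟨g, by rw [closure_S7]; trivial, rfl⟩
  rw [orb0] at h1
  have h2 : U0.testBit (φ g 0) = true := h1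
  rw [U0_bits, decide_eq_true_eq] at h2
  exact h2

theorem orderOf_w13 : orderOf (el w13) = 13 := by
  have h13 : Fact (Nat.Prime 13) := ⟨by norm_num⟩
  apply orderOf_eq_prime w13_pow
  intro h
  apply w13_moved 1 (by norm_num) (by norm_num)
  have h1 : φ (el w13) = 1 := by rw [h]; exact map_one φ
  rw [h1]; rfl

theorem card_stab0 : Nat.card (stabL φ [0]) = 251596800 := by
  have h6 := step6
  have h5 := step5
  have h4 := step4
  have h3 := step3
  have h7 := step7
  have h1 := card_stab
  have h0 : Nat.card (stabL φ []) ≤ Nat.card Suz :=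
    Nat.card_le_card_of_injective _ (Subtype.val_injective)
  rw [card_Suz] at h0
  rw [h1] at h3
  omega

/-- **No element of order 143.** -/
theorem no143 (x y : Suz) (hx : orderOf x = 13) (hy : orderOf y = 11) (h : x * y = y * x) : False := by
  have h13 : Fact (Nat.Prime 13) := ⟨by norm_num⟩
  have key : ∀ s : Suz, orderOf s = 13 → ∃ P : Sylow 13 Suz, (P : Subgroup Suz) = Subgroup.zpowers s := by
    intro s hs
    have hP : IsPGroup 13 (Subgroup.zpowers s) := by
      apply IsPGroup.of_card (n := 1)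
      rw [Nat.card_zpowers, hs, pow_one]
    have hidx := Subgroup.card_mul_index (Subgroup.zpowers s)
    rw [Nat.card_zpowers, hs, card_Suz] at hidx
    have hnd : ¬ 13 ∣ (Subgroup.zpowers s).index := by
      have : (Subgroup.zpowers s).index = 34488115200 := by omega
      rw [this]; decide
    exact ⟨hP.toSylow hnd, rfl⟩
  obtain ⟨P, hP⟩ := key x hx
  obtain ⟨S, hS⟩ := key (el w13) orderOf_w13
  obtain ⟨g, hg⟩ := MulAction.exists_smul_eq Suz P S
  have hs : el w13 ∈ (S : Subgroup Suz) := by rw [hS]; exact Subgroup.mem_zpowers _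
  rw [← hg] at hs
  have hs' : g⁻¹ * el w13 * g ∈ Subgroup.zpowers x := by
    rw [← hP]
    have h1 : el w13 ∈ MulAut.conj g • (P : Subgroup Suz) := hs
    rw [Subgroup.mem_pointwise_smul_iff_inv_smul_mem] at h1
    have h2 : (MulAut.conj g)⁻¹ • (el w13) = g⁻¹ * el w13 * g := by
      rw [MulAut.smul_def, MulAut.conj_inv_apply]
    rw [h2] at h1
    exact h1
  obtain ⟨k, hk⟩ := Subgroup.mem_zpowers_iff.1 hs'
  have hc : Commute x y := h
  have hcomm : (g⁻¹ * el w13 * g) * y = y * (g⁻¹ * el w13 * g) := by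
    rw [← hk]; exact (hc.zpow_left k).eq
  have hcomm' : el w13 * (g * y * g⁻¹) = (g * y * g⁻¹) * el w13 := by
    calc el w13 * (g * y * g⁻¹) = g * ((g⁻¹ * el w13 * g) * y) * g⁻¹ := by group
      _ = g * (y * (g⁻¹ * el w13 * g)) * g⁻¹ := by rw [hcomm]
      _ = _ := by group
  have hfix : φ (g * y * g⁻¹) 0 = 0 := by
    by_contra hne
    apply w13_moved (φ (g * y * g⁻¹) 0) (Nat.pos_of_ne_zero hne) (φ_zero_lt _)
    rw [← Equiv.Perm.mul_apply, ← map_mul, hcomm', map_mul, Equiv.Perm.mul_apply, w13_zero]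
  have hmem : g * y * g⁻¹ ∈ stabL φ [0] := by
    rw [mem_stabL]
    intro q hq
    rw [List.mem_singleton] at hq
    rw [hq]; exact hfix
  have h1 := orderOf_dvd_natCard (⟨_, hmem⟩ : stabL φ [0])
  have h2 : orderOf (g * y * g⁻¹) = 11 := by
    have h3 : orderOf (MulAut.conj g y) = orderOf y :=
      orderOf_injective (MulAut.conj g).toMonoidHom (MulAut.conj g).injective _
    rw [MulAut.conj_apply, hy] at h3
    exact h3
  rw [Subgroup.orderOf_mk, h2, card_stab0] at h1
  exact absurd h1 (by decide)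

end Cfsg.Agent.SporRec.SuzNo143
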