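import Mathlib

set_option autoImplicit false

/-! An explicit field with four elements, with kernel-friendly operations. -/

namespace Cfsg.Agent.SporRec.GF4

/-- The field with four elements `0, 1, w, v = w + 1 = w²`. -/
inductive F4 : Type
  | z
  | o
  | w
  | v

namespace F4

instance decEqF4 : DecidableEq F4
  | .z, .z => isTrue rfl
  | .z, .o => isFalse (fun h => F4.noConfusion h)
  | .z, .w => isFalse (fun h => F4.noConfusion h)
  | .z, .v => isFalse (fun h => F4.noConfusion h)
  | .o, .z => isFalse (fun h => F4.noConfusion h)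
  | .o, .o => isTrue rfl
  | .o, .w => isFalse (fun h => F4.noConfusion h)
  | .o, .v => isFalse (fun h => F4.noConfusion h)
  | .w, .z => isFalse (fun h => F4.noConfusion h)
  | .w, .o => isFalse (fun h => F4.noConfusion h)
  | .w, .w => isTrue rfl
  | .w, .v => isFalse (fun h => F4.noConfusion h)
  | .v, .z => isFalse (fun h => F4.noConfusion h)
  | .v, .o => isFalse (fun h => F4.noConfusion h)
  | .v, .w => isFalse (fun h => F4.noConfusion h)
  | .v, .v => isTrue rfl

instance fintypeF4 : Fintype F4 where
  elems := {.z, .o, .w, .v}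
  complete := by intro x; cases x <;> decide

/-- addition table -/
def add' : F4 → F4 → F4
  | .z, y => y
  | .o, .z => .o
  | .o, .o => .z
  | .o, .w => .v
  | .o, .v => .w
  | .w, .z => .w
  | .w, .o => .v
  | .w, .w => .z
  | .w, .v => .o
  | .v, .z => .v
  | .v, .o => .w
  | .v, .w => .o
  | .v, .v => .z

/-- multiplication table -/
def mul' : F4 → F4 → F4
  | .z, _ => .z
  | .o, y => y
  | .w, .z => .z
  | .w, .o => .w
  | .w, .w => .v
  | .w, .v => .o
  | .v, .z => .z
  | .v, .o => .v
  | .v, .w => .o
  | .v, .v => .w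

/-- inverses -/
def inv' : F4 → F4
  | .z => .z
  | .o => .o
  | .w => .v
  | .v => .w

/-- the bit `b` as an element of the prime field -/
def ofBit : ℕ → F4
  | 0 => .z
  | _ => .o

instance instCommRingF4 : CommRing F4 where
  add := add'
  zero := .z
  neg := id
  mul := mul'
  one := .o
  add_assoc := by decide
  zero_add := by decide
  add_zero := by decide
  nsmul := fun n x => mul' (ofBit (n % 2)) x
  nsmul_zero := by decide
  nsmul_succ := by
    intro n x
    show mul' (ofBit ((n + 1) % 2)) x = add' (mul' (ofBit (n % 2)) x) x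
    have h : (n + 1) % 2 = 0 ∧ n % 2 = 1 ∨ (n + 1) % 2 = 1 ∧ n % 2 = 0 := by omega
    rcases h with ⟨h1, h2⟩ | ⟨h1, h2⟩ <;> rw [h1, h2] <;> revert x <;> decide
  zsmul := fun n x => mul' (ofBit (n.natAbs % 2)) x
  zsmul_zero' := by decide
  zsmul_succ' := by
    intro n x
    show mul' (ofBit ((n + 1) % 2)) x = add' (mul' (ofBit (n % 2)) x) x
    have h : (n + 1) % 2 = 0 ∧ n % 2 = 1 ∨ (n + 1) % 2 = 1 ∧ n % 2 = 0 := by omega
    rcases h with ⟨h1, h2⟩ | ⟨h1, h2⟩ <;> rw [h1, h2] <;> revert x <;> decide
  zsmul_neg' := by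
    intro n x
    rfl
  neg_add_cancel := by decide
  add_comm := by decide
  left_distrib := by decide
  right_distrib := by decide
  zero_mul := by decide
  mul_zero := by decide
  mul_assoc := by decide
  one_mul := by decide
  mul_one := by decide
  mul_comm := by decide
  natCast := fun n => ofBit (n % 2)
  natCast_zero := rfl
  natCast_succ := by
    intro n
    show ofBit ((n + 1) % 2) = add' (ofBit (n % 2)) .o
    have h : (n + 1) % 2 = 0 ∧ n % 2 = 1 ∨ (n + 1) % 2 = 1 ∧ n % 2 = 0 := by omega
    rcases h with ⟨h1, h2⟩ | ⟨h1, h2⟩ <;> rw [h1, h2] <;> decide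
  intCast := fun n => ofBit (n.natAbs % 2)
  intCast_ofNat := fun _ => rfl
  intCast_negSucc := fun _ => rfl

instance instFieldF4 : Field F4 where
  inv := inv'
  exists_pair_ne := ⟨.z, .o, by decide⟩
  mul_inv_cancel := by decide
  inv_zero := rfl
  nnqsmul := _
  nnqsmul_def := fun _ _ => rfl
  qsmul := _
  qsmul_def := fun _ _ => rfl

theorem card_F4 : Fintype.card F4 = 4 := rfl

end F4

end Cfsg.Agent.SporRec.GF4
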