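import Cfsg.Agent.SporRec.Fi24Upper
import Cfsg.Agent.Fischer.Fi24Class

/-!
# The subgroup `⟨a, …, j, l⟩` of the presented group `Fi₂₄` has index 306936
-/

set_option autoImplicit false
set_option linter.constructorNameAsVariable false

namespace Cfsg.Agent.SporRec.Fi24Index

open Cfsg.Agent.Lib.PermNet Cfsg.Agent.SporRec.Fi24UpDef Cfsg.Agent.SporRec.Fi24Upper
open Cfsg.Agent.Fischer.Fi24RepOrb (H UG ncard_G S1_eq mem_H_gen testBit_UG)
open Cfsg.Agent.Fischer.Fi24Rep (gen)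
open Cfsg.Spor.Fi24 (Gen)

/-- the generators satisfy the relations -/
theorem isRel_gen : IsRel gen := by
  refine ⟨Fischer.Fi24Class.gen_sq, ?_, ?_, ?_, ?_⟩
  · intro a b h
    by_cases hab : a = b
    · subst hab; rfl
    · apply Fischer.Fi24Class.gen_comm
      revert h hab
      cases a <;> cases b <;> decide
  · intro a b h
    apply Fischer.Fi24Class.gen_braid
    revert h
    cases a <;> cases b <;> decide
  · rw [← show _ = gen .l from Fischer.Fi24Class.e7_eq]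
    congr 1
  · have h : (Cfsg.Spor.Fi24.d * Cfsg.Spor.Fi24.c * Cfsg.Spor.Fi24.b * Cfsg.Spor.Fi24.a * Cfsg.Spor.Fi24.k *
        Cfsg.Spor.Fi24.l * Cfsg.Spor.Fi24.d * Cfsg.Spor.Fi24.e * Cfsg.Spor.Fi24.f * Cfsg.Spor.Fi24.g *
        Cfsg.Spor.Fi24.j * Cfsg.Spor.Fi24.d * Cfsg.Spor.Fi24.h * Cfsg.Spor.Fi24.i) ^ 17 ∈
        Cfsg.Spor.coxRelators Cfsg.Spor.Fi24.edges ∪ {r | r ∈ Cfsg.Spor.Fi24.extra} := by
      right
      show _ ∈ Cfsg.Spor.Fi24.extra
      unfold Cfsg.Spor.Fi24.extra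
      simp
    have h2 := PresentedGroup.one_of_mem h
    simp only [map_pow, map_mul] at h2
    rw [← h2]
    congr 1

theorem UG_zero : UG.testBit 0 = true := by
  rw [testBit_UG]; simp

/-- the labelling of the cosets of `H` -/
theorem exists_label_H : ∃ f : ℕ → Cfsg.Spor.Fi24 ⧸ H, f 0 = ((1 : Cfsg.Spor.Fi24) : Cfsg.Spor.Fi24 ⧸ H) ∧
    ∀ a, ∀ i, UG.testBit i = true → gen a • f i = f (Fischer.Fi24RepDef.rho0 a i) := by
  refine exists_label gen isRel_gen ((1 : Cfsg.Spor.Fi24) : Cfsg.Spor.Fi24 ⧸ H) ?_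
  intro a ha
  show ((gen a * 1 : Cfsg.Spor.Fi24) : Cfsg.Spor.Fi24 ⧸ H) = _
  rw [mul_one, QuotientGroup.eq, mul_one]
  exact H.inv_mem (mem_H_gen ha)

theorem index_le : H.index ≤ 306936 ∧ H.index ≠ 0 := by
  obtain ⟨f, hf0, hf⟩ := exists_label_H
  have hUfin : {i : ℕ | UG.testBit i = true}.Finite := by
    apply Set.finite_of_ncard_ne_zero
    rw [ncard_G]; norm_num
  have hstep : ∀ a, ∀ q ∈ f '' {i | UG.testBit i = true}, gen a • q ∈ f '' {i | UG.testBit i = true} := by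
    rintro a _ ⟨i, hi, rfl⟩
    refine ⟨Fischer.Fi24RepDef.rho0 a i, ?_, (hf a i hi).symm⟩
    have hi' : UG.testBit i = true := hi
    have h1 : i ∈ {p : ℕ | ∃ x, Fischer.Fi24Rep.rho x 0 = p} := by
      rw [Fischer.Fi24RepOrb.orbG]; exact hi'
    obtain ⟨x, hx⟩ := h1
    show UG.testBit (Fischer.Fi24RepDef.rho0 a i) = true
    have h2 : Fischer.Fi24RepDef.rho0 a i ∈ {p : ℕ | ∃ x, Fischer.Fi24Rep.rho x 0 = p} :=
      ⟨gen a * x, by rw [map_mul, Equiv.Perm.mul_apply, hx, Fischer.Fi24Rep.rho_gen]⟩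
    rw [Fischer.Fi24RepOrb.orbG] at h2
    exact h2
  have hinv : ∀ a, gen a * gen a = 1 := isRel_gen.inv
  have hall : ∀ g : Cfsg.Spor.Fi24, ∀ q, q ∈ f '' {i | UG.testBit i = true} ↔
      g • q ∈ f '' {i | UG.testBit i = true} := by
    intro g
    have hg : g ∈ Subgroup.closure (Set.range gen) := by
      rw [show Subgroup.closure (Set.range gen) = ⊤ from PresentedGroup.closure_range_of _]
      exact Subgroup.mem_top g
    induction hg using Subgroup.closure_induction with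
    | mem x hx =>
      obtain ⟨a, rfl⟩ := hx
      intro q
      refine ⟨hstep a q, fun h => ?_⟩
      have h2 := hstep a _ h
      rwa [smul_smul, hinv, one_smul] at h2
    | one => intro q; rw [one_smul]
    | mul x y _ _ hx hy =>
      intro q
      rw [mul_smul, ← hx, ← hy]
    | inv x _ hx =>
      intro q
      have h := hx (x⁻¹ • q)
      rw [smul_inv_smul] at h
      exact h.symm
  have huniv : f '' {i | UG.testBit i = true} = Set.univ := by
    ext q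
    simp only [Set.mem_univ, iff_true]
    induction q using QuotientGroup.induction_on with
    | H g =>
      have h0 : ((1 : Cfsg.Spor.Fi24) : Cfsg.Spor.Fi24 ⧸ H) ∈ f '' {i | UG.testBit i = true} :=
        ⟨0, UG_zero, hf0⟩
      have h1 := (hall g _).1 h0
      have h2 : g • ((1 : Cfsg.Spor.Fi24) : Cfsg.Spor.Fi24 ⧸ H) = (g : Cfsg.Spor.Fi24 ⧸ H) := by
        show ((g * 1 : Cfsg.Spor.Fi24) : Cfsg.Spor.Fi24 ⧸ H) = _
        rw [mul_one]
      rw [← h2]; exact h1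
  have hfin : Finite (Cfsg.Spor.Fi24 ⧸ H) := by
    rw [← Set.finite_univ_iff, ← huniv]
    exact hUfin.image f
  have hidx : H.index = Nat.card (Cfsg.Spor.Fi24 ⧸ H) := rfl
  have hcard : Nat.card (Cfsg.Spor.Fi24 ⧸ H) ≤ 306936 := by
    rw [← Set.ncard_univ, ← huniv, ← ncard_G]
    exact Set.ncard_image_le hUfin
  refine ⟨by rw [hidx]; exact hcard, ?_⟩
  rw [hidx]
  exact Nat.card_pos.ne'

/-- index, point stabiliser and suborbits -/
theorem index_and_suborbits : H.index = 306936 ∧ (∀ g, Fischer.Fi24Rep.rho g 0 = 0 ↔ g ∈ H) ∧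
    ∃ q₁ q₂ : Cfsg.Spor.Fi24 ⧸ H, (MulAction.orbit H q₁).ncard = 31671 ∧ (MulAction.orbit H q₂).ncard = 275264 :=
  Fischer.Fi24RepOrb.index_and_suborbits index_le.1 index_le.2

theorem index_H : H.index = 306936 := index_and_suborbits.1

/-- the subgroup in the form of the printed statement -/
theorem map_closure : (Subgroup.closure ({Cfsg.Spor.Fi24.a, Cfsg.Spor.Fi24.b, Cfsg.Spor.Fi24.c, Cfsg.Spor.Fi24.d,
    Cfsg.Spor.Fi24.e, Cfsg.Spor.Fi24.f, Cfsg.Spor.Fi24.g, Cfsg.Spor.Fi24.h, Cfsg.Spor.Fi24.i, Cfsg.Spor.Fi24.j,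
    Cfsg.Spor.Fi24.l} : Set (FreeGroup Cfsg.Spor.Fi24.Gen))).map
      (PresentedGroup.mk (Cfsg.Spor.coxRelators Cfsg.Spor.Fi24.edges ∪ {r | r ∈ Cfsg.Spor.Fi24.extra})) = H := by
  rw [MonoidHom.map_closure]
  show Subgroup.closure _ = Subgroup.closure Fischer.Fi24RepOrb.S1
  rw [S1_eq]
  congr 1
  ext y
  constructor
  · rintro ⟨w, hw, rfl⟩
    simp only [Set.mem_insert_iff, Set.mem_singleton_iff] at hw
    rcases hw with rfl | rfl | rfl | rfl | rfl | rfl | rfl | rfl | rfl | rfl | rfl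
    · exact ⟨.a, by simp, rfl⟩
    · exact ⟨.b, by simp, rfl⟩
    · exact ⟨.c, by simp, rfl⟩
    · exact ⟨.d, by simp, rfl⟩
    · exact ⟨.e, by simp, rfl⟩
    · exact ⟨.f, by simp, rfl⟩
    · exact ⟨.g, by simp, rfl⟩
    · exact ⟨.h, by simp, rfl⟩
    · exact ⟨.i, by simp, rfl⟩
    · exact ⟨.j, by simp, rfl⟩
    · exact ⟨.l, by simp, rfl⟩
  · rintro ⟨x, hx, rfl⟩
    refine ⟨FreeGroup.of x, ?_, rfl⟩
    revert hx
    cases x <;> simp [Cfsg.Spor.Fi24.a, Cfsg.Spor.Fi24.b, Cfsg.Spor.Fi24.c, Cfsg.Spor.Fi24.d, Cfsg.Spor.Fi24.e,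
      Cfsg.Spor.Fi24.f, Cfsg.Spor.Fi24.g, Cfsg.Spor.Fi24.h, Cfsg.Spor.Fi24.i, Cfsg.Spor.Fi24.j, Cfsg.Spor.Fi24.l]

end Cfsg.Agent.SporRec.Fi24Index
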