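import Cfsg.Agent.SporRec.LyFiveCard

/-!
# Explicit elements for a 5-cycle lift in a group of Lyons type

`exists_frame`: after relabelling the points, the image of `f` is the cycle `(0 1 2 3 4)`;
`exists_vwh`: the involution `v` inverting `f`, `w` with `v^w = v t`, and `h` of order 8 with `h⁴ = t` commuting with
`f` and `v`.
-/

set_option autoImplicit false

namespace Cfsg.Agent.SporRec.LyFiveFrame

open Subgroup Equiv Cfsg Cfsg.Agent.SporRec.TwoAn Cfsg.Agent.SporRec.LyType Cfsg.Agent.SporRec.LyFiveCore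
  Cfsg.Agent.SporRec.LyFiveCard

/-- the standard 5-cycle `(0 1 2 3 4)` -/
def c5 : Perm (Fin 11) := swap 0 1 * swap 1 2 * swap 2 3 * swap 3 4

theorem c5_isCycle : c5.IsCycle := by
  refine ⟨0, by decide, ?_⟩
  intro y hy
  have h : ∀ y : Fin 11, c5 y ≠ y → ∃ i : Fin 5, (c5 ^ (i : ℕ)) 0 = y := by decide
  obtain ⟨i, hi⟩ := h y hy
  exact ⟨(i : ℕ), by rw [zpow_natCast]; exact hi⟩

theorem c5_card : c5.support.card = 5 := by decide

variable {G : Type*} [Group G] {L : LyType G} {f : G} (hf : Five L f)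

include hf in
/-- Relabelling of the points: `(L.K.congr τ).π f = (0 1 2 3 4)`. -/
theorem exists_relabel : ∃ τ : Fin 11 ≃ Fin 11, (L.K.congr τ).π ⟨f, L.mem_iff.2 hf.comm⟩ = c5 := by
  have h1 : IsConj (L.K.π ⟨f, L.mem_iff.2 hf.comm⟩) c5 := by
    rw [Perm.isConj_iff_cycleType_eq, hf.cyc.cycleType, c5_isCycle.cycleType, hf.card, c5_card]
  obtain ⟨τ, hτ⟩ := isConj_iff.1 h1
  exact ⟨τ, hτ⟩

/-- The type with relabelled points. -/
def relabel (L : LyType G) (τ : Fin 11 ≃ Fin 11) : LyType G := ⟨L.t, L.K.congr τ, L.hz, L.one⟩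

theorem relabel_t (L : LyType G) (τ : Fin 11 ≃ Fin 11) : (relabel L τ).t = L.t := rfl

theorem relabel_K (L : LyType G) (τ : Fin 11 ≃ Fin 11) : (relabel L τ).K = L.K.congr τ := rfl

theorem relabel_π_apply (L : LyType G) (τ : Fin 11 ≃ Fin 11) (g : centralizer ({L.t} : Set G)) (x : Fin 11) :
    (relabel L τ).K.π g (τ x) = τ (L.K.π g x) := by
  show τ (L.K.π g (τ.symm (τ x))) = τ (L.K.π g x)
  rw [Equiv.symm_apply_apply]

/-- `v`, `w`, `h` for the standard cycle. -/
theorem exists_vwh_std {C : Type*} [Group C] (K : Cover (Fin 11) C) {F : C} (hF : K.π F = c5) (hF5 : F ^ 5 = 1) :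
    ∃ v w h : C, v * v = 1 ∧ K.π v = swap 1 4 * swap 2 3 * (swap 5 6 * swap 7 8) ∧ v * F * v⁻¹ = F⁻¹ ∧
      w * F = F * w ∧ w * v * w⁻¹ = v * K.z ∧ h * F = F * h ∧ h * v = v * h ∧ h ^ 4 = K.z ∧
      K.π h = swap 5 8 * swap 5 6 * swap 5 7 * swap 9 10 ∧ K.π w = swap 5 7 * swap 6 8 := by
  obtain ⟨u, hu⟩ := K.exists_lift (Cover.swap_mul_swap_mem 1 4 2 3 (by decide) (by decide))
  obtain ⟨u', hu'⟩ := K.exists_lift (Cover.swap_mul_swap_mem 5 6 7 8 (by decide) (by decide))
  obtain ⟨w, hw⟩ := K.exists_lift (Cover.swap_mul_swap_mem 5 7 6 8 (by decide) (by decide))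
  obtain ⟨h, hh⟩ := K.exists_lift (σ := swap 5 8 * swap 5 6 * swap 5 7 * swap 9 10) (by
    rw [Perm.mem_alternatingGroup, map_mul, map_mul, map_mul, Perm.sign_swap (by decide), Perm.sign_swap (by decide),
      Perm.sign_swap (by decide), Perm.sign_swap (by decide)]
    decide)
  have huu : u * u = K.z := K.dbl 1 4 2 3 (by decide) (by decide) (by decide) (by decide) (by decide) (by decide) u hu
  have huu' : u' * u' = K.z :=
    K.dbl 5 6 7 8 (by decide) (by decide) (by decide) (by decide) (by decide) (by decide) u' hu'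
  have cuu : u * u' = u' * u := K.commute_of_disjoint (by
    rw [hu, hu']; intro x; revert x; decide)
  have cwu : w * u = u * w := K.commute_of_disjoint (by
    rw [hu, hw]; intro x; revert x; decide)
  have chu : h * u = u * h := K.commute_of_disjoint (by
    rw [hu, hh]; intro x; revert x; decide)
  have awu : w * u' = u' * w * K.z := K.anticomm (a := 5) (b := 6) (c := 7) (d := 8)
    (by decide) (by decide) (by decide) (by decide) (by decide) (by decide) hu' hw
  have hhh : h * h = u' ∨ h * h = u' * K.z := K.lift_eq (by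
    rw [map_mul, hh, hu']; decide)
  have chu' : h * u' = u' * h := by
    rcases hhh with h1 | h1
    · rw [← h1, mul_assoc]
    · have h2 : u' = h * h * K.z := by rw [h1, mul_assoc, K.z_mul_z, mul_one]
      rw [h2]
      calc h * (h * h * K.z) = h * h * (h * K.z) := by group
        _ = h * h * (K.z * h) := by rw [K.z_comm]
        _ = h * h * K.z * h := by group
  have hh4 : h ^ 4 = K.z := by
    have : h ^ 4 = (h * h) * (h * h) := by rw [show (4 : ℕ) = 2 + 2 from rfl, pow_add, pow_two]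
    rw [this]
    rcases hhh with h1 | h1
    · rw [h1, huu']
    · rw [h1]
      calc u' * K.z * (u' * K.z) = u' * (K.z * u') * K.z := by group
        _ = u' * (u' * K.z) * K.z := by rw [← K.z_comm]
        _ = (u' * u') * (K.z * K.z) := by group
        _ = K.z := by rw [huu', K.z_mul_z, mul_one]
  refine ⟨u * u', w, h, ?_, ?_, ?_, ?_, ?_, ?_, ?_, hh4, hh, hw⟩
  · calc u * u' * (u * u') = u * (u' * u) * u' := by group
      _ = (u * u) * (u' * u') := by rw [← cuu]; group
      _ = 1 := by rw [huu, huu', K.z_mul_z]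
  · rw [map_mul, hu, hu']
  · refine K.odd_lift_unique (n := 5) (by decide) ?_ ?_ ?_
    · rw [conj_pow, hF5, mul_one, mul_inv_cancel]
    · rw [inv_pow, hF5, inv_one]
    · rw [map_mul, map_mul, map_inv, map_mul, hu, hu', map_inv, hF]
      decide
  · exact K.commute_of_disjoint (by rw [hF, hw]; intro x; revert x; decide)
  · rw [mul_inv_eq_iff_eq_mul]
    calc w * (u * u') = (w * u) * u' := by group
      _ = u * (w * u') := by rw [cwu]; group
      _ = u * (u' * w * K.z) := by rw [awu]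
      _ = u * u' * (w * K.z) := by group
      _ = u * u' * K.z * w := by rw [K.z_comm]; group
  · exact K.commute_of_disjoint (by rw [hF, hh]; intro x; revert x; decide)
  · calc h * (u * u') = (h * u) * u' := by group
      _ = u * (h * u') := by rw [chu]; group
      _ = u * u' * h := by rw [chu']; group

include hf in
/-- The elements `v`, `w`, `h`. -/
theorem exists_vwh : ∃ v w h : G, v * v = 1 ∧ v ≠ 1 ∧ v ≠ L.t ∧ v * L.t = L.t * v ∧ v * f * v⁻¹ = f⁻¹ ∧
    w * L.t = L.t * w ∧ w * f = f * w ∧ w * v * w⁻¹ = v * L.t ∧ h * L.t = L.t * h ∧ h * f = f * h ∧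
    h * v = v * h ∧ h ^ 4 = L.t := by
  obtain ⟨τ, hπ⟩ := exists_relabel hf
  set F : centralizer ({L.t} : Set G) := ⟨f, L.mem_iff.2 hf.comm⟩ with hF
  obtain ⟨v, w, h, h1, h2, h3, h4, h5, h6, h7, h8, -, -⟩ := exists_vwh_std (L.K.congr τ) hπ (Subtype.ext hf.pow)
  have e : ∀ x : centralizer ({L.t} : Set G), (x : G) * L.t = L.t * x := fun x => L.mem_iff.1 x.2
  have hv1 : v ≠ 1 := by
    intro hh
    rw [hh, map_one] at h2
    exact absurd h2 (by decide)
  have hvz : v ≠ L.K.z := by
    intro hh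
    rw [hh] at h2
    have h9 : (L.K.congr τ).π L.K.z = 1 := (L.K.congr τ).π_z
    rw [h9] at h2
    exact absurd h2 (by decide)
  have hz : (((L.K.congr τ).z : centralizer ({L.t} : Set G)) : G) = L.t := L.hz
  refine ⟨v, w, h, congrArg Subtype.val h1, fun hh => hv1 (Subtype.ext hh),
    fun hh => hvz (Subtype.ext (hh.trans L.hz.symm)), e v,
    congrArg Subtype.val h3, e w, congrArg Subtype.val h4, ?_, e h, congrArg Subtype.val h6,
    congrArg Subtype.val h7, (congrArg Subtype.val h8).trans hz⟩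
  have h9 : (w : G) * v * (w : G)⁻¹ = v * ((L.K.congr τ).z : centralizer ({L.t} : Set G)) := congrArg Subtype.val h5
  rw [h9, hz]

end Cfsg.Agent.SporRec.LyFiveFrame
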