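import Cfsg.Agent.SporRec.TCUpper

/-!
# Packaging of the static Todd-Coxeter certificates

Letters `0, 1, ..` denote the elements of a list `gl : List G` (letters `≥ gl.length` denote `1`), words are lists of
letters in natural (product) order.  Columns carry letters via `lab : List ℕ`.
-/

set_option autoImplicit false

namespace Cfsg.Agent.SporRec.TCUpperCert

open Cfsg.Agent.SporRec.TCUpper

/-! ### kernel functions -/

/-- list lookup with default `0` -/
noncomputable def nth (l : List ℕ) : ℕ → ℕ :=
  List.rec (motive := fun _ => ℕ → ℕ) (fun _ => 0) (fun a _ ih n => Nat.rec a (fun m _ => ih m) n) l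

theorem nth_nil (n : ℕ) : nth [] n = 0 := rfl
theorem nth_cons_zero (a : ℕ) (l : List ℕ) : nth (a :: l) 0 = a := rfl
theorem nth_cons_succ (a : ℕ) (l : List ℕ) (n : ℕ) : nth (a :: l) (n + 1) = nth l n := rfl

/-- membership test -/
noncomputable def memb (l : List ℕ) (a : ℕ) : Bool :=
  List.rec (motive := fun _ => Bool) false (fun b _ ih => Bool.rec ih true (Nat.beq a b)) l

theorem memb_sound (l : List ℕ) (a : ℕ) (h : memb l a = true) : a ∈ l := by
  induction l with
  | nil => exact absurd (show false = true from h) (by simp)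
  | cons b l ih =>
    have h' : (Bool.rec (memb l a) true (Nat.beq a b) : Bool) = true := h
    cases hb : Nat.beq a b with
    | true => rw [Nat.eq_of_beq_eq_true hb]; exact List.mem_cons_self ..
    | false => rw [hb] at h'; exact List.mem_cons_of_mem _ (ih h')

/-- flat packed tables: one number per column, `W` bits per entry -/
noncomputable def lookF (tabs : List ℕ) (W mW c n : ℕ) : ℕ :=
  Nat.land (Nat.shiftRight (nth tabs c) (Nat.mul W n)) mW

/-- all tables have less than `b` bits -/
noncomputable def bitsLt (b : ℕ) (tabs : List ℕ) : Bool :=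
  List.rec (motive := fun _ => Bool) true (fun T _ ih => Bool.rec false ih (Nat.beq (Nat.shiftRight T b) 0)) tabs

theorem nth_lt_of_bitsLt {b : ℕ} (tabs : List ℕ) (h : bitsLt b tabs = true) :
    ∀ c, nth tabs c < 2 ^ b := by
  induction tabs with
  | nil => intro c; rw [nth_nil]; positivity
  | cons T tabs ih =>
    have h' : (Bool.rec false (bitsLt b tabs) (Nat.beq (Nat.shiftRight T b) 0) : Bool) = true := h
    obtain ⟨h1, h2⟩ := bool_rec_false h'
    intro c
    cases c with
    | zero =>
      rw [nth_cons_zero]
      have h3 : T >>> b = 0 := Nat.eq_of_beq_eq_true h1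
      rw [Nat.shiftRight_eq_div_pow] at h3
      exact (Nat.div_eq_zero_iff_lt (by positivity)).1 h3
    | succ c => rw [nth_cons_succ]; exact ih h2 c

theorem nth_eq_zero_of_length_le (l : List ℕ) : ∀ n, l.length ≤ n → nth l n = 0 := by
  induction l with
  | nil => intro n _; rfl
  | cons a l ih =>
    intro n hn
    cases n with
    | zero => simp at hn
    | succ n => rw [nth_cons_succ]; exact ih n (by simpa using hn)

theorem lookF_le (tabs : List ℕ) (W mW c n : ℕ) : lookF tabs W mW c n ≤ mW := by
  change (_ &&& mW) ≤ mW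
  exact Nat.and_le_right

theorem lookF_ne_zero {tabs : List ℕ} {W mW N : ℕ} (h : bitsLt (W * N) tabs = true) (c n : ℕ)
    (hne : lookF tabs W mW c n ≠ 0) : c < tabs.length ∧ n < N := by
  constructor
  · by_contra hc
    apply hne
    have : nth tabs c = 0 := nth_eq_zero_of_length_le tabs c (by omega)
    change ((nth tabs c >>> (W * n)) &&& mW) = 0
    rw [this]; simp
  · by_contra hc
    apply hne
    have h1 := nth_lt_of_bitsLt tabs h c
    have h2 : nth tabs c < 2 ^ (W * n) :=
      lt_of_lt_of_le h1 (Nat.pow_le_pow_right (by norm_num) (Nat.mul_le_mul_left _ (by omega)))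
    change ((nth tabs c >>> (W * n)) &&& mW) = 0
    rw [Nat.shiftRight_eq_div_pow, Nat.div_eq_of_lt h2]; simp

/-! ### words and relators -/

section words

variable {G : Type*} [Group G]

/-- value of a letter -/
def lv (gl : List G) (a : ℕ) : G := gl.getD a 1

/-- value of a word (natural product order) -/
def wprod (gl : List G) (w : List ℕ) : G := (w.map (lv gl)).prod

theorem wprod_nil (gl : List G) : wprod gl [] = 1 := rfl
theorem wprod_cons (gl : List G) (a : ℕ) (w : List ℕ) : wprod gl (a :: w) = lv gl a * wprod gl w := by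
  simp [wprod]
theorem wprod_append (gl : List G) (u v : List ℕ) : wprod gl (u ++ v) = wprod gl u * wprod gl v := by
  simp [wprod]

theorem lv_of_ge (gl : List G) (a : ℕ) (h : gl.length ≤ a) : lv gl a = 1 := by
  rw [lv]; exact List.getD_eq_default _ _ h

/-- prefix test -/
noncomputable def prefixb (v : List ℕ) : List ℕ → Bool :=
  List.rec (motive := fun _ => List ℕ → Bool) (fun _ => true)
    (fun a _ ih t => List.rec (motive := fun _ => Bool) false
      (fun b t' _ => Bool.rec false (ih t') (Nat.beq a b)) t) v

theorem prefixb_sound (v : List ℕ) : ∀ t, prefixb v t = true → ∃ s, t = v ++ s := by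
  induction v with
  | nil => intro t _; exact ⟨t, rfl⟩
  | cons a v ih =>
    intro t h
    cases t with
    | nil => exact absurd (show false = true from h) (by simp)
    | cons b t =>
      have h' : (Bool.rec false (prefixb v t) (Nat.beq a b) : Bool) = true := h
      obtain ⟨h1, h2⟩ := bool_rec_false h'
      obtain ⟨s, rfl⟩ := ih t h2
      rw [Nat.eq_of_beq_eq_true h1]
      exact ⟨s, rfl⟩

/-- prefix of one of the first `n` tails -/
noncomputable def anyTail (v : List ℕ) (n : ℕ) : List ℕ → Bool :=
  Nat.rec (motive := fun _ => List ℕ → Bool) (fun _ => false)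
    (fun _ ih t => Bool.rec (ih t.tail) true (prefixb v t)) n

theorem anyTail_sound (v : List ℕ) (n : ℕ) : ∀ t, anyTail v n t = true → ∃ k < n, ∃ s, t.drop k = v ++ s := by
  induction n with
  | zero => intro t h; exact absurd (show false = true from h) (by simp)
  | succ n ih =>
    intro t h
    have h' : (Bool.rec (anyTail v n t.tail) true (prefixb v t) : Bool) = true := h
    cases hp : prefixb v t with
    | true =>
      obtain ⟨s, hs⟩ := prefixb_sound v t hp
      exact ⟨0, by omega, s, by simpa using hs⟩
    | false =>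
      rw [hp] at h'
      obtain ⟨k, hk, s, hs⟩ := ih t.tail h'
      refine ⟨k + 1, by omega, s, ?_⟩
      rw [← hs, List.drop_tail]

/-- `v` is a rotation of `r` -/
noncomputable def isRot (v r : List ℕ) : Bool :=
  Bool.rec false (anyTail v r.length (r ++ r)) (Nat.beq v.length r.length)

theorem isRot_sound (gl : List G) (v r : List ℕ) (h : isRot v r = true) (hr : wprod gl r = 1) :
    wprod gl v = 1 := by
  obtain ⟨h1, h2⟩ := bool_rec_false h
  have hlen := Nat.eq_of_beq_eq_true h1
  obtain ⟨k, hk, s, hs⟩ := anyTail_sound v _ _ h2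
  rw [List.drop_append_of_le_length (by omega)] at hs
  have e : r.drop k ++ r = (r.drop k ++ r.take k) ++ r.drop k := by
    rw [List.append_assoc, List.take_append_drop]
  rw [e] at hs
  have hv : r.drop k ++ r.take k = v := by
    apply List.append_inj_left hs
    rw [hlen]; simp; omega
  rw [← hv, wprod_append]
  rw [← List.take_append_drop k r, wprod_append] at hr
  exact mul_eq_one_comm.1 hr

/-- some element of the list of relators rotates to `v` -/
noncomputable def anyRot (v : List ℕ) (rels : List (List ℕ)) : Bool :=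
  List.rec (motive := fun _ => Bool) false (fun r _ ih => Bool.rec ih true (isRot v r)) rels

theorem anyRot_sound (gl : List G) (v : List ℕ) (rels : List (List ℕ)) (h : anyRot v rels = true)
    (hr : ∀ r ∈ rels, wprod gl r = 1) : wprod gl v = 1 := by
  induction rels with
  | nil => exact absurd (show false = true from h) (by simp)
  | cons r rels ih =>
    have h' : (Bool.rec (anyRot v rels) true (isRot v r) : Bool) = true := h
    cases hp : isRot v r with
    | true => exact isRot_sound gl v r hp (hr r (List.mem_cons_self ..))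
    | false => rw [hp] at h'; exact ih h' (fun r' hr' => hr r' (List.mem_cons_of_mem _ hr'))

/-- inverse word -/
noncomputable def invw (inv : List ℕ) (w : List ℕ) : List ℕ := (w.map (nth inv)).reverse

theorem wprod_invw (gl : List G) (inv : List ℕ) (w : List ℕ)
    (hinv : ∀ a ∈ w, lv gl a * lv gl (nth inv a) = 1) : wprod gl (invw inv w) = (wprod gl w)⁻¹ := by
  induction w with
  | nil => simp [invw, wprod_nil]
  | cons a w ih =>
    have h1 : invw inv (a :: w) = invw inv w ++ [nth inv a] := by simp [invw]
    rw [h1, wprod_append, ih (fun b hb => hinv b (List.mem_cons_of_mem _ hb)), wprod_cons, wprod_cons, wprod_nil,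
      mul_inv_rev, mul_one, inv_eq_of_mul_eq_one_right (hinv a (List.mem_cons_self ..))]

/-- remove the letters `≥ L` -/
noncomputable def strip (L : ℕ) (w : List ℕ) : List ℕ :=
  List.rec (motive := fun _ => List ℕ) [] (fun a _ ih => Bool.rec (a :: ih) ih (Nat.ble L a)) w

theorem wprod_strip (gl : List G) (w : List ℕ) : wprod gl (strip gl.length w) = wprod gl w := by
  induction w with
  | nil => rfl
  | cons a w ih =>
    have h' : strip gl.length (a :: w) =
      (Bool.rec (a :: strip gl.length w) (strip gl.length w) (Nat.ble gl.length a) : List ℕ) := rfl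
    rw [h', wprod_cons]
    cases hb : Nat.ble gl.length a with
    | true => rw [lv_of_ge gl a (Nat.le_of_ble_eq_true hb), one_mul]; exact ih
    | false => change wprod gl (a :: strip gl.length w) = _; rw [wprod_cons, ih]

/-- `v` is empty or `[a, a⁻¹]` or a rotation of a relator -/
noncomputable def triv (L : ℕ) (inv : List ℕ) (rels : List (List ℕ)) (v : List ℕ) : Bool :=
  List.rec (motive := fun _ => Bool) true
    (fun a v' _ => List.rec (motive := fun _ => Bool) false
      (fun b v'' _ => List.rec (motive := fun _ => Bool)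
        (Bool.rec (anyRot v rels) (Nat.blt a L) (Nat.beq b (nth inv a)))
        (fun _ _ _ => anyRot v rels) v'') v') v

theorem triv_sound (gl : List G) (inv : List ℕ) (rels : List (List ℕ)) (v : List ℕ)
    (hinv : ∀ a < gl.length, lv gl a * lv gl (nth inv a) = 1)
    (hr : ∀ r ∈ rels, wprod gl r = 1) (h : triv gl.length inv rels v = true) : wprod gl v = 1 := by
  match v, h with
  | [], _ => rfl
  | [a], h => exact absurd (show false = true from h) (by simp)
  | [a, b], h =>
    have h' : (Bool.rec (anyRot [a, b] rels) (Nat.blt a gl.length) (Nat.beq b (nth inv a)) : Bool) = true := h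
    cases hb : Nat.beq b (nth inv a) with
    | true =>
      rw [hb] at h'
      have hlt : a < gl.length := by
        have : Nat.blt a gl.length = true := h'
        simpa [Nat.blt_eq] using this
      rw [wprod_cons, wprod_cons, wprod_nil, mul_one, Nat.eq_of_beq_eq_true hb]
      exact hinv a hlt
    | false => rw [hb] at h'; exact anyRot_sound gl _ rels h' hr
  | a :: b :: c :: v, h => exact anyRot_sound gl _ rels h hr

/-- semantic check of one template of a column with letter `a` -/
noncomputable def tOK (L : ℕ) (inv lab : List ℕ) (rels : List (List ℕ)) (a : ℕ) (d : Bool) (ws : List ℕ) : Bool :=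
  Bool.rec (triv L inv rels (strip L (ws.map (nth lab) ++ [a])))
    (Bool.rec (triv L inv rels (strip L (ws.map (nth lab)) ++ [nth inv a]))
      (triv L inv rels (strip L (ws.map (nth lab)))) (Nat.ble L a)) d

theorem tOK_sound (gl : List G) (inv lab : List ℕ) (rels : List (List ℕ)) (a : ℕ) (d : Bool) (ws : List ℕ)
    (hinv : ∀ a < gl.length, lv gl a * lv gl (nth inv a) = 1)
    (hr : ∀ r ∈ rels, wprod gl r = 1) (h : tOK gl.length inv lab rels a d ws = true) :
    (d = true → wprod gl (ws.map (nth lab)) = lv gl a) ∧
    (d = false → wprod gl (ws.map (nth lab)) = (lv gl a)⁻¹) := by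
  cases d with
  | false =>
    refine ⟨fun h => absurd h (by simp), fun _ => ?_⟩
    have h' : triv gl.length inv rels (strip gl.length (ws.map (nth lab) ++ [a])) = true := h
    have := triv_sound gl inv rels _ hinv hr h'
    rw [wprod_strip, wprod_append, wprod_cons, wprod_nil, mul_one] at this
    exact eq_inv_of_mul_eq_one_left this
  | true =>
    refine ⟨fun _ => ?_, fun h => absurd h (by simp)⟩
    have h' : (Bool.rec (triv gl.length inv rels (strip gl.length (ws.map (nth lab)) ++ [nth inv a]))
      (triv gl.length inv rels (strip gl.length (ws.map (nth lab)))) (Nat.ble gl.length a) : Bool) = true := h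
    cases hb : Nat.ble gl.length a with
    | true =>
      rw [hb] at h'
      have := triv_sound gl inv rels _ hinv hr h'
      rw [wprod_strip] at this
      rw [this, lv_of_ge gl a (Nat.le_of_ble_eq_true hb)]
    | false =>
      rw [hb] at h'
      have := triv_sound gl inv rels _ hinv hr h'
      rw [wprod_append, wprod_strip, wprod_cons, wprod_nil, mul_one] at this
      have h2 := hinv a (ble_false hb)
      have h3 : lv gl (nth inv a) = (lv gl a)⁻¹ := eq_inv_of_mul_eq_one_right h2
      rw [h3] at this
      exact mul_inv_eq_one.1 this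

/-- all letters are `< L` -/
noncomputable def ltAll (L : ℕ) (w : List ℕ) : Bool :=
  List.rec (motive := fun _ => Bool) true (fun a _ ih => Bool.rec ih false (Nat.ble L a)) w

theorem ltAll_sound (L : ℕ) (w : List ℕ) (h : ltAll L w = true) : ∀ a ∈ w, a < L := by
  induction w with
  | nil => intro a h; exact absurd h (by simp)
  | cons b w ih =>
    obtain ⟨h1, h2⟩ := bool_rec_false' h
    intro a ha
    rcases List.mem_cons.1 ha with e | e
    · rw [e]; exact ble_false h1
    · exact ih h2 a e

/-- the relators followed by their inverses (only those with all letters `< L`) -/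
noncomputable def withInv (L : ℕ) (inv : List ℕ) (rels : List (List ℕ)) : List (List ℕ) :=
  List.rec (motive := fun _ => List (List ℕ)) []
    (fun r _ ih => r :: Bool.rec ih (invw inv r :: ih) (ltAll L r)) rels

theorem withInv_sound (gl : List G) (inv : List ℕ) (rels : List (List ℕ))
    (hinv : ∀ a < gl.length, lv gl a * lv gl (nth inv a) = 1)
    (hr : ∀ r ∈ rels, wprod gl r = 1) : ∀ r ∈ withInv gl.length inv rels, wprod gl r = 1 := by
  induction rels with
  | nil => intro r h; exact absurd h (by simp [withInv])
  | cons r rels ih =>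
    have ih' := ih (fun r' h' => hr r' (List.mem_cons_of_mem _ h'))
    have e : withInv gl.length inv (r :: rels) =
      r :: (Bool.rec (withInv gl.length inv rels) (invw inv r :: withInv gl.length inv rels)
        (ltAll gl.length r) : List (List ℕ)) := rfl
    intro r' h'
    rw [e] at h'
    have hr0 := hr r (List.mem_cons_self ..)
    rcases List.mem_cons.1 h' with h1 | h1
    · rw [h1]; exact hr0
    · cases hb : ltAll gl.length r with
      | false => rw [hb] at h1; exact ih' r' h1
      | true =>
        rw [hb] at h1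
        rcases List.mem_cons.1 h1 with h2 | h2
        · rw [h2, wprod_invw gl inv r (fun a ha => hinv a (ltAll_sound _ _ hb a ha)), hr0, inv_one]
        · exact ih' r' h2

/-- semantic check of the templates of one column -/
noncomputable def tsOK (L : ℕ) (inv lab : List ℕ) (rels : List (List ℕ)) (a : ℕ) (T : List (Bool × List ℕ)) : Bool :=
  List.rec (motive := fun _ => Bool) true (fun t _ ih => Bool.rec false ih (tOK L inv lab rels a t.1 t.2)) T

theorem tsOK_sound (L : ℕ) (inv lab : List ℕ) (rels : List (List ℕ)) (a : ℕ) (T : List (Bool × List ℕ))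
    (h : tsOK L inv lab rels a T = true) : ∀ d ws, (d, ws) ∈ T → tOK L inv lab rels a d ws = true := by
  induction T with
  | nil => intro d ws h; exact absurd h (by simp)
  | cons t T ih =>
    have h' : (Bool.rec false (tsOK L inv lab rels a T) (tOK L inv lab rels a t.1 t.2) : Bool) = true := h
    obtain ⟨h1, h2⟩ := bool_rec_false h'
    intro d ws hm
    rcases List.mem_cons.1 hm with e | e
    · rw [← e] at h1; exact h1
    · exact ih h2 d ws e

/-- semantic check of all templates -/
noncomputable def allOK (L : ℕ) (inv lab : List ℕ) (rels : List (List ℕ)) (TT : List (List (Bool × List ℕ))) :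
    ℕ → Bool :=
  List.rec (motive := fun _ => ℕ → Bool) (fun _ => true)
    (fun T _ ih c => Bool.rec false (ih (Nat.succ c)) (tsOK L inv lab rels (nth lab c) T)) TT

theorem allOK_sound (L : ℕ) (inv lab : List ℕ) (rels : List (List ℕ)) (TT : List (List (Bool × List ℕ))) :
    ∀ c0, allOK L inv lab rels TT c0 = true → ∀ k, ∀ d ws, (d, ws) ∈ TT.getD k [] →
      tOK L inv lab rels (nth lab (c0 + k)) d ws = true := by
  induction TT with
  | nil => intro c0 _ k d ws h; simp at h
  | cons T TT ih =>
    intro c0 h k d ws hm
    have h' : (Bool.rec false (allOK L inv lab rels TT (Nat.succ c0)) (tsOK L inv lab rels (nth lab c0) T) : Bool)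
      = true := h
    obtain ⟨h1, h2⟩ := bool_rec_false h'
    cases k with
    | zero => exact tsOK_sound L inv lab rels _ T h1 d ws (by simpa using hm)
    | succ k =>
      have := ih (Nat.succ c0) h2 k d ws (by simpa using hm)
      have e : c0 + (k + 1) = Nat.succ c0 + k := by omega
      rw [e]; exact this

/-- meaning of a column (acting on left cosets) -/
noncomputable def semc (gl : List G) (lab : List ℕ) (c : ℕ) : G := (lv gl (nth lab c))⁻¹

theorem wordSem_semc (gl : List G) (lab : List ℕ) (ws : List ℕ) :
    wordSem (semc gl lab) ws = (wprod gl (ws.map (nth lab)))⁻¹ := by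
  induction ws with
  | nil => simp [wordSem_nil, wprod_nil]
  | cons c ws ih => rw [wordSem_cons, ih, List.map_cons, wprod_cons, mul_inv_rev]; rfl

end words

/-! ### Ranges of nodes -/

/-- The check has been done for the nodes `a ≤ n < b`. -/
def RangeOk (look : ℕ → ℕ → ℕ) (mB finc lim : ℕ) (dcol : ℕ → ℕ) (fx : ℕ → Bool)
    (TT : List (List (Bool × List ℕ))) (a b : ℕ) : Prop :=
  ∀ n, a ≤ n → n < b → ∀ c, c < TT.length →
    (look c n ≠ 0 → Good look mB dcol fx (TT.getD c []) c n) ∧
    (c < finc → Good look mB dcol fx (TT.getD c []) c n ∧ Nat.land (look c n) mB < lim)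

theorem RangeOk.append {look : ℕ → ℕ → ℕ} {mB finc lim : ℕ} {dcol : ℕ → ℕ} {fx : ℕ → Bool}
    {TT : List (List (Bool × List ℕ))} {a b d : ℕ} (h1 : RangeOk look mB finc lim dcol fx TT a b)
    (h2 : RangeOk look mB finc lim dcol fx TT b d) : RangeOk look mB finc lim dcol fx TT a d := by
  intro n h3 h4
  by_cases h : n < b
  · exact h1 n h3 h
  · exact h2 n (by omega) h4

theorem RangeOk.nil {look : ℕ → ℕ → ℕ} {mB finc lim : ℕ} {dcol : ℕ → ℕ} {fx : ℕ → Bool}
    {TT : List (List (Bool × List ℕ))} (a : ℕ) : RangeOk look mB finc lim dcol fx TT a a :=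
  fun _ h3 h4 => absurd h3 (by omega)

theorem RangeOk.of_chunk {look : ℕ → ℕ → ℕ} {mB finc lim : ℕ} {dcol : ℕ → ℕ} {fx : ℕ → Bool}
    {TT : List (List (Bool × List ℕ))} {a S pb pm : ℕ} (b : ℕ)
    {DD : List (ℕ × (ℕ × ℕ) × (ℕ × ℕ) × List (ℕ × ℕ))} (hlim : 0 < lim) (hb : b = a + S)
    (h : kChunk pb pm look mB finc lim dcol fx a (Nat.sub (Nat.shiftLeft 1 S) 1) TT 0 DD = true) :
    RangeOk look mB finc lim dcol fx TT a b := by
  intro n h1 h2 c hc
  have hbit : (Nat.sub (Nat.shiftLeft 1 S) 1).testBit (n - a) = true := by
    change ((1 <<< S) - 1).testBit (n - a) = true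
    rw [Nat.one_shiftLeft, Nat.testBit_two_pow_sub_one]
    simp; omega
  have := kChunk_sound hlim TT 0 DD h c hc (n - a) hbit
  rw [show a + (n - a) = n by omega, Nat.zero_add] at this
  rw [List.getD_eq_getElem _ _ hc]
  exact this

/-- merge of the final range (`a = 0 .. nf`, complete columns) and the rest -/
structure Valid (look : ℕ → ℕ → ℕ) (mB finc nf N : ℕ) (dcol : ℕ → ℕ) (fx : ℕ → Bool)
    (TT : List (List (Bool × List ℕ))) : Prop where
  fin : RangeOk look mB finc nf dcol fx TT 0 nf
  rest : RangeOk look mB 0 nf dcol fx TT nf N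
  out : ∀ c n, look c n ≠ 0 → c < TT.length ∧ n < N
  bdd : ∃ M, ∀ c n, look c n ≤ M
  cols : finc ≤ TT.length
  pos : 0 < nf

section final

variable {G X : Type*} [Group G] [MulAction G X]

theorem exists_val {look : ℕ → ℕ → ℕ} {mB finc nf N : ℕ} {dcol : ℕ → ℕ}
    {TT : List (List (Bool × List ℕ))} (gl : List G) (inv lab fxl : List ℕ) (rels : List (List ℕ))
    (hv : Valid look mB finc nf N dcol (fun c => memb fxl (nth lab c)) TT)
    (hT : allOK gl.length inv lab (withInv gl.length inv rels) TT 0 = true)
    (hinv : ∀ a < gl.length, lv gl a * lv gl (nth inv a) = 1)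
    (hrel : ∀ r ∈ rels, wprod gl r = 1)
    (x0 : X) (hfix : ∀ a ∈ fxl, lv gl a • x0 = x0) :
    ∃ vl : ℕ → X, vl 0 = x0 ∧
      (∀ c n, look c n ≠ 0 → semc gl lab c • vl n = vl (Nat.land (look c n) mB)) ∧
      (∀ c < finc, ∀ n < nf, ∃ m < nf, semc gl lab c • vl n = vl m) := by
  obtain ⟨M, hM⟩ := hv.bdd
  have hg : ∀ c n, look c n ≠ 0 →
      Good look mB dcol (fun c => memb fxl (nth lab c)) (TT.getD c []) c n := by
    intro c n hne
    obtain ⟨hc, hn⟩ := hv.out c n hne
    by_cases h : n < nf
    · exact (hv.fin n (by omega) h c hc).1 hne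
    · exact (hv.rest n (by omega) hn c hc).1 hne
  have hval := valid (look := look) (mB := mB) (dcol := dcol) (fx := fun c => memb fxl (nth lab c))
    (semc gl lab) x0 (TT := fun c => TT.getD c []) hM hg
    (by
      intro c hc
      have := hfix _ (memb_sound _ _ hc)
      change (lv gl (nth lab c))⁻¹ • x0 = x0
      rw [inv_smul_eq_iff]; exact this.symm)
    (by
      intro c ws hm
      have := allOK_sound _ _ _ _ _ 0 hT c true ws hm
      rw [Nat.zero_add] at this
      have := (tOK_sound gl inv lab _ _ true ws hinv (withInv_sound gl inv rels hinv hrel) this).1 rfl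
      rw [wordSem_semc, this]; rfl)
    (by
      intro c ws hm
      have := allOK_sound _ _ _ _ _ 0 hT c false ws hm
      rw [Nat.zero_add] at this
      have := (tOK_sound gl inv lab _ _ false ws hinv (withInv_sound gl inv rels hinv hrel) this).2 rfl
      rw [wordSem_semc, this]; rfl)
  refine ⟨val look mB dcol (semc gl lab) x0, val_zero _ _, fun c n hne => hval c n (hg c n hne), ?_⟩
  intro c hc n hn
  have h := (hv.fin n (by omega) hn c (lt_of_lt_of_le hc hv.cols)).2 hc
  exact ⟨_, h.2, hval c n h.1⟩

/-- **Index bound**: `H` contains the letters of `fxl`; `K` is generated by the letters of the columns `< finc`. -/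
theorem relIndex_le_of_valid {look : ℕ → ℕ → ℕ} {mB finc nf N : ℕ} {dcol : ℕ → ℕ}
    {TT : List (List (Bool × List ℕ))} (gl : List G) (inv lab fxl : List ℕ) (rels : List (List ℕ))
    (hv : Valid look mB finc nf N dcol (fun c => memb fxl (nth lab c)) TT)
    (hT : allOK gl.length inv lab (withInv gl.length inv rels) TT 0 = true)
    (hinv : ∀ a < gl.length, lv gl a * lv gl (nth inv a) = 1)
    (hrel : ∀ r ∈ rels, wprod gl r = 1)
    (H : Subgroup G) (hfix : ∀ a ∈ fxl, lv gl a ∈ H) (S : Set G)
    (hS : ∀ s ∈ S, ∃ c < finc, s = lv gl (nth lab c)) :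
    H.relIndex (Subgroup.closure S) ≤ nf ∧ H.relIndex (Subgroup.closure S) ≠ 0 := by
  obtain ⟨vl, h0, _, hcl⟩ := exists_val gl inv lab fxl rels hv hT hinv hrel (((1 : G) : G ⧸ H))
    (by
      intro a ha
      rw [MulAction.Quotient.smul_coe, smul_eq_mul, mul_one]
      have h1 : ((1 : G) : G ⧸ H) = ((lv gl a : G) : G ⧸ H) := by
        rw [QuotientGroup.eq]; simpa using hfix a ha
      exact h1.symm)
  have hS' : Subgroup.closure S = Subgroup.closure (S⁻¹) := (Subgroup.closure_inv S).symm
  refine relIndex_le H _ vl (nf := nf) ?_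
  rw [hS']
  refine orbit_le (G := G) _ vl h0 hv.pos _ ?_
  intro s hs n hn
  obtain ⟨c, hc, hsc⟩ := hS s⁻¹ hs
  obtain ⟨m, hm, e⟩ := hcl c hc n hn
  refine ⟨m, hm, ?_⟩
  rw [← e]
  congr 1
  rw [semc, ← hsc, inv_inv]

/-- **Word identities**: a word that can be traced from node `0` to node `0` lies in `H`. -/
theorem mem_of_trace {look : ℕ → ℕ → ℕ} {mB finc nf N : ℕ} {dcol : ℕ → ℕ}
    {TT : List (List (Bool × List ℕ))} (gl : List G) (inv lab fxl : List ℕ) (rels : List (List ℕ))
    (hv : Valid look mB finc nf N dcol (fun c => memb fxl (nth lab c)) TT)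
    (hT : allOK gl.length inv lab (withInv gl.length inv rels) TT 0 = true)
    (hinv : ∀ a < gl.length, lv gl a * lv gl (nth inv a) = 1)
    (hrel : ∀ r ∈ rels, wprod gl r = 1)
    (H : Subgroup G) (hfix : ∀ a ∈ fxl, lv gl a ∈ H) (ws : List ℕ)
    (hw : trace look mB 0 0 ws 0 = true) : wprod gl (ws.map (nth lab)) ∈ H := by
  obtain ⟨vl, h0, hval, _⟩ := exists_val gl inv lab fxl rels hv hT hinv hrel (((1 : G) : G ⧸ H))
    (by
      intro a ha
      rw [MulAction.Quotient.smul_coe, smul_eq_mul, mul_one]
      have h1 : ((1 : G) : G ⧸ H) = ((lv gl a : G) : G ⧸ H) := by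
        rw [QuotientGroup.eq]; simpa using hfix a ha
      exact h1.symm)
  have := trace_sound (semc gl lab) vl (x := 0) (t := 0) (fun c m h => hval c m (by omega)) ws 0 hw
  rw [wordSem_semc, h0, inv_smul_eq_iff, MulAction.Quotient.smul_coe, smul_eq_mul, mul_one] at this
  have h2 := QuotientGroup.eq.1 this
  simpa using h2

end final

end Cfsg.Agent.SporRec.TCUpperCert
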