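import Cfsg.Agent.SporRec.LyReduce
import Cfsg.Agent.SporRec.LyGeTwelve

set_option autoImplicit false

namespace Cfsg.Agent.SporRec.LyDegree

open Subgroup Cfsg.Agent.SporadicRecognition.AltCover Cfsg.Agent.SporRec.LyReduce

/-- `n ≥ 12` is impossible, packaged for the assembly of S1645. -/
theorem degree_lt {G : Type*} [Group G] {n : ℕ} {z : G}
    {π : centralizer ({z} : Set G) →* alternatingGroup (Fin n)}
    (h : IsCover π ⟨z, mem_centralizer_singleton_iff.2 rfl⟩)
    {u g : G} (huu : u * u = 1) (hu1 : u ≠ 1) (huz : u ≠ z) (hc : u * z = z * u)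
    (hgz : g * z * g⁻¹ = u) (hgu : g * u * g⁻¹ = z * u) : n < 12 := by
  by_contra hn
  have hn : 12 ≤ n := by omega
  have hu' : u ∈ centralizer ({z} : Set G) := mem_centralizer_singleton_iff.2 hc
  set U : centralizer ({z} : Set G) := ⟨u, hu'⟩ with hU
  set Z : centralizer ({z} : Set G) := ⟨z, mem_centralizer_singleton_iff.2 rfl⟩ with hZ
  have hgzu : g * (z * u) * g⁻¹ = z := by
    have : g * (z * u) * g⁻¹ = (g * z * g⁻¹) * (g * u * g⁻¹) := by group
    rw [this, hgz, hgu, ← mul_assoc, hc, mul_assoc, huu, mul_one]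
  -- conjugation by g on C_G(z) ∩ C_G(u)
  have key : ∀ x : G, x * z = z * x → x * u = u * x →
      (g * x * g⁻¹) * z = z * (g * x * g⁻¹) ∧ (g * x * g⁻¹) * u = u * (g * x * g⁻¹) := by
    intro x hxz hxu
    have hzu : x * (z * u) = (z * u) * x := by rw [← mul_assoc, hxz, mul_assoc, hxu, mul_assoc]
    refine ⟨?_, ?_⟩
    · calc (g * x * g⁻¹) * z = (g * x * g⁻¹) * (g * (z * u) * g⁻¹) := by rw [hgzu]
        _ = g * (x * (z * u)) * g⁻¹ := by group
        _ = g * ((z * u) * x) * g⁻¹ := by rw [hzu]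
        _ = (g * (z * u) * g⁻¹) * (g * x * g⁻¹) := by group
        _ = z * (g * x * g⁻¹) := by rw [hgzu]
    · calc (g * x * g⁻¹) * u = (g * x * g⁻¹) * (g * z * g⁻¹) := by rw [hgz]
        _ = g * (x * z) * g⁻¹ := by group
        _ = g * (z * x) * g⁻¹ := by rw [hxz]
        _ = (g * z * g⁻¹) * (g * x * g⁻¹) := by group
        _ = u * (g * x * g⁻¹) := by rw [hgz]
  have hginv_u : g⁻¹ * u * g = z := by
    have h1 : g⁻¹ * (g * z * g⁻¹) * g = z := by group
    rwa [hgz] at h1
  have hginv_zu : g⁻¹ * (z * u) * g = u := by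
    have h1 : g⁻¹ * (g * u * g⁻¹) * g = u := by group
    rwa [hgu] at h1
  have key' : ∀ x : G, x * z = z * x → x * u = u * x →
      (g⁻¹ * x * g) * z = z * (g⁻¹ * x * g) ∧ (g⁻¹ * x * g) * u = u * (g⁻¹ * x * g) := by
    intro x hxz hxu
    have hzu : x * (z * u) = (z * u) * x := by rw [← mul_assoc, hxz, mul_assoc, hxu, mul_assoc]
    refine ⟨?_, ?_⟩
    · calc (g⁻¹ * x * g) * z = (g⁻¹ * x * g) * (g⁻¹ * u * g) := by rw [hginv_u]
        _ = g⁻¹ * (x * u) * g := by group
        _ = g⁻¹ * (u * x) * g := by rw [hxu]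
        _ = (g⁻¹ * u * g) * (g⁻¹ * x * g) := by group
        _ = z * (g⁻¹ * x * g) := by rw [hginv_u]
    · calc (g⁻¹ * x * g) * u = (g⁻¹ * x * g) * (g⁻¹ * (z * u) * g) := by rw [hginv_zu]
        _ = g⁻¹ * (x * (z * u)) * g := by group
        _ = g⁻¹ * ((z * u) * x) * g := by rw [hzu]
        _ = (g⁻¹ * (z * u) * g) * (g⁻¹ * x * g) := by group
        _ = u * (g⁻¹ * x * g) := by rw [hginv_zu]
  have mem1 : ∀ x : centralizer ({U} : Set (centralizer ({z} : Set G))),
      (x : G) * z = z * (x : G) ∧ (x : G) * u = u * (x : G) := by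
    intro x
    refine ⟨mem_centralizer_singleton_iff.1 x.1.2, ?_⟩
    have := mem_centralizer_singleton_iff.1 x.2
    exact congrArg (Subtype.val) this
  let φ : centralizer ({U} : Set (centralizer ({z} : Set G))) ≃*
      centralizer ({U} : Set (centralizer ({z} : Set G))) :=
    { toFun := fun x => ⟨⟨g * (x : G) * g⁻¹, mem_centralizer_singleton_iff.2
          (key x (mem1 x).1 (mem1 x).2).1⟩, mem_centralizer_singleton_iff.2
          (Subtype.ext (key x (mem1 x).1 (mem1 x).2).2)⟩
      invFun := fun x => ⟨⟨g⁻¹ * (x : G) * g, mem_centralizer_singleton_iff.2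
          (key' x (mem1 x).1 (mem1 x).2).1⟩, mem_centralizer_singleton_iff.2
          (Subtype.ext (key' x (mem1 x).1 (mem1 x).2).2)⟩
      left_inv := fun x => by
        apply Subtype.ext; apply Subtype.ext
        change g⁻¹ * (g * (x : G) * g⁻¹) * g = x
        group
      right_inv := fun x => by
        apply Subtype.ext; apply Subtype.ext
        change g * (g⁻¹ * (x : G) * g) * g⁻¹ = x
        group
      map_mul' := fun x y => by
        apply Subtype.ext; apply Subtype.ext
        change g * ((x : G) * (y : G)) * g⁻¹ = (g * (x : G) * g⁻¹) * (g * (y : G) * g⁻¹)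
        group }
  refine LyGeTwelve.ge_twelve (C := centralizer ({z} : Set G)) hn h (u := U) ?_ ?_ ?_ φ ?_
  · exact Subtype.ext huu
  · intro hh; exact hu1 (congrArg Subtype.val hh)
  · intro hh; exact huz (congrArg Subtype.val hh)
  · apply Subtype.ext
    exact hgz

end Cfsg.Agent.SporRec.LyDegree
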