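import Mathlib

/-! Transport of subgroups along isomorphisms (used in short conditional proofs). -/

set_option autoImplicit false

namespace Cfsg.Agent.SporRec.CondTransfer

/-- A subgroup of `H` transports to a subgroup of `G`, together with a normal subgroup of index 2 in it. -/
theorem exists_subgroup_index {G H L : Type*} [Group G] [Group H] [Group L] (φ : G ≃* H)
    (K : Subgroup H) (N : Subgroup K) (hN : N.Normal) {n : ℕ} (hidx : N.index = n) (ψ : N ≃* L) :
    ∃ (K' : Subgroup G) (N' : Subgroup K'), N'.Normal ∧ N'.index = n ∧ Nonempty (N' ≃* L) := by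
  let f : K ≃* K.map (φ.symm : H →* G) := φ.symm.subgroupMap K
  refine ⟨K.map (φ.symm : H →* G), N.map (f : K →* _), ?_, ?_, ⟨(f.subgroupMap N).symm.trans ψ⟩⟩
  · exact hN.map _ f.surjective
  · rw [← hidx]
    exact Subgroup.index_map_equiv N f

/-- A subgroup of `H` transports to a subgroup of `G`. -/
theorem exists_subgroup {G H L : Type*} [Group G] [Group H] [Group L] (φ : G ≃* H)
    (K : Subgroup H) (ψ : K ≃* L) : ∃ K' : Subgroup G, Nonempty (K' ≃* L) :=
  ⟨K.map (φ.symm : H →* G), ⟨(φ.symm.subgroupMap K).symm.trans ψ⟩⟩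

end Cfsg.Agent.SporRec.CondTransfer
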