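import Cfsg.Agent.SporRec.ClosingSuz

/-!
# Closing a recognition theorem: commuting products and the prime 5

Let `M` be a subgroup of the finite group `G` and `z` an involution of `M` such that
`g * z * g⁻¹ ∈ M` implies `g ∈ M` (i.e. `C_G(z) ≤ M` and `z^G ∩ M = z^M`).  Suppose that

* the product of two different commuting conjugates of `z` in `M` is conjugate to `z`;
* `25` divides `|M|` exactly, and does not divide `|C(z)|`; every element `u` of `M` with
  `u ^ 5 = 1` commutes with a conjugate of `z` in `M`;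
* a subgroup `P` of `M` of order `25` is normalised by two conjugates of `z` in `M`, one of which
  inverts `P` and the other one does not.

Then `M = G` (theorem `Hyp5.eq_top`).  This is used for groups of type `Suz`.
-/

set_option autoImplicit false

namespace Cfsg.Agent.SporRec.ClosingFive

open Cfsg.Agent.SporRec.ClosingSuz
open scoped Pointwise

section dihedral

variable {K : Type*} [Group K]

/-- The dihedral alternative, with an element interchanging the two involutions. -/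
theorem dihedral_swap [Finite K] (x y : K) (hx : x * x = 1) (hy : y * y = 1) :
    (∃ t : K, (∀ H : Subgroup K, x ∈ H → y ∈ H → t ∈ H) ∧ t * x * t⁻¹ = y ∧ t * y * t⁻¹ = x) ∨
    (∃ c : K, c ≠ 1 ∧ c * c = 1 ∧ x * c = c * x ∧ y * c = c * y ∧
      ∃ g : K, g * x * g⁻¹ = x * c ∨ g * y * g⁻¹ = x * c) := by
  have hxi : x⁻¹ = x := inv_eq_of_mul_eq_one_left hx
  have hyi : y⁻¹ = y := inv_eq_of_mul_eq_one_left hy
  set r := x * y with hr
  have hxr : x * r * x⁻¹ = r⁻¹ := by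
    rw [hr, mul_inv_rev, hxi, hyi, ← mul_assoc, hx, one_mul]
  have hpow : ∀ n : ℕ, x * r ^ n * x⁻¹ = (r ^ n)⁻¹ := by
    intro n
    rw [← conj_pow, hxr, inv_pow]
  have hpow' : ∀ n : ℕ, r ^ n * x = x * (r ^ n)⁻¹ := by
    intro n
    rw [← hpow n, hxi, ← mul_assoc, ← mul_assoc, hx, one_mul]
  have hy' : y = x * r := by rw [hr, ← mul_assoc, hx, one_mul]
  -- conjugation of `x` by powers of `r`
  have hcx : ∀ n : ℕ, r ^ n * x * (r ^ n)⁻¹ = x * (r ^ (2 * n))⁻¹ := by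
    intro n
    rw [hpow', two_mul, pow_add, mul_inv_rev, mul_assoc]
  have hcy : ∀ n : ℕ, r ^ n * y * (r ^ n)⁻¹ = x * (r ^ (2 * n))⁻¹ * r := by
    intro n
    have h3 : r * (r ^ n)⁻¹ = (r ^ n)⁻¹ * r := by
      have := (Commute.refl r).pow_right n
      exact (this.inv_right).eq
    rw [hy', ← mul_assoc, mul_assoc (r ^ n * x), h3, ← mul_assoc, hcx]
  rcases Nat.even_or_odd (orderOf r) with ⟨m, hm⟩ | ⟨m, hm⟩
  · right
    have hpos : 0 < orderOf r := orderOf_pos _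
    have hmpos : 0 < m := by omega
    have hc2 : r ^ m * r ^ m = 1 := by
      rw [← pow_add, ← hm]; exact pow_orderOf_eq_one _
    have hci : (r ^ m)⁻¹ = r ^ m := inv_eq_of_mul_eq_one_left hc2
    refine ⟨r ^ m, ?_, hc2, ?_, ?_, ?_⟩
    · intro h
      have h1 := orderOf_dvd_of_pow_eq_one h
      have := Nat.le_of_dvd hmpos h1
      omega
    · rw [hpow' m, hci]
    · have h4 : x * r ^ m = r ^ m * x := by rw [hpow' m, hci]
      have h5 : r * r ^ m = r ^ m * r := by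
        rw [← pow_succ, ← pow_succ']
      rw [hy', mul_assoc, h5, ← mul_assoc, h4, mul_assoc]
    · rcases Nat.even_or_odd m with ⟨j, hj⟩ | ⟨j, hj⟩
      · refine ⟨r ^ j, Or.inl ?_⟩
        rw [hcx, two_mul, ← hj, hci]
      · refine ⟨r ^ (j + 1), Or.inr ?_⟩
        have h6 : (r ^ (2 * (j + 1)))⁻¹ * r = (r ^ m)⁻¹ := by
          have : r ^ (2 * (j + 1)) = r * r ^ m := by
            rw [hj, ← pow_succ']; congr 1
          rw [this, mul_inv_rev, mul_assoc, inv_mul_cancel, mul_one]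
        rw [hcy, mul_assoc, h6, hci]
  · left
    have h1 : r ^ (2 * m) * r = 1 := by
      rw [← pow_succ, ← hm]; exact pow_orderOf_eq_one _
    have h2 : (r ^ (2 * m))⁻¹ = r := inv_eq_of_mul_eq_one_right h1
    have hty : r ^ m * x * x * (r ^ m * x)⁻¹ = y := by
      have : r ^ m * x * x * (r ^ m * x)⁻¹ = r ^ m * x * (r ^ m)⁻¹ := by group
      rw [this, hcx, h2, ← hy']
    have htt : (r ^ m * x) * (r ^ m * x) = 1 := by
      calc (r ^ m * x) * (r ^ m * x) = (r ^ m * x) * r ^ m * x := by group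
        _ = x * (r ^ m)⁻¹ * r ^ m * x := by rw [hpow']
        _ = x * x := by group
        _ = 1 := hx
    have hti : (r ^ m * x)⁻¹ = r ^ m * x := inv_eq_of_mul_eq_one_left htt
    refine ⟨r ^ m * x, ?_, hty, ?_⟩
    · intro H h3 h4
      exact H.mul_mem (H.pow_mem (H.mul_mem h3 h4) _) h3
    · calc r ^ m * x * y * (r ^ m * x)⁻¹
          = r ^ m * x * (r ^ m * x * x * (r ^ m * x)⁻¹) * (r ^ m * x)⁻¹ := by rw [hty]
        _ = (r ^ m * x) * (r ^ m * x) * x * ((r ^ m * x)⁻¹ * (r ^ m * x)⁻¹) := by group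
        _ = x := by rw [hti, htt]; group

end dihedral

variable {G : Type*} [Group G]

/-- The hypotheses of the closing theorem. -/
structure Hyp5 (M : Subgroup G) (z : G) : Prop where
  fus : ∀ g : G, g * z * g⁻¹ ∈ M → g ∈ M
  zz : z * z = 1
  zM : z ∈ M
  comm : ∀ x ∈ M, ∀ y ∈ M, Z z x → Z z y → x ≠ y → x * y = y * x → Z z (x * y)
  c25 : ¬ 25 ∣ Nat.card (Subgroup.centralizer ({z} : Set G))
  m25 : 25 ∣ Nat.card M
  m125 : ¬ 125 ∣ Nat.card M
  cent5 : ∀ u ∈ M, u ^ 5 = 1 → ∃ d ∈ M, Z z d ∧ d * u = u * d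
  norm5 : ∃ P : Subgroup G, P ≤ M ∧ Nat.card P = 25 ∧ ∃ r ∈ M, ∃ s ∈ M, Z z r ∧ Z z s ∧
    (∀ p ∈ P, r * p * r⁻¹ ∈ P) ∧ (∀ p ∈ P, s * p * s⁻¹ = p⁻¹) ∧ ∃ v ∈ P, v ≠ 1 ∧ r * v = v * r

section main

variable {M : Subgroup G} {z : G}

theorem Hyp5.sq_of_Z (h : Hyp5 M z) {x : G} (hx : Z z x) : x * x = 1 := by
  obtain ⟨g, rfl⟩ := hx
  have : g * z * g⁻¹ * (g * z * g⁻¹) = g * (z * z) * g⁻¹ := by group
  rw [this, h.zz]; group

/-- An element commuting with a conjugate of `z` fixes its coset. -/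
theorem Hyp5.fix_of_comm (h : Hyp5 M z) {x c a : G} (hx : Z z x) (hxc : x * c = c * x)
    (ha : a⁻¹ * x * a ∈ M) : a⁻¹ * c * a ∈ M := by
  have h1 : (c * a)⁻¹ * x * (c * a) ∈ M := by
    have : (c * a)⁻¹ * x * (c * a) = a⁻¹ * x * a := by
      calc (c * a)⁻¹ * x * (c * a) = a⁻¹ * c⁻¹ * (x * c) * a := by group
        _ = a⁻¹ * x * a := by rw [hxc]; group
    rw [this]; exact ha
  have := mem_of_fix h.fus hx ha h1
  simpa [mul_assoc] using this

theorem Hyp5.commG (h : Hyp5 M z) {x y : G} (hx : Z z x) (hy : Z z y) (hne : x ≠ y)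
    (hxy : x * y = y * x) : Z z (x * y) := by
  obtain ⟨g, hg⟩ := hx
  have hxM : g⁻¹ * x * g ∈ M := by
    have : g⁻¹ * x * g = z := by rw [← hg]; group
    rw [this]; exact h.zM
  have hyM : g⁻¹ * y * g ∈ M := h.fix_of_comm ⟨g, hg⟩ hxy hxM
  have hxZ : Z z (g⁻¹ * x * g) := by
    have hx : Z z x := ⟨g, hg⟩
    have := hx.conj g⁻¹
    simpa using this
  have hyZ : Z z (g⁻¹ * y * g) := by
    have := hy.conj g⁻¹
    simpa using this
  have h1 : g⁻¹ * x * g * (g⁻¹ * y * g) = g⁻¹ * (x * y) * g := by group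
  have h2 := h.comm _ hxM _ hyM hxZ hyZ (fun h3 => hne (by
    have := congrArg (fun e => g * e * g⁻¹) h3
    simpa [mul_assoc] using this)) (by rw [h1, hxy]; group)
  rw [h1] at h2
  apply Z.of_conj g⁻¹
  simpa using h2

/-- Two conjugates of `z` fixing different cosets are interchanged by an element of the group
which they generate. -/
theorem Hyp5.swap [Finite G] (h : Hyp5 M z) {x y g : G} (hx : Z z x) (hy : Z z y) (hxM : x ∈ M)
    (hyM : g⁻¹ * y * g ∈ M) (hg : g ∉ M) :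
    ∃ t : G, (∀ H : Subgroup G, x ∈ H → y ∈ H → t ∈ H) ∧ t * x * t⁻¹ = y ∧ t * y * t⁻¹ = x := by
  rcases dihedral_swap x y (h.sq_of_Z hx) (h.sq_of_Z hy) with h1 | ⟨c, hc1, hcc, hxc, hyc, k, hk⟩
  · exact h1
  · exfalso
    have h2 : Z z (x * c) := by
      rcases hk with hk | hk
      · rw [← hk]; exact hx.conj k
      · rw [← hk]; exact hy.conj k
    have hxx := h.sq_of_Z hx
    have h3 : Z z c := by
      have h4 := h.commG hx h2 (fun h5 => hc1 (by
        have : x * c = x * 1 := by rw [← h5, mul_one]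
        exact mul_left_cancel this)) (by rw [mul_assoc, ← hxc])
      rwa [← mul_assoc, hxx, one_mul] at h4
    have h5 : (1 : G)⁻¹ * c * 1 ∈ M := h.fix_of_comm hx hxc (by simpa using hxM)
    have h6 : g⁻¹ * c * g ∈ M := h.fix_of_comm hy hyc hyM
    have := mem_of_fix h.fus h3 h5 h6
    exact hg (by simpa using this)

/-- Transitivity of two-point stabilisers. -/
theorem Hyp5.trans [Finite G] (h : Hyp5 M z) {x y y' g : G} (C : Subgroup G) (hxC : x ∈ C)
    (hyC : y ∈ C) (hyC' : y' ∈ C) (hx : Z z x) (hy : Z z y) (hy' : Z z y') (hxM : x ∈ M)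
    (hyM : g⁻¹ * y * g ∈ M) (hyM' : g⁻¹ * y' * g ∈ M) (hg : g ∉ M) :
    ∃ k ∈ C, k ∈ M ∧ g⁻¹ * k * g ∈ M ∧ k * y * k⁻¹ = y' := by
  obtain ⟨t, ht, htx, hty⟩ := h.swap hx hy hxM hyM hg
  obtain ⟨t', ht', htx', hty'⟩ := h.swap hx hy' hxM hyM' hg
  have htC := ht C hxC hyC
  have htC' := ht' C hxC hyC'
  -- `t g ∈ M`
  have key1 : ∀ (s y : G), g⁻¹ * y * g ∈ M → s * y * s⁻¹ = x → s * g ∈ M := by
    intro s y h1 h2
    have h3 : (s * g)⁻¹ * x * (s * g) ∈ M := by
      have : (s * g)⁻¹ * x * (s * g) = g⁻¹ * y * g := by rw [← h2]; group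
      rw [this]; exact h1
    have := mem_of_fix (a := 1) h.fus hx (by simpa using hxM) h3
    simpa using this
  have key2 : ∀ (s y : G), Z z y → g⁻¹ * y * g ∈ M → s * x * s⁻¹ = y → g⁻¹ * s ∈ M := by
    intro s y hy h1 h2
    have h3 : s⁻¹ * y * s ∈ M := by
      have : s⁻¹ * y * s = x := by rw [← h2]; group
      rw [this]; exact hxM
    exact mem_of_fix h.fus hy h1 h3
  have a1 := key1 t y hyM hty
  have a2 := key1 t' y' hyM' hty'
  have b1 := key2 t y hy hyM htx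
  have b2 := key2 t' y' hy' hyM' htx'
  refine ⟨t' * t, C.mul_mem htC' htC, ?_, ?_, ?_⟩
  · have := M.mul_mem a2 b1
    simpa [mul_assoc] using this
  · have := M.mul_mem b2 a1
    simpa [mul_assoc] using this
  · calc t' * t * y * (t' * t)⁻¹ = t' * (t * y * t⁻¹) * t'⁻¹ := by group
      _ = y' := by rw [hty, htx']

theorem card_centralizer_conj (z : G) {x : G} (hx : Z z x) :
    Nat.card (Subgroup.centralizer ({x} : Set G)) =
      Nat.card (Subgroup.centralizer ({z} : Set G)) := by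
  obtain ⟨g, rfl⟩ := hx
  refine Nat.card_congr
    { toFun := fun k => ⟨g⁻¹ * k * g, ?_⟩
      invFun := fun k => ⟨g * k * g⁻¹, ?_⟩
      left_inv := fun k => Subtype.ext (by simp [mul_assoc])
      right_inv := fun k => Subtype.ext (by simp [mul_assoc]) }
  · have hk := k.2
    rw [Subgroup.mem_centralizer_singleton_iff] at hk ⊢
    calc g⁻¹ * (k : G) * g * z = g⁻¹ * (k * (g * z * g⁻¹)) * g := by group
      _ = z * (g⁻¹ * (k : G) * g) := by rw [hk]; group
  · have hk := k.2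
    rw [Subgroup.mem_centralizer_singleton_iff] at hk ⊢
    calc g * (k : G) * g⁻¹ * (g * z * g⁻¹) = g * (k * z) * g⁻¹ := by group
      _ = g * z * g⁻¹ * (g * (k : G) * g⁻¹) := by rw [hk]; group

instance fact5 : Fact (Nat.Prime 5) := ⟨by norm_num⟩

/-- A Sylow 5-subgroup of `M` has order 25. -/
theorem Hyp5.card_sylow [Finite G] (h : Hyp5 M z) (Q : Sylow 5 M) : Nat.card Q = 5 ^ 2 := by
  rw [Q.card_eq_multiplicity]
  congr 1
  have h0 : Nat.card M ≠ 0 := Nat.card_pos.ne'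
  apply le_antisymm
  · by_contra h1
    apply h.m125
    have h2 : 5 ^ 3 ∣ Nat.card M :=
      (Nat.Prime.pow_dvd_iff_le_factorization (by norm_num) h0).mpr (by omega)
    exact h2
  · exact (Nat.Prime.pow_dvd_iff_le_factorization (by norm_num) h0).mp h.m25

/-- The number of conjugates of `z` in `C_M(u)` is divisible by `5`. -/
theorem Hyp5.dvd_card [Finite G] (h : Hyp5 M z) {u : G} (hu : u ∈ M) (hu5 : u ^ 5 = 1) :
    5 ∣ Nat.card {y : G // Z z y ∧ y ∈ M ∧ y * u = u * y} := by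
  have hp : IsPGroup 5 (Subgroup.zpowers (⟨u, hu⟩ : M)) := by
    rintro ⟨k, hk⟩
    obtain ⟨j, rfl⟩ := Subgroup.mem_zpowers_iff.mp hk
    refine ⟨1, Subtype.ext (Subtype.ext ?_)⟩
    have h1 : (u ^ j) ^ 5 = 1 := by
      rw [← zpow_natCast, ← zpow_mul, mul_comm, zpow_mul, zpow_natCast, hu5, one_zpow]
    simpa using h1
  obtain ⟨Q, hQ⟩ := hp.exists_le_sylow
  have hQ25 := h.card_sylow Q
  have hcomm : ∀ a ∈ Q, ∀ b ∈ Q, a * b = b * a := by
    intro a ha b hb
    have := (IsPGroup.isMulCommutative_of_card_eq_prime_sq (p := 5) hQ25).is_comm.comm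
      (⟨a, ha⟩ : Q) ⟨b, hb⟩
    exact congrArg Subtype.val this
  have huQ : (⟨u, hu⟩ : M) ∈ Q := hQ (Subgroup.mem_zpowers _)
  let Y := {y : G // Z z y ∧ y ∈ M ∧ y * u = u * y}
  have hact : ∀ (q : Q) (y : Y), Z z (((q : M) : G) * y * ((q : M) : G)⁻¹) ∧
      (((q : M) : G) * y * ((q : M) : G)⁻¹) ∈ M ∧
      (((q : M) : G) * y * ((q : M) : G)⁻¹) * u = u * (((q : M) : G) * y * ((q : M) : G)⁻¹) := by
    intro q y
    have h1 : ((q : M) : G) * u = u * ((q : M) : G) :=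
      congrArg Subtype.val (hcomm _ q.2 _ huQ)
    have h2 : ((q : M) : G)⁻¹ * u = u * ((q : M) : G)⁻¹ := by
      calc ((q : M) : G)⁻¹ * u = ((q : M) : G)⁻¹ * (u * ((q : M) : G)) * ((q : M) : G)⁻¹ := by
            group
        _ = u * ((q : M) : G)⁻¹ := by rw [← h1]; group
    refine ⟨y.2.1.conj _, M.mul_mem (M.mul_mem (q : M).2 y.2.2.1) (M.inv_mem (q : M).2), ?_⟩
    calc (((q : M) : G) * y * ((q : M) : G)⁻¹) * u = ((q : M) : G) * y * (((q : M) : G)⁻¹ * u) := by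
          group
      _ = ((q : M) : G) * (y * u) * ((q : M) : G)⁻¹ := by rw [h2]; group
      _ = (((q : M) : G) * u) * y * ((q : M) : G)⁻¹ := by rw [y.2.2.2]; group
      _ = u * (((q : M) : G) * y * ((q : M) : G)⁻¹) := by rw [h1]; group
  let _ : MulAction Q Y :=
    { smul := fun q y => ⟨((q : M) : G) * y * ((q : M) : G)⁻¹, hact q y⟩
      one_smul := fun y => Subtype.ext (by
        change ((1 : Q) : M) * (y : G) * (((1 : Q) : M) : G)⁻¹ = y
        simp)
      mul_smul := fun a b y => Subtype.ext (by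
        change (((a * b : Q) : M) : G) * (y : G) * (((a * b : Q) : M) : G)⁻¹ =
          ((a : M) : G) * (((b : M) : G) * y * ((b : M) : G)⁻¹) * ((a : M) : G)⁻¹
        simp [mul_assoc]) }
  have hsmul : ∀ (q : Q) (y : Y), ((q • y : Y) : G) = ((q : M) : G) * y * ((q : M) : G)⁻¹ :=
    fun _ _ => rfl
  have h1 := Q.isPGroup'.card_modEq_card_fixedPoints Y
  have h2 : Nat.card (MulAction.fixedPoints Q Y) = 0 := by
    rw [Nat.card_eq_zero]
    left
    refine ⟨fun ⟨y, hy⟩ => ?_⟩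
    apply h.c25
    have hle : (Q : Subgroup M).map M.subtype ≤ Subgroup.centralizer ({(y : G)} : Set G) := by
      rintro _ ⟨q, hq, rfl⟩
      rw [Subgroup.mem_centralizer_singleton_iff]
      have h3 := congrArg Subtype.val (hy ⟨q, hq⟩)
      rw [hsmul] at h3
      have h4 : (q : G) * y = y * q := by
        calc (q : G) * y = ((q : G) * y * (q : G)⁻¹) * q := by group
          _ = y * q := by
            change ((q : G) * y * (q : G)⁻¹) = y at h3
            rw [h3]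
      exact h4
    have h5 := Subgroup.card_dvd_of_le hle
    rw [card_centralizer_conj z y.2.1] at h5
    have h6 : Nat.card ((Q : Subgroup M).map M.subtype) = 25 := by
      rw [Subgroup.card_map_of_injective M.subtype_injective]
      exact hQ25
    rwa [h6] at h5
  rw [h2] at h1
  exact (Nat.modEq_zero_iff_dvd).mp h1

/-- `M ∩ g M g⁻¹`. -/
def Kg (M : Subgroup G) (g : G) : Subgroup G := M ⊓ M.comap (MulAut.conj g⁻¹).toMonoidHom

theorem mem_Kg {M : Subgroup G} {g k : G} : k ∈ Kg M g ↔ k ∈ M ∧ g⁻¹ * k * g ∈ M := by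
  simp [Kg, Subgroup.mem_inf, Subgroup.mem_comap]

/-- `5 * |u|` divides the order of the centralizer of `u` in `M ∩ g M g⁻¹`. -/
theorem Hyp5.dvd_Kg [Finite G] (h : Hyp5 M z) {u g : G} (hu : u ∈ Kg M g) (hu5 : u ^ 5 = 1)
    (hg : g ∉ M) :
    5 * orderOf u ∣ Nat.card (Kg M g ⊓ Subgroup.centralizer ({u} : Set G) : Subgroup G) := by
  obtain ⟨huM, huM'⟩ := mem_Kg.mp hu
  obtain ⟨x, hxM, hxZ, hxu⟩ := h.cent5 u huM hu5
  have hu5' : (g⁻¹ * u * g) ^ 5 = 1 := by
    have : (g⁻¹ * u * g) ^ 5 = g⁻¹ * u ^ 5 * g := by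
      have := conj_pow (i := 5) (a := g⁻¹) (b := u)
      simpa using this
    rw [this, hu5]; group
  obtain ⟨d, hdM, hdZ, hdu⟩ := h.cent5 _ huM' hu5'
  set C := Kg M g ⊓ Subgroup.centralizer ({u} : Set G) with hC
  have hCmem : ∀ k : G, k ∈ C ↔ (k ∈ M ∧ g⁻¹ * k * g ∈ M) ∧ k * u = u * k := by
    intro k
    rw [hC, Subgroup.mem_inf, mem_Kg, Subgroup.mem_centralizer_singleton_iff]
  let Y := {y : G // Z z y ∧ g⁻¹ * y * g ∈ M ∧ y * u = u * y}
  have hYcard : 5 ∣ Nat.card Y := by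
    have h1 := h.dvd_card huM' hu5'
    have h2 : Nat.card Y =
        Nat.card {y : G // Z z y ∧ y ∈ M ∧ y * (g⁻¹ * u * g) = g⁻¹ * u * g * y} := by
      refine Nat.card_congr
        { toFun := fun y => ⟨g⁻¹ * y * g, ?_, y.2.2.1, ?_⟩
          invFun := fun y => ⟨g * y * g⁻¹, y.2.1.conj g, ?_, ?_⟩
          left_inv := fun y => Subtype.ext (by simp [mul_assoc])
          right_inv := fun y => Subtype.ext (by simp [mul_assoc]) }
      · have := y.2.1.conj g⁻¹
        simpa using this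
      · have := y.2.2.2
        calc g⁻¹ * (y : G) * g * (g⁻¹ * u * g) = g⁻¹ * (y * u) * g := by group
          _ = g⁻¹ * u * g * (g⁻¹ * (y : G) * g) := by rw [this]; group
      · have : g⁻¹ * (g * (y : G) * g⁻¹) * g = y := by group
        rw [this]; exact y.2.2.1
      · have := y.2.2.2
        calc g * (y : G) * g⁻¹ * u = g * ((y : G) * (g⁻¹ * u * g)) * g⁻¹ := by group
          _ = u * (g * (y : G) * g⁻¹) := by rw [this]; group
    rw [h2]; exact h1
  have hact : ∀ (c : C) (y : Y), Z z ((c : G) * y * (c : G)⁻¹) ∧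
      g⁻¹ * ((c : G) * y * (c : G)⁻¹) * g ∈ M ∧
      ((c : G) * y * (c : G)⁻¹) * u = u * ((c : G) * y * (c : G)⁻¹) := by
    intro c y
    obtain ⟨⟨h1, h2⟩, h3⟩ := (hCmem c).mp c.2
    refine ⟨y.2.1.conj _, ?_, ?_⟩
    · have h4 := M.mul_mem (M.mul_mem h2 y.2.2.1) (M.inv_mem h2)
      have h5 : g⁻¹ * (c : G) * g * (g⁻¹ * (y : G) * g) * (g⁻¹ * (c : G) * g)⁻¹ =
          g⁻¹ * ((c : G) * y * (c : G)⁻¹) * g := by group
      rwa [h5] at h4
    · have h4 : (c : G)⁻¹ * u = u * (c : G)⁻¹ := by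
        calc (c : G)⁻¹ * u = (c : G)⁻¹ * (u * c) * (c : G)⁻¹ := by group
          _ = u * (c : G)⁻¹ := by rw [← h3]; group
      calc ((c : G) * y * (c : G)⁻¹) * u = (c : G) * y * ((c : G)⁻¹ * u) := by group
        _ = (c : G) * (y * u) * (c : G)⁻¹ := by rw [h4]; group
        _ = ((c : G) * u) * y * (c : G)⁻¹ := by rw [y.2.2.2]; group
        _ = u * ((c : G) * y * (c : G)⁻¹) := by rw [h3]; group
  let _ : MulAction C Y :=
    { smul := fun c y => ⟨(c : G) * y * (c : G)⁻¹, hact c y⟩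
      one_smul := fun y => Subtype.ext (by
        change ((1 : C) : G) * (y : G) * ((1 : C) : G)⁻¹ = y
        simp)
      mul_smul := fun a b y => Subtype.ext (by
        change ((a * b : C) : G) * (y : G) * ((a * b : C) : G)⁻¹ =
          (a : G) * ((b : G) * y * (b : G)⁻¹) * (a : G)⁻¹
        simp [mul_assoc]) }
  have hsmul : ∀ (c : C) (y : Y), ((c • y : Y) : G) = (c : G) * y * (c : G)⁻¹ := fun _ _ => rfl
  let y₀ : Y := ⟨g * d * g⁻¹, hdZ.conj g, by
      have : g⁻¹ * (g * d * g⁻¹) * g = d := by group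
      rw [this]; exact hdM, by
      calc g * d * g⁻¹ * u = g * (d * (g⁻¹ * u * g)) * g⁻¹ := by group
        _ = u * (g * d * g⁻¹) := by rw [hdu]; group⟩
  have htrans : MulAction.orbit C y₀ = Set.univ := by
    rw [Set.eq_univ_iff_forall]
    intro y
    have hcm : ∀ k : G, k ∈ Subgroup.centralizer ({u} : Set G) ↔ k * u = u * k := fun k => by
      rw [Subgroup.mem_centralizer_singleton_iff]
    obtain ⟨k, hk1, hk2, hk3, hk4⟩ := h.trans (Subgroup.centralizer ({u} : Set G))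
      ((hcm x).mpr hxu) ((hcm _).mpr y₀.2.2.2) ((hcm _).mpr y.2.2.2) hxZ y₀.2.1 y.2.1 hxM
      y₀.2.2.1 y.2.2.1 hg
    refine ⟨⟨k, (hCmem k).mpr ⟨⟨hk2, hk3⟩, (hcm k).mp hk1⟩⟩, Subtype.ext ?_⟩
    exact hk4
  have hstab : orderOf u ∣ Nat.card (MulAction.stabilizer C y₀) := by
    have huC : u ∈ C := (hCmem u).mpr ⟨⟨huM, huM'⟩, rfl⟩
    have hus : (⟨u, huC⟩ : C) ∈ MulAction.stabilizer C y₀ := by
      rw [MulAction.mem_stabilizer_iff]
      apply Subtype.ext
      rw [hsmul]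
      have h1 := y₀.2.2.2
      calc u * (y₀ : G) * u⁻¹ = y₀ * u * u⁻¹ := by rw [h1]
        _ = y₀ := by group
    have h1 := orderOf_dvd_natCard (⟨⟨u, huC⟩, hus⟩ : MulAction.stabilizer C y₀)
    rwa [Subgroup.orderOf_mk, Subgroup.orderOf_mk] at h1
  have hcard' : Nat.card Y * Nat.card (MulAction.stabilizer C y₀) = Nat.card C := by
    rw [← Subgroup.card_mul_index (MulAction.stabilizer C y₀), MulAction.index_stabilizer, htrans,
      Set.ncard_univ, mul_comm]
  rw [← hcard']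
  exact Nat.mul_dvd_mul hYcard hstab

/-- Two subgroups of order 25 of `M` are conjugate in `M`. -/
theorem Hyp5.conj25 [Finite G] (h : Hyp5 M z) {P R : Subgroup G} (hP : P ≤ M) (hR : R ≤ M)
    (hP25 : Nat.card P = 25) (hR25 : Nat.card R = 25) :
    ∃ m ∈ M, ∀ x : G, x ∈ P ↔ m * x * m⁻¹ ∈ R := by
  have hfac : (Nat.card M).factorization 5 = 2 := by
    obtain ⟨Q⟩ : Nonempty (Sylow 5 M) := inferInstance
    have h1 := h.card_sylow Q
    rw [Q.card_eq_multiplicity] at h1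
    exact Nat.pow_right_injective (le_refl 5 |>.trans' (by norm_num)) h1
  have hsub : ∀ P : Subgroup G, P ≤ M → Nat.card P = 25 → Nat.card (P.subgroupOf M) =
      5 ^ (Nat.card M).factorization 5 := by
    intro P hP hP25
    rw [hfac, Nat.card_congr (Subgroup.subgroupOfEquivOfLe hP).toEquiv, hP25]
    norm_num
  let SP : Sylow 5 M := Sylow.ofCard (P.subgroupOf M) (hsub P hP hP25)
  let SR : Sylow 5 M := Sylow.ofCard (R.subgroupOf M) (hsub R hR hR25)
  obtain ⟨m, hm⟩ := MulAction.exists_smul_eq M SP SR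
  have hm' : MulAut.conj m • (P.subgroupOf M) = R.subgroupOf M := by
    have h1 : ((m • SP : Sylow 5 M) : Subgroup M) = (SR : Subgroup M) := by rw [hm]
    exact h1
  have hmem : ∀ y : M, y ∈ P.subgroupOf M ↔ m * y * m⁻¹ ∈ R.subgroupOf M := by
    intro y
    rw [← hm']
    exact (Subgroup.smul_mem_pointwise_smul_iff (a := MulAut.conj m)).symm
  refine ⟨m, m.2, fun x => ?_⟩
  constructor
  · intro hx
    exact (hmem ⟨x, hP hx⟩).mp hx
  · intro hx
    have hxM : x ∈ M := by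
      have h1 := M.mul_mem (M.mul_mem (M.inv_mem m.2) (hR hx)) m.2
      simpa [mul_assoc] using h1
    exact (hmem ⟨x, hxM⟩).mpr hx

/-- **Closing theorem.** -/
theorem Hyp5.eq_top [Finite G] (h : Hyp5 M z) : M = ⊤ := by
  rw [eq_top_iff]
  intro g _
  by_contra hg
  -- an element of order 5 in `K`
  have h1 := h.dvd_Kg (u := 1) (g := g) (one_mem _) (one_pow _) hg
  have h2 : 5 ∣ Nat.card (Kg M g) := by
    have h3 : (Kg M g ⊓ Subgroup.centralizer ({(1 : G)} : Set G) : Subgroup G) ≤ Kg M g :=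
      inf_le_left
    exact (Dvd.intro _ rfl).trans (h1.trans (Subgroup.card_dvd_of_le h3))
  obtain ⟨u, hu⟩ := exists_prime_orderOf_dvd_card' 5 h2
  have hu5 : orderOf (u : G) = 5 := by rw [Subgroup.orderOf_coe]; exact hu
  have h4 := h.dvd_Kg (u := (u : G)) (g := g) u.2 (by rw [← hu5]; exact pow_orderOf_eq_one _) hg
  have h5 : 5 ^ 2 ∣ Nat.card (Kg M g) := by
    have h3 : (Kg M g ⊓ Subgroup.centralizer ({(u : G)} : Set G) : Subgroup G) ≤ Kg M g :=
      inf_le_left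
    rw [hu5] at h4
    exact h4.trans (Subgroup.card_dvd_of_le h3)
  obtain ⟨R, hR⟩ := Sylow.exists_subgroup_card_pow_prime 5 h5
  -- `R` and its conjugate are Sylow subgroups of `M`
  obtain ⟨P, hPM, hP25, r, hrM, s, hsM, hrZ, hsZ, hrP, hsP, v, hvP, hv1, hrv⟩ := h.norm5
  set R₁ := R.map (Kg M g).subtype with hR₁
  have hR₁25 : Nat.card R₁ = 25 := by
    rw [hR₁, Subgroup.card_map_of_injective (Kg M g).subtype_injective, hR]
    norm_num
  have hR₁K : R₁ ≤ Kg M g := by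
    rintro _ ⟨x, -, rfl⟩
    exact x.2
  have hR₁M : R₁ ≤ M := fun x hx => (mem_Kg.mp (hR₁K hx)).1
  set R₂ := R₁.map (MulAut.conj g⁻¹).toMonoidHom with hR₂
  have hR₂25 : Nat.card R₂ = 25 := by
    rw [hR₂, Subgroup.card_map_of_injective (MulAut.conj g⁻¹).injective, hR₁25]
  have hR₂M : R₂ ≤ M := by
    rintro _ ⟨x, hx, rfl⟩
    have := (mem_Kg.mp (hR₁K hx)).2
    simpa using this
  obtain ⟨m₁, hm₁, hm₁'⟩ := h.conj25 hPM hR₁M hP25 hR₁25
  obtain ⟨m₂, hm₂, hm₂'⟩ := h.conj25 hPM hR₂M hP25 hR₂25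
  set k := m₁⁻¹ * g * m₂ with hk
  have hkM : k ∉ M := by
    intro h6
    apply hg
    have h7 := M.mul_mem (M.mul_mem hm₁ h6) (M.inv_mem hm₂)
    rw [hk] at h7
    simpa [mul_assoc] using h7
  have hkP : ∀ x : G, x ∈ P ↔ k * x * k⁻¹ ∈ P := by
    intro x
    rw [hm₂' x, hm₁' (k * x * k⁻¹), hk]
    have h6 : m₁ * (m₁⁻¹ * g * m₂ * x * (m₁⁻¹ * g * m₂)⁻¹) * m₁⁻¹ =
        g * (m₂ * x * m₂⁻¹) * g⁻¹ := by group
    rw [h6, hR₂, Subgroup.mem_map]
    constructor
    · rintro ⟨y, hy, hy'⟩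
      have h7 : m₂ * x * m₂⁻¹ = g⁻¹ * y * g := by
        rw [← hy']; simp
      rw [h7]
      have : g * (g⁻¹ * y * g) * g⁻¹ = y := by group
      rw [this]; exact hy
    · intro h7
      refine ⟨_, h7, ?_⟩
      simp [mul_assoc]
  -- the normalizer
  have hr1 := h.sq_of_Z hrZ
  have hs1 := h.sq_of_Z hsZ
  have hN : ∀ a : G, a ∈ Subgroup.normalizer (P : Set G) ↔ ∀ x, x ∈ P ↔ a * x * a⁻¹ ∈ P := by
    intro a
    exact Subgroup.mem_normalizer_iff
  have hrN : r ∈ Subgroup.normalizer (P : Set G) := by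
    rw [hN]
    intro x
    refine ⟨hrP x, fun hx => ?_⟩
    have h6 := hrP _ hx
    have h7 : r * (r * x * r⁻¹) * r⁻¹ = (r * r) * x * (r * r)⁻¹ := by group
    rw [h7, hr1] at h6
    simpa using h6
  have hsN : s ∈ Subgroup.normalizer (P : Set G) := by
    rw [hN]
    have hsP' : ∀ x ∈ P, s * x * s⁻¹ ∈ P := fun x hx => by
      rw [hsP x hx]; exact P.inv_mem hx
    intro x
    refine ⟨hsP' x, fun hx => ?_⟩
    have h6 := hsP' _ hx
    have h7 : s * (s * x * s⁻¹) * s⁻¹ = (s * s) * x * (s * s)⁻¹ := by group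
    rw [h7, hs1] at h6
    simpa using h6
  have hkN : k ∈ Subgroup.normalizer (P : Set G) := (hN k).mpr hkP
  set y := k * r * k⁻¹ with hy
  have hyN : y ∈ Subgroup.normalizer (P : Set G) :=
    Subgroup.mul_mem _ (Subgroup.mul_mem _ hkN hrN) (Subgroup.inv_mem _ hkN)
  have hyM : k⁻¹ * y * k ∈ M := by
    have : k⁻¹ * y * k = r := by rw [hy]; group
    rw [this]; exact hrM
  have hyZ : Z z y := hrZ.conj k
  obtain ⟨t, ht, htr, hty⟩ := h.swap hrZ hyZ hrM hyM hkM
  obtain ⟨t', ht', hts, hty'⟩ := h.swap hsZ hyZ hsM hyM hkM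
  have htN := ht _ hrN hyN
  have htN' := ht' _ hsN hyN
  set c := t' * t with hc
  have hcN : c ∈ Subgroup.normalizer (P : Set G) := Subgroup.mul_mem _ htN' htN
  have hcr : c * r * c⁻¹ = s := by
    calc c * r * c⁻¹ = t' * (t * r * t⁻¹) * t'⁻¹ := by rw [hc]; group
      _ = s := by rw [htr, hty']
  have hw : c * v * c⁻¹ ∈ P := ((hN c).mp hcN v).mp hvP
  have hw1 := hsP _ hw
  have hw2 : s * (c * v * c⁻¹) * s⁻¹ = c * v * c⁻¹ := by
    rw [← hcr]
    calc c * r * c⁻¹ * (c * v * c⁻¹) * (c * r * c⁻¹)⁻¹ = c * (r * v) * r⁻¹ * c⁻¹ := by group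
      _ = c * v * c⁻¹ := by rw [hrv]; group
  rw [hw2] at hw1
  have hw3 : (c * v * c⁻¹) ^ 2 = 1 := by
    rw [pow_two]
    nth_rewrite 2 [hw1]
    group
  have hw4 : (c * v * c⁻¹) ^ 25 = 1 := by
    have h6 := pow_card_eq_one' (x := (⟨_, hw⟩ : P))
    rw [hP25] at h6
    exact congrArg Subtype.val h6
  have hw5 : c * v * c⁻¹ = 1 := by
    have h6 : (c * v * c⁻¹) ^ 25 = ((c * v * c⁻¹) ^ 2) ^ 12 * (c * v * c⁻¹) := by
      rw [← pow_mul, ← pow_succ]
    rw [h6, hw3, one_pow, one_mul] at hw4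
    exact hw4
  apply hv1
  have : v = c⁻¹ * (c * v * c⁻¹) * c := by group
  rw [this, hw5]; group

end main

/-- The facts needed about the model `K` (with classes of involutions `z^K`, `w^K`). -/
structure Model5 (K : Type*) [Group K] (z w : K) : Prop where
  zz : z * z = 1
  z1 : z ≠ 1
  two : ∀ t : K, t * t = 1 → t ≠ 1 → Z z t ∨ Z w t
  comm : ∀ x y : K, Z z x → Z z y → x ≠ y → x * y = y * x → Z z (x * y)
  card25 : 25 ∣ Nat.card K
  card125 : ¬ 125 ∣ Nat.card K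
  cent5 : ∀ u : K, u ^ 5 = 1 → ∃ d : K, Z z d ∧ d * u = u * d
  norm5 : ∃ P : Subgroup K, Nat.card P = 25 ∧ ∃ r s : K, Z z r ∧ Z z s ∧
    (∀ p ∈ P, r * p * r⁻¹ ∈ P) ∧ (∀ p ∈ P, s * p * s⁻¹ = p⁻¹) ∧ ∃ v ∈ P, v ≠ 1 ∧ r * v = v * r

/-- Transfer of the model facts to a subgroup `M = φ(K)` of `G`. -/
theorem Model5.hyp {K : Type*} [Group K] {z w : K} (h : Model5 K z w) [Finite G] (φ : K →* G)
    (hφ : Function.Injective φ) (hC : Subgroup.centralizer ({φ z} : Set G) ≤ φ.range)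
    (h25 : ¬ 25 ∣ Nat.card (Subgroup.centralizer ({φ z} : Set G)))
    (p : ℕ) (hp : ¬ p ∣ Nat.card (Subgroup.centralizer ({φ z} : Set G)))
    (u : K) (hu : orderOf u = p) (huw : u * w = w * u) : Hyp5 φ.range (φ z) := by
  -- `φ w` is not conjugate to `φ z` in `G`
  have hnZ : ¬ Z (φ z) (φ w) := by
    rintro ⟨g, hg⟩
    apply hp
    have hmem : g⁻¹ * φ u * g ∈ Subgroup.centralizer ({φ z} : Set G) := by
      rw [Subgroup.mem_centralizer_singleton_iff]
      have h1 : φ u * φ w = φ w * φ u := by rw [← map_mul, huw, map_mul]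
      rw [← hg] at h1
      calc g⁻¹ * φ u * g * φ z = g⁻¹ * (φ u * (g * φ z * g⁻¹)) * g := by group
        _ = φ z * (g⁻¹ * φ u * g) := by rw [h1]; group
    have h2 : orderOf (g⁻¹ * φ u * g) = p := by
      have h3 : orderOf (MulAut.conj g⁻¹ (φ u)) = orderOf (φ u) :=
        orderOf_injective (MulAut.conj g⁻¹).toMonoidHom (MulAut.conj g⁻¹).injective _
      rw [MulAut.conj_apply, inv_inv, orderOf_injective φ hφ, hu] at h3
      exact h3
    have h4 := orderOf_dvd_natCard (⟨_, hmem⟩ : Subgroup.centralizer ({φ z} : Set G))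
    rwa [Subgroup.orderOf_mk, h2] at h4
  -- conjugacy classes
  have hup : ∀ a b : K, Z a b → Z (φ a) (φ b) := by
    rintro a b ⟨g, rfl⟩
    exact ⟨φ g, by simp⟩
  have hZw : ∀ t : K, Z w t → ¬ Z (φ z) (φ t) := by
    rintro t ⟨g, rfl⟩ h1
    apply hnZ
    apply Z.of_conj (φ g)
    simpa using h1
  have htwo : ∀ t : K, t * t = 1 → t ≠ 1 → (Z (φ z) (φ t) → Z z t) := by
    intro t h1 h2 h3
    rcases h.two t h1 h2 with h4 | h4
    · exact h4
    · exact absurd h3 (hZw t h4)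
  have hG1 : ∀ g : G, g * φ z * g⁻¹ ≠ 1 := by
    intro g h1
    apply h.z1
    apply hφ
    have : φ z = g⁻¹ * (g * φ z * g⁻¹) * g := by group
    rw [this, h1, map_one]; group
  have hGsq : ∀ g : G, (g * φ z * g⁻¹) * (g * φ z * g⁻¹) = 1 := by
    intro g
    have : g * φ z * g⁻¹ * (g * φ z * g⁻¹) = g * (φ z * φ z) * g⁻¹ := by group
    rw [this, ← map_mul, h.zz, map_one]; group
  have hdown : ∀ t : K, Z (φ z) (φ t) → Z z t := by
    intro t ht
    obtain ⟨g, hg⟩ := ht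
    refine htwo t ?_ ?_ ⟨g, hg⟩
    · apply hφ
      rw [map_mul, ← hg, hGsq, map_one]
    · rintro rfl
      exact hG1 g (by rw [hg, map_one])
  have hcardr : Nat.card φ.range = Nat.card K :=
    (Nat.card_congr (MonoidHom.ofInjective hφ).toEquiv).symm
  refine
    { fus := ?_
      zz := by rw [← map_mul, h.zz, map_one]
      zM := ⟨z, rfl⟩
      comm := ?_
      c25 := h25
      m25 := by rw [hcardr]; exact h.card25
      m125 := by rw [hcardr]; exact h.card125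
      cent5 := ?_
      norm5 := ?_ }
  · rintro g ⟨t, ht⟩
    obtain ⟨k, rfl⟩ := hdown t ⟨g, ht.symm⟩
    have h1 : (φ k)⁻¹ * g ∈ Subgroup.centralizer ({φ z} : Set G) := by
      rw [Subgroup.mem_centralizer_singleton_iff]
      have h2 : g * φ z * g⁻¹ = φ k * φ z * (φ k)⁻¹ := by rw [← ht]; simp
      calc (φ k)⁻¹ * g * φ z = (φ k)⁻¹ * (g * φ z * g⁻¹) * g := by group
        _ = φ z * ((φ k)⁻¹ * g) := by rw [h2]; group
    have h3 := hC h1
    have h4 := φ.range.mul_mem (⟨k, rfl⟩ : φ k ∈ φ.range) h3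
    simpa using h4
  · rintro _ ⟨x, rfl⟩ _ ⟨y, rfl⟩ h1 h2 h3 h4
    rw [← map_mul]
    exact hup _ _ (h.comm x y (hdown _ h1) (hdown _ h2) (fun h5 => h3 (by rw [h5]))
      (hφ (by rw [map_mul, h4, map_mul])))
  · rintro _ ⟨v, rfl⟩ hv
    obtain ⟨d, hd, hdv⟩ := h.cent5 v (hφ (by rw [map_pow, hv, map_one]))
    exact ⟨φ d, ⟨d, rfl⟩, hup _ _ hd, by rw [← map_mul, hdv, map_mul]⟩
  · obtain ⟨P, hP, r, s, hr, hs, hrP, hsP, v, hv, hv1, hrv⟩ := h.norm5
    refine ⟨P.map φ, ?_, ?_, φ r, ⟨r, rfl⟩, φ s, ⟨s, rfl⟩, hup _ _ hr, hup _ _ hs, ?_, ?_, φ v,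
      ⟨v, hv, rfl⟩, ?_, by rw [← map_mul, hrv, map_mul]⟩
    · rintro _ ⟨x, -, rfl⟩
      exact ⟨x, rfl⟩
    · rw [Subgroup.card_map_of_injective hφ, hP]
    · rintro _ ⟨x, hx, rfl⟩
      exact ⟨_, hrP x hx, by simp⟩
    · rintro _ ⟨x, hx, rfl⟩
      have h1 := congrArg φ (hsP x hx)
      simpa using h1
    · intro h1
      exact hv1 (hφ (by rw [h1, map_one]))

/-- **Closing theorem, model form.** -/
theorem Model5.surjective {K : Type*} [Group K] {z w : K} (h : Model5 K z w) [Finite G]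
    (φ : K →* G) (hφ : Function.Injective φ)
    (hC : Subgroup.centralizer ({φ z} : Set G) ≤ φ.range)
    (h25 : ¬ 25 ∣ Nat.card (Subgroup.centralizer ({φ z} : Set G)))
    (p : ℕ) (hp : ¬ p ∣ Nat.card (Subgroup.centralizer ({φ z} : Set G)))
    (u : K) (hu : orderOf u = p) (huw : u * w = w * u) : Function.Surjective φ :=
  MonoidHom.range_eq_top.mp (h.hyp φ hφ hC h25 p hp u hu huw).eq_top

end Cfsg.Agent.SporRec.ClosingFive
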