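import Mathlib

/-!
# Closing a recognition theorem with two classes of involutions

Let `M` be a subgroup of the finite group `G` and `z` an involution of `M` such that
`g * z * g⁻¹ ∈ M` implies `g ∈ M` (i.e. `C_G(z) ≤ M` and `z^G ∩ M = z^M`).  Suppose that the
involutions of `M` which are not conjugate to `z` form one `M`-class with representative `w` and
that the following holds in `C_M(w)`:

* there are conjugates `x`, `b` of `z` in `C_M(w)` with `x * w` not conjugate and `b * w` conjugate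
  to `z`;
* if `x`, `x₁` are conjugates of `z` in `C_M(w)` which commute modulo `⟨w⟩`, are distinct modulo
  `⟨w⟩`, and `x * w` is not conjugate to `z`, then `x * x₁` or `x * x₁ * w` is conjugate to `z`.

Then `M = G` (theorem `eq_top`).  This is used for groups of type `Suz`.
-/

set_option autoImplicit false

namespace Cfsg.Agent.SporRec.ClosingSuz

section dihedral

variable {K : Type*} [Group K]

/-- The dihedral alternative. -/
theorem dihedral_cases [Finite K] (x y : K) (hx : x * x = 1) (hy : y * y = 1) :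
    (∃ g : K, g * x * g⁻¹ = y) ∨
    (∃ c : K, c ≠ 1 ∧ c * c = 1 ∧ x * c = c * x ∧ y * c = c * y ∧
      ∃ g : K, g * x * g⁻¹ = x * c ∨ g * y * g⁻¹ = x * c) := by
  have hxi : x⁻¹ = x := inv_eq_of_mul_eq_one_left hx
  have hyi : y⁻¹ = y := inv_eq_of_mul_eq_one_left hy
  set r := x * y with hr
  have hxr : x * r * x⁻¹ = r⁻¹ := by
    rw [hr, mul_inv_rev, hxi, hyi, ← mul_assoc, hx, one_mul]
  have hpow : ∀ n : ℕ, x * r ^ n * x⁻¹ = (r ^ n)⁻¹ := by
    intro n
    rw [← conj_pow, hxr, inv_pow]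
  have hpow' : ∀ n : ℕ, r ^ n * x = x * (r ^ n)⁻¹ := by
    intro n
    rw [← hpow n, hxi, ← mul_assoc, ← mul_assoc, hx, one_mul]
  have hy' : y = x * r := by rw [hr, ← mul_assoc, hx, one_mul]
  -- conjugation of `x` by powers of `r`
  have hcx : ∀ n : ℕ, r ^ n * x * (r ^ n)⁻¹ = x * (r ^ (2 * n))⁻¹ := by
    intro n
    rw [hpow', two_mul, pow_add, mul_inv_rev, mul_assoc]
  have hcy : ∀ n : ℕ, r ^ n * y * (r ^ n)⁻¹ = x * (r ^ (2 * n))⁻¹ * r := by
    intro n
    have h3 : r * (r ^ n)⁻¹ = (r ^ n)⁻¹ * r := by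
      have := (Commute.refl r).pow_right n
      exact (this.inv_right).eq
    rw [hy', ← mul_assoc, mul_assoc (r ^ n * x), h3, ← mul_assoc, hcx]
  rcases Nat.even_or_odd (orderOf r) with ⟨m, hm⟩ | ⟨m, hm⟩
  · right
    have hpos : 0 < orderOf r := orderOf_pos _
    have hmpos : 0 < m := by omega
    have hc2 : r ^ m * r ^ m = 1 := by
      rw [← pow_add, ← hm]; exact pow_orderOf_eq_one _
    have hci : (r ^ m)⁻¹ = r ^ m := inv_eq_of_mul_eq_one_left hc2
    refine ⟨r ^ m, ?_, hc2, ?_, ?_, ?_⟩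
    · intro h
      have h1 := orderOf_dvd_of_pow_eq_one h
      have := Nat.le_of_dvd hmpos h1
      omega
    · rw [hpow' m, hci]
    · have h4 : x * r ^ m = r ^ m * x := by rw [hpow' m, hci]
      have h5 : r * r ^ m = r ^ m * r := by
        rw [← pow_succ, ← pow_succ']
      rw [hy', mul_assoc, h5, ← mul_assoc, h4, mul_assoc]
    · rcases Nat.even_or_odd m with ⟨j, hj⟩ | ⟨j, hj⟩
      · refine ⟨r ^ j, Or.inl ?_⟩
        rw [hcx, two_mul, ← hj, hci]
      · refine ⟨r ^ (j + 1), Or.inr ?_⟩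
        have h6 : (r ^ (2 * (j + 1)))⁻¹ * r = (r ^ m)⁻¹ := by
          have : r ^ (2 * (j + 1)) = r * r ^ m := by
            rw [hj, ← pow_succ']; congr 1
          rw [this, mul_inv_rev, mul_assoc, inv_mul_cancel, mul_one]
        rw [hcy, mul_assoc, h6, hci]
  · left
    refine ⟨r ^ m, ?_⟩
    have h1 : r ^ (2 * m) * r = 1 := by
      rw [← pow_succ, ← hm]; exact pow_orderOf_eq_one _
    have h2 : (r ^ (2 * m))⁻¹ = r := inv_eq_of_mul_eq_one_right h1
    rw [hcx, h2, ← hy']

end dihedral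

variable {G : Type*} [Group G]

/-- `x` is conjugate to `z`. -/
def Z (z x : G) : Prop := ∃ g : G, g * z * g⁻¹ = x

theorem Z.conj {z x : G} (h : Z z x) (g : G) : Z z (g * x * g⁻¹) := by
  obtain ⟨k, rfl⟩ := h
  exact ⟨g * k, by group⟩

theorem Z.of_conj {z x : G} (g : G) (h : Z z (g * x * g⁻¹)) : Z z x := by
  have := h.conj g⁻¹
  simpa [mul_assoc] using this

section fix

variable {M : Subgroup G} {z : G}

/-- A conjugate of `z` fixes only one coset of `M`: subgroup form. -/
theorem mem_of_fix (hZ : ∀ g : G, g * z * g⁻¹ ∈ M → g ∈ M) {x a b : G} (hx : Z z x)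
    (ha : a⁻¹ * x * a ∈ M) (hb : b⁻¹ * x * b ∈ M) : a⁻¹ * b ∈ M := by
  obtain ⟨g, rfl⟩ := hx
  have h1 : a⁻¹ * g ∈ M := hZ _ (by simpa [mul_assoc] using ha)
  have h2 : b⁻¹ * g ∈ M := hZ _ (by simpa [mul_assoc] using hb)
  have h3 := M.mul_mem h1 (M.inv_mem h2)
  simpa [mul_assoc] using h3

/-- If `x` is a conjugate of `z` fixing `a M` and `u`, `w` commute, `w` commutes with `x` and
`u` commutes with `x` modulo `w`, then `u` fixes `a M`. -/
theorem fix_of_comm (hZ : ∀ g : G, g * z * g⁻¹ ∈ M → g ∈ M) {x u w a : G} (hx : Z z x)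
    (hxw : x * w = w * x) (huw : u * w = w * u) (hww : w * w = 1)
    (hxa : a⁻¹ * x * a ∈ M) (hux : u * x * u⁻¹ = x ∨ u * x * u⁻¹ = x * w) :
    a⁻¹ * u * a ∈ M := by
  -- `w` fixes `a M`
  have hwa : a⁻¹ * w * a ∈ M := by
    have h1 : (w * a)⁻¹ * x * (w * a) ∈ M := by
      have : (w * a)⁻¹ * x * (w * a) = a⁻¹ * x * a := by
        calc (w * a)⁻¹ * x * (w * a) = a⁻¹ * w⁻¹ * (x * w) * a := by group
          _ = a⁻¹ * x * a := by rw [hxw]; group
      rw [this]; exact hxa
    have := mem_of_fix hZ hx hxa h1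
    simpa [mul_assoc] using this
  -- `u⁻¹ a M`... we use `u * a`
  have h2 : (u * a)⁻¹ * (u * x * u⁻¹) * (u * a) ∈ M := by
    have : (u * a)⁻¹ * (u * x * u⁻¹) * (u * a) = a⁻¹ * x * a := by group
    rw [this]; exact hxa
  have h3 : (u * a)⁻¹ * w * (u * a) ∈ M := by
    have : (u * a)⁻¹ * w * (u * a) = a⁻¹ * w * a := by
      calc (u * a)⁻¹ * w * (u * a) = a⁻¹ * u⁻¹ * (w * u) * a := by group
        _ = a⁻¹ * w * a := by rw [← huw]; group
    rw [this]; exact hwa
  have h4 : (u * a)⁻¹ * x * (u * a) ∈ M := by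
    rcases hux with h | h
    · rwa [h] at h2
    · rw [h] at h2
      have h5 := M.mul_mem h2 h3
      have h6 : (u * a)⁻¹ * (x * w) * (u * a) * ((u * a)⁻¹ * w * (u * a))
          = (u * a)⁻¹ * (x * (w * w)) * (u * a) := by group
      rw [h6, hww, mul_one] at h5
      exact h5
  have := mem_of_fix hZ hx hxa h4
  simpa [mul_assoc] using this

end fix

/-- The hypotheses of the closing theorem. -/
structure Hyp (M : Subgroup G) (z w : G) : Prop where
  fus : ∀ g : G, g * z * g⁻¹ ∈ M → g ∈ M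
  zz : z * z = 1
  z1 : z ≠ 1
  zM : z ∈ M
  wM : w ∈ M
  ww : w * w = 1
  w1 : w ≠ 1
  nZ : ¬ Z z w
  two : ∀ t ∈ M, t * t = 1 → t ≠ 1 → Z z t ∨ ∃ m ∈ M, m * w * m⁻¹ = t
  ex1 : ∃ x ∈ M, Z z x ∧ x * w = w * x ∧ ¬ Z z (x * w)
  ex2 : ∃ b ∈ M, Z z b ∧ b * w = w * b ∧ Z z (b * w)
  prod : ∀ x ∈ M, ∀ y ∈ M, Z z x → Z z y → x * w = w * x → y * w = w * y → ¬ Z z (x * w) →
    y ≠ x → y ≠ x * w → (y * x * y⁻¹ = x ∨ y * x * y⁻¹ = x * w) →
    Z z (x * y) ∨ Z z (x * y * w)

section main

variable {M : Subgroup G} {z w : G}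

theorem Hyp.sq_of_Z (h : Hyp M z w) {x : G} (hx : Z z x) : x * x = 1 := by
  obtain ⟨g, rfl⟩ := hx
  have : g * z * g⁻¹ * (g * z * g⁻¹) = g * (z * z) * g⁻¹ := by group
  rw [this, h.zz]; group

/-- The key step: `w` fixes only one coset of `M`. -/
theorem Hyp.fix_w [Finite G] (h : Hyp M z w) {a : G} (ha : a⁻¹ * w * a ∈ M) : a ∈ M := by
  by_contra haM
  -- an element of `C(w)` outside `M`
  obtain ⟨k, hkM, hkw⟩ : ∃ k : G, k ∉ M ∧ k * w = w * k := by
    have h1 : (a⁻¹ * w * a) * (a⁻¹ * w * a) = 1 := by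
      have : (a⁻¹ * w * a) * (a⁻¹ * w * a) = a⁻¹ * (w * w) * a := by group
      rw [this, h.ww]; group
    have h2 : a⁻¹ * w * a ≠ 1 := by
      intro h3
      apply h.w1
      have : w = a * (a⁻¹ * w * a) * a⁻¹ := by group
      rw [this, h3]; group
    rcases h.two _ ha h1 h2 with h3 | ⟨m, hm, hmw⟩
    · exfalso
      apply h.nZ
      have := h3.conj a
      simpa [mul_assoc] using this
    · refine ⟨a * m, ?_, ?_⟩
      · intro h4
        apply haM
        have := M.mul_mem h4 (M.inv_mem hm)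
        simpa [mul_assoc] using this
      · have : a * m * w * m⁻¹ * a⁻¹ = w := by
          calc a * m * w * m⁻¹ * a⁻¹ = a * (m * w * m⁻¹) * a⁻¹ := by group
            _ = w := by rw [hmw]; group
        calc a * m * w = (a * m * w * m⁻¹ * a⁻¹) * (a * m) := by group
          _ = w * (a * m) := by rw [this]
  obtain ⟨x, hxM, hxZ, hxw, hxnZ⟩ := h.ex1
  obtain ⟨b, hbM, hbZ, hbw, hbwZ⟩ := h.ex2
  set y := k * b * k⁻¹ with hy
  have hkiw : k⁻¹ * w = w * k⁻¹ := by
    calc k⁻¹ * w = k⁻¹ * (w * k) * k⁻¹ := by group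
      _ = w * k⁻¹ := by rw [← hkw]; group
  have hyZ : Z z y := hbZ.conj k
  have hyw : y * w = w * y := by
    rw [hy]
    calc k * b * k⁻¹ * w = k * b * (k⁻¹ * w) := by group
      _ = k * (b * w) * k⁻¹ := by rw [hkiw]; group
      _ = (k * w) * b * k⁻¹ := by rw [hbw]; group
      _ = w * (k * b * k⁻¹) := by rw [hkw]; group
  have hywZ : Z z (y * w) := by
    have h1 := hbwZ.conj k
    have h2 : k * (b * w) * k⁻¹ = y * w := by
      rw [hy]
      calc k * (b * w) * k⁻¹ = k * b * (w * k⁻¹) := by group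
        _ = k * b * k⁻¹ * w := by rw [← hkiw]; group
    rwa [h2] at h1
  have hyk : k⁻¹ * y * k ∈ M := by
    have : k⁻¹ * y * k = b := by rw [hy]; group
    rw [this]; exact hbM
  -- the quotient of `C(w)` by `⟨w⟩`
  let C : Subgroup G := Subgroup.centralizer ({w} : Set G)
  have hCmem : ∀ u : G, u ∈ C ↔ u * w = w * u := by
    intro u
    rw [Subgroup.mem_centralizer_singleton_iff]
  have hwC : w ∈ C := (hCmem w).mpr rfl
  let W : C := ⟨w, hwC⟩
  have hWc : ∀ u : C, u * W = W * u := fun u => Subtype.ext ((hCmem u).mp u.2)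
  have hWn : (Subgroup.zpowers W).Normal := by
    refine ⟨fun n hn g => ?_⟩
    obtain ⟨j, rfl⟩ := Subgroup.mem_zpowers_iff.mp hn
    have h1 : Commute g W := hWc g
    have h2 : g * W ^ j * g⁻¹ = W ^ j := by
      rw [(h1.zpow_right j).eq]; group
    rw [h2]; exact hn
  have hWmem : ∀ u : C, u ∈ Subgroup.zpowers W → (u : G) = 1 ∨ (u : G) = w := by
    intro u hu
    obtain ⟨j, rfl⟩ := Subgroup.mem_zpowers_iff.mp hu
    have hW2 : W ^ 2 = 1 := by
      apply Subtype.ext
      simpa [pow_two] using h.ww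
    rcases Int.even_or_odd' j with ⟨i, rfl | rfl⟩
    · left
      rw [zpow_mul, zpow_ofNat, hW2, one_zpow]; rfl
    · right
      rw [zpow_add, zpow_mul, zpow_ofNat, hW2, one_zpow, one_mul, zpow_one]
  let π : C →* C ⧸ Subgroup.zpowers W := QuotientGroup.mk' _
  have hπ1 : ∀ u : C, π u = 1 ↔ u ∈ Subgroup.zpowers W := fun u => QuotientGroup.eq_one_iff u
  have hπsurj : Function.Surjective π := QuotientGroup.mk'_surjective _
  let X : C := ⟨x, (hCmem x).mpr hxw⟩
  let Y : C := ⟨y, (hCmem y).mpr hyw⟩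
  have hXX : π X * π X = 1 := by
    rw [← map_mul]
    have : X * X = 1 := Subtype.ext (h.sq_of_Z hxZ)
    rw [this, map_one]
  have hYY : π Y * π Y = 1 := by
    rw [← map_mul]
    have : Y * Y = 1 := Subtype.ext (h.sq_of_Z hyZ)
    rw [this, map_one]
  rcases dihedral_cases (π X) (π Y) hXX hYY with ⟨g, hg⟩ | ⟨c, hc1, hcc, hcX, hcY, g, hg⟩
  · -- conjugate: impossible
    obtain ⟨g, rfl⟩ := hπsurj g
    have h1 : π ((g * X * g⁻¹)⁻¹ * Y) = 1 := by
      rw [map_mul, map_inv, map_mul, map_mul, map_inv, hg, inv_mul_cancel]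
    have h2 := hWmem _ ((hπ1 _).mp h1)
    have hgw : (g : G) * w = w * g := (hCmem g).mp g.2
    have hgiw : (g : G)⁻¹ * w = w * (g : G)⁻¹ := by
      calc (g : G)⁻¹ * w = (g : G)⁻¹ * (w * g) * (g : G)⁻¹ := by group
        _ = w * (g : G)⁻¹ := by rw [← hgw]; group
    have h3 : (g : G) * (x * w) * (g : G)⁻¹ = g * x * (g : G)⁻¹ * w := by
      calc (g : G) * (x * w) * (g : G)⁻¹ = g * x * (w * (g : G)⁻¹) := by group
        _ = g * x * (g : G)⁻¹ * w := by rw [← hgiw]; group
    apply hxnZ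
    apply Z.of_conj (g : G)
    rw [h3]
    simp only [Subgroup.coe_mul, Subgroup.coe_inv] at h2
    change ((g : G) * x * (g : G)⁻¹)⁻¹ * y = 1 ∨ ((g : G) * x * (g : G)⁻¹)⁻¹ * y = w at h2
    rcases h2 with h2 | h2
    · have h4 : (g : G) * x * (g : G)⁻¹ = y := (inv_mul_eq_one.mp h2)
      rw [h4]; exact hywZ
    · have h4 : y = (g : G) * x * (g : G)⁻¹ * w := by
        rw [← h2]; group
      rw [← h4]; exact hyZ
  · -- the central involution of the dihedral group
    obtain ⟨c, rfl⟩ := hπsurj c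
    obtain ⟨g, rfl⟩ := hπsurj g
    have hcw : (c : G) * w = w * c := (hCmem c).mp c.2
    have hcnot : ¬ ((c : G) = 1 ∨ (c : G) = w) := by
      rintro (h1 | h1)
      · apply hc1
        have : c = 1 := Subtype.ext h1
        rw [this, map_one]
      · apply hc1
        have : c = W := Subtype.ext h1
        rw [this, hπ1]
        exact Subgroup.mem_zpowers W
    -- commuting modulo `⟨w⟩`
    have hmod : ∀ (u v : C), π u = π v → (v : G) = u ∨ (v : G) = u * w := by
      intro u v huv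
      have h1 : π (u⁻¹ * v) = 1 := by rw [map_mul, map_inv, huv, inv_mul_cancel]
      rcases hWmem _ ((hπ1 _).mp h1) with h2 | h2
      · left
        simp only [Subgroup.coe_mul, Subgroup.coe_inv] at h2
        exact (inv_mul_eq_one.mp h2).symm
      · right
        simp only [Subgroup.coe_mul, Subgroup.coe_inv] at h2
        rw [← h2]; group
    have hcommX : (c : G) * x * (c : G)⁻¹ = x ∨ (c : G) * x * (c : G)⁻¹ = x * w := by
      have h1 : π X = π (c * X * c⁻¹) := by
        rw [map_mul, map_mul, map_inv, ← hcX]; group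
      exact hmod X (c * X * c⁻¹) h1
    have hcommY : (c : G) * y * (c : G)⁻¹ = y ∨ (c : G) * y * (c : G)⁻¹ = y * w := by
      have h1 : π Y = π (c * Y * c⁻¹) := by
        rw [map_mul, map_mul, map_inv, ← hcY]; group
      exact hmod Y (c * Y * c⁻¹) h1
    -- `x₁`
    obtain ⟨x₁, hx₁Z, hx₁w, hx₁⟩ : ∃ x₁ : G, Z z x₁ ∧ x₁ * w = w * x₁ ∧
        (x₁ = x * c ∨ x₁ = x * c * w) := by
      rcases hg with hg | hg
      · refine ⟨g * x * (g : G)⁻¹, hxZ.conj _, ?_, ?_⟩
        · exact (hCmem _).mp (g * X * g⁻¹).2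
        · have h1 : π (X * c) = π (g * X * g⁻¹) := by
            rw [map_mul, map_mul, map_mul, map_inv, hg]
          exact hmod (X * c) (g * X * g⁻¹) h1
      · refine ⟨g * y * (g : G)⁻¹, hyZ.conj _, ?_, ?_⟩
        · exact (hCmem _).mp (g * Y * g⁻¹).2
        · have h1 : π (X * c) = π (g * Y * g⁻¹) := by
            rw [map_mul, map_mul, map_mul, map_inv, hg]
          exact hmod (X * c) (g * Y * g⁻¹) h1
    have hx2 := h.sq_of_Z hxZ
    -- `c` fixes both points
    have hcM : (c : G) ∈ M := by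
      have := fix_of_comm (a := 1) h.fus hxZ hxw hcw h.ww (by simpa using hxM) hcommX
      simpa using this
    have hck : k⁻¹ * (c : G) * k ∈ M :=
      fix_of_comm h.fus hyZ hyw hcw h.ww hyk hcommY
    have hx₁M : x₁ ∈ M := by
      rcases hx₁ with h1 | h1
      · rw [h1]; exact M.mul_mem hxM hcM
      · rw [h1]; exact M.mul_mem (M.mul_mem hxM hcM) h.wM
    have hwx : w * x = x * w := hxw.symm
    have hwk : k⁻¹ * w * k ∈ M := by
      have : k⁻¹ * w * k = w := by rw [hkiw]; group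
      rw [this]; exact h.wM
    have hprod : Z z (x * x₁) ∨ Z z (x * x₁ * w) := by
      refine h.prod x hxM x₁ hx₁M hxZ hx₁Z hxw hx₁w hxnZ ?_ ?_ ?_
      · intro h1
        rcases hx₁ with h2 | h2
        · apply hcnot; left
          have : x * c = x * 1 := by rw [← h2, h1, mul_one]
          exact mul_left_cancel this
        · apply hcnot; right
          have h3 : x * (c * w) = x * 1 := by rw [← mul_assoc, ← h2, h1, mul_one]
          have h4 := mul_left_cancel h3
          have h5 : (c : G) = w⁻¹ := eq_inv_of_mul_eq_one_left h4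
          rw [h5]; exact inv_eq_of_mul_eq_one_left h.ww
      · intro h1
        rcases hx₁ with h2 | h2
        · apply hcnot; right
          have : x * c = x * w := by rw [← h2, h1]
          exact mul_left_cancel this
        · apply hcnot; left
          have h3 : x * c * w = x * w := by rw [← h2, h1]
          have h4 := mul_right_cancel h3
          have h5 : x * c = x * 1 := by rw [h4, mul_one]
          exact mul_left_cancel h5
      · -- `x₁` commutes with `x` modulo `⟨w⟩`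
        have hxx : x * x * x⁻¹ = x := by group
        have h3 : (x * c) * x * (x * c)⁻¹ = x ∨ (x * c) * x * (x * c)⁻¹ = x * w := by
          have e1 : (x * c) * x * (x * c)⁻¹ = x * ((c : G) * x * (c : G)⁻¹) * x⁻¹ := by group
          rcases hcommX with h4 | h4
          · left; rw [e1, h4]; group
          · right; rw [e1, h4]
            calc x * (x * w) * x⁻¹ = x * (x * w) * x⁻¹ := rfl
              _ = x * (w * x) * x⁻¹ := by rw [hxw]
              _ = x * w := by group
        rcases hx₁ with h2 | h2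
        · rw [h2]; exact h3
        · have e2 : (x * c * w) * x * (x * c * w)⁻¹ = (x * c) * x * (x * c)⁻¹ := by
            calc (x * c * w) * x * (x * c * w)⁻¹ = (x * c) * (w * x) * w⁻¹ * (x * c)⁻¹ := by group
              _ = (x * c) * x * (x * c)⁻¹ := by rw [hwx]; group
          rw [h2, e2]; exact h3
    -- the conjugate of `z` in `c ⟨w⟩`
    obtain ⟨v, hvZ, hv⟩ : ∃ v : G, Z z v ∧ (v = c ∨ v = c * w) := by
      have e1 : x * (x * c) = c := by rw [← mul_assoc, hx2, one_mul]
      have e2 : x * (x * c * w) = c * w := by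
        rw [mul_assoc x c w, ← mul_assoc x x, hx2, one_mul]
      rcases hx₁ with h2 | h2
      · rcases hprod with h3 | h3
        · exact ⟨_, h3, Or.inl (by rw [h2, e1])⟩
        · exact ⟨_, h3, Or.inr (by rw [h2, e1])⟩
      · rcases hprod with h3 | h3
        · exact ⟨_, h3, Or.inr (by rw [h2, e2])⟩
        · refine ⟨_, h3, Or.inl ?_⟩
          rw [h2, e2, mul_assoc, h.ww, mul_one]
    have hv1 : v ∈ M := by
      rcases hv with h2 | h2
      · rw [h2]; exact hcM
      · rw [h2]; exact M.mul_mem hcM h.wM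
    have hvk : k⁻¹ * v * k ∈ M := by
      rcases hv with h2 | h2
      · rw [h2]; exact hck
      · have : k⁻¹ * v * k = (k⁻¹ * (c : G) * k) * (k⁻¹ * w * k) := by rw [h2]; group
        rw [this]; exact M.mul_mem hck hwk
    have := mem_of_fix (a := 1) h.fus hvZ (by simpa using hv1) hvk
    exact hkM (by simpa using this)

/-- **Closing theorem.** -/
theorem Hyp.eq_top [Finite G] (h : Hyp M z w) : M = ⊤ := by
  rw [eq_top_iff]
  intro a _
  by_contra haM
  have hone : ∀ t ∈ M, t * t = 1 → t ≠ 1 → ∀ b : G, b⁻¹ * t * b ∈ M → b ∈ M := by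
    intro t ht htt ht1 b hb
    rcases h.two t ht htt ht1 with h1 | ⟨m, hm, rfl⟩
    · have := mem_of_fix (a := 1) h.fus h1 (by simpa using ht) hb
      simpa using this
    · have h2 : (m⁻¹ * b)⁻¹ * w * (m⁻¹ * b) ∈ M := by
        have : (m⁻¹ * b)⁻¹ * w * (m⁻¹ * b) = b⁻¹ * (m * w * m⁻¹) * b := by group
        rw [this]; exact hb
      have h3 := M.mul_mem hm (h.fix_w h2)
      simpa using h3
  have hxZ : Z z (a * z * a⁻¹) := ⟨a, rfl⟩
  rcases dihedral_cases w (a * z * a⁻¹) h.ww (h.sq_of_Z hxZ) with ⟨g, hg⟩ | ⟨c, hc1, hcc, hcw, hcx, -⟩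
  · apply h.nZ
    have : Z z (g * w * g⁻¹) := by rw [hg]; exact hxZ
    exact this.of_conj
  · -- `c` fixes both points
    have hcM : c ∈ M := by
      apply h.fix_w
      have : c⁻¹ * w * c = w := by
        calc c⁻¹ * w * c = c⁻¹ * (w * c) := by group
          _ = w := by rw [hcw]; group
      rw [this]; exact h.wM
    have hca : a⁻¹ * c * a ∈ M := by
      have h1 : a⁻¹ * (a * z * a⁻¹) * a ∈ M := by
        have : a⁻¹ * (a * z * a⁻¹) * a = z := by group
        rw [this]; exact h.zM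
      have h2 : (c * a)⁻¹ * (a * z * a⁻¹) * (c * a) ∈ M := by
        have : (c * a)⁻¹ * (a * z * a⁻¹) * (c * a) = z := by
          calc (c * a)⁻¹ * (a * z * a⁻¹) * (c * a)
              = a⁻¹ * c⁻¹ * ((a * z * a⁻¹) * c) * a := by group
            _ = z := by rw [hcx]; group
        rw [this]; exact h.zM
      have := mem_of_fix h.fus hxZ h1 h2
      simpa [mul_assoc] using this
    exact haM (hone c hcM hcc hc1 a hca)

end main

/-- The facts needed about the model `K` (with classes of involutions `z^K`, `w^K`). -/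
structure Model (K : Type*) [Group K] (z w : K) : Prop where
  zz : z * z = 1
  z1 : z ≠ 1
  ww : w * w = 1
  w1 : w ≠ 1
  nZ : ¬ Z z w
  two : ∀ t : K, t * t = 1 → t ≠ 1 → Z z t ∨ Z w t
  ex1 : ∃ x : K, Z z x ∧ x * w = w * x ∧ ¬ Z z (x * w)
  ex2 : ∃ b : K, Z z b ∧ b * w = w * b ∧ Z z (b * w)
  prod : ∀ x y : K, Z z x → Z z y → x * w = w * x → y * w = w * y → ¬ Z z (x * w) →
    y ≠ x → y ≠ x * w → (y * x * y⁻¹ = x ∨ y * x * y⁻¹ = x * w) →
    Z z (x * y) ∨ Z z (x * y * w)

/-- Transfer of the model facts to a subgroup `M = φ(K)` of `G`. -/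
theorem Model.hyp {K : Type*} [Group K] {z w : K} (h : Model K z w) [Finite G] (φ : K →* G)
    (hφ : Function.Injective φ) (hC : Subgroup.centralizer ({φ z} : Set G) ≤ φ.range)
    (p : ℕ) (hp : ¬ p ∣ Nat.card (Subgroup.centralizer ({φ z} : Set G)))
    (u : K) (hu : orderOf u = p) (huw : u * w = w * u) : Hyp φ.range (φ z) (φ w) := by
  -- `φ w` is not conjugate to `φ z` in `G`
  have hnZ : ¬ Z (φ z) (φ w) := by
    rintro ⟨g, hg⟩
    apply hp
    have hmem : g⁻¹ * φ u * g ∈ Subgroup.centralizer ({φ z} : Set G) := by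
      rw [Subgroup.mem_centralizer_singleton_iff]
      have h1 : φ u * φ w = φ w * φ u := by rw [← map_mul, huw, map_mul]
      rw [← hg] at h1
      calc g⁻¹ * φ u * g * φ z = g⁻¹ * (φ u * (g * φ z * g⁻¹)) * g := by group
        _ = φ z * (g⁻¹ * φ u * g) := by rw [h1]; group
    have h2 : orderOf (g⁻¹ * φ u * g) = p := by
      have h3 : orderOf (MulAut.conj g⁻¹ (φ u)) = orderOf (φ u) :=
        orderOf_injective (MulAut.conj g⁻¹).toMonoidHom (MulAut.conj g⁻¹).injective _
      rw [MulAut.conj_apply, inv_inv, orderOf_injective φ hφ, hu] at h3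
      exact h3
    have h4 := orderOf_dvd_natCard (⟨_, hmem⟩ : Subgroup.centralizer ({φ z} : Set G))
    rwa [Subgroup.orderOf_mk, h2] at h4
  -- conjugacy classes
  have hup : ∀ a b : K, Z a b → Z (φ a) (φ b) := by
    rintro a b ⟨g, rfl⟩
    exact ⟨φ g, by simp⟩
  have hZw : ∀ t : K, Z w t → ¬ Z (φ z) (φ t) := by
    rintro t ⟨g, rfl⟩ h1
    apply hnZ
    apply Z.of_conj (φ g)
    simpa using h1
  have htwo : ∀ t : K, t * t = 1 → t ≠ 1 → (Z (φ z) (φ t) → Z z t) := by
    intro t h1 h2 h3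
    rcases h.two t h1 h2 with h4 | h4
    · exact h4
    · exact absurd h3 (hZw t h4)
  have hsq : ∀ x : K, Z z x → x * x = 1 ∧ x ≠ 1 := by
    rintro x ⟨g, rfl⟩
    constructor
    · have : g * z * g⁻¹ * (g * z * g⁻¹) = g * (z * z) * g⁻¹ := by group
      rw [this, h.zz]; group
    · intro h1
      apply h.z1
      have : z = g⁻¹ * (g * z * g⁻¹) * g := by group
      rw [this, h1]; group
  have hG1 : ∀ g : G, g * φ z * g⁻¹ ≠ 1 := by
    intro g h1
    apply h.z1
    apply hφ
    have : φ z = g⁻¹ * (g * φ z * g⁻¹) * g := by group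
    rw [this, h1, map_one]; group
  have hGsq : ∀ g : G, (g * φ z * g⁻¹) * (g * φ z * g⁻¹) = 1 := by
    intro g
    have : g * φ z * g⁻¹ * (g * φ z * g⁻¹) = g * (φ z * φ z) * g⁻¹ := by group
    rw [this, ← map_mul, h.zz, map_one]; group
  have hdown : ∀ t : K, Z (φ z) (φ t) → Z z t := by
    intro t ht
    obtain ⟨g, hg⟩ := ht
    refine htwo t ?_ ?_ ⟨g, hg⟩
    · apply hφ
      rw [map_mul, ← hg, hGsq, map_one]
    · rintro rfl
      exact hG1 g (by rw [hg, map_one])
  refine
    { fus := ?_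
      zz := by rw [← map_mul, h.zz, map_one]
      z1 := fun h1 => h.z1 (hφ (by rw [h1, map_one]))
      zM := ⟨z, rfl⟩
      wM := ⟨w, rfl⟩
      ww := by rw [← map_mul, h.ww, map_one]
      w1 := fun h1 => h.w1 (hφ (by rw [h1, map_one]))
      nZ := hnZ
      two := ?_
      ex1 := ?_
      ex2 := ?_
      prod := ?_ }
  · rintro g ⟨t, ht⟩
    obtain ⟨k, rfl⟩ := hdown t ⟨g, ht.symm⟩
    have h1 : (φ k)⁻¹ * g ∈ Subgroup.centralizer ({φ z} : Set G) := by
      rw [Subgroup.mem_centralizer_singleton_iff]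
      have h2 : g * φ z * g⁻¹ = φ k * φ z * (φ k)⁻¹ := by rw [← ht]; simp
      calc (φ k)⁻¹ * g * φ z = (φ k)⁻¹ * (g * φ z * g⁻¹) * g := by group
        _ = φ z * ((φ k)⁻¹ * g) := by rw [h2]; group
    have h3 := hC h1
    have h4 := φ.range.mul_mem (⟨k, rfl⟩ : φ k ∈ φ.range) h3
    simpa using h4
  · rintro _ ⟨t, rfl⟩ h1 h2
    rw [← map_mul] at h1
    have h3 : t * t = 1 := hφ (by rw [h1, map_one])
    have h4 : t ≠ 1 := by rintro rfl; exact h2 (map_one φ)
    rcases h.two t h3 h4 with h5 | ⟨g, rfl⟩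
    · exact Or.inl (hup _ _ h5)
    · exact Or.inr ⟨φ g, ⟨g, rfl⟩, by simp⟩
  · obtain ⟨x, h1, h2, h3⟩ := h.ex1
    refine ⟨φ x, ⟨x, rfl⟩, hup _ _ h1, by rw [← map_mul, h2, map_mul], ?_⟩
    intro h4
    apply h3
    apply hdown
    rwa [map_mul]
  · obtain ⟨x, h1, h2, h3⟩ := h.ex2
    refine ⟨φ x, ⟨x, rfl⟩, hup _ _ h1, by rw [← map_mul, h2, map_mul], ?_⟩
    rw [← map_mul]
    exact hup _ _ h3
  · rintro _ ⟨x, rfl⟩ _ ⟨y, rfl⟩ h1 h2 h3 h4 h5 h6 h7 h8
    rw [← map_mul] at h5
    have h9 := h.prod x y (hdown _ h1) (hdown _ h2)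
      (hφ (by rw [map_mul, h3, map_mul])) (hφ (by rw [map_mul, h4, map_mul]))
      (fun h10 => h5 (hup _ _ h10)) (fun h10 => h6 (by rw [h10]))
      (fun h10 => h7 (by rw [h10, map_mul])) ?_
    · rcases h9 with h9 | h9
      · left; rw [← map_mul]; exact hup _ _ h9
      · right; rw [← map_mul, ← map_mul]; exact hup _ _ h9
    · rcases h8 with h8 | h8
      · left; apply hφ; simpa using h8
      · right; apply hφ; simpa using h8

/-- **Closing theorem, model form.** -/
theorem Model.surjective {K : Type*} [Group K] {z w : K} (h : Model K z w) [Finite G] (φ : K →* G)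
    (hφ : Function.Injective φ) (hC : Subgroup.centralizer ({φ z} : Set G) ≤ φ.range)
    (p : ℕ) (hp : ¬ p ∣ Nat.card (Subgroup.centralizer ({φ z} : Set G)))
    (u : K) (hu : orderOf u = p) (huw : u * w = w * u) : Function.Surjective φ :=
  MonoidHom.range_eq_top.mp (h.hyp φ hφ hC p hp u hu huw).eq_top

end Cfsg.Agent.SporRec.ClosingSuz
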