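import Cfsg.Agent.SporRec.ClosingFive

/-!
# Closing a recognition theorem: commuting products and the prime 3

Let `M` be a subgroup of the finite group `G` and `z` an involution of `M` such that
`g * z * g⁻¹ ∈ M` implies `g ∈ M` (i.e. `C_G(z) ≤ M` and `z^G ∩ M = z^M`), and such that the
product of two different commuting conjugates of `z` in `M` is conjugate to `z`.  Then for
`g ∉ M` and conjugates `x ∈ M`, `y ∈ g M g⁻¹` of `z` the product `x * y` has odd order, and `x`, `y`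
are interchanged by an element of `⟨x, y⟩`.  Together with some information about the elements of
order 3 of `M` this implies `M = G` (theorem `Hyp3.eq_top`).  This is used for groups of type `Suz`:
elements of order 3 of class 3A are centralised but not inverted by elements of the class `z^M`,
those of class 3B are centralised and inverted, those of class 3C are inverted but not centralised.
-/

set_option autoImplicit false

namespace Cfsg.Agent.SporRec.ClosingThree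

open Cfsg.Agent.SporRec.ClosingSuz Cfsg.Agent.SporRec.ClosingFive
open scoped Pointwise

variable {G : Type*} [Group G]

/-- The basic hypotheses. -/
structure Hyp0 (M : Subgroup G) (z : G) : Prop where
  fus : ∀ g : G, g * z * g⁻¹ ∈ M → g ∈ M
  zz : z * z = 1
  zM : z ∈ M
  comm : ∀ x ∈ M, ∀ y ∈ M, Z z x → Z z y → x ≠ y → x * y = y * x → Z z (x * y)

section main

variable {M : Subgroup G} {z : G}

theorem Hyp0.sq_of_Z (h : Hyp0 M z) {x : G} (hx : Z z x) : x * x = 1 := by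
  obtain ⟨g, rfl⟩ := hx
  have : g * z * g⁻¹ * (g * z * g⁻¹) = g * (z * z) * g⁻¹ := by group
  rw [this, h.zz]; group

/-- An element commuting with a conjugate of `z` fixes its coset. -/
theorem Hyp0.fix_of_comm (h : Hyp0 M z) {x c a : G} (hx : Z z x) (hxc : x * c = c * x)
    (ha : a⁻¹ * x * a ∈ M) : a⁻¹ * c * a ∈ M := by
  have h1 : (c * a)⁻¹ * x * (c * a) ∈ M := by
    have : (c * a)⁻¹ * x * (c * a) = a⁻¹ * x * a := by
      calc (c * a)⁻¹ * x * (c * a) = a⁻¹ * c⁻¹ * (x * c) * a := by group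
        _ = a⁻¹ * x * a := by rw [hxc]; group
    rw [this]; exact ha
  have := mem_of_fix h.fus hx ha h1
  simpa [mul_assoc] using this

theorem Hyp0.commG (h : Hyp0 M z) {x y : G} (hx : Z z x) (hy : Z z y) (hne : x ≠ y)
    (hxy : x * y = y * x) : Z z (x * y) := by
  obtain ⟨g, hg⟩ := hx
  have hxM : g⁻¹ * x * g ∈ M := by
    have : g⁻¹ * x * g = z := by rw [← hg]; group
    rw [this]; exact h.zM
  have hyM : g⁻¹ * y * g ∈ M := h.fix_of_comm ⟨g, hg⟩ hxy hxM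
  have hxZ : Z z (g⁻¹ * x * g) := by
    have hx : Z z x := ⟨g, hg⟩
    have := hx.conj g⁻¹
    simpa using this
  have hyZ : Z z (g⁻¹ * y * g) := by
    have := hy.conj g⁻¹
    simpa using this
  have h1 : g⁻¹ * x * g * (g⁻¹ * y * g) = g⁻¹ * (x * y) * g := by group
  have h2 := h.comm _ hxM _ hyM hxZ hyZ (fun h3 => hne (by
    have := congrArg (fun e => g * e * g⁻¹) h3
    simpa [mul_assoc] using this)) (by rw [h1, hxy]; group)
  rw [h1] at h2
  apply Z.of_conj g⁻¹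
  simpa using h2

/-- Two conjugates of `z` fixing different cosets are interchanged by an element of the group
which they generate. -/
theorem Hyp0.swap [Finite G] (h : Hyp0 M z) {x y g : G} (hx : Z z x) (hy : Z z y) (hxM : x ∈ M)
    (hyM : g⁻¹ * y * g ∈ M) (hg : g ∉ M) :
    ∃ t : G, (∀ H : Subgroup G, x ∈ H → y ∈ H → t ∈ H) ∧ t * x * t⁻¹ = y ∧ t * y * t⁻¹ = x := by
  rcases dihedral_swap x y (h.sq_of_Z hx) (h.sq_of_Z hy) with h1 | ⟨c, hc1, hcc, hxc, hyc, k, hk⟩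
  · exact h1
  · exfalso
    have h2 : Z z (x * c) := by
      rcases hk with hk | hk
      · rw [← hk]; exact hx.conj k
      · rw [← hk]; exact hy.conj k
    have hxx := h.sq_of_Z hx
    have h3 : Z z c := by
      have h4 := h.commG hx h2 (fun h5 => hc1 (by
        have : x * c = x * 1 := by rw [← h5, mul_one]
        exact mul_left_cancel this)) (by rw [mul_assoc, ← hxc])
      rwa [← mul_assoc, hxx, one_mul] at h4
    have h5 : (1 : G)⁻¹ * c * 1 ∈ M := h.fix_of_comm hx hxc (by simpa using hxM)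
    have h6 : g⁻¹ * c * g ∈ M := h.fix_of_comm hy hyc hyM
    have := mem_of_fix h.fus h3 h5 h6
    exact hg (by simpa using this)

/-- Transitivity of two-point stabilisers. -/
theorem Hyp0.trans [Finite G] (h : Hyp0 M z) {x y y' g : G} (C : Subgroup G) (hxC : x ∈ C)
    (hyC : y ∈ C) (hyC' : y' ∈ C) (hx : Z z x) (hy : Z z y) (hy' : Z z y') (hxM : x ∈ M)
    (hyM : g⁻¹ * y * g ∈ M) (hyM' : g⁻¹ * y' * g ∈ M) (hg : g ∉ M) :
    ∃ k ∈ C, k ∈ M ∧ g⁻¹ * k * g ∈ M ∧ k * y * k⁻¹ = y' := by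
  obtain ⟨t, ht, htx, hty⟩ := h.swap hx hy hxM hyM hg
  obtain ⟨t', ht', htx', hty'⟩ := h.swap hx hy' hxM hyM' hg
  have htC := ht C hxC hyC
  have htC' := ht' C hxC hyC'
  -- `t g ∈ M`
  have key1 : ∀ (s y : G), g⁻¹ * y * g ∈ M → s * y * s⁻¹ = x → s * g ∈ M := by
    intro s y h1 h2
    have h3 : (s * g)⁻¹ * x * (s * g) ∈ M := by
      have : (s * g)⁻¹ * x * (s * g) = g⁻¹ * y * g := by rw [← h2]; group
      rw [this]; exact h1
    have := mem_of_fix (a := 1) h.fus hx (by simpa using hxM) h3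
    simpa using this
  have key2 : ∀ (s y : G), Z z y → g⁻¹ * y * g ∈ M → s * x * s⁻¹ = y → g⁻¹ * s ∈ M := by
    intro s y hy h1 h2
    have h3 : s⁻¹ * y * s ∈ M := by
      have : s⁻¹ * y * s = x := by rw [← h2]; group
      rw [this]; exact hxM
    exact mem_of_fix h.fus hy h1 h3
  have a1 := key1 t y hyM hty
  have a2 := key1 t' y' hyM' hty'
  have b1 := key2 t y hy hyM htx
  have b2 := key2 t' y' hy' hyM' htx'
  refine ⟨t' * t, C.mul_mem htC' htC, ?_, ?_, ?_⟩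
  · have := M.mul_mem a2 b1
    simpa [mul_assoc] using this
  · have := M.mul_mem b2 a1
    simpa [mul_assoc] using this
  · calc t' * t * y * (t' * t)⁻¹ = t' * (t * y * t⁻¹) * t'⁻¹ := by group
      _ = y' := by rw [hty, htx']

instance fact3 : Fact (Nat.Prime 3) := ⟨by norm_num⟩

/-- A group of order `3^7` acting with stabilisers of order at most `3^4`. -/
theorem dvd_card_of_stabilizer {S Y : Type*} [Group S] [MulAction S Y] [Finite S] [Finite Y]
    (hS : Nat.card S = 3 ^ 7) (hst : ∀ y : Y, ¬ 3 ^ 5 ∣ Nat.card (MulAction.stabilizer S y)) :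
    27 ∣ Nat.card Y := by
  classical
  rw [Nat.card_congr (MulAction.selfEquivSigmaOrbitsQuotientStabilizer S Y)]
  have := Fintype.ofFinite (Quotient (MulAction.orbitRel S Y))
  rw [Nat.card_sigma]
  apply Finset.dvd_sum
  intro ω _
  have h1 : (MulAction.stabilizer S ω.out).index * Nat.card (MulAction.stabilizer S ω.out) =
      3 ^ 7 := by
    rw [Subgroup.index_mul_card, hS]
  obtain ⟨j, hj, hj'⟩ := (Nat.dvd_prime_pow (by norm_num : Nat.Prime 3)).mp
    (Dvd.intro_left _ h1 : Nat.card (MulAction.stabilizer S ω.out) ∣ 3 ^ 7)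
  have hj4 : j ≤ 4 := by
    by_contra h2
    apply hst ω.out
    rw [hj']
    exact pow_dvd_pow 3 (by omega)
  rw [hj'] at h1
  have h2 : (MulAction.stabilizer S ω.out).index = 3 ^ (7 - j) := by
    apply Nat.eq_of_mul_eq_mul_right (pow_pos (by norm_num : 0 < 3) j)
    rw [h1, ← pow_add]
    congr 1; omega
  change 27 ∣ (MulAction.stabilizer S ω.out).index
  rw [h2]
  exact pow_dvd_pow 3 (by omega : 3 ≤ 7 - j)

/-- The hypotheses of the closing theorem. -/
structure Hyp3 (M : Subgroup G) (z : G) (P E : Subgroup G) (τ : G) : Prop extends Hyp0 M z where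
  c243 : ¬ 3 ^ 5 ∣ Nat.card (Subgroup.centralizer ({z} : Set G))
  PM : P ≤ M
  Pcard : Nat.card P = 3 ^ 7
  Pmax : ¬ 3 ^ 8 ∣ Nat.card M
  EP : E ≤ P
  Ecard : Nat.card E = 3 ^ 5
  Pτ : ∀ p ∈ P, p * τ = τ * p
  τcen : ∃ d ∈ M, Z z d ∧ d * τ = τ * d
  cls : ∀ t ∈ M, t ^ 3 = 1 → t ≠ 1 →
    (∃ m ∈ M, m * τ * m⁻¹ = t ∨ m * τ⁻¹ * m⁻¹ = t) ∨ ∃ d ∈ M, Z z d ∧ d * t * d⁻¹ = t⁻¹
  E3 : ∀ e ∈ E, e ^ 3 = 1
  Ecen : ∀ e ∈ E, ∃ d ∈ M, Z z d ∧ d * e = e * d
  Einv : ∀ R : Subgroup G, R ≤ E → 9 ≤ Nat.card R →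
    ∃ e ∈ R, e ≠ 1 ∧ ∃ d ∈ M, Z z d ∧ d * e * d⁻¹ = e⁻¹

variable {P E : Subgroup G} {τ : G}

theorem Hyp3.factorization [Finite G] (h : Hyp3 M z P E τ) : (Nat.card M).factorization 3 = 7 := by
  have h0 : Nat.card M ≠ 0 := Nat.card_pos.ne'
  apply le_antisymm
  · by_contra h1
    apply h.Pmax
    exact (Nat.Prime.pow_dvd_iff_le_factorization (by norm_num) h0).mpr (by omega)
  · refine (Nat.Prime.pow_dvd_iff_le_factorization (by norm_num) h0).mp ?_
    rw [← h.Pcard]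
    exact Subgroup.card_dvd_of_le h.PM

/-- A 3-subgroup of `M` is conjugate in `M` to a subgroup of `P`. -/
theorem Hyp3.conj_le [Finite G] (h : Hyp3 M z P E τ) {R : Subgroup G} (hR : R ≤ M) {k : ℕ}
    (hRk : Nat.card R = 3 ^ k) : ∃ m ∈ M, ∀ x ∈ R, m * x * m⁻¹ ∈ P := by
  have hsub : Nat.card (P.subgroupOf M) = 3 ^ (Nat.card M).factorization 3 := by
    rw [h.factorization, Nat.card_congr (Subgroup.subgroupOfEquivOfLe h.PM).toEquiv, h.Pcard]
  let SP : Sylow 3 M := Sylow.ofCard (P.subgroupOf M) hsub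
  have hRp : IsPGroup 3 (R.subgroupOf M) := by
    apply IsPGroup.of_card (n := k)
    rw [Nat.card_congr (Subgroup.subgroupOfEquivOfLe hR).toEquiv, hRk]
  obtain ⟨Q, hQ⟩ := hRp.exists_le_sylow
  obtain ⟨m, hm⟩ := MulAction.exists_smul_eq M Q SP
  have hm' : MulAut.conj m • (Q : Subgroup M) = P.subgroupOf M := by
    have h1 : ((m • Q : Sylow 3 M) : Subgroup M) = (SP : Subgroup M) := by rw [hm]
    exact h1
  refine ⟨m, m.2, fun x hx => ?_⟩
  have h1 : (⟨x, hR hx⟩ : M) ∈ (Q : Subgroup M) := hQ (Subgroup.mem_subgroupOf.mpr hx)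
  have h2 : MulAut.conj m • (⟨x, hR hx⟩ : M) ∈ MulAut.conj m • (Q : Subgroup M) :=
    Subgroup.smul_mem_pointwise_smul _ _ _ h1
  rw [hm'] at h2
  exact h2

theorem Hyp3.inter [Finite G] (h : Hyp3 M z P E τ) {R : Subgroup G} (hR : R ≤ P) :
    Nat.card R ≤ 9 * Nat.card (E ⊓ R : Subgroup G) := by
  have h1 : Nat.card (E ⊓ R : Subgroup G) * E.relIndex R = Nat.card R := by
    have h2 := (E.subgroupOf R).card_mul_index
    have h3 : Nat.card (E.subgroupOf R) = Nat.card (E ⊓ R : Subgroup G) := by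
      rw [← Subgroup.inf_subgroupOf_right]
      exact Nat.card_congr (Subgroup.subgroupOfEquivOfLe inf_le_right).toEquiv
    rw [h3] at h2
    exact h2
  have h4 : E.relIndex P = 9 := by
    have h2 := (E.subgroupOf P).card_mul_index
    rw [Nat.card_congr (Subgroup.subgroupOfEquivOfLe h.EP).toEquiv, h.Ecard, h.Pcard] at h2
    change 3 ^ 5 * E.relIndex P = 3 ^ 7 at h2
    omega
  have h5 : E.relIndex R ≤ 9 := by
    rw [← h4]
    exact Subgroup.relIndex_le_of_le_right hR (by rw [h4]; norm_num)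
  calc Nat.card R = Nat.card (E ⊓ R : Subgroup G) * E.relIndex R := h1.symm
    _ ≤ Nat.card (E ⊓ R : Subgroup G) * 9 := Nat.mul_le_mul_left _ h5
    _ = _ := mul_comm _ _

/-- The number of conjugates of `z` in `C_M(t)` is divisible by `27` if a subgroup of `M` of
order `3^7` centralises `t`. -/
theorem Hyp3.dvd27 [Finite G] (h : Hyp3 M z P E τ) {t : G} (S : Subgroup G) (hSM : S ≤ M)
    (hS : Nat.card S = 3 ^ 7) (hSt : ∀ s ∈ S, s * t = t * s) :
    27 ∣ Nat.card {y : G // Z z y ∧ y ∈ M ∧ y * t = t * y} := by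
  let Y := {y : G // Z z y ∧ y ∈ M ∧ y * t = t * y}
  have hact : ∀ (q : S) (y : Y), Z z ((q : G) * y * (q : G)⁻¹) ∧ (q : G) * y * (q : G)⁻¹ ∈ M ∧
      ((q : G) * y * (q : G)⁻¹) * t = t * ((q : G) * y * (q : G)⁻¹) := by
    intro q y
    have h1 : (q : G) * t = t * q := hSt q q.2
    have h2 : (q : G)⁻¹ * t = t * (q : G)⁻¹ := by
      calc (q : G)⁻¹ * t = (q : G)⁻¹ * (t * q) * (q : G)⁻¹ := by group
        _ = t * (q : G)⁻¹ := by rw [← h1]; group
    refine ⟨y.2.1.conj _, M.mul_mem (M.mul_mem (hSM q.2) y.2.2.1) (M.inv_mem (hSM q.2)), ?_⟩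
    calc ((q : G) * y * (q : G)⁻¹) * t = (q : G) * y * ((q : G)⁻¹ * t) := by group
      _ = (q : G) * (y * t) * (q : G)⁻¹ := by rw [h2]; group
      _ = ((q : G) * t) * y * (q : G)⁻¹ := by rw [y.2.2.2]; group
      _ = t * ((q : G) * y * (q : G)⁻¹) := by rw [h1]; group
  let _ : MulAction S Y :=
    { smul := fun q y => ⟨(q : G) * y * (q : G)⁻¹, hact q y⟩
      one_smul := fun y => Subtype.ext (by
        change ((1 : S) : G) * (y : G) * ((1 : S) : G)⁻¹ = y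
        simp)
      mul_smul := fun a b y => Subtype.ext (by
        change ((a * b : S) : G) * (y : G) * ((a * b : S) : G)⁻¹ =
          (a : G) * ((b : G) * y * (b : G)⁻¹) * (a : G)⁻¹
        simp [mul_assoc]) }
  have hsmul : ∀ (q : S) (y : Y), ((q • y : Y) : G) = (q : G) * y * (q : G)⁻¹ := fun _ _ => rfl
  apply dvd_card_of_stabilizer (S := S) (Y := Y) hS
  intro y h5
  apply h.c243
  rw [← card_centralizer_conj z y.2.1]
  refine h5.trans ?_
  have hle : (MulAction.stabilizer S y).map S.subtype ≤ Subgroup.centralizer ({(y : G)} : Set G) := by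
    rintro _ ⟨q, hq, rfl⟩
    rw [Subgroup.mem_centralizer_singleton_iff]
    have h3 := congrArg Subtype.val (MulAction.mem_stabilizer_iff.mp hq)
    rw [hsmul] at h3
    change (q : G) * y = y * q
    calc (q : G) * y = ((q : G) * y * (q : G)⁻¹) * q := by group
      _ = y * q := by rw [h3]
  have h6 := Subgroup.card_dvd_of_le hle
  rwa [Subgroup.card_map_of_injective S.subtype_injective] at h6

/-- `27 * |t|` divides the order of the centralizer of `t` in `M ∩ g M g⁻¹`. -/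
theorem Hyp3.dvd_Kg [Finite G] (h : Hyp3 M z P E τ) {t g : G} (ht : t ∈ Kg M g) (hg : g ∉ M)
    (hx : ∃ x ∈ M, Z z x ∧ x * t = t * x)
    (hd : ∃ d ∈ M, Z z d ∧ d * (g⁻¹ * t * g) = g⁻¹ * t * g * d)
    (h27 : 27 ∣ Nat.card {y : G // Z z y ∧ y ∈ M ∧ y * (g⁻¹ * t * g) = g⁻¹ * t * g * y}) :
    27 * orderOf t ∣ Nat.card (Kg M g ⊓ Subgroup.centralizer ({t} : Set G) : Subgroup G) := by
  obtain ⟨htM, htM'⟩ := mem_Kg.mp ht
  obtain ⟨x, hxM, hxZ, hxt⟩ := hx
  obtain ⟨d, hdM, hdZ, hdt⟩ := hd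
  set C := Kg M g ⊓ Subgroup.centralizer ({t} : Set G) with hC
  have hCmem : ∀ k : G, k ∈ C ↔ (k ∈ M ∧ g⁻¹ * k * g ∈ M) ∧ k * t = t * k := by
    intro k
    rw [hC, Subgroup.mem_inf, mem_Kg, Subgroup.mem_centralizer_singleton_iff]
  let Y := {y : G // Z z y ∧ g⁻¹ * y * g ∈ M ∧ y * t = t * y}
  have hYcard : 27 ∣ Nat.card Y := by
    have h2 : Nat.card Y =
        Nat.card {y : G // Z z y ∧ y ∈ M ∧ y * (g⁻¹ * t * g) = g⁻¹ * t * g * y} := by
      refine Nat.card_congr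
        { toFun := fun y => ⟨g⁻¹ * y * g, ?_, y.2.2.1, ?_⟩
          invFun := fun y => ⟨g * y * g⁻¹, y.2.1.conj g, ?_, ?_⟩
          left_inv := fun y => Subtype.ext (by simp [mul_assoc])
          right_inv := fun y => Subtype.ext (by simp [mul_assoc]) }
      · have := y.2.1.conj g⁻¹
        simpa using this
      · have := y.2.2.2
        calc g⁻¹ * (y : G) * g * (g⁻¹ * t * g) = g⁻¹ * (y * t) * g := by group
          _ = g⁻¹ * t * g * (g⁻¹ * (y : G) * g) := by rw [this]; group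
      · have : g⁻¹ * (g * (y : G) * g⁻¹) * g = y := by group
        rw [this]; exact y.2.2.1
      · have := y.2.2.2
        calc g * (y : G) * g⁻¹ * t = g * ((y : G) * (g⁻¹ * t * g)) * g⁻¹ := by group
          _ = t * (g * (y : G) * g⁻¹) := by rw [this]; group
    rw [h2]; exact h27
  have hact : ∀ (c : C) (y : Y), Z z ((c : G) * y * (c : G)⁻¹) ∧
      g⁻¹ * ((c : G) * y * (c : G)⁻¹) * g ∈ M ∧
      ((c : G) * y * (c : G)⁻¹) * t = t * ((c : G) * y * (c : G)⁻¹) := by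
    intro c y
    obtain ⟨⟨h1, h2⟩, h3⟩ := (hCmem c).mp c.2
    refine ⟨y.2.1.conj _, ?_, ?_⟩
    · have h4 := M.mul_mem (M.mul_mem h2 y.2.2.1) (M.inv_mem h2)
      have h5 : g⁻¹ * (c : G) * g * (g⁻¹ * (y : G) * g) * (g⁻¹ * (c : G) * g)⁻¹ =
          g⁻¹ * ((c : G) * y * (c : G)⁻¹) * g := by group
      rwa [h5] at h4
    · have h4 : (c : G)⁻¹ * t = t * (c : G)⁻¹ := by
        calc (c : G)⁻¹ * t = (c : G)⁻¹ * (t * c) * (c : G)⁻¹ := by group
          _ = t * (c : G)⁻¹ := by rw [← h3]; group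
      calc ((c : G) * y * (c : G)⁻¹) * t = (c : G) * y * ((c : G)⁻¹ * t) := by group
        _ = (c : G) * (y * t) * (c : G)⁻¹ := by rw [h4]; group
        _ = ((c : G) * t) * y * (c : G)⁻¹ := by rw [y.2.2.2]; group
        _ = t * ((c : G) * y * (c : G)⁻¹) := by rw [h3]; group
  let _ : MulAction C Y :=
    { smul := fun c y => ⟨(c : G) * y * (c : G)⁻¹, hact c y⟩
      one_smul := fun y => Subtype.ext (by
        change ((1 : C) : G) * (y : G) * ((1 : C) : G)⁻¹ = y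
        simp)
      mul_smul := fun a b y => Subtype.ext (by
        change ((a * b : C) : G) * (y : G) * ((a * b : C) : G)⁻¹ =
          (a : G) * ((b : G) * y * (b : G)⁻¹) * (a : G)⁻¹
        simp [mul_assoc]) }
  have hsmul : ∀ (c : C) (y : Y), ((c • y : Y) : G) = (c : G) * y * (c : G)⁻¹ := fun _ _ => rfl
  let y₀ : Y := ⟨g * d * g⁻¹, hdZ.conj g, by
      have : g⁻¹ * (g * d * g⁻¹) * g = d := by group
      rw [this]; exact hdM, by
      calc g * d * g⁻¹ * t = g * (d * (g⁻¹ * t * g)) * g⁻¹ := by group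
        _ = t * (g * d * g⁻¹) := by rw [hdt]; group⟩
  have htrans : MulAction.orbit C y₀ = Set.univ := by
    rw [Set.eq_univ_iff_forall]
    intro y
    have hcm : ∀ k : G, k ∈ Subgroup.centralizer ({t} : Set G) ↔ k * t = t * k := fun k => by
      rw [Subgroup.mem_centralizer_singleton_iff]
    obtain ⟨k, hk1, hk2, hk3, hk4⟩ := h.trans (Subgroup.centralizer ({t} : Set G))
      ((hcm x).mpr hxt) ((hcm _).mpr y₀.2.2.2) ((hcm _).mpr y.2.2.2) hxZ y₀.2.1 y.2.1 hxM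
      y₀.2.2.1 y.2.2.1 hg
    refine ⟨⟨k, (hCmem k).mpr ⟨⟨hk2, hk3⟩, (hcm k).mp hk1⟩⟩, Subtype.ext ?_⟩
    exact hk4
  have hstab : orderOf t ∣ Nat.card (MulAction.stabilizer C y₀) := by
    have htC : t ∈ C := (hCmem t).mpr ⟨⟨htM, htM'⟩, rfl⟩
    have hts : (⟨t, htC⟩ : C) ∈ MulAction.stabilizer C y₀ := by
      rw [MulAction.mem_stabilizer_iff]
      apply Subtype.ext
      rw [hsmul]
      have h1 := y₀.2.2.2
      calc t * (y₀ : G) * t⁻¹ = y₀ * t * t⁻¹ := by rw [h1]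
        _ = y₀ := by group
    have h1 := orderOf_dvd_natCard (⟨⟨t, htC⟩, hts⟩ : MulAction.stabilizer C y₀)
    rwa [Subgroup.orderOf_mk, Subgroup.orderOf_mk] at h1
  have hcard' : Nat.card Y * Nat.card (MulAction.stabilizer C y₀) = Nat.card C := by
    rw [← Subgroup.card_mul_index (MulAction.stabilizer C y₀), MulAction.index_stabilizer, htrans,
      Set.ncard_univ, mul_comm]
  rw [← hcard']
  exact Nat.mul_dvd_mul hYcard hstab

/-- The elements normalising `⟨t⟩` by centralising or inverting `t`. -/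
def Nt (t : G) : Subgroup G where
  carrier := {n | n * t * n⁻¹ = t ∨ n * t * n⁻¹ = t⁻¹}
  one_mem' := Or.inl (by group)
  mul_mem' := by
    rintro a b ha hb
    have e : a * b * t * (a * b)⁻¹ = a * (b * t * b⁻¹) * a⁻¹ := by group
    have e' : a * t⁻¹ * a⁻¹ = (a * t * a⁻¹)⁻¹ := by group
    change a * b * t * (a * b)⁻¹ = t ∨ a * b * t * (a * b)⁻¹ = t⁻¹
    rcases hb with hb | hb <;> rcases ha with ha | ha
    · left; rw [e, hb, ha]
    · right; rw [e, hb, ha]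
    · right; rw [e, hb, e', ha]
    · left; rw [e, hb, e', ha, inv_inv]
  inv_mem' := by
    rintro a ha
    change a⁻¹ * t * a⁻¹⁻¹ = t ∨ a⁻¹ * t * a⁻¹⁻¹ = t⁻¹
    rcases ha with ha | ha
    · left
      nth_rewrite 1 [← ha]
      group
    · right
      have h1 : t = (a * t * a⁻¹)⁻¹ := by rw [ha, inv_inv]
      nth_rewrite 1 [h1]
      group

theorem mem_Nt {t n : G} : n ∈ Nt t ↔ n * t * n⁻¹ = t ∨ n * t * n⁻¹ = t⁻¹ := Iff.rfl

theorem cen_of_Nt {t k x : G} (hk : k ∈ Nt t) (hx : x * t = t * x) :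
    (k * x * k⁻¹) * t = t * (k * x * k⁻¹) := by
  have hx' : x * t⁻¹ = t⁻¹ * x := by
    calc x * t⁻¹ = t⁻¹ * (t * x) * t⁻¹ := by group
      _ = t⁻¹ * x := by rw [← hx]; group
  rcases mem_Nt.mp hk with h | h
  · have h1 : (k * x * k⁻¹) * (k * t * k⁻¹) = (k * t * k⁻¹) * (k * x * k⁻¹) := by
      calc (k * x * k⁻¹) * (k * t * k⁻¹) = k * (x * t) * k⁻¹ := by group
        _ = (k * t * k⁻¹) * (k * x * k⁻¹) := by rw [hx]; group
    rwa [h] at h1
  · have h2 : k * t⁻¹ * k⁻¹ = t := by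
      have : k * t⁻¹ * k⁻¹ = (k * t * k⁻¹)⁻¹ := by group
      rw [this, h, inv_inv]
    have h1 : (k * x * k⁻¹) * (k * t⁻¹ * k⁻¹) = (k * t⁻¹ * k⁻¹) * (k * x * k⁻¹) := by
      calc (k * x * k⁻¹) * (k * t⁻¹ * k⁻¹) = k * (x * t⁻¹) * k⁻¹ := by group
        _ = (k * t⁻¹ * k⁻¹) * (k * x * k⁻¹) := by rw [hx']; group
    rwa [h2] at h1

theorem eq_one_of_inv {t : G} (h3 : t ^ 3 = 1) (h : t = t⁻¹) : t = 1 := by
  have h2 : t * t = 1 := by nth_rewrite 1 [h]; group
  have : t ^ 3 = t * t * t := by rw [pow_succ, pow_two]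
  rw [this, h2, one_mul] at h3
  exact h3

/-- For `t` of order 3 in `M` there is a conjugate of `z` in `M` which centralises or
inverts `t`. -/
theorem Hyp3.exists_Nt (h : Hyp3 M z P E τ) {t : G} (ht : t ∈ M) (ht3 : t ^ 3 = 1) (ht1 : t ≠ 1) :
    ∃ d ∈ M, Z z d ∧ d ∈ Nt t := by
  have hcen : ∀ m ∈ M, ∀ e : G, (∃ d ∈ M, Z z d ∧ d * e = e * d) → m * e * m⁻¹ = t →
      ∃ d ∈ M, Z z d ∧ d ∈ Nt t := by
    rintro m hm e ⟨d, hdM, hdZ, hde⟩ rfl
    refine ⟨m * d * m⁻¹, M.mul_mem (M.mul_mem hm hdM) (M.inv_mem hm), hdZ.conj m, Or.inl ?_⟩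
    calc m * d * m⁻¹ * (m * e * m⁻¹) * (m * d * m⁻¹)⁻¹ = m * (d * e) * d⁻¹ * m⁻¹ := by group
      _ = m * e * m⁻¹ := by rw [hde]; group
  rcases h.cls t ht ht3 ht1 with ⟨m, hm, h1 | h1⟩ | ⟨d, hdM, hdZ, hd⟩
  · exact hcen m hm τ h.τcen h1
  · refine hcen m hm τ⁻¹ ?_ h1
    obtain ⟨d, hdM, hdZ, hd⟩ := h.τcen
    refine ⟨d, hdM, hdZ, ?_⟩
    calc d * τ⁻¹ = τ⁻¹ * (τ * d) * τ⁻¹ := by group
      _ = τ⁻¹ * d := by rw [← hd]; group
  · exact ⟨d, hdM, hdZ, Or.inr hd⟩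

/-- **Closing theorem.** -/
theorem Hyp3.eq_top [Finite G] (h : Hyp3 M z P E τ) : M = ⊤ := by
  rw [eq_top_iff]
  intro g _
  by_contra hg
  set K := Kg M g with hK
  have hKM : K ≤ M := fun x hx => (mem_Kg.mp hx).1
  -- a 3-subgroup of `K` meets a conjugate of `E`
  have hmeet : ∀ {k : ℕ}, 3 ^ k ∣ Nat.card K → ∃ m ∈ M, ∃ R : Subgroup G, R ≤ E ∧
      3 ^ k ≤ 9 * Nat.card R ∧ ∀ e ∈ R, m⁻¹ * e * m ∈ K := by
    intro k hk
    obtain ⟨R, hR⟩ := Sylow.exists_subgroup_card_pow_prime 3 hk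
    have hR1 : Nat.card (R.map K.subtype) = 3 ^ k := by
      rw [Subgroup.card_map_of_injective K.subtype_injective, hR]
    have hR1K : R.map K.subtype ≤ K := by
      rintro _ ⟨x, -, rfl⟩
      exact x.2
    obtain ⟨m, hm, hm'⟩ := h.conj_le (hR1K.trans hKM) hR1
    set R₂ := (R.map K.subtype).map (MulAut.conj m).toMonoidHom with hR₂
    have hR₂P : R₂ ≤ P := by
      rintro _ ⟨x, hx, rfl⟩
      have := hm' x hx
      simpa using this
    have hR₂c : Nat.card R₂ = 3 ^ k := by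
      rw [hR₂, Subgroup.card_map_of_injective (MulAut.conj m).injective, hR1]
    refine ⟨m, hm, E ⊓ R₂, inf_le_left, ?_, ?_⟩
    · have := h.inter hR₂P
      rwa [hR₂c] at this
    · rintro e ⟨-, he⟩
      obtain ⟨x, hx, rfl⟩ := he
      have : m⁻¹ * ((MulAut.conj m).toMonoidHom x) * m = x := by
        simp [mul_assoc]
      rw [this]
      exact hR1K hx
  -- step 1
  have h27K : 3 ^ 3 ∣ Nat.card K := by
    have h1 := h.dvd_Kg (t := 1) (g := g) (one_mem _) hg ⟨z, h.zM, ⟨1, by group⟩, by group⟩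
      ⟨z, h.zM, ⟨1, by group⟩, by group⟩
      (h.dvd27 (t := g⁻¹ * 1 * g) P h.PM h.Pcard (fun s _ => by group))
    have h2 : (Kg M g ⊓ Subgroup.centralizer ({(1 : G)} : Set G) : Subgroup G) ≤ Kg M g :=
      inf_le_left
    exact (Dvd.intro _ rfl).trans (h1.trans (Subgroup.card_dvd_of_le h2))
  -- elements of `K` in conjugates of `E`
  have hKelt : ∀ m ∈ M, ∀ e ∈ E, e ≠ 1 → m⁻¹ * e * m ∈ K → ∃ x ∈ M, Z z x ∧
      x * (m⁻¹ * e * m) = m⁻¹ * e * m * x ∧ ∃ y : G, g⁻¹ * y * g ∈ M ∧ Z z y ∧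
      y * (m⁻¹ * e * m) = m⁻¹ * e * m * y := by
    intro m hm e he he1 heK
    obtain ⟨d, hdM, hdZ, hd⟩ := h.Ecen e he
    set t := m⁻¹ * e * m with ht
    have ht3 : t ^ 3 = 1 := by
      have h1 := conj_pow (i := 3) (a := m⁻¹) (b := e)
      rw [inv_inv] at h1
      rw [ht, h1, h.E3 e he]; group
    have ht1 : t ≠ 1 := by
      intro h1
      apply he1
      have : e = m * t * m⁻¹ := by rw [ht]; group
      rw [this, h1]; group
    have hx1 : (m⁻¹ * d * m) * t = t * (m⁻¹ * d * m) := by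
      calc (m⁻¹ * d * m) * t = m⁻¹ * (d * e) * m := by rw [ht]; group
        _ = t * (m⁻¹ * d * m) := by rw [hd, ht]; group
    have hxZ : Z z (m⁻¹ * d * m) := by
      have := hdZ.conj m⁻¹
      simpa using this
    have hxM : m⁻¹ * d * m ∈ M := M.mul_mem (M.mul_mem (M.inv_mem hm) hdM) hm
    refine ⟨m⁻¹ * d * m, hxM, hxZ, hx1, ?_⟩
    -- the other side
    have htM' := (mem_Kg.mp heK).2
    have ht3' : (g⁻¹ * t * g) ^ 3 = 1 := by
      have h1 := conj_pow (i := 3) (a := g⁻¹) (b := t)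
      rw [inv_inv] at h1
      rw [h1, ht3]; group
    have ht1' : g⁻¹ * t * g ≠ 1 := by
      intro h1
      apply ht1
      have : t = g * (g⁻¹ * t * g) * g⁻¹ := by group
      rw [this, h1]; group
    obtain ⟨d', hdM', hdZ', hd'⟩ := h.exists_Nt htM' ht3' ht1'
    have hyN : g * d' * g⁻¹ ∈ Nt t := by
      rcases mem_Nt.mp hd' with h1 | h1
      · left
        calc g * d' * g⁻¹ * t * (g * d' * g⁻¹)⁻¹ = g * (d' * (g⁻¹ * t * g) * d'⁻¹) * g⁻¹ := by
              group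
          _ = t := by rw [h1]; group
      · right
        calc g * d' * g⁻¹ * t * (g * d' * g⁻¹)⁻¹ = g * (d' * (g⁻¹ * t * g) * d'⁻¹) * g⁻¹ := by
              group
          _ = t⁻¹ := by rw [h1]; group
    have hyM : g⁻¹ * (g * d' * g⁻¹) * g ∈ M := by
      have : g⁻¹ * (g * d' * g⁻¹) * g = d' := by group
      rw [this]; exact hdM'
    obtain ⟨s, hs, hsx, hsy⟩ := h.swap hxZ (hdZ'.conj g) hxM hyM hg
    have hxN : m⁻¹ * d * m ∈ Nt t := Or.inl (by
      calc m⁻¹ * d * m * t * (m⁻¹ * d * m)⁻¹ = t * (m⁻¹ * d * m) * (m⁻¹ * d * m)⁻¹ := by rw [hx1]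
        _ = t := by group)
    refine ⟨g * d' * g⁻¹, hyM, hdZ'.conj g, ?_⟩
    rw [← hsx]
    exact cen_of_Nt (hs _ hxN hyN) hx1
  -- step 2
  obtain ⟨m, hm, R, hRE, hRc, hRK⟩ := hmeet h27K
  have hR3 : 1 < Nat.card R := by omega
  have hRn : Nontrivial R := Finite.one_lt_card_iff_nontrivial.mp hR3
  obtain ⟨⟨e, heR⟩, he1⟩ := exists_ne (1 : R)
  have he1' : e ≠ 1 := fun h1 => he1 (Subtype.ext h1)
  obtain ⟨x, hxM, hxZ, hxt, y, hyM, hyZ, hyt⟩ := hKelt m hm e (hRE heR) he1' (hRK e heR)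
  set t := m⁻¹ * e * m with ht
  have htK : t ∈ Kg M g := hRK e heR
  have ht3 : t ^ 3 = 1 := by
    have h1 := conj_pow (i := 3) (a := m⁻¹) (b := e)
    rw [inv_inv] at h1
    rw [ht, h1, h.E3 e (hRE heR)]; group
  have ht1 : t ≠ 1 := by
    intro h1
    apply he1'
    have : e = m * t * m⁻¹ := by rw [ht]; group
    rw [this, h1]; group
  have ht3' : (g⁻¹ * t * g) ^ 3 = 1 := by
    have h1 := conj_pow (i := 3) (a := g⁻¹) (b := t)
    rw [inv_inv] at h1
    rw [h1, ht3]; group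
  have ht1' : g⁻¹ * t * g ≠ 1 := by
    intro h1
    apply ht1
    have : t = g * (g⁻¹ * t * g) * g⁻¹ := by group
    rw [this, h1]; group
  -- no element of `g M g⁻¹ ∩ z^G` inverts `t`
  have hnoinv : ∀ d ∈ M, Z z d → ¬ d * (g⁻¹ * t * g) * d⁻¹ = (g⁻¹ * t * g)⁻¹ := by
    intro d hdM hdZ hd
    have hyM' : g⁻¹ * (g * d * g⁻¹) * g ∈ M := by
      have : g⁻¹ * (g * d * g⁻¹) * g = d := by group
      rw [this]; exact hdM
    have hinv : g * d * g⁻¹ * t * (g * d * g⁻¹)⁻¹ = t⁻¹ := by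
      calc g * d * g⁻¹ * t * (g * d * g⁻¹)⁻¹ = g * (d * (g⁻¹ * t * g) * d⁻¹) * g⁻¹ := by
            group
        _ = t⁻¹ := by rw [hd]; group
    obtain ⟨s, hs, hsx, hsy⟩ := h.swap hxZ (hdZ.conj g) hxM hyM' hg
    have hxN : x ∈ Nt t := Or.inl (by
      calc x * t * x⁻¹ = t * x * x⁻¹ := by rw [hxt]
        _ = t := by group)
    have h1 := cen_of_Nt (hs _ hxN (Or.inr hinv)) hxt
    rw [hsx] at h1
    apply ht1
    apply eq_one_of_inv ht3
    rw [← hinv, h1]; group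
  -- step 4
  have h81K : 3 ^ 4 ∣ Nat.card K := by
    have h27 : 27 ∣ Nat.card {y : G // Z z y ∧ y ∈ M ∧ y * (g⁻¹ * t * g) = g⁻¹ * t * g * y} := by
      have hS : ∀ m ∈ M, ∀ e : G, (∀ p ∈ P, p * e = e * p) → m * e * m⁻¹ = g⁻¹ * t * g →
          27 ∣ Nat.card {y : G // Z z y ∧ y ∈ M ∧ y * (g⁻¹ * t * g) = g⁻¹ * t * g * y} := by
        intro m hm e he hme
        apply h.dvd27 (P.map (MulAut.conj m).toMonoidHom)
        · rintro _ ⟨p, hp, rfl⟩
          have := M.mul_mem (M.mul_mem hm (h.PM hp)) (M.inv_mem hm)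
          simpa using this
        · rw [Subgroup.card_map_of_injective (MulAut.conj m).injective, h.Pcard]
        · rintro _ ⟨p, hp, rfl⟩
          rw [← hme]
          have h1 := he p hp
          change m * p * m⁻¹ * (m * e * m⁻¹) = m * e * m⁻¹ * (m * p * m⁻¹)
          calc m * p * m⁻¹ * (m * e * m⁻¹) = m * (p * e) * m⁻¹ := by group
            _ = m * e * m⁻¹ * (m * p * m⁻¹) := by rw [h1]; group
      rcases h.cls _ (mem_Kg.mp htK).2 ht3' ht1' with ⟨m, hm, h1 | h1⟩ | ⟨d, hdM, hdZ, hd⟩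
      · exact hS m hm τ h.Pτ h1
      · refine hS m hm τ⁻¹ ?_ h1
        intro p hp
        have h2 := h.Pτ p hp
        calc p * τ⁻¹ = τ⁻¹ * (τ * p) * τ⁻¹ := by group
          _ = τ⁻¹ * p := by rw [← h2]; group
      · exact absurd hd (hnoinv d hdM hdZ)
    have h1 := h.dvd_Kg htK hg ⟨x, hxM, hxZ, hxt⟩ ⟨g⁻¹ * y * g, hyM, by
        have := hyZ.conj g⁻¹
        simpa using this, by
        calc g⁻¹ * y * g * (g⁻¹ * t * g) = g⁻¹ * (y * t) * g := by group
          _ = g⁻¹ * t * g * (g⁻¹ * y * g) := by rw [hyt]; group⟩ h27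
    have hot : orderOf t = 3 := orderOf_eq_prime ht3 ht1
    rw [hot] at h1
    have h2 : (Kg M g ⊓ Subgroup.centralizer ({t} : Set G) : Subgroup G) ≤ Kg M g := inf_le_left
    exact h1.trans (Subgroup.card_dvd_of_le h2)
  -- step 5
  obtain ⟨m', hm', R', hRE', hRc', hRK'⟩ := hmeet h81K
  obtain ⟨e', heR', he1'', d, hdM, hdZ, hd⟩ := h.Einv R' hRE' (by omega)
  obtain ⟨x', hxM', hxZ', hxt', y', hyM', hyZ', hyt'⟩ :=
    hKelt m' hm' e' (hRE' heR') he1'' (hRK' e' heR')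
  set t' := m'⁻¹ * e' * m' with ht'
  have ht3'' : t' ^ 3 = 1 := by
    have h1 := conj_pow (i := 3) (a := m'⁻¹) (b := e')
    rw [inv_inv] at h1
    rw [ht', h1, h.E3 e' (hRE' heR')]; group
  have ht1'' : t' ≠ 1 := by
    intro h1
    apply he1''
    have : e' = m' * t' * m'⁻¹ := by rw [ht']; group
    rw [this, h1]; group
  have hvM : m'⁻¹ * d * m' ∈ M := M.mul_mem (M.mul_mem (M.inv_mem hm') hdM) hm'
  have hvZ : Z z (m'⁻¹ * d * m') := by
    have := hdZ.conj m'⁻¹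
    simpa using this
  have hvinv : (m'⁻¹ * d * m') * t' * (m'⁻¹ * d * m')⁻¹ = t'⁻¹ := by
    calc (m'⁻¹ * d * m') * t' * (m'⁻¹ * d * m')⁻¹ = m'⁻¹ * (d * e' * d⁻¹) * m' := by
          rw [ht']; group
      _ = t'⁻¹ := by rw [hd, ht']; group
  obtain ⟨s, hs, hsx, hsy⟩ := h.swap hvZ hyZ' hvM hyM' hg
  have hyN : y' ∈ Nt t' := Or.inl (by
    calc y' * t' * y'⁻¹ = t' * y' * y'⁻¹ := by rw [hyt']
      _ = t' := by group)
  have h1 := cen_of_Nt (hs _ (Or.inr hvinv) hyN) hyt'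
  rw [hsy] at h1
  apply ht1''
  apply eq_one_of_inv ht3''
  rw [← hvinv, h1]; group

end main

/-- The facts needed about the model `K` (with classes of involutions `z^K`, `w^K`). -/
structure Model3 (K : Type*) [Group K] (z w : K) (P E : Subgroup K) (τ : K) : Prop where
  zz : z * z = 1
  z1 : z ≠ 1
  two : ∀ t : K, t * t = 1 → t ≠ 1 → Z z t ∨ Z w t
  comm : ∀ x y : K, Z z x → Z z y → x ≠ y → x * y = y * x → Z z (x * y)
  Pcard : Nat.card P = 3 ^ 7
  Pmax : ¬ 3 ^ 8 ∣ Nat.card K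
  EP : E ≤ P
  Ecard : Nat.card E = 3 ^ 5
  Pτ : ∀ p ∈ P, p * τ = τ * p
  τcen : ∃ d : K, Z z d ∧ d * τ = τ * d
  cls : ∀ t : K, t ^ 3 = 1 → t ≠ 1 → Z τ t ∨ Z τ⁻¹ t ∨ ∃ d : K, Z z d ∧ d * t * d⁻¹ = t⁻¹
  E3 : ∀ e ∈ E, e ^ 3 = 1
  Ecen : ∀ e ∈ E, ∃ d : K, Z z d ∧ d * e = e * d
  Einv : ∀ R : Subgroup K, R ≤ E → 9 ≤ Nat.card R →
    ∃ e ∈ R, e ≠ 1 ∧ ∃ d : K, Z z d ∧ d * e * d⁻¹ = e⁻¹

/-- Transfer of the model facts to a subgroup `M = φ(K)` of `G`. -/
theorem Model3.hyp {K : Type*} [Group K] {z w : K} {P E : Subgroup K} {τ : K}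
    (h : Model3 K z w P E τ) [Finite G] (φ : K →* G)
    (hφ : Function.Injective φ) (hC : Subgroup.centralizer ({φ z} : Set G) ≤ φ.range)
    (h243 : ¬ 243 ∣ Nat.card (Subgroup.centralizer ({φ z} : Set G)))
    (p : ℕ) (hp : ¬ p ∣ Nat.card (Subgroup.centralizer ({φ z} : Set G)))
    (u : K) (hu : orderOf u = p) (huw : u * w = w * u) :
    Hyp3 φ.range (φ z) (P.map φ) (E.map φ) (φ τ) := by
  -- `φ w` is not conjugate to `φ z` in `G`
  have hnZ : ¬ Z (φ z) (φ w) := by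
    rintro ⟨g, hg⟩
    apply hp
    have hmem : g⁻¹ * φ u * g ∈ Subgroup.centralizer ({φ z} : Set G) := by
      rw [Subgroup.mem_centralizer_singleton_iff]
      have h1 : φ u * φ w = φ w * φ u := by rw [← map_mul, huw, map_mul]
      rw [← hg] at h1
      calc g⁻¹ * φ u * g * φ z = g⁻¹ * (φ u * (g * φ z * g⁻¹)) * g := by group
        _ = φ z * (g⁻¹ * φ u * g) := by rw [h1]; group
    have h2 : orderOf (g⁻¹ * φ u * g) = p := by
      have h3 : orderOf (MulAut.conj g⁻¹ (φ u)) = orderOf (φ u) :=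
        orderOf_injective (MulAut.conj g⁻¹).toMonoidHom (MulAut.conj g⁻¹).injective _
      rw [MulAut.conj_apply, inv_inv, orderOf_injective φ hφ, hu] at h3
      exact h3
    have h4 := orderOf_dvd_natCard (⟨_, hmem⟩ : Subgroup.centralizer ({φ z} : Set G))
    rwa [Subgroup.orderOf_mk, h2] at h4
  -- conjugacy classes
  have hup : ∀ a b : K, Z a b → Z (φ a) (φ b) := by
    rintro a b ⟨g, rfl⟩
    exact ⟨φ g, by simp⟩
  have hZw : ∀ t : K, Z w t → ¬ Z (φ z) (φ t) := by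
    rintro t ⟨g, rfl⟩ h1
    apply hnZ
    apply Z.of_conj (φ g)
    simpa using h1
  have htwo : ∀ t : K, t * t = 1 → t ≠ 1 → (Z (φ z) (φ t) → Z z t) := by
    intro t h1 h2 h3
    rcases h.two t h1 h2 with h4 | h4
    · exact h4
    · exact absurd h3 (hZw t h4)
  have hG1 : ∀ g : G, g * φ z * g⁻¹ ≠ 1 := by
    intro g h1
    apply h.z1
    apply hφ
    have : φ z = g⁻¹ * (g * φ z * g⁻¹) * g := by group
    rw [this, h1, map_one]; group
  have hGsq : ∀ g : G, (g * φ z * g⁻¹) * (g * φ z * g⁻¹) = 1 := by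
    intro g
    have : g * φ z * g⁻¹ * (g * φ z * g⁻¹) = g * (φ z * φ z) * g⁻¹ := by group
    rw [this, ← map_mul, h.zz, map_one]; group
  have hdown : ∀ t : K, Z (φ z) (φ t) → Z z t := by
    intro t ht
    obtain ⟨g, hg⟩ := ht
    refine htwo t ?_ ?_ ⟨g, hg⟩
    · apply hφ
      rw [map_mul, ← hg, hGsq, map_one]
    · rintro rfl
      exact hG1 g (by rw [hg, map_one])
  have hcardr : Nat.card φ.range = Nat.card K :=
    (Nat.card_congr (MonoidHom.ofInjective hφ).toEquiv).symm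
  refine
    { fus := ?_
      zz := by rw [← map_mul, h.zz, map_one]
      zM := ⟨z, rfl⟩
      comm := ?_
      c243 := h243
      PM := ?_
      Pcard := by rw [Subgroup.card_map_of_injective hφ, h.Pcard]
      Pmax := by rw [hcardr]; exact h.Pmax
      EP := Subgroup.map_mono h.EP
      Ecard := by rw [Subgroup.card_map_of_injective hφ, h.Ecard]
      Pτ := ?_
      τcen := ?_
      cls := ?_
      E3 := ?_
      Ecen := ?_
      Einv := ?_ }
  · rintro g ⟨t, ht⟩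
    obtain ⟨k, rfl⟩ := hdown t ⟨g, ht.symm⟩
    have h1 : (φ k)⁻¹ * g ∈ Subgroup.centralizer ({φ z} : Set G) := by
      rw [Subgroup.mem_centralizer_singleton_iff]
      have h2 : g * φ z * g⁻¹ = φ k * φ z * (φ k)⁻¹ := by rw [← ht]; simp
      calc (φ k)⁻¹ * g * φ z = (φ k)⁻¹ * (g * φ z * g⁻¹) * g := by group
        _ = φ z * ((φ k)⁻¹ * g) := by rw [h2]; group
    have h3 := hC h1
    have h4 := φ.range.mul_mem (⟨k, rfl⟩ : φ k ∈ φ.range) h3
    simpa using h4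
  · rintro _ ⟨x, rfl⟩ _ ⟨y, rfl⟩ h1 h2 h3 h4
    rw [← map_mul]
    exact hup _ _ (h.comm x y (hdown _ h1) (hdown _ h2) (fun h5 => h3 (by rw [h5]))
      (hφ (by rw [map_mul, h4, map_mul])))
  · rintro _ ⟨x, -, rfl⟩
    exact ⟨x, rfl⟩
  · rintro _ ⟨x, hx, rfl⟩
    rw [← map_mul, h.Pτ x hx, map_mul]
  · obtain ⟨d, hd, hdτ⟩ := h.τcen
    exact ⟨φ d, ⟨d, rfl⟩, hup _ _ hd, by rw [← map_mul, hdτ, map_mul]⟩
  · rintro _ ⟨t, rfl⟩ h1 h2
    rcases h.cls t (hφ (by rw [map_pow, h1, map_one])) (fun h3 => h2 (by rw [h3, map_one])) with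
      ⟨g, rfl⟩ | ⟨g, rfl⟩ | ⟨d, hd, hdt⟩
    · exact Or.inl ⟨φ g, ⟨g, rfl⟩, Or.inl (by simp)⟩
    · exact Or.inl ⟨φ g, ⟨g, rfl⟩, Or.inr (by simp)⟩
    · refine Or.inr ⟨φ d, ⟨d, rfl⟩, hup _ _ hd, ?_⟩
      have := congrArg φ hdt
      simpa using this
  · rintro _ ⟨x, hx, rfl⟩
    rw [← map_pow, h.E3 x hx, map_one]
  · rintro _ ⟨x, hx, rfl⟩
    obtain ⟨d, hd, hdx⟩ := h.Ecen x hx
    exact ⟨φ d, ⟨d, rfl⟩, hup _ _ hd, by rw [← map_mul, hdx, map_mul]⟩
  · intro R hR hR9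
    have hRmap : (R.comap φ).map φ = R := by
      apply Subgroup.map_comap_eq_self
      exact hR.trans (fun _ ⟨x, _, hx⟩ => ⟨x, hx⟩)
    have h1 : Nat.card (R.comap φ) = Nat.card R := by
      conv_rhs => rw [← hRmap]
      rw [Subgroup.card_map_of_injective hφ]
    have h2 : R.comap φ ≤ E := by
      intro x hx
      obtain ⟨y, hy, hxy⟩ := hR hx
      rw [← hφ hxy]; exact hy
    obtain ⟨e, he, he1, d, hd, hde⟩ := h.Einv (R.comap φ) h2 (by rw [h1]; exact hR9)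
    refine ⟨φ e, he, fun h3 => he1 (hφ (by rw [h3, map_one])), φ d, ⟨d, rfl⟩, hup _ _ hd, ?_⟩
    have := congrArg φ hde
    simpa using this

/-- **Closing theorem, model form.** -/
theorem Model3.surjective {K : Type*} [Group K] {z w : K} {P E : Subgroup K} {τ : K}
    (h : Model3 K z w P E τ) [Finite G] (φ : K →* G)
    (hφ : Function.Injective φ) (hC : Subgroup.centralizer ({φ z} : Set G) ≤ φ.range)
    (h243 : ¬ 243 ∣ Nat.card (Subgroup.centralizer ({φ z} : Set G)))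
    (p : ℕ) (hp : ¬ p ∣ Nat.card (Subgroup.centralizer ({φ z} : Set G)))
    (u : K) (hu : orderOf u = p) (huw : u * w = w * u) : Function.Surjective φ :=
  MonoidHom.range_eq_top.mp (h.hyp φ hφ hC h243 p hp u hu huw).eq_top

end Cfsg.Agent.SporRec.ClosingThree
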