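import Mathlib
import Cfsg.Agent.J3Type.Closing

/-!
# Counting conjugates of an involution in cosets

`t` is an element of the finite group `G` with `t ^ G ∩ H = t ^ H` and `C_G(t) ≤ H`; if `H ≠ G` then
some conjugate `τ` of `t` outside `H` has at least `|t ^ H| = |H : C(t)|` conjugates of `t` in its
coset `τ H`.  If `t` is an involution these are elements `τ h` with `h` in `H` inverted by `τ`.
-/

set_option autoImplicit false

namespace Cfsg.Agent.SporRec.ZCount

variable {G : Type*} [Group G]

theorem exists_many [Finite G] (t : G) (H : Subgroup G) (htH : t ∈ H)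
    (hZ : ∀ g : G, g * t * g⁻¹ ∈ H → g ∈ H) (hne : H ≠ ⊤) :
    ∃ τ : G, (∃ g, g * t * g⁻¹ = τ) ∧ τ ∉ H ∧
      Nat.card H ≤ Nat.card (Subgroup.centralizer ({t} : Set G)) *
        Nat.card {h : H // ∃ g : G, g * t * g⁻¹ = τ * h} := by
  classical
  have : Fintype G := Fintype.ofFinite G
  have hCH : Subgroup.centralizer ({t} : Set G) ≤ H := by
    intro g hg
    apply hZ
    rw [Subgroup.mem_centralizer_singleton_iff] at hg
    rw [hg, mul_inv_cancel_right]; exact htH
  have h1 := J3Type.Closing.card_class t H hCH
  have h2 := J3Type.Closing.card_class t (⊤ : Subgroup G) le_top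
  set c := Nat.card (Subgroup.centralizer ({t} : Set G)) with hc
  by_contra hcon
  push Not at hcon
  -- the class as a finset
  let K : Finset G := Finset.univ.filter fun x => ∃ g, g * t * g⁻¹ = x
  have hK : K.card * c = Nat.card G := by
    rw [Subgroup.card_top] at h2
    rw [← h2]
    congr 1
    rw [Nat.card_eq_fintype_card, Fintype.card_subtype]
    congr 1
    ext x
    simp [K]
  have hfib : K.card = ∑ q : G ⧸ H, (K.filter fun x => (QuotientGroup.mk x : G ⧸ H) = q).card :=
    Finset.card_eq_sum_card_fiberwise (fun x _ => Finset.mem_univ _)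
  -- the trivial coset
  have hq1 : ((K.filter fun x => (QuotientGroup.mk x : G ⧸ H) = QuotientGroup.mk 1).card) * c
      = Nat.card H := by
    rw [← h1]
    congr 1
    rw [Nat.card_eq_fintype_card, Fintype.card_subtype]
    congr 1
    ext x
    simp only [K, Finset.mem_filter, Finset.mem_univ, true_and]
    rw [eq_comm, QuotientGroup.eq, inv_one, one_mul]
    constructor
    · rintro ⟨⟨g, hg⟩, hx⟩
      exact ⟨g, hZ g (by rw [hg]; exact hx), hg⟩
    · rintro ⟨g, hgH, hg⟩
      refine ⟨⟨g, hg⟩, ?_⟩
      rw [← hg]; exact H.mul_mem (H.mul_mem hgH htH) (H.inv_mem hgH)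
  -- the other cosets
  have hq : ∀ q : G ⧸ H, q ≠ QuotientGroup.mk 1 →
      ((K.filter fun x => (QuotientGroup.mk x : G ⧸ H) = q).card) * c < Nat.card H := by
    intro q hq
    rcases Finset.eq_empty_or_nonempty (K.filter fun x => (QuotientGroup.mk x : G ⧸ H) = q) with
      he | ⟨τ, hτ⟩
    · rw [he, Finset.card_empty, zero_mul]; exact Nat.card_pos
    · simp only [K, Finset.mem_filter, Finset.mem_univ, true_and] at hτ
      obtain ⟨hτ1, hτ2⟩ := hτ
      have hτH : τ ∉ H := by
        intro h
        apply hq
        rw [← hτ2, eq_comm, QuotientGroup.eq]; simpa using h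
      have h3 := hcon τ hτ1 hτH
      rw [mul_comm] at h3
      refine lt_of_le_of_lt (Nat.mul_le_mul_right c (le_of_eq ?_)) h3
      rw [Nat.card_eq_fintype_card, ← Fintype.card_coe]
      refine Fintype.card_congr
        { toFun := fun x => ⟨⟨τ⁻¹ * x.1, ?_⟩, ?_⟩
          invFun := fun h => ⟨τ * h.1, ?_⟩
          left_inv := ?_
          right_inv := ?_ }
      · have := x.2
        simp only [K, Finset.mem_filter, Finset.mem_univ, true_and] at this
        rw [← QuotientGroup.eq, hτ2, this.2]
      · have := x.2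
        simp only [K, Finset.mem_filter, Finset.mem_univ, true_and] at this
        obtain ⟨g, hg⟩ := this.1
        exact ⟨g, by simp [hg]⟩
      · simp only [K, Finset.mem_filter, Finset.mem_univ, true_and]
        refine ⟨h.2, ?_⟩
        rw [← hτ2, eq_comm, QuotientGroup.eq]; simp
      · intro x; simp
      · intro h; simp
  -- sum up
  have hcard : Nat.card (G ⧸ H) * Nat.card H = Nat.card G := by
    rw [mul_comm]; exact (Subgroup.card_eq_card_quotient_mul_card_subgroup H ▸ mul_comm _ _)
  have hlt : K.card * c < Nat.card (G ⧸ H) * Nat.card H := by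
    rw [hfib, Finset.sum_mul, Nat.card_eq_fintype_card (α := G ⧸ H), ← Finset.card_univ,
      ← smul_eq_mul, ← Finset.sum_const]
    obtain ⟨k, hk⟩ : ∃ k, k ∉ H := by
      by_contra h; push Not at h; exact hne (eq_top_iff.mpr fun x _ => h x)
    refine Finset.sum_lt_sum ?_ ⟨QuotientGroup.mk k, Finset.mem_univ _, ?_⟩
    · intro q _
      by_cases h : q = QuotientGroup.mk 1
      · rw [h, hq1]
      · exact (hq q h).le
    · apply hq
      rw [Ne, eq_comm, QuotientGroup.eq]; simpa using hk
  rw [hK, hcard] at hlt
  exact lt_irrefl _ hlt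

end Cfsg.Agent.SporRec.ZCount
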