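import Cfsg.Agent.SporRec.CosetBulk

/-!
# Bulk static certificates with two numberings of the points

As in `CosetBulk`, but the points are the positions in a mask `D`, and there are two numberings (indexed
by `Bool`); a step leads from one numbering to another one. Letters act by short networks in their own
numbering, and two conversion steps (with group element `1`) lead from one numbering to the other.
-/

set_option autoImplicit false

namespace Cfsg.Agent.SporRec.CosetBulk2

open Cfsg.Agent.Lib.PermNet Cfsg.Agent.SporRec.CosetBulk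

/-- a step from the numbering `s` to the numbering `t` -/
structure Step2 (G : Type*) where
  g : G
  net : Net
  lev : List ℕ
  s : Bool
  t : Bool

section sound
variable {G X : Type*} [Group G] [MulAction G X] {ι : Type*}

/-- all edges of level `< B` of the step `s` are correct -/
def Sound2 (D : Bool → ℕ) (f : Bool → ℕ → X) (B : ℕ) (s : Step2 G) : Prop :=
  ∀ j, (D s.s).testBit j = true → val s.lev j < B → s.g • f s.s j = f s.t (s.net.perm j)

/-- the network is fine and preserves the domains -/
def Good (N : ℕ) (D : Bool → ℕ) (s : Step2 G) : Prop :=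
  s.net.ok N = true ∧ ∀ j, (D s.s).testBit j = true → (D s.t).testBit (s.net.perm j) = true

/-- composable lists of steps from `a` to `c` (the last one acts first) -/
def Chain : List (Step2 G) → Bool → Bool → Prop
  | [], a, c => a = c
  | s :: l, a, c => s.t = c ∧ Chain l a s.s

theorem walk2 {D : Bool → ℕ} {f : Bool → ℕ → X} {B : ℕ} {N : ℕ} (l : List (Step2 G)) (a c : Bool)
    (hch : Chain l a c) (hg : ∀ s ∈ l, Good N D s) (hs : ∀ s ∈ l, Sound2 D f B s) (acc : List ℕ) (i : ℕ)
    (hi : (D a).testBit i = true)
    (h : val (pull (l.map fun s => (s.net, s.lev)) acc) i < B) :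
    ((l.map fun s => s.g).prod • f a i = f c ((l.map fun s => s.net.perm).prod i)) ∧
      (D c).testBit ((l.map fun s => s.net.perm).prod i) = true ∧
      val acc ((l.map fun s => s.net.perm).prod i) < B := by
  induction l generalizing acc c with
  | nil =>
    have hch' : a = c := hch
    subst hch'
    simpa [pull_nil] using ⟨hi, h⟩
  | cons s l ih =>
    obtain ⟨h0, hch'⟩ := hch
    rw [List.map_cons, pull_cons] at h
    obtain ⟨h1, h2, h3⟩ := ih s.s hch' (fun t ht => hg t (List.mem_cons_of_mem _ ht))
      (fun t ht => hs t (List.mem_cons_of_mem _ ht)) _ h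
    have hgs := hg s (by simp)
    rw [val_maxP, val_mapApp hgs.1] at h3
    rw [max_lt_iff] at h3
    have h4 := hgs.2 _ h2
    rw [h0] at h4
    refine ⟨?_, ?_, ?_⟩
    · rw [List.map_cons, List.prod_cons, mul_smul, h1, hs s (by simp) _ h2 h3.1, h0]
      rw [List.map_cons, List.prod_cons, Equiv.Perm.mul_apply]
    · rw [List.map_cons, List.prod_cons, Equiv.Perm.mul_apply]
      exact h4
    · rw [List.map_cons, List.prod_cons, Equiv.Perm.mul_apply]
      exact h3.2

/-- the edges `(i, a)` with `i ∈ M` follow from edges of smaller level -/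
def Jus2 (D : Bool → ℕ) (f : Bool → ℕ → X) (st : ι → Step2 G) (a : ι) (M : ℕ) : Prop :=
  ∀ B, (∀ b, Sound2 D f B (st b)) → ∀ i, (D (st a).s).testBit i = true → M.testBit i = true →
    val (st a).lev i ≤ B → (st a).g • f (st a).s i = f (st a).t ((st a).net.perm i)

theorem Jus2.of_rule_mask {D : Bool → ℕ} {N : ℕ} {f : Bool → ℕ → X} {st : ι → Step2 G} {a : ι}
    (l : List (Step2 G)) (hch : Chain l (st a).s (st a).t)
    (hs : ∀ B, (∀ b, Sound2 D f B (st b)) → ∀ s ∈ l, Sound2 D f B s)
    (hgood : ∀ s ∈ l, Good N D s)
    (hg : (l.map fun s => s.g).prod = (st a).g)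
    (hp : ∀ i, (l.map fun s => s.net.perm).prod i = (st a).net.perm i) :
    Jus2 D f st a (ruleMask (l.map fun s => (s.net, s.lev)) (st a).lev) := by
  intro B hB i hi hM hlev
  rw [ruleMask, testBit_ltP] at hM
  simp only [Nat.zero_testBit, Bool.false_eq_true, and_false, or_false] at hM
  obtain ⟨h3, -, -⟩ := walk2 l _ _ hch hgood (hs B hB) [] i hi (lt_of_lt_of_le hM hlev)
  rw [hg] at h3
  rw [h3, hp i]

theorem Jus2.of_fact {D : Bool → ℕ} {f : Bool → ℕ → X} {st : ι → Step2 G} {a : ι} {M : ℕ}
    (h : ∀ i, (D (st a).s).testBit i = true → M.testBit i = true →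
      (st a).g • f (st a).s i = f (st a).t ((st a).net.perm i)) : Jus2 D f st a M :=
  fun _ _ i hi hM _ => h i hi hM

/-- an involution: the other ends of the edges -/
theorem Jus2.symm {D : Bool → ℕ} {N : ℕ} {f : Bool → ℕ → X} {st : ι → Step2 G} {a : ι} {M : ℕ}
    (hst : (st a).s = (st a).t) (hgood : Good N D (st a))
    (hg : (st a).g * (st a).g = 1) (hp : ∀ i, (st a).net.perm ((st a).net.perm i) = i)
    (hsym : mapApp (st a).net (st a).lev = (st a).lev) (h : Jus2 D f st a M) :
    Jus2 D f st a ((st a).net.app M) := by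
  intro B hB i hi hM hlev
  rw [testBit_app hgood.1] at hM
  have h1 : val (st a).lev ((st a).net.perm i) = val (st a).lev i := by
    rw [← val_mapApp hgood.1, hsym]
  have h0 : (D (st a).s).testBit ((st a).net.perm i) = true := by
    have := hgood.2 i hi
    rwa [← hst] at this
  have h2 := h B hB _ h0 hM (h1 ▸ hlev)
  rw [hp, ← hst] at h2
  rw [← hst, ← h2, smul_smul, hg, one_smul]

/-- walk along a path (first step first) -/
theorem walk_of_walkP2 {D : Bool → ℕ} {f : Bool → ℕ → X} {B : ℕ} {N : ℕ} (l : List (Step2 G)) (a c : Bool)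
    (hch : Chain l.reverse a c) (hgood : ∀ s ∈ l, Good N D s) (hs : ∀ s ∈ l, Sound2 D f B s) (i : ℕ)
    (hi : (D a).testBit i = true)
    (h : walkP (l.map fun s => (s.net, s.lev)) B i = true) :
    ((l.map fun s => s.g).reverse.prod • f a i = f c ((l.map fun s => s.net.perm).reverse.prod i)) := by
  have key : ∀ (l : List (Step2 G)) (a c : Bool), Chain l.reverse a c → (∀ s ∈ l, Good N D s) →
      (∀ s ∈ l, Sound2 D f B s) → ∀ i, (D a).testBit i = true →
      walkP (l.map fun s => (s.net, s.lev)) B i = true →
      ((l.map fun s => s.g).reverse.prod • f a i = f c ((l.map fun s => s.net.perm).reverse.prod i)) := by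
    intro l
    induction l with
    | nil =>
      intro a c hch _ _ i _ _
      have hch' : a = c := hch
      subst hch'
      simp
    | cons s l ih =>
      intro a c hch hgood hs i hi h
      have hsplit : s.s = a ∧ Chain l.reverse s.t c := by
        clear ih hgood hs h hi
        rw [List.reverse_cons] at hch
        generalize l.reverse = m at hch
        induction m generalizing c with
        | nil =>
          obtain ⟨h1, h2⟩ := hch
          have h3 : a = s.s := h2
          exact ⟨h3.symm, h1⟩
        | cons u m ih =>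
          obtain ⟨h1, h2⟩ := hch
          obtain ⟨h3, h4⟩ := ih _ h2
          exact ⟨h3, h1, h4⟩
      obtain ⟨hsa, hch'⟩ := hsplit
      subst hsa
      rw [List.map_cons, walkP_cons, Bool.and_eq_true] at h
      obtain ⟨h1, h2⟩ := h
      have h1' : val s.lev i < B := by simpa [Nat.blt_eq] using h1
      have hg1 := hgood s (by simp)
      have h2' : walkP (l.map fun s => (s.net, s.lev)) B (s.net.perm i) = true := by
        rw [← Net.pt_eq hg1.1]; exact h2
      have h3 := ih s.t c hch' (fun t ht => hgood t (List.mem_cons_of_mem _ ht))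
        (fun t ht => hs t (List.mem_cons_of_mem _ ht)) (s.net.perm i) (hg1.2 i hi) h2'
      rw [List.map_cons, List.map_cons, List.reverse_cons, List.reverse_cons, List.prod_append,
        List.prod_append, List.prod_singleton, List.prod_singleton, Equiv.Perm.mul_apply, ← h3,
        mul_smul, hs s (by simp) i hi h1']
  exact key l a c hch hgood hs i hi h

/-- a single edge justified by a path (first step of `l` first) -/
theorem Jus2.of_path {D : Bool → ℕ} {N : ℕ} {f : Bool → ℕ → X} {st : ι → Step2 G} {a : ι}
    (l : List (Step2 G)) (i₀ : ℕ) (hch : Chain l.reverse (st a).s (st a).t)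
    (hs : ∀ B, (∀ b, Sound2 D f B (st b)) → ∀ s ∈ l, Sound2 D f B s)
    (hgood : ∀ s ∈ l, Good N D s)
    (hg : (l.map fun s => s.g).reverse.prod = (st a).g)
    (hp : (l.map fun s => s.net.perm).reverse.prod i₀ = (st a).net.perm i₀)
    (hc : walkP (l.map fun s => (s.net, s.lev)) (valK (st a).lev i₀) i₀ = true) :
    Jus2 D f st a (Nat.shiftLeft 1 i₀) := by
  intro B hB i hi hM hlev
  have hM' : (1 <<< i₀).testBit i = true := hM
  rw [Nat.one_shiftLeft, Nat.testBit_two_pow] at hM'
  have e : i₀ = i := by simpa using hM'
  subst e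
  rw [valK_eq] at hc
  have hs' : ∀ s ∈ l, Sound2 D f (val (st a).lev i₀) s := fun s hsl j hj hlt =>
    hs B hB s hsl j hj (lt_of_lt_of_le hlt hlev)
  have h3 := walk_of_walkP2 l _ _ hch hgood hs' i₀ hi hc
  rw [hg] at h3
  rw [h3, hp]

/-- a fixed point -/
theorem Jus2.of_fixed {D : Bool → ℕ} {f : Bool → ℕ → X} {st : ι → Step2 G} {a : ι} (i₀ : ℕ)
    (h : (st a).g • f (st a).s i₀ = f (st a).t ((st a).net.perm i₀)) :
    Jus2 D f st a (Nat.shiftLeft 1 i₀) := by
  intro B _ i _ hM _
  have hM' : (1 <<< i₀).testBit i = true := hM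
  rw [Nat.one_shiftLeft, Nat.testBit_two_pow] at hM'
  have e : i₀ = i := by simpa using hM'
  subst e
  exact h

/-- all points of the domain are in one of the masks -/
noncomputable def coverD (D : ℕ) (l : List ℕ) : Bool := Nat.beq (Nat.land D (orAll l)) D

theorem cover_of_coverD {D : ℕ} {l : List ℕ} (h : coverD D l = true) {i : ℕ} (hi : D.testBit i = true) :
    ∃ M ∈ l, M.testBit i = true := by
  have h' := Nat.eq_of_beq_eq_true h
  rw [← h', testBit_land', Bool.and_eq_true] at hi
  exact testBit_orAll l i hi.2

/-- the main induction -/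
theorem sound_of_cover2 {D : Bool → ℕ} {f : Bool → ℕ → X} {st : ι → Step2 G} (cov : ι → List ℕ)
    (hc : ∀ a, coverD (D (st a).s) (cov a) = true) (h : ∀ a, ∀ M ∈ cov a, Jus2 D f st a M) :
    ∀ a, ∀ i, (D (st a).s).testBit i = true → (st a).g • f (st a).s i = f (st a).t ((st a).net.perm i) := by
  have key : ∀ B, ∀ b, Sound2 D f B (st b) := by
    intro B
    induction B with
    | zero => intro b j _ hj; exact absurd hj (Nat.not_lt_zero _)
    | succ B ih =>
      intro b j hj hlt
      obtain ⟨M, hM, hM'⟩ := cover_of_coverD (hc b) hj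
      exact h b M hM B ih j hj hM' (Nat.le_of_lt_succ hlt)
  intro a i hi
  exact key (val (st a).lev i + 1) a i hi (Nat.lt_succ_self _)

/-! ### Words in letters with two kinds -/

/-- data of the letters and of the two conversions: `cv c a` leads from the numbering `a` to `c ≠ a` -/
structure Sys (ι : Type*) where
  kind : ι → Bool
  net : ι → Net
  lev : ι → List ℕ
  /-- from the numbering `true` to `false` -/
  pi : Net
  /-- from the numbering `false` to `true` -/
  pir : Net

/-- the step of a letter -/
def Sys.st (S : Sys ι) (x : ι → G) (a : ι) : Step2 G := ⟨x a, S.net a, S.lev a, S.kind a, S.kind a⟩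

/-- the conversion to the numbering `c` -/
def Sys.cv (S : Sys ι) (c : Bool) : Step2 G :=
  ⟨1, Bool.rec S.pi S.pir c, [], Bool.not c, c⟩

/-- the steps of a word, from the numbering `a` to the numbering `c` (the last letter acts first) -/
noncomputable def Sys.ex (S : Sys ι) (x : ι → G) (a : Bool) (l : List ι) : Bool → List (Step2 G) :=
  List.rec (motive := fun _ => Bool → List (Step2 G))
    (fun c => Bool.rec (Bool.rec [] [S.cv false] a) (Bool.rec [S.cv true] [] a) c)
    (fun b _ ih c => Bool.rec
      (Bool.rec (S.st x b :: ih false) (S.cv false :: S.st x b :: ih true) (S.kind b))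
      (Bool.rec (S.cv true :: S.st x b :: ih false) (S.st x b :: ih true) (S.kind b)) c) l

/-- kernel form of the data of a word -/
noncomputable def Sys.exN (S : Sys ι) (a : Bool) (l : List ι) : Bool → List (Net × List ℕ) :=
  List.rec (motive := fun _ => Bool → List (Net × List ℕ))
    (fun c => Bool.rec (Bool.rec [] [(S.pi, [])] a) (Bool.rec [(S.pir, [])] [] a) c)
    (fun b _ ih c => Bool.rec
      (Bool.rec ((S.net b, S.lev b) :: ih false) ((S.pi, []) :: (S.net b, S.lev b) :: ih true) (S.kind b))
      (Bool.rec ((S.pir, []) :: (S.net b, S.lev b) :: ih false) ((S.net b, S.lev b) :: ih true) (S.kind b)) c) l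

theorem Sys.ex_nil (S : Sys ι) (x : ι → G) (a c : Bool) :
    S.ex x a [] c = if a = c then [] else [S.cv c] := by
  cases a <;> cases c <;> rfl

theorem Sys.ex_cons (S : Sys ι) (x : ι → G) (a c : Bool) (b : ι) (l : List ι) :
    S.ex x a (b :: l) c =
      if S.kind b = c then S.st x b :: S.ex x a l (S.kind b) else S.cv c :: S.st x b :: S.ex x a l (S.kind b) := by
  show (Bool.rec
      (Bool.rec (S.st x b :: S.ex x a l false) (S.cv false :: S.st x b :: S.ex x a l true) (S.kind b))
      (Bool.rec (S.cv true :: S.st x b :: S.ex x a l false) (S.st x b :: S.ex x a l true) (S.kind b)) c :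
        List (Step2 G)) = _
  cases h : S.kind b <;> cases c <;> rfl

theorem Sys.exN_cons (S : Sys ι) (a c : Bool) (b : ι) (l : List ι) :
    S.exN a (b :: l) c =
      if S.kind b = c then (S.net b, S.lev b) :: S.exN a l (S.kind b)
      else (Bool.rec S.pi S.pir c, []) :: (S.net b, S.lev b) :: S.exN a l (S.kind b) := by
  show (Bool.rec
      (Bool.rec ((S.net b, S.lev b) :: S.exN a l false) ((S.pi, []) :: (S.net b, S.lev b) :: S.exN a l true) (S.kind b))
      (Bool.rec ((S.pir, []) :: (S.net b, S.lev b) :: S.exN a l false) ((S.net b, S.lev b) :: S.exN a l true)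
        (S.kind b)) c : List (Net × List ℕ)) = _
  cases h : S.kind b <;> cases c <;> rfl

theorem Sys.map_ex (S : Sys ι) (x : ι → G) (a c : Bool) (l : List ι) :
    (S.ex x a l c).map (fun s => (s.net, s.lev)) = S.exN a l c := by
  induction l generalizing c with
  | nil => cases a <;> cases c <;> rfl
  | cons b l ih =>
    rw [S.ex_cons, S.exN_cons]
    split_ifs
    · rw [List.map_cons, ih]; rfl
    · rw [List.map_cons, List.map_cons, ih]; rfl

theorem Sys.chain_ex (S : Sys ι) (x : ι → G) (a c : Bool) (l : List ι) : Chain (S.ex x a l c) a c := by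
  induction l generalizing c with
  | nil => cases a <;> cases c <;> first | exact rfl | exact ⟨rfl, rfl⟩
  | cons b l ih =>
    rw [S.ex_cons]
    split_ifs with h
    · exact ⟨h, ih _⟩
    · refine ⟨rfl, ?_, ih _⟩
      show S.kind b = Bool.not c
      revert h
      cases S.kind b <;> cases c <;> simp

theorem Sys.prod_ex (S : Sys ι) (x : ι → G) (a c : Bool) (l : List ι) :
    ((S.ex x a l c).map fun s => s.g).prod = (l.map x).prod := by
  induction l generalizing c with
  | nil => cases a <;> cases c <;> simp [S.ex_nil, Sys.cv]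
  | cons b l ih =>
    rw [S.ex_cons]
    split_ifs
    · rw [List.map_cons, List.prod_cons, ih, List.map_cons, List.prod_cons]; rfl
    · rw [List.map_cons, List.map_cons, List.prod_cons, List.prod_cons, ih, List.map_cons, List.prod_cons]
      show 1 * (x b * _) = _
      rw [one_mul]

/-- the permutation from a numbering to the numbering `false` -/
def Sys.toF (S : Sys ι) (c : Bool) : Equiv.Perm ℕ := if c then S.pi.perm else 1

/-- the permutation of a letter in the numbering `false` -/
def Sys.rho (S : Sys ι) (a : ι) : Equiv.Perm ℕ := S.toF (S.kind a) * (S.net a).perm * (S.toF (S.kind a))⁻¹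

theorem Sys.perm_ex (S : Sys ι) (hpir : S.pir.perm = S.pi.perm⁻¹) (x : ι → G) (a c : Bool) (l : List ι) :
    ((S.ex x a l c).map fun s => s.net.perm).prod = (S.toF c)⁻¹ * (l.map S.rho).prod * S.toF a := by
  induction l generalizing c with
  | nil =>
    cases a <;> cases c <;> simp [S.ex_nil, Sys.cv, Sys.toF, hpir]
  | cons b l ih =>
    rw [S.ex_cons]
    split_ifs with h
    · rw [List.map_cons, List.prod_cons, ih, List.map_cons, List.prod_cons]
      show (S.net b).perm * _ = _
      rw [Sys.rho, ← h]
      group
    · rw [List.map_cons, List.map_cons, List.prod_cons, List.prod_cons, ih, List.map_cons, List.prod_cons]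
      show (Bool.rec S.pi S.pir c : Net).perm * ((S.net b).perm * _) = _
      have h2 : (Bool.rec S.pi S.pir c : Net).perm = (S.toF c)⁻¹ * S.toF (S.kind b) := by
        revert h
        cases S.kind b <;> cases c <;> simp [Sys.toF, hpir]
      rw [h2, Sys.rho]
      group

/-- the conversions are sound -/
theorem Sys.sound_cv (S : Sys ι) (hpir : S.pir.perm = S.pi.perm⁻¹) {D : Bool → ℕ} {f : ℕ → X} (B : ℕ)
    (c : Bool) : Sound2 (G := G) D (fun c i => f (S.toF c i)) B (S.cv c) := by
  intro j _ _
  cases c
  · show (1 : G) • f (S.pi.perm j) = f (S.pi.perm j)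
    rw [one_smul]
  · show (1 : G) • f j = f (S.pi.perm (S.pir.perm j))
    rw [one_smul, hpir, ← Equiv.Perm.mul_apply, mul_inv_cancel, Equiv.Perm.one_apply]

/-- the steps of a word are letters and conversions -/
theorem Sys.mem_ex (S : Sys ι) (x : ι → G) (a c : Bool) (l : List ι) :
    ∀ s ∈ S.ex x a l c, (∃ b, s = S.st x b) ∨ ∃ d, s = S.cv d := by
  induction l generalizing c with
  | nil =>
    intro s hs
    rw [S.ex_nil] at hs
    split_ifs at hs
    · simp at hs
    · simp only [List.mem_singleton] at hs
      exact Or.inr ⟨c, hs⟩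
  | cons b l ih =>
    intro s hs
    rw [S.ex_cons] at hs
    split_ifs at hs
    · rcases List.mem_cons.1 hs with rfl | hs
      · exact Or.inl ⟨b, rfl⟩
      · exact ih _ s hs
    · rcases List.mem_cons.1 hs with rfl | hs
      · exact Or.inr ⟨c, rfl⟩
      rcases List.mem_cons.1 hs with rfl | hs
      · exact Or.inl ⟨b, rfl⟩
      · exact ih _ s hs

end sound

end Cfsg.Agent.SporRec.CosetBulk2
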