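import Cfsg.Agent.SporRec.CosetBulk

/-!
# Bulk static certificates for index upper bounds: several numberings of the points

A variant of `CosetBulk` with two numberings of the points (types of positions, `Bool`): the letters act by
short networks in one of the numberings, and words switch between the numberings by a network.
`F t : ℕ → X` is the labelling of the points in the numbering `t`, `V t` the mask of the valid positions.
-/

set_option autoImplicit false

namespace Cfsg.Agent.SporRec.CosetBulkT

open Cfsg.Agent.Lib.PermNet Cfsg.Agent.SporRec.CosetBulk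

/-- a letter with its group element, network, level planes and source and target numberings -/
structure TStep (G : Type*) where
  g : G
  net : Net
  lev : List ℕ
  src : Bool
  dst : Bool

section sound
variable {G X : Type*} [Group G] [MulAction G X] {ι : Type*}

/-- all edges of level `< B` of the letter `s` are correct -/
def Snd (V : Bool → ℕ) (F : Bool → ℕ → X) (B : ℕ) (s : TStep G) : Prop :=
  ∀ j, (V s.src).testBit j = true → val s.lev j < B → s.g • F s.src j = F s.dst (s.net.perm j)

/-- the network respects the valid positions -/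
def Stb (V : Bool → ℕ) (s : TStep G) : Prop :=
  ∀ j, (V s.src).testBit j = true → (V s.dst).testBit (s.net.perm j) = true

/-- the word `l` goes from numbering `a` to numbering `b` -/
def Chn : Bool → List (TStep G) → Bool → Prop
  | a, [], b => a = b
  | a, s :: l, b => s.dst = b ∧ Chn a l s.src

theorem walk {V : Bool → ℕ} {F : Bool → ℕ → X} {B : ℕ} {N : ℕ} (l : List (TStep G)) (a b : Bool)
    (hc : Chn a l b) (hok : ∀ s ∈ l, s.net.ok N = true) (hn : ∀ s ∈ l, Stb V s)
    (hs : ∀ s ∈ l, Snd V F B s) (acc : List ℕ) (i : ℕ) (hi : (V a).testBit i = true)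
    (h : val (pull (l.map fun s => (s.net, s.lev)) acc) i < B) :
    ((l.map fun s => s.g).prod • F a i = F b ((l.map fun s => s.net.perm).prod i)) ∧
      (V b).testBit ((l.map fun s => s.net.perm).prod i) = true ∧
      val acc ((l.map fun s => s.net.perm).prod i) < B := by
  induction l generalizing acc b with
  | nil =>
    have hab : a = b := hc
    subst hab
    simpa [pull_nil] using ⟨hi, h⟩
  | cons s l ih =>
    obtain ⟨hd, hc'⟩ := hc
    subst hd
    rw [List.map_cons, pull_cons] at h
    obtain ⟨h1, h2, h3⟩ := ih s.src hc' (fun t ht => hok t (List.mem_cons_of_mem _ ht))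
      (fun t ht => hn t (List.mem_cons_of_mem _ ht)) (fun t ht => hs t (List.mem_cons_of_mem _ ht)) _ h
    rw [val_maxP, val_mapApp (hok s (by simp))] at h3
    rw [max_lt_iff] at h3
    refine ⟨?_, ?_, ?_⟩
    · rw [List.map_cons, List.prod_cons, mul_smul, h1, hs s (by simp) _ h2 h3.1]
      rw [List.map_cons, List.prod_cons, Equiv.Perm.mul_apply]
    · rw [List.map_cons, List.prod_cons, Equiv.Perm.mul_apply]
      exact hn s (by simp) _ h2
    · rw [List.map_cons, List.prod_cons, Equiv.Perm.mul_apply]
      exact h3.2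

/-- the edges `(i, a)` with `i ∈ M` follow from edges of smaller level -/
def Jst (V : Bool → ℕ) (F : Bool → ℕ → X) (st : ι → TStep G) (a : ι) (M : ℕ) : Prop :=
  ∀ B, (∀ b, Snd V F B (st b)) → ∀ i, (V (st a).src).testBit i = true → M.testBit i = true →
    val (st a).lev i ≤ B → (st a).g • F (st a).src i = F (st a).dst ((st a).net.perm i)

theorem Jst.of_fact {V : Bool → ℕ} {F : Bool → ℕ → X} {st : ι → TStep G} {a : ι} {M : ℕ}
    (h : ∀ i, M.testBit i = true → (st a).g • F (st a).src i = F (st a).dst ((st a).net.perm i)) :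
    Jst V F st a M :=
  fun _ _ i _ hM _ => h i hM

theorem Jst.or {V : Bool → ℕ} {F : Bool → ℕ → X} {st : ι → TStep G} {a : ι} {M M' : ℕ}
    (h : Jst V F st a M) (h' : Jst V F st a M') : Jst V F st a (Nat.lor M M') := by
  intro B hB i hi hM hlev
  rw [testBit_lor', Bool.or_eq_true] at hM
  rcases hM with hM | hM
  · exact h B hB i hi hM hlev
  · exact h' B hB i hi hM hlev

theorem Jst.orAll {V : Bool → ℕ} {F : Bool → ℕ → X} {st : ι → TStep G} {a : ι} {l : List ℕ}
    (h : ∀ M ∈ l, Jst V F st a M) : Jst V F st a (orAll l) := by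
  intro B hB i hi hM hlev
  obtain ⟨M, hM, hM'⟩ := testBit_orAll l i hM
  exact h M hM B hB i hi hM' hlev

theorem Jst.of_rule {V : Bool → ℕ} {F : Bool → ℕ → X} {st : ι → TStep G} {a : ι} {N : ℕ}
    (l : List (TStep G)) (hc : Chn (st a).src l (st a).dst)
    (hs : ∀ B, (∀ b, Snd V F B (st b)) → ∀ s ∈ l, Snd V F B s)
    (hok : ∀ s ∈ l, s.net.ok N = true) (hn : ∀ s ∈ l, Stb V s)
    (hg : (l.map fun s => s.g).prod = (st a).g)
    (hp : (l.map fun s => s.net.perm).prod = (st a).net.perm) :
    Jst V F st a (ruleMask (l.map fun s => (s.net, s.lev)) (st a).lev) := by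
  intro B hB i hi hM hlev
  rw [ruleMask, testBit_ltP] at hM
  simp only [Nat.zero_testBit, Bool.false_eq_true, and_false, or_false] at hM
  obtain ⟨h3, -, -⟩ := walk l _ _ hc hok hn (hs B hB) [] i hi (lt_of_lt_of_le hM hlev)
  rw [hg, hp] at h3
  exact h3

/-- the other ends of the edges -/
theorem Jst.symm {V : Bool → ℕ} {F : Bool → ℕ → X} {st : ι → TStep G} {a a' : ι} {M : ℕ} {N : ℕ}
    (hsrc : (st a').src = (st a).dst) (hdst : (st a').dst = (st a).src)
    (hok : (st a').net.ok N = true) (hn : Stb V (st a'))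
    (hg : (st a').g = (st a).g⁻¹) (hp : (st a').net.perm = ((st a).net.perm)⁻¹)
    (hlev : ∀ i, val (st a').lev i = val (st a).lev ((st a').net.perm i)) (h : Jst V F st a M) :
    Jst V F st a' ((st a').net.app M) := by
  intro B hB i hi hM hl
  rw [testBit_app hok] at hM
  rw [hlev] at hl
  have hi' := hn i hi
  rw [hdst] at hi'
  have h2 := h B hB _ hi' hM hl
  have e : (st a).net.perm ((st a).net.perm⁻¹ i) = i := (st a).net.perm.apply_symm_apply i
  rw [hp, e] at h2
  rw [hg, hsrc, hdst, hp, ← h2, inv_smul_smul]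

/-- a fixed point -/
theorem Jst.of_fixed {V : Bool → ℕ} {F : Bool → ℕ → X} {st : ι → TStep G} {a : ι} (i₀ : ℕ)
    (h : (st a).g • F (st a).src i₀ = F (st a).dst ((st a).net.perm i₀)) :
    Jst V F st a (Nat.shiftLeft 1 i₀) := by
  intro B _ i _ hM _
  have hM' : (1 <<< i₀).testBit i = true := hM
  rw [Nat.one_shiftLeft, Nat.testBit_two_pow] at hM'
  have e : i₀ = i := by simpa using hM'
  subst e
  exact h

theorem walk_of_walkP {V : Bool → ℕ} {F : Bool → ℕ → X} {B : ℕ} {N : ℕ} (l : List (TStep G)) (a b : Bool)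
    (hc : Chn a l.reverse b) (hok : ∀ s ∈ l, s.net.ok N = true) (hn : ∀ s ∈ l, Stb V s)
    (hs : ∀ s ∈ l, Snd V F B s) (i : ℕ) (hi : (V a).testBit i = true)
    (h : walkP (l.map fun s => (s.net, s.lev)) B i = true) :
    ((l.map fun s => s.g).reverse.prod • F a i = F b ((l.map fun s => s.net.perm).reverse.prod i)) := by
  have app : ∀ (m : List (TStep G)) (a b : Bool) (s : TStep G), Chn a (m ++ [s]) b →
      s.src = a ∧ Chn s.dst m b := by
    intro m
    induction m with
    | nil =>
      intro a b s h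
      obtain ⟨h1, h2⟩ := h
      exact ⟨h2.symm, h1⟩
    | cons t m ih =>
      intro a b s h
      obtain ⟨h1, h2⟩ := h
      obtain ⟨h3, h4⟩ := ih a t.src s h2
      exact ⟨h3, h1, h4⟩
  induction l generalizing i a with
  | nil =>
    have hab : a = b := hc
    subst hab
    simp
  | cons s l ih =>
    rw [List.reverse_cons] at hc
    obtain ⟨hsrc, hc'⟩ := app _ _ _ _ hc
    subst hsrc
    rw [List.map_cons, walkP_cons, Bool.and_eq_true] at h
    obtain ⟨h1, h2⟩ := h
    have h1' : val s.lev i < B := by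
      simpa [Nat.blt_eq] using h1
    have hok1 := hok s (by simp)
    have h2' : walkP (l.map fun s => (s.net, s.lev)) B (s.net.perm i) = true := by
      rw [← Net.pt_eq hok1]; exact h2
    have h3 := ih s.dst hc' (fun t ht => hok t (List.mem_cons_of_mem _ ht))
      (fun t ht => hn t (List.mem_cons_of_mem _ ht)) (fun t ht => hs t (List.mem_cons_of_mem _ ht))
      (s.net.perm i) (hn s (by simp) i hi) h2'
    rw [List.map_cons, List.map_cons, List.reverse_cons, List.reverse_cons, List.prod_append,
      List.prod_append, List.prod_singleton, List.prod_singleton, Equiv.Perm.mul_apply, ← h3,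
      mul_smul, hs s (by simp) i hi h1']

/-- a single edge justified by two paths from a point `j₀` -/
theorem Jst.of_loop {V : Bool → ℕ} {F : Bool → ℕ → X} {st : ι → TStep G} {a : ι} {N : ℕ} {t : Bool} {j₀ : ℕ}
    (hj : (V t).testBit j₀ = true) (l₁ l₂ : List (TStep G)) (hc₁ : Chn t l₁.reverse (st a).src)
    (hc₂ : Chn t l₂.reverse (st a).dst)
    (hs₁ : ∀ B, (∀ b, Snd V F B (st b)) → ∀ s ∈ l₁, Snd V F B s)
    (hs₂ : ∀ B, (∀ b, Snd V F B (st b)) → ∀ s ∈ l₂, Snd V F B s)
    (hok₁ : ∀ s ∈ l₁, s.net.ok N = true) (hok₂ : ∀ s ∈ l₂, s.net.ok N = true)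
    (hn₁ : ∀ s ∈ l₁, Stb V s) (hn₂ : ∀ s ∈ l₂, Stb V s) (i₀ : ℕ)
    (hi₀ : (l₁.map fun s => s.net.perm).reverse.prod j₀ = i₀)
    (hi₁ : (l₂.map fun s => s.net.perm).reverse.prod j₀ = (st a).net.perm i₀)
    (hg : ((st a).g * (l₁.map fun s => s.g).reverse.prod) • F t j₀ = (l₂.map fun s => s.g).reverse.prod • F t j₀)
    (hw₁ : walkP (l₁.map fun s => (s.net, s.lev)) (valK (st a).lev i₀) j₀ = true)
    (hw₂ : walkP (l₂.map fun s => (s.net, s.lev)) (valK (st a).lev i₀) j₀ = true) :
    Jst V F st a (Nat.shiftLeft 1 i₀) := by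
  intro B hB i _ hM hlev
  have hM' : (1 <<< i₀).testBit i = true := hM
  rw [Nat.one_shiftLeft, Nat.testBit_two_pow] at hM'
  have e : i₀ = i := by simpa using hM'
  subst e
  rw [valK_eq] at hw₁ hw₂
  have mono : ∀ l : List (TStep G), (∀ s ∈ l, Snd V F B s) → ∀ s ∈ l, Snd V F (val (st a).lev i₀) s :=
    fun l hl s hsl j hj hlt => hl s hsl j hj (lt_of_lt_of_le hlt hlev)
  have h1 := walk_of_walkP l₁ t _ hc₁ hok₁ hn₁ (mono l₁ (hs₁ B hB)) j₀ hj hw₁
  have h2 := walk_of_walkP l₂ t _ hc₂ hok₂ hn₂ (mono l₂ (hs₂ B hB)) j₀ hj hw₂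
  rw [hi₀] at h1
  rw [hi₁] at h2
  rw [← h1, smul_smul, hg, h2]

/-- the main induction -/
theorem sound_of_jst {V : Bool → ℕ} {F : Bool → ℕ → X} {st : ι → TStep G} (M : ι → ℕ)
    (hM : ∀ a i, (V (st a).src).testBit i = true → (M a).testBit i = true) (h : ∀ a, Jst V F st a (M a)) :
    ∀ a i, (V (st a).src).testBit i = true →
      (st a).g • F (st a).src i = F (st a).dst ((st a).net.perm i) := by
  have key : ∀ B, ∀ b, Snd V F B (st b) := by
    intro B
    induction B with
    | zero => intro b j _ hj; exact absurd hj (Nat.not_lt_zero _)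
    | succ B ih =>
      intro b j hj hlt
      exact h b B ih j hj (hM b j hj) (Nat.le_of_lt_succ hlt)
  intro a i hi
  exact key (val (st a).lev i + 1) a i hi (Nat.lt_succ_self _)

end sound

/-- kernel check: `V` is contained in `M` -/
noncomputable def subB (V M : ℕ) : Bool := Nat.beq (Nat.land V M) V

theorem subB_spec {V M : ℕ} (h : subB V M = true) {i : ℕ} (hi : V.testBit i = true) : M.testBit i = true := by
  have h' := Nat.eq_of_beq_eq_true h
  rw [← h', testBit_land', Bool.and_eq_true] at hi
  exact hi.2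

/-- kernel check of the covering for an involution: `V` is contained in the union of the masks and their images -/
noncomputable def covI (V : ℕ) (L : Net) (l : List ℕ) : Bool :=
  seqB (orAll l) fun A => subB V (Nat.lor A (L.app A))

theorem covI_spec {V : ℕ} {L : Net} {l : List ℕ} (h : covI V L l = true) {i : ℕ} (hi : V.testBit i = true) :
    (Nat.lor (orAll l) (L.app (orAll l))).testBit i = true := by
  unfold covI at h
  rw [seqB_eq] at h
  exact subB_spec h hi

/-- kernel check of the covering for a letter and its inverse -/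
noncomputable def covG (V : ℕ) (L : Net) (l l' : List ℕ) : Bool :=
  seqB (orAll l') fun A' => seqB (orAll l) fun A => subB V (Nat.lor A (L.app A'))

theorem covG_spec {V : ℕ} {L : Net} {l l' : List ℕ} (h : covG V L l l' = true) {i : ℕ} (hi : V.testBit i = true) :
    (Nat.lor (orAll l) (L.app (orAll l'))).testBit i = true := by
  unfold covG at h
  rw [seqB_eq, seqB_eq] at h
  exact subB_spec h hi

end Cfsg.Agent.SporRec.CosetBulkT
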