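import Cfsg.Agent.SporRec.CosetBulk
import Cfsg.Agent.SporRec.Fi23Nets
import Cfsg.Agent.SporRec.Fi23Rel

/-!
# The permutations of the ten generators of `Fi₂₃` on 31671 points satisfy the relations
-/

set_option autoImplicit false
set_option linter.constructorNameAsVariable false

namespace Cfsg.Agent.SporRec.Fi23Perm

open Cfsg.Agent.Lib.PermNet Cfsg.Agent.SporRec.CosetBulk Cfsg.Agent.SporRec.Fi23Nets
  Cfsg.Agent.SporRec.Fi23Rel

/-- the network of a generator -/
noncomputable def net : Gen → Net
  | .a => net_a | .b => net_b | .c => net_c | .d => net_d | .e => net_e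
  | .f => net_f | .g => net_g | .j => net_j | .h => net_h | .i => net_i

/-- number of a generator -/
def idx : Gen → ℕ
  | .a => 0 | .b => 1 | .c => 2 | .d => 3 | .e => 4
  | .f => 5 | .g => 6 | .j => 7 | .h => 8 | .i => 9

theorem idx_inj : ∀ a b : Gen, idx a = idx b → a = b := by
  intro a b; cases a <;> cases b <;> first | (intro _; rfl) | (intro h; exact absurd h (by decide))

theorem adj_symm : ∀ a b : Gen, adj a b = adj b a := by
  intro a b; cases a <;> cases b <;> rfl

theorem ok (a : Gen) : (net a).ok (2 ^ 15) = true := by cases a <;> decide +kernel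

/-- the permutation of a generator -/
noncomputable def pm (a : Gen) : Equiv.Perm ℕ := (net a).perm

theorem wok (w : List Gen) : WOk (2 ^ 15) (w.map net) := by
  intro L hL
  obtain ⟨a, -, rfl⟩ := List.mem_map.1 hL
  exact ok a

theorem wperm_map (w : List Gen) : wperm (w.map net) = ev pm w := by
  rw [wperm, ev, List.map_map]; rfl

theorem chk_inv (a : Gen) : checkEq 15 ([a, a].map net) [] = true := by cases a <;> decide +kernel

theorem chk_comm (a b : Gen) (h : idx a < idx b) (h' : adj a b = false) :
    checkEq 15 ([a, b].map net) ([b, a].map net) = true := by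
  cases a <;> cases b <;>
    first
      | exact absurd h (by decide)
      | exact absurd h' (by decide)
      | decide +kernel

theorem chk_braid (a b : Gen) (h : idx a < idx b) (h' : adj a b = true) :
    checkEq 15 ([a, b, a].map net) ([b, a, b].map net) = true := by
  cases a <;> cases b <;>
    first
      | exact absurd h (by decide)
      | exact absurd h' (by decide)
      | decide +kernel

theorem isCox : IsCox pm where
  inv a := by
    have h := wperm_eq_one_of_checkEq (wok _) (chk_inv a)
    rw [wperm_map, ev_cons, ev_cons, ev_nil, mul_one] at h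
    exact h
  comm a b h := by
    rcases lt_trichotomy (idx a) (idx b) with hlt | heq | hgt
    · have h1 := wperm_eq_of_checkEq (wok _) (wok _) (chk_comm a b hlt h)
      rw [wperm_map, wperm_map] at h1
      simpa only [ev_cons, ev_nil, mul_one] using h1
    · rw [idx_inj a b heq]
    · have h1 := wperm_eq_of_checkEq (wok _) (wok _) (chk_comm b a hgt (by rw [adj_symm]; exact h))
      rw [wperm_map, wperm_map] at h1
      simp only [ev_cons, ev_nil, mul_one] at h1
      exact h1.symm
  braid a b h := by
    rcases lt_trichotomy (idx a) (idx b) with hlt | heq | hgt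
    · have h1 := wperm_eq_of_checkEq (wok _) (wok _) (chk_braid a b hlt h)
      rw [wperm_map, wperm_map] at h1
      simpa only [ev_cons, ev_nil, mul_one, mul_assoc] using h1
    · rw [idx_inj a b heq]
    · have h1 := wperm_eq_of_checkEq (wok _) (wok _) (chk_braid b a hgt (by rw [adj_symm]; exact h))
      rw [wperm_map, wperm_map] at h1
      simp only [ev_cons, ev_nil, mul_one] at h1
      simpa only [mul_assoc] using h1.symm

/-- repetition of a word -/
def rep (k : ℕ) (w : List Gen) : List Gen := (List.replicate k w).flatten

theorem ev_rep {G : Type*} [Group G] (x : Gen → G) (k : ℕ) (w : List Gen) : ev x (rep k w) = ev x w ^ k := by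
  induction k with
  | zero => simp [rep, ev_nil]
  | succ k ih =>
    rw [rep, List.replicate_succ, List.flatten_cons, ev_append, ← rep, ih, pow_succ']

theorem chk_spider (b : ℕ) (hb : b < 15) : checkPlane 15 ((rep 10 spiderW).map net) [] b = true := by
  interval_cases b <;> decide +kernel

theorem chk_e7 (b : ℕ) (hb : b < 15) : checkPlane 15 ((rep 9 e7W).map net) [] b = true := by
  interval_cases b <;> decide +kernel

theorem spider : ev pm spiderW ^ 10 = 1 := by
  have h := wperm_eq_of_planes (wok (rep 10 spiderW)) (WOk.nil _) chk_spider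
  rwa [wperm_map, wperm_nil, ev_rep] at h

theorem e7 : ev pm e7W ^ 9 = 1 := by
  have h := wperm_eq_of_planes (wok (rep 9 e7W)) (WOk.nil _) chk_e7
  rwa [wperm_map, wperm_nil, ev_rep] at h

theorem T : ev pm tW ^ 4 = 1 := isCox.T spider

/-- the permutation representation of the presented group `Fi₂₃` -/
noncomputable def φ : Cfsg.Spor.Fi23 →* Equiv.Perm ℕ := toHom isCox spider e7

theorem φ_gen (a : Gen) : φ (gen a) = pm a := toHom_gen _ _ _ a

theorem chk_range (a : Gen) : rangeCheck (net a) 31671 = true := by cases a <;> decide +kernel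

theorem pm_lt_iff (a : Gen) (i : ℕ) : pm a i < 31671 ↔ i < 31671 :=
  lt_iff_of_rangeCheck (ok a) (chk_range a) i

theorem pm_pm (a : Gen) (i : ℕ) : pm a (pm a i) = i := by
  rw [← Equiv.Perm.mul_apply, isCox.inv]; rfl

theorem chk_fix (a : Gen) (h : a ≠ .j) : Nat.beq ((net a).pt 0) 0 = true := by
  cases a <;> first | exact absurd rfl h | decide +kernel

theorem pm_zero (a : Gen) (h : a ≠ .j) : pm a 0 = 0 := by
  have h1 := Nat.eq_of_beq_eq_true (chk_fix a h)
  rwa [Net.pt_eq (ok a)] at h1

end Cfsg.Agent.SporRec.Fi23Perm
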