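import Cfsg.Agent.SporRec.Fi23Perm

/-!
# The coset enumeration of `Fi₂₃` over `⟨a, …, i⟩` for an arbitrary group

`exists_label`: if elements `x a, …, x i` of a group satisfy the Coxeter relations of `Y₃₄₂` and
`(bcdhefdecdhi)^4 = 1` (a consequence of the spider relation) and the group acts on `X`, and all the
generators but `j` fix `p`, then there is a labelling `f` of the orbit of `p` by the 31671 points.
-/

set_option autoImplicit false
set_option linter.constructorNameAsVariable false
set_option linter.unusedSectionVars false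

namespace Cfsg.Agent.SporRec.Fi23Upper

open Cfsg.Agent.Lib.PermNet Cfsg.Agent.SporRec.CosetBulk Cfsg.Agent.SporRec.Fi23Nets
  Cfsg.Agent.SporRec.Fi23Rel Cfsg.Agent.SporRec.Fi23Perm

/-- level planes of a generator -/
noncomputable def lev : Gen → List ℕ
  | .a => lev_a | .b => lev_b | .c => lev_c | .d => lev_d | .e => lev_e
  | .f => lev_f | .g => lev_g | .j => lev_j | .h => lev_h | .i => lev_i

/-- tree mask of a generator -/
noncomputable def tree : Gen → ℕ
  | .a => tree_a | .b => tree_b | .c => tree_c | .d => tree_d | .e => tree_e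
  | .f => tree_f | .g => tree_g | .j => tree_j | .h => tree_h | .i => tree_i

/-- the word of a square or hexagon rule -/
def ruleW (a b : Gen) : List Gen := if adj a b = true then [b, a, b, a, b] else [b, a, b]

/-- all generators but `a` -/
def others (a : Gen) : List Gen :=
  ([.a, .b, .c, .d, .e, .f, .g, .j, .h, .i] : List Gen).filter fun b => b ≠ a

/-- the relator of length 48 -/
def T48 : List Gen := rep 4 tW

/-- the exceptional edges: point and rotation of `T48` -/
def special : Gen → List (ℕ × ℕ)
  | .i => [(379, 12)]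
  | .e => [(13937, 8), (13277, 8)]
  | .h => [(5307, 11), (1739, 11)]
  | .f => [(29672, 6)]
  | .c => [(29985, 2)]
  | _ => []

/-- the path after the letter in the rotated relator -/
def path (m : ℕ) : List Gen := (T48.rotate m).dropLast

theorem path_append (a : Gen) (s : ℕ × ℕ) (hs : s ∈ special a) : T48.rotate s.2 = path s.2 ++ [a] := by
  revert s
  cases a <;> decide

/-- the data of a word -/
noncomputable def dat (w : List Gen) : List (Net × List ℕ) := w.map fun c => (net c, lev c)

/-- masks covering all points -/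
noncomputable def cov (a : Gen) : List ℕ :=
  tree a :: (net a).app (tree a) ::
    (((if a = .j then [] else [Nat.shiftLeft 1 0]) ++ (others a).map (fun b => ruleMask (dat (ruleW a b)) (lev a))) ++
      ((special a).map (fun s => Nat.shiftLeft 1 s.1) ++
        (special a).map (fun s => (net a).app (Nat.shiftLeft 1 s.1))))

theorem chk_cov (a : Gen) : coverCheck 31671 (cov a) = true := by
  cases a <;> decide +kernel

theorem chk_special (a : Gen) (s : ℕ × ℕ) (hs : s ∈ special a) :
    walkP (dat (path s.2)) (valK (lev a) s.1) s.1 = true := by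
  revert s
  cases a <;> simp only [special, List.mem_cons, List.not_mem_nil, or_false, forall_eq_or_imp, forall_eq,
    false_imp_iff, implies_true] <;> (try refine ⟨?_, ?_⟩) <;> decide +kernel

theorem chk_sym (a : Gen) : mapApp (net a) (lev a) = lev a := by
  cases a <;> decide +kernel

theorem chk_tree (a : Gen) : treeCheck (net a) rk (tree a) = true := by
  cases a <;> decide +kernel

theorem chk_root (a : Gen) : (tree a).testBit 0 = false := by
  cases a <;> decide +kernel

theorem chk_disj (a b : Gen) (h : idx a < idx b) : Nat.beq (Nat.land (tree a) (tree b)) 0 = true := by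
  cases a <;> cases b <;>
    first
      | exact absurd h (by decide)
      | decide +kernel

theorem tree_disj (a b : Gen) (i : ℕ) (ha : (tree a).testBit i = true) (hb : (tree b).testBit i = true) :
    a = b := by
  rcases lt_trichotomy (idx a) (idx b) with h | h | h
  · exact (disj_of_land (chk_disj a b h) ha hb).elim
  · exact idx_inj a b h
  · exact (disj_of_land (chk_disj b a h) hb ha).elim

theorem tree_lt (a : Gen) (i : ℕ) (ha : (tree a).testBit i = true) : val rk (pm a i) < val rk i :=
  lt_of_treeCheck (ok a) (chk_tree a) ha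

section gen
variable {G X : Type*} [Group G] [MulAction G X]

/-- the steps -/
noncomputable def st (x : Gen → G) (a : Gen) : Step G := ⟨x a, net a, lev a⟩

theorem ev_rule {x : Gen → G} (h : IsCox x) (a b : Gen) : ev x (ruleW a b) = x a := by
  unfold ruleW
  split_ifs with hab
  · simp only [ev_cons, ev_nil, mul_one]
    have h1 := h.braid a b hab
    calc x b * (x a * (x b * (x a * x b))) = x b * (x a * x b * x a) * x b := by simp only [mul_assoc]
      _ = x b * (x b * x a * x b) * x b := by rw [h1]
      _ = (x b * x b) * x a * (x b * x b) := by simp only [mul_assoc]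
      _ = x a := by rw [h.inv, one_mul, mul_one]
  · simp only [ev_cons, ev_nil, mul_one]
    have h1 := h.comm a b (by simpa using hab)
    rw [h1, ← mul_assoc, h.inv, one_mul]

theorem ev_rotate {x : Gen → G} (w : List Gen) (h : ev x w = 1) (m : ℕ) (hm : m ≤ w.length) :
    ev x (w.rotate m) = 1 := by
  rw [List.rotate_eq_drop_append_take hm, ev_append]
  have h2 : ev x (w.take m) * ev x (w.drop m) = 1 := by
    rw [← ev_append, List.take_append_drop, h]
  rw [mul_eq_one_iff_eq_inv.1 h2, mul_inv_cancel]

theorem special_le (a : Gen) (s : ℕ × ℕ) (hs : s ∈ special a) : s.2 ≤ T48.length := by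
  revert s
  cases a <;> decide

theorem special_lt (a : Gen) (s : ℕ × ℕ) (hs : s ∈ special a) : s.1 < 31671 := by
  revert s
  cases a <;> decide

theorem ev_path {x : Gen → G} (h : IsCox x) (hT : ev x tW ^ 4 = 1) (a : Gen) (s : ℕ × ℕ)
    (hs : s ∈ special a) : ev x (path s.2).reverse = x a := by
  have h1 : ev x T48 = 1 := by rw [T48, ev_rep, hT]
  have h2 := ev_rotate T48 h1 s.2 (special_le a s hs)
  rw [path_append a s hs, ev_append, ev_cons, ev_nil, mul_one] at h2
  rw [ev_reverse h, ← mul_eq_one_iff_eq_inv.1 ?_]
  rw [mul_eq_one_iff_eq_inv.1 h2, mul_inv_cancel]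

theorem map_g (x : Gen → G) (w : List Gen) : ((w.map (st x)).map fun s => s.g) = w.map x := by
  rw [List.map_map]; rfl

theorem map_perm (x : Gen → G) (w : List Gen) : ((w.map (st x)).map fun s => s.net.perm) = w.map pm := by
  rw [List.map_map]; rfl

theorem map_dat (x : Gen → G) (w : List Gen) : ((w.map (st x)).map fun s => (s.net, s.lev)) = dat w := by
  rw [List.map_map]; rfl

theorem sound_map {n B : ℕ} {f : ℕ → X} (x : Gen → G) (w : List Gen) (h : ∀ b, Sound n f B (st x b)) :
    ∀ s ∈ w.map (st x), Sound n f B s := by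
  intro s hs
  obtain ⟨a, -, rfl⟩ := List.mem_map.1 hs
  exact h a

theorem ok_map (x : Gen → G) (w : List Gen) : ∀ s ∈ w.map (st x), s.net.ok (2 ^ 15) = true := by
  intro s hs
  obtain ⟨a, -, rfl⟩ := List.mem_map.1 hs
  exact ok a

theorem lt_map (x : Gen → G) (w : List Gen) : ∀ s ∈ w.map (st x), ∀ j < 31671, s.net.perm j < 31671 := by
  intro s hs j hj
  obtain ⟨a, -, rfl⟩ := List.mem_map.1 hs
  exact (pm_lt_iff a j).2 hj

/-- the labelling of the orbit -/
theorem exists_label (x : Gen → G) (h : IsCox x) (hT : ev x tW ^ 4 = 1) (p : X)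
    (hp : ∀ a, a ≠ .j → x a • p = p) :
    ∃ f : ℕ → X, f 0 = p ∧ ∀ a, ∀ i < 31671, x a • f i = f (pm a i) := by
  obtain ⟨f, hf0, hf⟩ := exists_tree (n := 31671) x (fun a i => pm a i) tree (val rk) p 0 chk_root
    tree_disj (fun a i _ hi => tree_lt a i hi)
  refine ⟨f, hf0, ?_⟩
  refine sound_of_cover (n := 31671) (f := f) (st := st x) cov chk_cov ?_
  intro a M hM
  have htree : Jus 31671 f (st x) a (tree a) := Jus.of_fact (fun i hi hM => hf a i hi hM)
  have hsymm : ∀ {M' : ℕ}, Jus 31671 f (st x) a M' → Jus 31671 f (st x) a ((net a).app M') :=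
    fun h' => Jus.symm (a := a) (ok a) (fun j hj => (pm_lt_iff a j).2 hj) (h.inv a) (pm_pm a) (chk_sym a) h'
  have hsp : ∀ s ∈ special a, Jus 31671 f (st x) a (Nat.shiftLeft 1 s.1) := by
    intro s hs
    refine Jus.of_path (N := 2 ^ 15) ((path s.2).map (st x)) s.1 (fun B hB => sound_map x _ hB) (ok_map x _)
      (lt_map x _) ?_ ?_ ?_
    · rw [map_g, ← List.map_reverse]; exact ev_path h hT a s hs
    · rw [map_perm, ← List.map_reverse]
      exact congrArg (fun q : Equiv.Perm ℕ => q s.1) (ev_path isCox T a s hs)
    · rw [map_dat]; exact chk_special a s hs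
  simp only [cov, List.mem_cons, List.mem_append, List.mem_map] at hM
  rcases hM with rfl | rfl | (hM | ⟨b, -, rfl⟩) | (⟨s, hs, rfl⟩ | ⟨s, hs, rfl⟩)
  · exact htree
  · exact hsymm htree
  · split_ifs at hM with haj
    · exact absurd hM (by simp)
    · rw [List.mem_singleton] at hM
      subst hM
      exact Jus.of_fixed 0 (by rw [hf0]; exact hp a haj) (pm_zero a haj)
  · rw [← map_dat x (ruleW a b)]
    refine Jus.of_rule_mask (N := 2 ^ 15) ((ruleW a b).map (st x)) (fun B hB => sound_map x _ hB) (ok_map x _)
      (lt_map x _) ?_ ?_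
    · rw [map_g]; exact ev_rule h a b
    · intro i _
      rw [map_perm]
      exact congrArg (fun q : Equiv.Perm ℕ => q i) (ev_rule isCox a b)
  · exact hsp s hs
  · exact hsymm (hsp s hs)

end gen

end Cfsg.Agent.SporRec.Fi23Upper
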