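import Cfsg.Agent.SporRec.Fi24TUpDef

/-! Kernel checks of the coset enumeration of `Fi₂₄`. -/

set_option autoImplicit false
set_option maxRecDepth 100000
set_option Elab.async false

namespace Cfsg.Agent.SporRec.Fi24TUpChkA

open Cfsg.Agent.Lib.PermNet Cfsg.Agent.SporRec.CosetBulk Cfsg.Agent.SporRec.CosetBulk2
  Cfsg.Agent.SporRec.Fi24TUpDef
open Cfsg.Agent.Fischer.Fi24RepDef (net)
open Cfsg.Spor.Fi24 (Gen)

theorem cov_l : coverD (D (kind .l)) (cov .l) = true := by decide +kernel
theorem cov_k : coverD (D (kind .k)) (cov .k) = true := by decide +kernel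
theorem cov_a : coverD (D (kind .a)) (cov .a) = true := by decide +kernel

end Cfsg.Agent.SporRec.Fi24TUpChkA
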