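import Cfsg.Agent.SporRec.CosetBulk2
import Cfsg.Agent.SporRec.Fi24TLevA
import Cfsg.Agent.SporRec.Fi24TLevB
import Cfsg.Agent.SporRec.Fi24TLevC
import Cfsg.Agent.SporRec.Fi24TLevD
import Cfsg.Agent.SporRec.Fi24TLevE
import Cfsg.Agent.SporRec.Fi24TLevF
import Cfsg.Agent.SporRec.Fi24TRk
import Cfsg.Agent.Fischer.Fi24RepOrb

/-!
# Definitions for the coset enumeration of `Fi₂₄` over `⟨a, …, j, l⟩`, variant with `[k, t] = 1`

The points and the networks are those of `Cfsg.Agent.Fischer.Fi24RepDef` (two numberings).
-/

set_option autoImplicit false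
set_option maxRecDepth 100000
set_option linter.constructorNameAsVariable false

namespace Cfsg.Agent.SporRec.Fi24TUpDef

open Cfsg.Agent.Lib.PermNet Cfsg.Agent.SporRec.CosetBulk Cfsg.Agent.SporRec.CosetBulk2
open Cfsg.Agent.SporRec.Fi24TLevA Cfsg.Agent.SporRec.Fi24TLevB Cfsg.Agent.SporRec.Fi24TLevC
  Cfsg.Agent.SporRec.Fi24TLevD Cfsg.Agent.SporRec.Fi24TLevE Cfsg.Agent.SporRec.Fi24TLevF
open Cfsg.Agent.Fischer.Fi24RepDef (net adj rep c0)
open Cfsg.Agent.Fischer.Fi24RepPi (pi pir)
open Cfsg.Spor.Fi24 (Gen)

/-- level planes of a generator, in its own numbering -/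
noncomputable def lev : Gen → List ℕ
  | .l => lev_l | .k => lev_k | .a => lev_a | .b => lev_b | .c => lev_c | .d => lev_d
  | .e => lev_e | .f => lev_f | .g => lev_g | .j => lev_j | .h => lev_h | .i => lev_i

/-- tree mask of a generator, in its own numbering -/
noncomputable def tree : Gen → ℕ
  | .l => tree_l | .k => tree_k | .a => tree_a | .b => tree_b | .c => tree_c | .d => tree_d
  | .e => tree_e | .f => tree_f | .g => tree_g | .j => tree_j | .h => tree_h | .i => tree_i

/-- the numbering in which a generator acts by a short network (`false`: the first one) -/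
def kind : Gen → Bool
  | .l => false | .k => true | .a => false | .b => true | .c => false | .d => true
  | .e => false | .f => true | .g => false | .j => true | .h => false | .i => true

/-- the system of letters -/
noncomputable def S : Sys Gen := ⟨kind, net, lev, pi, pir⟩

/-- the set of points in the two numberings -/
noncomputable def D (c : Bool) : ℕ :=
  Bool.rec Cfsg.Agent.Fischer.Fi24RepOrb.UG (pi.app Cfsg.Agent.Fischer.Fi24RepOrb.UG) c

/-- the base point in the two numberings -/
def root (c : Bool) : ℕ := Bool.rec 0 308096 c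

/-- adjacency in the diagram -/
def adj2 (a b : Gen) : Bool := adj a b || adj b a

/-- the word of a square or hexagon rule -/
def ruleW (a b : Gen) : List Gen := Bool.rec [b, a, b] [b, a, b, a, b] (adj2 a b)

/-- all generators -/
def gens : List Gen := [.l, .k, .a, .b, .c, .d, .e, .f, .g, .j, .h, .i]

/-- all generators but `a` -/
def others (a : Gen) : List Gen := gens.filter fun b => decide (b ≠ a)

/-- the relator of length 64 -/
def W64 : List Gen := .l :: rep 9 c0

/-- the word of the transposition `t` (of length 71) -/
def tW : List Gen := [.a, .b, .c, .d, .h, .i, .e, .d, .h, .f, .g, .e, .f, .c, .d, .e, .b, .c, .d, .h, .i, .f, .d, .e, .b, .c, .d, .h, .j, .g, .f, .e, .d, .c, .b, .a, .b, .c, .d, .e, .f, .g, .j, .h, .d, .c, .b, .e, .d, .f, .i, .h, .d, .c, .b, .e, .d, .c, .f, .e, .g, .f, .h, .d, .e, .i, .h, .d, .c, .b, .a]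

/-- the relator of length 144 -/
def W144 : List Gen := .k :: (tW ++ (.k :: tW))

/-- the relators of the exceptional edges -/
def relW (b : Bool) : List Gen := Bool.rec W64 W144 b

/-- the exceptional edges: point, rotation, relator -/
def special : Gen → List (ℕ × ℕ × Bool)
  | .h => [(301844, 50, false)]
  | .d => [(291032, 47, false), (295205, 26, false)]
  | .f => [(280719, 49, false)]
  | .c => [(196481, 32, false)]
  | .a => [(276672, 37, true)]
  | _ => []

/-- the path after the letter in the rotated relator -/
def path (m : ℕ) (b : Bool) : List Gen := ((relW b).rotate m).dropLast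

/-- the data of a rule -/
noncomputable def datR (a b : Gen) : List (Net × List ℕ) := S.exN (kind a) (ruleW a b) (kind a)

/-- the data of a path -/
noncomputable def datP (a : Gen) (m : ℕ) (b : Bool) : List (Net × List ℕ) :=
  (S.exN (kind a) (path m b).reverse (kind a)).reverse

/-- masks covering all points -/
noncomputable def cov (a : Gen) : List ℕ :=
  tree a :: (net a).app (tree a) ::
    (((if a = .k then [] else [Nat.shiftLeft 1 (root (kind a))]) ++
      (others a).map (fun b => ruleMask (datR a b) (lev a))) ++
      ((special a).map (fun s => Nat.shiftLeft 1 s.1) ++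
        (special a).map (fun s => (net a).app (Nat.shiftLeft 1 s.1))))

end Cfsg.Agent.SporRec.Fi24TUpDef
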