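import Cfsg.Agent.SporRec.Fi24UpChkA
import Cfsg.Agent.SporRec.Fi24UpChkB
import Cfsg.Agent.SporRec.Fi24UpChkC
import Cfsg.Agent.SporRec.Fi24UpChkD

/-!
# The coset enumeration of `Fi₂₄` over `⟨a, …, j, l⟩` for an arbitrary group

`exists_label`: if elements `x l, …, x i` of a group satisfy the relations of `Fi₂₄`, the group acts on `X`,
and all the generators but `k` fix `p`, then there is a labelling `f` of the orbit of `p` by the 306936 points.
-/

set_option autoImplicit false
set_option maxRecDepth 100000
set_option linter.constructorNameAsVariable false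
set_option linter.unusedSectionVars false
set_option Elab.async false

namespace Cfsg.Agent.SporRec.Fi24Upper

open Cfsg.Agent.Lib.PermNet Cfsg.Agent.SporRec.CosetBulk Cfsg.Agent.SporRec.CosetBulk2
  Cfsg.Agent.SporRec.Fi24UpDef Cfsg.Agent.SporRec.Fi24Rk
open Cfsg.Agent.Fischer.Fi24RepDef (net adj rep c0 fst rho0 ok_net ok_pi ok_pir perm_pir rho0_fst rho0_snd)
open Cfsg.Agent.Fischer.Fi24RepPi (pi pir)
open Cfsg.Agent.Fischer.Fi24Rep (rho0_sq rho0_comm rho0_braid net_sq prd c_pow w_pow)
open Cfsg.Spor.Fi24 (Gen)

theorem chk_cov (a : Gen) : coverD (D (kind a)) (cov a) = true := by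
  cases a
  · exact Fi24UpChkA.cov_l
  · exact Fi24UpChkA.cov_k
  · exact Fi24UpChkA.cov_a
  · exact Fi24UpChkB.cov_b
  · exact Fi24UpChkB.cov_c
  · exact Fi24UpChkB.cov_d
  · exact Fi24UpChkC.cov_e
  · exact Fi24UpChkC.cov_f
  · exact Fi24UpChkC.cov_g
  · exact Fi24UpChkD.cov_j
  · exact Fi24UpChkD.cov_h
  · exact Fi24UpChkD.cov_i

theorem kind_fst (a : Gen) : kind a = !(fst a) := by cases a <;> rfl

theorem rho_eq (a : Gen) : S.rho a = rho0 a := by
  unfold Sys.rho Sys.toF
  show (if kind a = true then pi.perm else 1) * (net a).perm * (if kind a = true then pi.perm else 1)⁻¹ = rho0 a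
  rw [kind_fst]
  cases h : fst a
  · rw [rho0_snd h]; simp
  · rw [rho0_fst h]; simp

/-! ### Kernel checks -/

theorem chk_sym (a : Gen) : mapApp (net a) (lev a) = lev a := by
  cases a <;> decide +kernel

/-- the rank planes in the two numberings -/
noncomputable def rkD (c : Bool) : List ℕ := Bool.rec rk (mapApp pi rk) c

theorem chk_tree (a : Gen) : treeCheck (net a) (rkD (kind a)) (tree a) = true := by
  cases a <;> decide +kernel

/-- the tree mask in the first numbering -/
noncomputable def treeF (a : Gen) : ℕ := Bool.rec (tree a) (pir.app (tree a)) (kind a)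

theorem chk_root (a : Gen) : tb (treeF a) 0 = false := by
  cases a <;> decide +kernel

/-- pairwise disjoint masks: kernel check -/
noncomputable def disjL (l : List ℕ) : ℕ → Bool :=
  List.rec (motive := fun _ => ℕ → Bool) (fun _ => true)
    (fun p _ ih acc => and (Nat.beq (Nat.land p acc) 0) (seqB (Nat.lor p acc) ih)) l

theorem disjL_spec (l : List ℕ) (acc : ℕ) (h : disjL l acc = true) :
    (∀ p ∈ l, p &&& acc = 0) ∧ l.Pairwise (fun p q => p &&& q = 0) := by
  induction l generalizing acc with
  | nil => exact ⟨by simp, List.Pairwise.nil⟩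
  | cons p l ih =>
    have h' : (Nat.beq (Nat.land p acc) 0 && seqB (Nat.lor p acc) (disjL l)) = true := h
    rw [Bool.and_eq_true, seqB_eq] at h'
    obtain ⟨h1, h2⟩ := h'
    obtain ⟨h3, h4⟩ := ih _ h2
    have h1' : p &&& acc = 0 := Nat.eq_of_beq_eq_true h1
    have h3' : ∀ q ∈ l, q &&& p = 0 ∧ q &&& acc = 0 := by
      intro q hq
      have h5 : q &&& (p ||| acc) = 0 := h3 q hq
      rw [Nat.and_or_distrib_left, Nat.or_eq_zero_iff] at h5
      exact h5
    refine ⟨?_, List.pairwise_cons.2 ⟨?_, h4⟩⟩
    · intro q hq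
      rcases List.mem_cons.1 hq with rfl | hq
      · exact h1'
      · exact (h3' q hq).2
    · intro q hq
      rw [Nat.and_comm]
      exact (h3' q hq).1

theorem chk_disj : disjL (gens.map treeF) 0 = true := by decide +kernel

theorem mem_gens (a : Gen) : a ∈ gens := by cases a <;> decide

theorem tree_disj (a b : Gen) (i : ℕ) (ha : (treeF a).testBit i = true) (hb : (treeF b).testBit i = true) :
    a = b := by
  by_contra hab
  have h := (disjL_spec _ _ chk_disj).2
  rw [List.pairwise_map] at h
  have h2 : treeF a &&& treeF b = 0 := by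
    have : Std.Symm (fun x y : Gen => treeF x &&& treeF y = 0) :=
      ⟨fun x y hxy => by rw [Nat.and_comm]; exact hxy⟩
    exact h.forall (mem_gens a) (mem_gens b) hab
  have h3 := congrArg (fun x => Nat.testBit x i) h2
  simp only [Nat.testBit_and, ha, hb, Nat.zero_testBit] at h3
  exact absurd h3 (by simp)

theorem chk_dom_pi : Nat.beq (pir.app (D true)) (D false) = true := by decide +kernel

theorem chk_dom (a : Gen) : Nat.beq ((net a).app (D (kind a))) (D (kind a)) = true := by
  cases a <;> decide +kernel

theorem chk_path (a : Gen) (s : ℕ × ℕ × Bool) (hs : s ∈ special a) :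
    walkP (datP a s.2.1 s.2.2) (valK (lev a) s.1) s.1 = true := by
  revert s
  cases a <;> simp only [special, List.mem_cons, List.not_mem_nil, or_false, forall_eq_or_imp, forall_eq,
    false_imp_iff, implies_true] <;> (try refine ⟨?_, ?_, ?_⟩) <;> decide +kernel

theorem path_append (a : Gen) (s : ℕ × ℕ × Bool) (hs : s ∈ special a) :
    (relW s.2.2).rotate s.2.1 = path s.2.1 s.2.2 ++ [a] := by
  revert s
  cases a <;> decide +kernel

theorem special_le (a : Gen) (s : ℕ × ℕ × Bool) (hs : s ∈ special a) : s.2.1 ≤ (relW s.2.2).length := by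
  revert s
  cases a <;> decide +kernel

theorem chk_zero (a : Gen) (h : a ≠ .k) : Nat.beq ((net a).pt (root (kind a))) (root (kind a)) = true := by
  cases a <;> first | exact absurd rfl h | decide +kernel

theorem chk_rootT : Nat.beq (pi.pt 308096) 0 = true := by decide +kernel

/-! ### Consequences -/

theorem testBit_D (j : ℕ) : (D true).testBit j = (D false).testBit (pi.perm j) := by
  have h : D true = pi.app (D false) := rfl
  rw [h, testBit_app ok_pi]

theorem good_cv (c : Bool) {G : Type*} [Group G] : Good (G := G) 327680 D (S.cv c) := by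
  have hpi := testBit_D
  cases c
  · refine ⟨ok_pi, fun j hj => ?_⟩
    show (D false).testBit (pi.perm j) = true
    rw [← hpi]; exact hj
  · refine ⟨ok_pir, fun j hj => ?_⟩
    show (D true).testBit (pir.perm j) = true
    rw [hpi, perm_pir, ← Equiv.Perm.mul_apply, mul_inv_cancel, Equiv.Perm.one_apply]; exact hj

theorem good_st (a : Gen) {G : Type*} [Group G] (x : Gen → G) : Good 327680 D (S.st x a) := by
  refine ⟨ok_net a, fun j hj => ?_⟩
  show (D (kind a)).testBit ((net a).perm j) = true
  rw [← testBit_app (ok_net a), Nat.eq_of_beq_eq_true (chk_dom a)]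
  exact hj

section gen
variable {G X : Type*} [Group G] [MulAction G X]

/-- value of a word -/
def ev (x : Gen → G) (w : List Gen) : G := (w.map x).prod

theorem ev_nil (x : Gen → G) : ev x [] = 1 := rfl
theorem ev_cons (x : Gen → G) (a : Gen) (w : List Gen) : ev x (a :: w) = x a * ev x w := by
  simp [ev]
theorem ev_append (x : Gen → G) (v w : List Gen) : ev x (v ++ w) = ev x v * ev x w := by
  simp [ev]
theorem ev_rep (x : Gen → G) (n : ℕ) (w : List Gen) : ev x (rep n w) = ev x w ^ n := by
  induction n with
  | zero => rw [pow_zero]; rfl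
  | succ n ih =>
    show ev x (w ++ rep n w) = _
    rw [ev_append, ih, pow_succ']

/-- the relations of the presentation -/
structure IsRel (x : Gen → G) : Prop where
  inv : ∀ a, x a * x a = 1
  comm : ∀ a b, adj2 a b = false → x a * x b = x b * x a
  braid : ∀ a b, adj2 a b = true → x a * x b * x a = x b * x a * x b
  el : ev x c0 ^ 9 = x .l
  ez : ev x Cfsg.Agent.Fischer.Fi24RepDef.w0 ^ 17 = 1

theorem IsRel.inv_eq {x : Gen → G} (h : IsRel x) (a : Gen) : (x a)⁻¹ = x a :=
  inv_eq_of_mul_eq_one_left (h.inv a)

theorem IsRel.ev_reverse {x : Gen → G} (h : IsRel x) (w : List Gen) : ev x w.reverse = (ev x w)⁻¹ := by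
  induction w with
  | nil => simp [ev_nil]
  | cons a w ih =>
    rw [List.reverse_cons, ev_append, ih, ev_cons, ev_cons, ev_nil, mul_one, mul_inv_rev, h.inv_eq]

theorem IsRel.ev_relW {x : Gen → G} (h : IsRel x) (b : Bool) : ev x (relW b) = 1 := by
  cases b
  · show ev x (.l :: rep 9 c0) = 1
    rw [ev_cons, ev_rep, h.el, h.inv]
  · show ev x (rep 17 _) = 1
    rw [ev_rep, h.ez]

theorem isRel_rho : IsRel S.rho := by
  have e : S.rho = rho0 := funext rho_eq
  rw [e]
  refine ⟨rho0_sq, ?_, ?_, ?_, ?_⟩
  · intro a b h
    by_cases hab : a = b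
    · subst hab; rfl
    · apply rho0_comm
      revert h hab
      cases a <;> cases b <;> decide
  · intro a b h
    apply rho0_braid
    revert h
    cases a <;> cases b <;> decide
  · exact c_pow
  · exact w_pow

theorem ev_rule {x : Gen → G} (h : IsRel x) (a b : Gen) : ev x (ruleW a b) = x a := by
  unfold ruleW
  cases hab : adj2 a b
  · show ev x [b, a, b] = x a
    simp only [ev_cons, ev_nil, mul_one]
    have h1 := h.comm a b hab
    rw [h1, ← mul_assoc, h.inv, one_mul]
  · show ev x [b, a, b, a, b] = x a
    simp only [ev_cons, ev_nil, mul_one]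
    have h1 := h.braid a b hab
    calc x b * (x a * (x b * (x a * x b))) = x b * (x a * x b * x a) * x b := by simp only [mul_assoc]
      _ = x b * (x b * x a * x b) * x b := by rw [h1]
      _ = (x b * x b) * x a * (x b * x b) := by simp only [mul_assoc]
      _ = x a := by rw [h.inv, one_mul, mul_one]

theorem ev_rotate {x : Gen → G} (w : List Gen) (h : ev x w = 1) (m : ℕ) (hm : m ≤ w.length) :
    ev x (w.rotate m) = 1 := by
  rw [List.rotate_eq_drop_append_take hm, ev_append]
  have h2 : ev x (w.take m) * ev x (w.drop m) = 1 := by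
    rw [← ev_append, List.take_append_drop, h]
  rw [mul_eq_one_iff_eq_inv.1 h2, mul_inv_cancel]

theorem ev_path {x : Gen → G} (h : IsRel x) (a : Gen) (s : ℕ × ℕ × Bool)
    (hs : s ∈ special a) : ev x (path s.2.1 s.2.2).reverse = x a := by
  have h2 := ev_rotate _ (h.ev_relW s.2.2) s.2.1 (special_le a s hs)
  rw [path_append a s hs, ev_append, ev_cons, ev_nil, mul_one] at h2
  rw [h.ev_reverse, ← mul_eq_one_iff_eq_inv.1 ?_]
  rw [mul_eq_one_iff_eq_inv.1 h2, mul_inv_cancel]

theorem toF_cancel (c : Bool) (q : Equiv.Perm ℕ) (a : Gen) (hc : kind a = c) (hq : q = S.rho a) :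
    (S.toF c)⁻¹ * q * S.toF c = (net a).perm := by
  subst hc
  rw [hq, Sys.rho]
  show (S.toF (kind a))⁻¹ * (S.toF (kind a) * (net a).perm * (S.toF (kind a))⁻¹) * S.toF (kind a) = _
  group

theorem sound_all {f : ℕ → X} {B : ℕ} (x : Gen → G) (a c : Bool) (w : List Gen)
    (h : ∀ b, Sound2 D (fun c i => f (S.toF c i)) B (S.st x b)) :
    ∀ s ∈ S.ex x a w c, Sound2 D (fun c i => f (S.toF c i)) B s := by
  intro s hs
  rcases S.mem_ex x a c w s hs with ⟨b, rfl⟩ | ⟨d, rfl⟩
  · exact h b
  · exact S.sound_cv perm_pir B d

theorem good_all (x : Gen → G) (a c : Bool) (w : List Gen) : ∀ s ∈ S.ex x a w c, Good 327680 D s := by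
  intro s hs
  rcases S.mem_ex x a c w s hs with ⟨b, rfl⟩ | ⟨d, rfl⟩
  · exact good_st b x
  · exact good_cv d

/-- the labelling of the orbit -/
theorem exists_label (x : Gen → G) (h : IsRel x) (p : X) (hp : ∀ a, a ≠ .k → x a • p = p) :
    ∃ f : ℕ → X, f 0 = p ∧ ∀ a, ∀ i, (D false).testBit i = true → x a • f i = f (rho0 a i) := by
  have hkey : ∀ a (i : ℕ), (treeF a).testBit i = true → val rk (rho0 a i) < val rk i := by
    intro a i hi
    have h1 : ∀ (j : ℕ), val (rkD true) j = val rk (pi.perm j) := fun j => val_mapApp ok_pi rk j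
    have h2 := chk_tree a
    unfold treeF at hi
    have hr := rho_eq a
    rw [← hr]
    unfold Sys.rho Sys.toF
    show val rk (((if kind a = true then pi.perm else 1) * (net a).perm * (if kind a = true then pi.perm else 1)⁻¹ :
      Equiv.Perm ℕ) i) < val rk i
    cases hk : kind a
    · rw [hk] at hi h2
      have h3 : val rk ((net a).perm i) < val rk i := lt_of_treeCheck (ok_net a) h2 hi
      simpa using h3
    · rw [hk] at hi h2
      have hi' : (tree a).testBit (pir.perm i) = true := by
        rw [← testBit_app ok_pir]; exact hi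
      have h3 := lt_of_treeCheck (ok_net a) h2 hi'
      rw [h1, h1, perm_pir] at h3
      rw [← Equiv.Perm.mul_apply pi.perm pi.perm⁻¹, mul_inv_cancel, Equiv.Perm.one_apply] at h3
      simpa using h3
  obtain ⟨f, hf0, hf⟩ := exists_tree (n := 327680) x (fun a i => rho0 a i) treeF (val rk) p 0
    (fun a => by rw [← tb_eq]; exact chk_root a) tree_disj (fun a i _ hi => hkey a i hi)
  refine ⟨f, hf0, ?_⟩
  have hD : ∀ i, (D false).testBit i = true → i < 327680 := by
    intro i hi
    by_contra hc
    have h1 : Nat.beq (Nat.shiftRight (D false) 327680) 0 = true := by decide +kernel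
    have h2 : (D false) >>> 327680 = 0 := Nat.eq_of_beq_eq_true h1
    have h3 := congrArg (fun x => Nat.testBit x (i - 327680)) h2
    simp only [Nat.testBit_shiftRight, Nat.zero_testBit] at h3
    rw [show 327680 + (i - 327680) = i by omega, hi] at h3
    exact absurd h3 (by simp)
  have main := sound_of_cover2 (D := D) (f := fun c i => f (S.toF c i)) (st := S.st x) cov chk_cov ?_
  · intro a i hi
    have h1 := main a
    -- from the own numbering to the first one
    have h2 : ∀ j, (D (kind a)).testBit j = true → x a • f (S.toF (kind a) j) = f (S.toF (kind a) ((net a).perm j)) :=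
      h1
    rw [← rho_eq a]
    unfold Sys.rho
    show x a • f i = f ((S.toF (kind a) * (net a).perm * (S.toF (kind a))⁻¹ : Equiv.Perm ℕ) i)
    have h3 : (D (kind a)).testBit ((S.toF (kind a))⁻¹ i) = true := by
      unfold Sys.toF
      cases hk : kind a
      · simpa using hi
      · show (D true).testBit _ = true
        have hpi := testBit_D
        rw [hpi]
        show (D false).testBit (pi.perm ((if true = true then pi.perm else 1 : Equiv.Perm ℕ)⁻¹ i)) = true
        rw [if_pos rfl, ← Equiv.Perm.mul_apply, mul_inv_cancel, Equiv.Perm.one_apply]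
        exact hi
    have h4 := h2 _ h3
    rw [← Equiv.Perm.mul_apply (S.toF (kind a)) (S.toF (kind a))⁻¹, mul_inv_cancel, Equiv.Perm.one_apply] at h4
    rw [h4]
    rfl
  · intro a M hM
    have htree : Jus2 D (fun c i => f (S.toF c i)) (S.st x) a (tree a) := by
      apply Jus2.of_fact
      intro j hj hM
      have hj' : (D (kind a)).testBit j = true := hj
      show x a • f (S.toF (kind a) j) = f (S.toF (kind a) ((net a).perm j))
      have hi : (treeF a).testBit (S.toF (kind a) j) = true := by
        unfold treeF Sys.toF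
        cases hk : kind a
        · simpa using hM
        · show (pir.app (tree a)).testBit (pi.perm j) = true
          rw [testBit_app ok_pir, perm_pir, ← Equiv.Perm.mul_apply, inv_mul_cancel, Equiv.Perm.one_apply]
          exact hM
      have hlt : S.toF (kind a) j < 327680 := by
        apply hD
        unfold Sys.toF
        cases hk : kind a
        · rw [hk] at hj'; simpa using hj'
        · rw [hk] at hj'
          have hpi := testBit_D
          rw [hpi] at hj'
          exact hj'
      have h5 := hf a _ hlt hi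
      rw [h5, ← rho_eq a]
      unfold Sys.rho
      show f ((S.toF (kind a) * (net a).perm * (S.toF (kind a))⁻¹ : Equiv.Perm ℕ) (S.toF (kind a) j)) = _
      rw [Equiv.Perm.mul_apply, Equiv.Perm.mul_apply, ← Equiv.Perm.mul_apply (S.toF (kind a))⁻¹ (S.toF (kind a)),
        inv_mul_cancel, Equiv.Perm.one_apply]
    have hsymm : ∀ {M' : ℕ}, Jus2 D (fun c i => f (S.toF c i)) (S.st x) a M' →
        Jus2 D (fun c i => f (S.toF c i)) (S.st x) a ((net a).app M') :=
      fun h' => Jus2.symm (a := a) (N := 327680) rfl (good_st a x) (h.inv a)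
        (fun i => by
          show (net a).perm ((net a).perm i) = i
          rw [← Equiv.Perm.mul_apply, net_sq, Equiv.Perm.one_apply]) (chk_sym a) h'
    have hsp : ∀ s ∈ special a, Jus2 D (fun c i => f (S.toF c i)) (S.st x) a (Nat.shiftLeft 1 s.1) := by
      intro s hs
      have e1 : ((S.ex x (kind a) (path s.2.1 s.2.2).reverse (kind a)).reverse.map fun s => (s.net, s.lev)) =
          datP a s.2.1 s.2.2 := by
        rw [List.map_reverse, S.map_ex]; rfl
      refine Jus2.of_path (N := 327680) (S.ex x (kind a) (path s.2.1 s.2.2).reverse (kind a)).reverse s.1 ?_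
        (fun B hB => ?_) ?_ ?_ ?_ ?_
      · rw [List.reverse_reverse]; exact S.chain_ex _ _ _ _
      · intro t ht; exact sound_all x _ _ _ hB t (List.mem_reverse.1 ht)
      · intro t ht; exact good_all x _ _ _ t (List.mem_reverse.1 ht)
      · rw [← List.map_reverse, List.reverse_reverse, S.prod_ex]; exact ev_path h a s hs
      · rw [← List.map_reverse, List.reverse_reverse, S.perm_ex perm_pir]
        exact congrArg (fun q : Equiv.Perm ℕ => q s.1) (toF_cancel _ _ a rfl (ev_path isRel_rho a s hs))
      · rw [e1]; exact chk_path a s hs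
    simp only [cov, List.mem_cons, List.mem_append, List.mem_map] at hM
    rcases hM with rfl | rfl | (hM | ⟨b, -, rfl⟩) | (⟨s, hs, rfl⟩ | ⟨s, hs, rfl⟩)
    · exact htree
    · exact hsymm htree
    · split_ifs at hM with hak
      · exact absurd hM (by simp)
      · rw [List.mem_singleton] at hM
        subst hM
        refine Jus2.of_fixed (root (kind a)) ?_
        show x a • f (S.toF (kind a) (root (kind a))) = f (S.toF (kind a) ((net a).perm (root (kind a))))
        have h1 : (net a).perm (root (kind a)) = root (kind a) := by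
          rw [← Net.pt_eq (ok_net a)]; exact Nat.eq_of_beq_eq_true (chk_zero a hak)
        rw [h1]
        have h2 : S.toF (kind a) (root (kind a)) = 0 := by
          unfold Sys.toF
          cases hk : kind a
          · rfl
          · show pi.perm 308096 = 0
            rw [← Net.pt_eq ok_pi]; exact Nat.eq_of_beq_eq_true chk_rootT
        rw [h2, hf0]; exact hp a hak
    · have e1 : ruleMask (datR a b) (lev a) =
          ruleMask ((S.ex x (kind a) (ruleW a b) (kind a)).map fun s => (s.net, s.lev)) ((S.st x) a).lev := by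
        rw [S.map_ex]; rfl
      rw [e1]
      refine Jus2.of_rule_mask (N := 327680) _ (S.chain_ex _ _ _ _) (fun B hB => sound_all x _ _ _ hB)
        (good_all x _ _ _) ?_ ?_
      · rw [S.prod_ex]; exact ev_rule h a b
      · intro i
        rw [S.perm_ex perm_pir]
        exact congrArg (fun q : Equiv.Perm ℕ => q i) (toF_cancel _ _ a rfl (ev_rule isRel_rho a b))
    · exact hsp s hs
    · exact hsymm (hsp s hs)

end gen

end Cfsg.Agent.SporRec.Fi24Upper
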