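import Cfsg.Agent.SporRec.G24Code

set_option autoImplicit false

/-! Soundness of the coding of 14 × 14 matrices over the field with four elements by 28 column masks. -/

namespace Cfsg.Agent.SporRec.G24Mat

open Cfsg.Lie Cfsg.Agent.SporRec.GF4 Cfsg.Agent.SporRec.G24Code

/-- `C` is the code of the matrix `M` -/
structure IsCode (M : Matrix J J F4) (C : List ℕ) : Prop where
  lt : ∀ c ∈ C, c < 2 ^ 28
  spec : ∀ v < 2 ^ 28, dec (app C v) = M.mulVec (dec v)

theorem IsCode.app_lt {M : Matrix J J F4} {C : List ℕ} (h : IsCode M C) (v : ℕ) :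
    app C v < 2 ^ 28 := G24Code.app_lt C 28 h.lt v

theorem exists_pos : ∀ j < 28, ∃ col : J, j = 2 * pos col ∨ j = 2 * pos col + 1 := by
  decide

theorem dec_even : ∀ col : J, dec (2 ^ (2 * pos col)) = Pi.single col 1 := by
  decide

theorem dec_odd : ∀ col : J, dec (2 ^ (2 * pos col + 1)) = Pi.single col F4.w := by
  decide

theorem isCode_of_cols {M : Matrix J J F4} {C : List ℕ} (hlen : C.length = 28)
    (hlt : ∀ c ∈ C, c < 2 ^ 28)
    (h : ∀ j < 28, dec (C.getD j 0) = M.mulVec (dec (2 ^ j))) : IsCode M C := by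
  refine ⟨hlt, fun v hv => ?_⟩
  have := app_spec_aux M C 0 (fun j hj => by rw [Nat.zero_add]; exact h j (hlen ▸ hj)) v
    (by rw [hlen]; exact hv)
  simpa using this

theorem isCode_of_check {M : Matrix J J F4} {C : List ℕ} (hlen : C.length = 28)
    (hlt : ∀ c ∈ C, c < 2 ^ 28) (h : checkEntries M C) : IsCode M C := by
  refine isCode_of_cols hlen hlt (fun j hj => ?_)
  obtain ⟨col, rfl | rfl⟩ := exists_pos j hj
  · rw [dec_even, Matrix.mulVec_single_one]
    funext row
    exact (h col row).1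
  · rw [dec_odd, Matrix.mulVec_single]
    funext row
    exact (h col row).2

theorem ofBits_inj {a b c d : Bool} (h : ofBits a b = ofBits c d) : a = c ∧ b = d := by
  revert a b c d; decide

theorem dec_inj {m n : ℕ} (hm : m < 2 ^ 28) (hn : n < 2 ^ 28) (h : dec m = dec n) : m = n := by
  apply Nat.eq_of_testBit_eq
  intro j
  by_cases hj : j < 28
  · obtain ⟨col, rfl | rfl⟩ := exists_pos j hj
    · exact (ofBits_inj (congrFun h col)).1
    · exact (ofBits_inj (congrFun h col)).2
  · have h1 : 2 ^ 28 ≤ 2 ^ j := Nat.pow_le_pow_right (by norm_num) (by omega)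
    rw [Nat.testBit_lt_two_pow (lt_of_lt_of_le hm h1), Nat.testBit_lt_two_pow (lt_of_lt_of_le hn h1)]

theorem mat_ext {M M' : Matrix J J F4}
    (h : ∀ p < 14, M.mulVec (dec (4 ^ p)) = M'.mulVec (dec (4 ^ p))) : M = M' := by
  have h2 : ∀ col : J, pos col < 14 := by decide
  ext i col
  have h1 := h (pos col) (h2 col)
  have e : (4 : ℕ) ^ (pos col) = 2 ^ (2 * pos col) := by
    rw [pow_mul]; norm_num
  rw [e, dec_even, Matrix.mulVec_single_one, Matrix.mulVec_single_one] at h1
  exact congrFun h1 i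

theorem isCode_mul {M N : Matrix J J F4} {C D : List ℕ} (hM : IsCode M C) (hN : IsCode N D)
    {v : ℕ} (hv : v < 2 ^ 28) : dec (app C (app D v)) = (M * N).mulVec (dec v) := by
  rw [hM.spec _ (hN.app_lt v), hN.spec v hv, Matrix.mulVec_mulVec]

/-- apply a word of codes, the first letter last -/
def appL (w : List (List ℕ)) (v : ℕ) : ℕ := w.foldr app v

theorem appL_spec {gs : List (GL J F4)} {cs : List (List ℕ)}
    (h : List.Forall₂ (fun (g : GL J F4) c => IsCode (g : Matrix J J F4) c) gs cs) {v : ℕ} (hv : v < 2 ^ 28) :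
    appL cs v < 2 ^ 28 ∧ dec (appL cs v) = ((gs.prod : GL J F4) : Matrix J J F4).mulVec (dec v) := by
  induction h with
  | nil =>
    refine ⟨hv, ?_⟩
    rw [List.prod_nil, Units.val_one, Matrix.one_mulVec]; rfl
  | cons hgc _ ih =>
    refine ⟨hgc.app_lt _, ?_⟩
    rw [List.prod_cons, Units.val_mul, ← Matrix.mulVec_mulVec, ← ih.2]
    exact hgc.spec _ ih.1

theorem prod_eq_of_check {gs gs' : List (GL J F4)} {cs cs' : List (List ℕ)}
    (h : List.Forall₂ (fun (g : GL J F4) c => IsCode (g : Matrix J J F4) c) gs cs)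
    (h' : List.Forall₂ (fun (g : GL J F4) c => IsCode (g : Matrix J J F4) c) gs' cs')
    (hc : ∀ p < 14, appL cs (4 ^ p) = appL cs' (4 ^ p)) : gs.prod = gs'.prod := by
  apply Units.ext
  apply mat_ext
  intro p hp
  have hp' : (4 : ℕ) ^ p < 2 ^ 28 := by
    calc (4 : ℕ) ^ p < 4 ^ 14 := Nat.pow_lt_pow_right (by norm_num) hp
      _ = 2 ^ 28 := by norm_num
  rw [← (appL_spec h hp').2, ← (appL_spec h' hp').2, hc p hp]

theorem isCode_prod {gs : List (GL J F4)} {cs : List (List ℕ)} {C : List ℕ}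
    (h : List.Forall₂ (fun (g : GL J F4) c => IsCode (g : Matrix J J F4) c) gs cs)
    (hlen : C.length = 28) (hlt : ∀ c ∈ C, c < 2 ^ 28)
    (hc : ∀ j < 28, C.getD j 0 = appL cs (2 ^ j)) :
    IsCode ((gs.prod : GL J F4) : Matrix J J F4) C := by
  refine isCode_of_cols hlen hlt (fun j hj => ?_)
  have hj' : (2 : ℕ) ^ j < 2 ^ 28 := Nat.pow_lt_pow_right (by norm_num) hj
  rw [hc j hj, (appL_spec h hj').2]

theorem isCode_x (r : Fin 12) (t : Fin 3) : IsCode (xm r (tOf t)) (xc r t) :=
  isCode_of_check (check_len r t).1 (check_len r t).2 (check_x r t)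

theorem check_xx : ∀ (r : Fin 12) (t : Fin 3), ∀ p < 14, app (xc r t) (app (xc r t) (4 ^ p)) = 4 ^ p := by
  decide +kernel

theorem xm_mul_self (r : Fin 12) (t : Fin 3) : xm r (tOf t) * xm r (tOf t) = 1 := by
  apply mat_ext
  intro p hp
  have hp' : (4 : ℕ) ^ p < 2 ^ 28 := by
    calc (4 : ℕ) ^ p < 4 ^ 14 := Nat.pow_lt_pow_right (by norm_num) hp
      _ = 2 ^ 28 := by norm_num
  rw [← isCode_mul (isCode_x r t) (isCode_x r t) hp', check_xx r t p hp, Matrix.one_mulVec]

/-- the root element `x_r(t)` as an invertible matrix -/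
def gx (r : Fin 12) (t : Fin 3) : GL J F4 :=
  ⟨xm r (tOf t), xm r (tOf t), xm_mul_self r t, xm_mul_self r t⟩

theorem isCode_gx (r : Fin 12) (t : Fin 3) : IsCode (gx r t : Matrix J J F4) (xc r t) := isCode_x r t

/-- the adjoint group of type `G₂` over `F4`, index types in normal form -/
def Gp : Subgroup (GL J F4) := chevG2.group F4

theorem gx_mem (r : Fin 12) (t : Fin 3) : gx r t ∈ Gp :=
  Subgroup.subset_closure ⟨r, tOf t, rfl⟩

theorem zero_mat : ∀ r : Fin 12, xm r F4.z = 1 := by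
  decide +kernel

/-- `Gp` is generated by the `gx r t` -/
theorem Gp_le {K : Subgroup (GL J F4)} (h : ∀ (r : Fin 12) (t : Fin 3), gx r t ∈ K) : Gp ≤ K := by
  unfold Gp ChevalleyDatum.group
  refine (Subgroup.closure_le _).2 ?_
  rintro g ⟨r, t, hg⟩
  have key : ∀ t : F4, t = F4.z ∨ ∃ s : Fin 3, t = tOf s := by decide
  rcases key t with rfl | ⟨s, rfl⟩
  · have : g = 1 := Units.ext (hg.trans (zero_mat r))
    rw [this]; exact K.one_mem
  · have : g = gx r s := Units.ext hg
    rw [this]; exact h r s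

end Cfsg.Agent.SporRec.G24Mat
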