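import Mathlib
import Cfsg.Agent.Lib.FieldFour
import Cfsg.Agent.S0245
import Cfsg.Agent.S0765
import Cfsg.Agent.ClassicalGeometry.SympBasic

/-!
Abstract criterion: a group `H` of order 1958400 acting (through a set with a "label" map to the points of the
projective space of `F4 ^ 4`) so that certain elements act as given symplectic matrices, one of them as a transvection,
and one element acts as the field automorphism, has a normal subgroup of index 2 isomorphic to `Sp(4, 4)`.
-/

set_option autoImplicit false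

namespace Cfsg.Agent.SporRec.HeldSp4Core

open Cfsg.Agent.Lib.FieldFour
open Cfsg.Agent.ClassicalGeometry
open scoped Matrix

abbrev V : Type := Fin 2 ⊕ Fin 2 → F4
abbrev M4 : Type := Matrix (Fin 2 ⊕ Fin 2) (Fin 2 ⊕ Fin 2) F4

/-- Proportional vectors. -/
def Par (x y : V) : Prop := ∃ c : F4, c ≠ 0 ∧ x = c • y

theorem Par.refl (x : V) : Par x x := ⟨1, one_ne_zero, (one_smul _ _).symm⟩

theorem Par.symm {x y : V} (h : Par x y) : Par y x := by
  obtain ⟨c, hc, rfl⟩ := h
  exact ⟨c⁻¹, inv_ne_zero hc, by rw [smul_smul, inv_mul_cancel₀ hc, one_smul]⟩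

theorem Par.trans {x y z : V} (h : Par x y) (h' : Par y z) : Par x z := by
  obtain ⟨c, hc, rfl⟩ := h
  obtain ⟨d, hd, rfl⟩ := h'
  exact ⟨c * d, mul_ne_zero hc hd, by rw [smul_smul]⟩

theorem Par.mulVec {x y : V} (h : Par x y) (A : M4) : Par (A *ᵥ x) (A *ᵥ y) := by
  obtain ⟨c, hc, rfl⟩ := h
  exact ⟨c, hc, by rw [Matrix.mulVec_smul]⟩

/-- The coordinatewise Frobenius map. -/
def frob (x : V) : V := fun j => x j * x j

theorem Par.frob {x y : V} (h : Par x y) : Par (frob x) (frob y) := by
  obtain ⟨c, hc, rfl⟩ := h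
  refine ⟨c * c, mul_ne_zero hc hc, ?_⟩
  funext j
  simp only [HeldSp4Core.frob, Pi.smul_apply, smul_eq_mul]
  ring

/-- The four standard basis vectors. -/
def e (j : Fin 2 ⊕ Fin 2) : V := Pi.single j 1

theorem mulVec_e (A : M4) (j : Fin 2 ⊕ Fin 2) : A *ᵥ e j = A.col j := Matrix.mulVec_single_one A j

theorem sq_eq_one (c : F4) (h : c * c = 1) : c = 1 := by
  revert h; revert c; decide

theorem sq_surj (c : F4) : ∃ d : F4, d ^ 2 = c := by
  revert c; decide

/-- If `A` maps every nonzero vector to a proportional one then `A` is scalar. -/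
theorem scalar_of_par (A : M4) (h : ∀ v : V, v ≠ 0 → Par (A *ᵥ v) v) :
    ∃ c : F4, A = c • (1 : M4) := by
  have he : ∀ j, e j ≠ 0 := by
    intro j hj
    have := congrFun hj j
    simp [e] at this
  choose c hc hcv using fun j => h (e j) (he j)
  have key : ∀ i j, i ≠ j → c i = c j := by
    intro i j hij
    have hne : e i + e j ≠ 0 := by
      intro h0
      have := congrFun h0 i
      simp [e, hij] at this
    obtain ⟨d, _, hd⟩ := h _ hne
    rw [Matrix.mulVec_add, hcv i, hcv j, smul_add] at hd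
    have h1 := congrFun hd i
    have h2 := congrFun hd j
    simp [e, hij] at h1
    simp [e, hij.symm] at h2
    rw [h1, h2]
  refine ⟨c (Sum.inl 0), ?_⟩
  apply Matrix.ext_of_mulVec_single
  intro i
  change A *ᵥ e i = _
  rw [hcv i]
  by_cases hi : i = Sum.inl 0
  · subst hi
    rw [Matrix.smul_mulVec, Matrix.one_mulVec]
    rfl
  · rw [key i (Sum.inl 0) hi, Matrix.smul_mulVec, Matrix.one_mulVec]
    rfl

theorem eq_one_of_par (A : Matrix.symplecticGroup (Fin 2) F4)
    (h : ∀ v : V, v ≠ 0 → Par ((A : M4) *ᵥ v) v) : A = 1 := by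
  obtain ⟨c, hc⟩ := scalar_of_par (A : M4) h
  have hs := SympBasic.sympForm_mulVec A.2 (e (Sum.inr 0)) (e (Sum.inl 0))
  rw [hc, Matrix.smul_mulVec, Matrix.smul_mulVec, Matrix.one_mulVec, Matrix.one_mulVec,
    SympBasic.sympForm_smul_left, SympBasic.sympForm_smul_right] at hs
  have h1 : Cfsg.sympForm 2 F4 (e (Sum.inr 0)) (e (Sum.inl 0)) = 1 := by
    rw [e, SympBasic.sympForm_single_inr_left]
    simp [e]
  rw [h1, mul_one] at hs
  have hc1 := sq_eq_one c hs
  apply Subtype.ext
  rw [hc, hc1, one_smul]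
  rfl

/-- A linear map is not projectively the field automorphism. -/
theorem not_par_frob (A : M4) (h : ∀ v : V, v ≠ 0 → Par (A *ᵥ v) (frob v)) : False := by
  have he : ∀ j, e j ≠ 0 := by
    intro j hj
    have := congrFun hj j
    simp [e] at this
  have hij : (Sum.inl 0 : Fin 2 ⊕ Fin 2) ≠ Sum.inl 1 := by decide
  obtain ⟨c0, _, hc0⟩ := h (e (Sum.inl 0)) (he _)
  obtain ⟨c1, _, hc1⟩ := h (e (Sum.inl 1)) (he _)
  have hne : e (Sum.inl 0) + e (Sum.inl 1) ≠ 0 := by
    intro h0
    have := congrFun h0 (Sum.inl 0)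
    simp [e] at this
  have hne' : e (Sum.inl 0) + F4.w • e (Sum.inl 1) ≠ 0 := by
    intro h0
    have := congrFun h0 (Sum.inl 0)
    simp [e] at this
  obtain ⟨d, hd0, hd⟩ := h _ hne
  obtain ⟨d', hd0', hd'⟩ := h _ hne'
  rw [Matrix.mulVec_add, hc0, hc1] at hd
  rw [Matrix.mulVec_add, Matrix.mulVec_smul, hc0, hc1] at hd'
  have a0 := congrFun hd (Sum.inl 0)
  have a1 := congrFun hd (Sum.inl 1)
  have b0 := congrFun hd' (Sum.inl 0)
  have b1 := congrFun hd' (Sum.inl 1)
  simp [e, frob] at a0 a1 b0 b1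
  rw [a0] at b0
  rw [a1] at b1
  rw [b0] at b1
  revert b1 hd0'
  clear * -
  revert d'
  decide

section core

variable {G : Type*} [Group G] {Ω : Type*} (φ : G →* Equiv.Perm Ω) (H : Subgroup G) (lab : Ω → V)

/-- Compatible pairs. -/
def R : Subgroup (H × Matrix.symplecticGroup (Fin 2) F4) where
  carrier := {x | ∀ p, Par (lab (φ (x.1 : G) p)) ((x.2 : M4) *ᵥ lab p)}
  mul_mem' := by
    intro x y hx hy p
    have h1 := hx (φ (y.1 : G) p)
    have h2 := (hy p).mulVec (x.2 : M4)
    have h3 := h1.trans h2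
    rw [Matrix.mulVec_mulVec] at h3
    have : φ (((x * y).1 : H) : G) p = φ (x.1 : G) (φ (y.1 : G) p) := by
      rw [Prod.fst_mul, Subgroup.coe_mul, map_mul]; rfl
    rw [this]
    exact h3
  one_mem' := by
    intro p
    have : φ (((1 : H × Matrix.symplecticGroup (Fin 2) F4).1 : H) : G) p = p := by
      rw [Prod.fst_one, Subgroup.coe_one, map_one]; rfl
    rw [this]
    change Par _ ((1 : M4) *ᵥ lab p)
    rw [Matrix.one_mulVec]
    exact Par.refl _
  inv_mem' := by
    intro x hx p
    have h1 := hx (φ (x.1 : G)⁻¹ p)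
    have h2 : φ (x.1 : G) (φ (x.1 : G)⁻¹ p) = p := by
      rw [← Equiv.Perm.mul_apply, ← map_mul, mul_inv_cancel, map_one]; rfl
    rw [h2] at h1
    have h3 := h1.mulVec ((x.2⁻¹ : Matrix.symplecticGroup (Fin 2) F4) : M4)
    rw [Matrix.mulVec_mulVec] at h3
    have h4 : ((x.2⁻¹ : Matrix.symplecticGroup (Fin 2) F4) : M4) * (x.2 : M4) = 1 := by
      have := congrArg (Subtype.val) (inv_mul_cancel x.2)
      exact this
    rw [h4, Matrix.one_mulVec] at h3
    exact h3.symm

theorem mem_R (x : H × Matrix.symplecticGroup (Fin 2) F4) :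
    x ∈ R φ H lab ↔ ∀ p, Par (lab (φ (x.1 : G) p)) ((x.2 : M4) *ᵥ lab p) := Iff.rfl

variable (hlab : ∀ v : V, v ≠ 0 → ∃ p, Par (lab p) v)
include hlab

theorem snd_eq_one (A : Matrix.symplecticGroup (Fin 2) F4) (h : ((1 : H), A) ∈ R φ H lab) :
    A = 1 := by
  apply eq_one_of_par
  intro v hv
  obtain ⟨p, hp⟩ := hlab v hv
  have h1 := h p
  have h2 : φ ((((1 : H), A).1 : H) : G) p = p := by
    change φ ((1 : H) : G) p = p
    rw [Subgroup.coe_one, map_one]; rfl
  rw [h2] at h1
  exact ((hp.mulVec (A : M4)).symm.trans h1.symm).trans hp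

theorem core (hH : Nat.card H = 1958400)
    (w₀ : V) (t : H)
    (hw : ∀ p, Par (lab (φ (t : G) p)) (Cfsg.sympTransvection 2 w₀ 1 *ᵥ lab p))
    {ι : Type*} (h : ι → H) (A : ι → M4) (hA : ∀ i, A i ∈ Matrix.symplecticGroup (Fin 2) F4)
    (hc : ∀ i p, Par (lab (φ (h i : G) p)) (A i *ᵥ lab p))
    (htrans : ∀ P : V → Prop, P w₀ → (∀ i v, P v → P (A i *ᵥ v)) → ∀ v, v ≠ 0 → P v)
    (u : H) (hfr : ∀ p, Par (lab (φ (u : G) p)) (frob (lab p))) :
    ∃ N : Subgroup H, N.Normal ∧ N.index = 2 ∧
      Nonempty (N ≃* Matrix.symplecticGroup (Fin 2) F4) := by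
  classical
  haveI : Finite H := Nat.finite_of_card_ne_zero (by rw [hH]; norm_num)
  let S := R φ H lab
  let f : S →* H := (MonoidHom.fst _ _).comp S.subtype
  let g : S →* Matrix.symplecticGroup (Fin 2) F4 := (MonoidHom.snd _ _).comp S.subtype
  have hf : Function.Injective f := by
    rw [injective_iff_map_eq_one]
    rintro ⟨⟨x, B⟩, hx⟩ h1
    have h1' : x = 1 := h1
    subst h1'
    have := snd_eq_one φ H lab hlab B hx
    subst this
    rfl
  -- all transvections are in the range of `g`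
  have hT : ∀ v : V, v ≠ 0 → SympBasic.transv v (1 : F4) ∈ g.range := by
    apply htrans
    · exact ⟨⟨(t, SympBasic.transv w₀ 1), hw⟩, rfl⟩
    · rintro i v ⟨y, hy⟩
      let z : S := ⟨(h i, ⟨A i, hA i⟩), hc i⟩
      refine ⟨z * y * z⁻¹, ?_⟩
      rw [map_mul, map_mul, map_inv, hy]
      change (⟨A i, hA i⟩ : Matrix.symplecticGroup (Fin 2) F4) * SympBasic.transv v 1 *
        (⟨A i, hA i⟩ : Matrix.symplecticGroup (Fin 2) F4)⁻¹ = _
      rw [mul_inv_eq_iff_eq_mul]
      apply Subtype.ext
      exact SympBasic.mul_sympTransvection (hA i) v 1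
  have hg : Function.Surjective g := by
    rw [← MonoidHom.range_eq_top, eq_top_iff, ← Cfsg.Agent.S0765.result (F := F4) 2,
      Subgroup.closure_le]
    rintro B ⟨v, c, hB⟩
    have hBt : B = SympBasic.transv v c := Subtype.ext hB
    rw [hBt]
    obtain ⟨d, hd⟩ := sq_surj c
    have h2 : SympBasic.transv v c = SympBasic.transv (d • v) (1 : F4) := by
      apply Subtype.ext
      rw [SympBasic.coe_transv, SympBasic.coe_transv, SympBasic.sympTransvection_smul, hd, mul_one]
    rw [h2]
    by_cases hv : d • v = 0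
    · rw [hv]
      have : SympBasic.transv (0 : V) (1 : F4) = 1 := by
        apply Subtype.ext
        have h0 : (0 : V) = (0 : F4) • (0 : V) := by simp
        rw [SympBasic.coe_transv, h0, SympBasic.sympTransvection_smul]
        have : (0 : F4) ^ 2 * 1 = 0 := by decide
        rw [this, SympBasic.sympTransvection_zero]
        rfl
      rw [this]
      exact one_mem _
    · exact hT _ hv
  haveI : Finite S := Finite.of_injective f hf
  have hcSp : Nat.card (Matrix.symplecticGroup (Fin 2) F4) = 979200 := by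
    rw [Cfsg.Agent.S0245.result (F := F4) F4.card 2]
    decide
  have hle : 979200 ≤ Nat.card S := by
    rw [← hcSp]
    exact Nat.card_le_card_of_surjective g hg
  have hcard : Nat.card f.range = Nat.card S :=
    (Nat.card_congr (MonoidHom.ofInjective hf).toEquiv).symm
  have hne : f.range ≠ ⊤ := by
    intro htop
    have hu : u ∈ f.range := by rw [htop]; trivial
    obtain ⟨⟨⟨x, B⟩, hx⟩, h1⟩ := hu
    have h1' : x = u := h1
    subst h1'
    apply not_par_frob (B : M4)
    intro v hv
    obtain ⟨p, hp⟩ := hlab v hv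
    exact ((hp.mulVec (B : M4)).symm.trans ((hx p).symm.trans (hfr p))).trans hp.frob
  have hmul : Nat.card f.range * f.range.index = 1958400 := by
    rw [Subgroup.card_mul_index, hH]
  have hidx1 : f.range.index ≠ 1 := fun h1 => hne (Subgroup.index_eq_one.1 h1)
  have hidx0 : f.range.index ≠ 0 := by
    intro h0
    rw [h0, mul_zero] at hmul
    exact absurd hmul (by norm_num)
  have hidx2 : 2 ≤ f.range.index := by omega
  have hrange : Nat.card f.range = 979200 ∧ f.range.index = 2 := by
    rw [hcard] at hmul ⊢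
    have h3 : Nat.card S * f.range.index ≥ 979200 * f.range.index :=
      Nat.mul_le_mul_right _ hle
    have h4 : f.range.index ≤ 2 := by omega
    have h5 : f.range.index = 2 := le_antisymm h4 hidx2
    rw [h5] at hmul
    exact ⟨by omega, h5⟩
  have hcS : Nat.card S = Nat.card (Matrix.symplecticGroup (Fin 2) F4) := by
    rw [← hcard, hrange.1, hcSp]
  have hbij : Function.Bijective g := by
    haveI : Finite (Matrix.symplecticGroup (Fin 2) F4) := Finite.of_surjective g hg
    rw [Nat.bijective_iff_surjective_and_card]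
    exact ⟨hg, hcS⟩
  refine ⟨f.range, Subgroup.normal_of_index_eq_two hrange.2, hrange.2, ⟨?_⟩⟩
  exact (MonoidHom.ofInjective hf).symm.trans (MulEquiv.ofBijective g hbij)

end core

end Cfsg.Agent.SporRec.HeldSp4Core
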