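import Cfsg.Agent.SporRec.LeechMod3

/-!
# Lower bounds for subgroups of `Co0` (stabiliser chains modulo three) and word identities
-/

set_option autoImplicit false

namespace Cfsg.Agent.SporRec.LeechChain

open Cfsg Cfsg.Agent.Lib.PackMat Cfsg.Agent.SporRec.LeechMod3

/-- the matrices of a word -/
def wmats (gs w : List ℕ) : List ℕ := w.map fun k => gs.getD k 0

/-- all letters are valid -/
def wok (gs w : List ℕ) : Bool := w.all fun k => Nat.blt k gs.length

theorem wok_mem {gs w : List ℕ} (h : wok gs w = true) {c : ℕ} (hc : c ∈ wmats gs w) : c ∈ gs := by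
  obtain ⟨k, hk, rfl⟩ := List.mem_map.1 hc
  have h1 := List.all_eq_true.1 h k hk
  rw [Nat.blt_eq] at h1
  rw [List.getD_eq_getElem _ _ h1]
  exact List.getElem_mem h1

/-- A word in elements of `K` is an element of `K`. -/
theorem exists_word {K : Subgroup Co0} {l : List ℕ} (h : ∀ c ∈ l, HasCode K c) :
    ∃ g ∈ K, rho g = (l.map mt).prod := by
  induction l with
  | nil => exact ⟨1, K.one_mem, by rw [map_one]; rfl⟩
  | cons c l ih =>
    obtain ⟨g, hg, hgr⟩ := ih fun c hc => h c (List.mem_cons_of_mem _ hc)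
    obtain ⟨-, g', hg', hgr'⟩ := h c List.mem_cons_self
    exact ⟨g' * g, K.mul_mem hg' hg, by rw [map_mul, hgr, hgr', List.map_cons, List.prod_cons]⟩

/-- `c` is the code of the word `w` -/
noncomputable def wordIs (gs w : List ℕ) (c : ℕ) : Bool :=
  wok gs w && checkEq cfg (wmats gs w) [c] 0 24 && okG cfg c

theorem HasCode.word {K : Subgroup Co0} {gs : List ℕ} (h : ∀ c ∈ gs, HasCode K c) {w : List ℕ} {c : ℕ}
    (hw : wordIs gs w c = true) : HasCode K c := by
  unfold wordIs at hw
  rw [Bool.and_eq_true, Bool.and_eq_true] at hw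
  obtain ⟨⟨h1, h2⟩, h3⟩ := hw
  obtain ⟨g, hg, hr⟩ := exists_word fun c hc => h c (wok_mem h1 hc)
  have h4 := mt_prod_eq (w₁ := wmats gs w) (w₂ := [c])
    (fun c hc => (h c (wok_mem h1 hc)).1) (by
      intro g hg
      rw [List.mem_singleton] at hg
      rw [hg]; exact h3) h2
  refine ⟨h3, g, hg, ?_⟩
  rw [hr, h4, List.map_cons, List.map_nil, List.prod_cons, List.prod_nil, mul_one]

/-- The subgroup generated by the elements with the given codes. -/
def KO (gs : List ℕ) : Subgroup Co0 := Subgroup.closure {g | ∃ c ∈ gs, rho g = mt c}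

theorem KO_le {K : Subgroup Co0} {gs : List ℕ} (h : ∀ c ∈ gs, HasCode K c) : KO gs ≤ K := by
  unfold KO
  rw [Subgroup.closure_le]
  rintro g ⟨c, hc, hg⟩
  obtain ⟨-, g', hg', hr⟩ := h c hc
  have : g = g' := rho_injective (hg.trans hr.symm)
  rw [this]; exact hg'

theorem KO_hasCode {K : Subgroup Co0} {gs : List ℕ} (h : ∀ c ∈ gs, HasCode K c) :
    ∀ c ∈ gs, HasCode (KO gs) c := by
  intro c hc
  obtain ⟨h1, g, -, hr⟩ := h c hc
  exact ⟨h1, g, Subgroup.subset_closure ⟨c, hc, hr⟩, hr⟩

/-- rows with code `R` are fixed -/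
theorem KO_fix {gs : List ℕ} {R : ℕ} (hR : OkR cfg R) (hgs : ∀ c ∈ gs, okG cfg c = true)
    (h : ∀ c ∈ gs, run cfg [c] R = R) (g : Co0) (hg : g ∈ KO gs) : act (rv R) g = rv R := by
  unfold KO at hg
  induction hg using Subgroup.closure_induction with
  | mem x hx =>
    obtain ⟨c, hc, hr⟩ := hx
    have h1 := (run_rv (w := [c]) (by
      intro g hg
      rw [List.mem_singleton] at hg
      rw [hg]; exact hgs c hc) hR).2
    rw [h c hc, List.map_cons, List.map_nil, List.prod_cons, List.prod_nil, mul_one, ← hr] at h1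
    exact h1.symm
  | one => exact act_one _
  | mul x y _ _ hx hy => rw [act_mul, hx, hy]
  | inv x _ hx =>
    have h1 : act (act (rv R) x) x⁻¹ = rv R := by rw [← act_mul, mul_inv_cancel, act_one]
    rw [hx] at h1
    exact h1

/-- the kernel function: images of a row under words are increasing -/
noncomputable def wordK (p r m t nf GM FM LO HI HT : ℕ) (gs : List ℕ) : List ℕ → ℕ → ℕ
  | [], R => R
  | k :: w, R => force (stepK p r m t nf GM FM LO HI HT R (gs.getD k 0)) fun R' =>
      wordK p r m t nf GM FM LO HI HT gs w R'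

theorem wordK_eq (p r m t nf GM FM LO HI HT : ℕ) (gs w : List ℕ) (R : ℕ) :
    wordK p r m t nf GM FM LO HI HT gs w R = runK p r m t nf GM FM LO HI HT (wmats gs w) R := by
  induction w generalizing R with
  | nil => rfl
  | cons k w ih =>
    show force _ _ = force _ _
    rw [force_eq, force_eq]
    exact ih _

/-- the kernel function: images of a row under words are increasing -/
noncomputable def incrK (p r m t nf GM FM LO HI HT : ℕ) (gs : List ℕ) (V : ℕ) : List (List ℕ) → ℕ → Bool
  | [], _ => true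
  | w :: ws, q => force (wordK p r m t nf GM FM LO HI HT gs w V) fun x =>
      bif Nat.blt q x then incrK p r m t nf GM FM LO HI HT gs V ws x else false

/-- the images of the row `V` under the words `ws` are increasing -/
noncomputable def incr (gs : List ℕ) (V : ℕ) (ws : List (List ℕ)) : Bool :=
  (ws.all (wok gs)) && withC cfg fun _ p r m t nf GM FM LO HI HT => incrK p r m t nf GM FM LO HI HT gs V ws 0

theorem incrK_spec {gs : List ℕ} {V : ℕ} {ws : List (List ℕ)} {q : ℕ}
    (h : incrK cfg.p cfg.r cfg.m cfg.t cfg.nf (GMc cfg) (FMc cfg) (LOc cfg) (HIc cfg) (HTc cfg) gs V ws q = true) :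
    (∀ w ∈ ws, q < run cfg (wmats gs w) V) ∧
      (ws.map fun w => run cfg (wmats gs w) V).Pairwise (· < ·) := by
  induction ws generalizing q with
  | nil => simp
  | cons w ws ih =>
    change force _ _ = true at h
    rw [force_eq, wordK_eq] at h
    have e : runK cfg.p cfg.r cfg.m cfg.t cfg.nf (GMc cfg) (FMc cfg) (LOc cfg) (HIc cfg) (HTc cfg)
        (wmats gs w) V = run cfg (wmats gs w) V := rfl
    rw [e] at h
    cases hb : Nat.blt q (run cfg (wmats gs w) V) with
    | false => rw [hb] at h; exact absurd h (by simp)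
    | true =>
      rw [hb, cond_true] at h
      obtain ⟨h1, h2⟩ := ih h
      rw [Nat.blt_eq] at hb
      refine ⟨?_, ?_⟩
      · intro w' hw'
        rcases List.mem_cons.1 hw' with rfl | hw'
        · exact hb
        · exact hb.trans (h1 w' hw')
      · rw [List.map_cons, List.pairwise_cons]
        refine ⟨?_, h2⟩
        intro x hx
        obtain ⟨w', hw', rfl⟩ := List.mem_map.1 hx
        exact h1 w' hw'

/-- **One step of the chain.** -/
theorem step {K K' : Subgroup Co0} (hle : K' ≤ K) {gs : List ℕ} (hgs : ∀ c ∈ gs, HasCode K c) {V : ℕ}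
    (hV : OkR cfg V) (hfix : ∀ g ∈ K', act (rv V) g = rv V)
    {ws : List (List ℕ)} (h : incr gs V ws = true) (hfin : Finite K) :
    ws.length * Nat.card K' ≤ Nat.card K := by
  unfold incr at h
  rw [Bool.and_eq_true, List.all_eq_true] at h
  obtain ⟨hok, h⟩ := h
  obtain ⟨-, hpw⟩ := incrK_spec h
  have hex : ∀ i : Fin ws.length, ∃ g ∈ K, rho g = ((wmats gs ws[i]).map mt).prod := by
    intro i
    exact exists_word fun c hc => hgs c (wok_mem (hok _ (List.getElem_mem i.2)) hc)
  choose f hf hfr using hex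
  have hrun : ∀ i, OkR cfg (run cfg (wmats gs ws[i]) V) ∧
      rv (run cfg (wmats gs ws[i]) V) = act (rv V) (f i) := by
    intro i
    have h1 := run_rv (w := wmats gs ws[i]) (fun g hg =>
      (hgs g (wok_mem (hok _ (List.getElem_mem i.2)) hg)).1) hV
    refine ⟨h1.1, ?_⟩
    rw [h1.2, ← hfr]
    rfl
  let F : Fin ws.length × K' → K := fun p => ⟨p.2 * f p.1, K.mul_mem (hle p.2.2) (hf p.1)⟩
  have hF : Function.Injective F := by
    rintro ⟨i, k⟩ ⟨j, l⟩ heq
    have h1 : (k : Co0) * f i = l * f j := congrArg Subtype.val heq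
    have h2 : act (rv V) ((k : Co0) * f i) = act (rv V) ((l : Co0) * f j) := by rw [h1]
    rw [act_mul, act_mul, hfix _ k.2, hfix _ l.2, ← (hrun i).2, ← (hrun j).2] at h2
    have h3 := rv_inj (hrun i).1 (hrun j).1 h2
    have hij : i = j := by
      by_contra hne
      have hp := List.pairwise_iff_getElem.1 hpw
      rcases lt_or_gt_of_ne (fun h : (i : ℕ) = j => hne (Fin.ext h)) with hlt | hlt
      · have := hp i j (by simp) (by simp) hlt
        simp only [List.getElem_map] at this
        exact absurd h3 this.ne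
      · have := hp j i (by simp) (by simp) hlt
        simp only [List.getElem_map] at this
        exact absurd h3.symm this.ne
    subst hij
    have h4 : (k : Co0) = l := mul_right_cancel h1
    rw [Subtype.ext h4]
  have := Nat.card_le_card_of_injective F hF
  rwa [Nat.card_prod, Nat.card_fin] at this

/-! ### identities -/

/-- the matrix of a word -/
theorem word_rho {gs : List ℕ} {g : ℕ → Co0} (hg : ∀ k < gs.length, okG cfg (gs.getD k 0) = true ∧
      rho (g k) = mt (gs.getD k 0)) {u : List ℕ} (hu : wok gs u = true) :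
    (∀ c ∈ wmats gs u, okG cfg c = true) ∧ rho ((u.map g).prod) = ((wmats gs u).map mt).prod := by
  induction u with
  | nil =>
    refine ⟨fun c hc => absurd hc (List.not_mem_nil), ?_⟩
    show rho 1 = 1
    exact map_one _
  | cons k u ih =>
    unfold wok at hu
    rw [List.all_cons, Bool.and_eq_true, Nat.blt_eq] at hu
    obtain ⟨i1, i2⟩ := ih hu.2
    obtain ⟨j1, j2⟩ := hg k hu.1
    refine ⟨?_, ?_⟩
    · intro c hc
      rcases List.mem_cons.1 hc with rfl | hc
      · exact j1
      · exact i1 c hc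
    · rw [List.map_cons, List.prod_cons, map_mul, i2, j2]
      rfl

/-- identity of words in elements with codes -/
theorem word_eq {gs : List ℕ} {g : ℕ → Co0} (hg : ∀ k < gs.length, okG cfg (gs.getD k 0) = true ∧
      rho (g k) = mt (gs.getD k 0)) {u w : List ℕ}
    (h : (wok gs u && wok gs w && checkEq cfg (wmats gs u) (wmats gs w) 0 24) = true) :
    (u.map g).prod = (w.map g).prod := by
  rw [Bool.and_eq_true, Bool.and_eq_true] at h
  obtain ⟨⟨h1, h2⟩, h3⟩ := h
  obtain ⟨k1, k2⟩ := word_rho hg h1
  obtain ⟨l1, l2⟩ := word_rho hg h2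
  apply rho_injective
  rw [k2, l2]
  exact mt_prod_eq k1 l1 h3

/-- a word which moves a row is not trivial -/
theorem word_ne_one {gs : List ℕ} {g : ℕ → Co0} (hg : ∀ k < gs.length, okG cfg (gs.getD k 0) = true ∧
      rho (g k) = mt (gs.getD k 0)) {u : List ℕ} (hu : wok gs u = true) {V : ℕ} (hV : OkR cfg V)
    (h : Nat.beq (run cfg (wmats gs u) V) V = false) : (u.map g).prod ≠ 1 := by
  intro h1
  obtain ⟨k1, k2⟩ := word_rho hg hu
  obtain ⟨l1, l2⟩ := run_rv k1 hV
  rw [← k2, h1, map_one, Matrix.vecMul_one] at l2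
  rw [rv_inj l1 hV l2, Nat.beq_refl] at h
  exact absurd h (by decide)

end Cfsg.Agent.SporRec.LeechChain
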