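import Cfsg.Agent.Lib.PackMat
import Cfsg.Agent.LeechMat.Orbit

/-!
# The automorphisms of the Leech lattice modulo three

`rho : Co0 →* Matrix (Fin 24) (Fin 24) (ZMod 3)` is injective.  Kernel-fast computations with `PackMat`: `HasCode K G`
means that the packed matrix `G` is the matrix of an element of the subgroup `K`.
-/

set_option autoImplicit false

namespace Cfsg.Agent.SporRec.LeechMod3

open Cfsg Cfsg.Agent.LeechMat.Code Cfsg.Agent.LeechMat.Core Cfsg.Agent.LeechMat.Gen
  Cfsg.Agent.LeechMat.Elements Cfsg.Agent.LeechMat.Orbit Cfsg.Agent.Lib.PackMat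

/-- Square matrices of size 24 modulo three. -/
abbrev Mx24 := Matrix (Fin 24) (Fin 24) (ZMod 3)

/-! ### the vectors `8 e_p` -/

/-- code of `8 e_k` -/
def c8 (k : ℕ) : ℕ := Z0 + (8 <<< (5 * k))

theorem c8_leech : ∀ p : GolayPt, isLeech (c8 (pos p)) = true := by decide +kernel

theorem vec_c8 (p q : GolayPt) : vec (c8 (pos p)) q = if q = p then 8 else 0 := by
  have : ∀ p q, vec (c8 (pos p)) q = if q = p then 8 else 0 := by decide +kernel
  exact this p q

/-- the lattice vector `8 e_p` -/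
def E8 (p : GolayPt) : leechLattice := ⟨vec (c8 (pos p)), isLeech_sound (c8_leech p)⟩

theorem E8_apply (p q : GolayPt) : (E8 p : GolayPt → ℤ) q = if q = p then 8 else 0 := vec_c8 p q

/-- an element of `Co0` as an additive homomorphism -/
def toHom (g : Co0) : leechLattice →+ leechLattice where
  toFun x := g • x
  map_zero' := co0_smul_zero g
  map_add' := co0_smul_add g

theorem toHom_apply (g : Co0) (x : leechLattice) : toHom g x = g • x := rfl

theorem sum_E8 (x : leechLattice) :
    (8 : ℤ) • x = ∑ p : GolayPt, ((x : GolayPt → ℤ) p) • E8 p := by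
  apply Subtype.ext
  funext q
  have h1 : (((8 : ℤ) • x : leechLattice) : GolayPt → ℤ) q = 8 * (x : GolayPt → ℤ) q := by
    rw [AddSubgroup.coe_zsmul, Pi.smul_apply, smul_eq_mul]
  rw [h1, AddSubgroup.val_finsetSum, Finset.sum_apply, Finset.sum_eq_single q]
  · rw [AddSubgroup.coe_zsmul, Pi.smul_apply, E8_apply, if_pos rfl, smul_eq_mul, mul_comm]
  · intro p _ hp
    rw [AddSubgroup.coe_zsmul, Pi.smul_apply, E8_apply, if_neg hp.symm, smul_zero]
  · intro h; exact absurd (Finset.mem_univ _) h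

theorem smul_key (g : Co0) (x : leechLattice) (q : GolayPt) :
    8 * ((g • x : leechLattice) : GolayPt → ℤ) q =
      ∑ p : GolayPt, (x : GolayPt → ℤ) p * ((g • E8 p : leechLattice) : GolayPt → ℤ) q := by
  have h := congrArg (toHom g) (sum_E8 x)
  rw [map_zsmul, map_sum] at h
  have h1 := congrArg (fun y : leechLattice => (y : GolayPt → ℤ) q) h
  simp only [toHom_apply] at h1
  rw [AddSubgroup.coe_zsmul, Pi.smul_apply, smul_eq_mul, AddSubgroup.val_finsetSum,
    Finset.sum_apply] at h1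
  rw [h1]
  apply Finset.sum_congr rfl
  intro p _
  have h2 : g • ((x : GolayPt → ℤ) p • E8 p) = (x : GolayPt → ℤ) p • (g • E8 p) :=
    (toHom g).map_zsmul _ _
  rw [h2, AddSubgroup.coe_zsmul, Pi.smul_apply, smul_eq_mul]

/-! ### the representation modulo three -/

/-- the matrix of an automorphism modulo three (8 times the matrix is integral, and `8 = -1`) -/
def rhoM (g : Co0) : Mx24 := fun i j =>
  -((((g • E8 (pt j) : leechLattice) : GolayPt → ℤ) (pt i) : ℤ) : ZMod 3)

theorem sum_pt {A : Type*} [AddCommMonoid A] (f : GolayPt → A) :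
    ∑ p : GolayPt, f p = ∑ k : Fin 24, f (pt k) := by
  have h : ∑ k : Fin 24, f (pt k) = ∑ k ∈ Finset.range 24, f (pt k) :=
    Fin.sum_univ_eq_sum_range (fun k => f (pt k)) 24
  rw [h]
  refine Finset.sum_nbij' pos pt ?_ ?_ ?_ ?_ ?_
  · intro p _; exact Finset.mem_range.2 (pos_lt p)
  · intro _ _; exact Finset.mem_univ _
  · intro p _; exact pt_pos p
  · intro k hk; exact pos_pt k (Finset.mem_range.1 hk)
  · intro p _; rw [pt_pos]

theorem eight : (8 : ZMod 3) = -1 := by decide

theorem rhoM_mul (g h : Co0) : rhoM (g * h) = rhoM g * rhoM h := by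
  ext i k
  rw [Matrix.mul_apply]
  have h1 := smul_key g (h • E8 (pt k)) (pt i)
  have h2 : ((8 * ((g • h • E8 (pt k) : leechLattice) : GolayPt → ℤ) (pt i) : ℤ) : ZMod 3) =
      ∑ j : Fin 24, rhoM g i j * rhoM h j k := by
    rw [h1, sum_pt, Int.cast_sum]
    apply Finset.sum_congr rfl
    intro j _
    rw [Int.cast_mul]
    unfold rhoM
    ring
  rw [← h2, Int.cast_mul]
  show -((((g * h) • E8 (pt k) : leechLattice) : GolayPt → ℤ) (pt i) : ZMod 3) = _
  rw [mul_smul, show ((8 : ℤ) : ZMod 3) = -1 from eight]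
  ring

theorem pt_inj {i j : Fin 24} (h : pt i = pt j) : i = j := by
  apply Fin.ext
  rw [← pos_pt i i.2, ← pos_pt j j.2, h]

theorem rhoM_one : rhoM 1 = 1 := by
  ext i j
  unfold rhoM
  rw [one_smul, E8_apply, Matrix.one_apply]
  by_cases h : i = j
  · subst h; rw [if_pos rfl, if_pos rfl]; decide
  · rw [if_neg (fun h' => h (pt_inj h')), if_neg h]; decide

/-- the representation modulo three -/
def rho : Co0 →* Mx24 where
  toFun := rhoM
  map_one' := rhoM_one
  map_mul' := rhoM_mul

theorem rho_apply (g : Co0) (i j : Fin 24) :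
    rho g i j = -((((g • E8 (pt j) : leechLattice) : GolayPt → ℤ) (pt i) : ℤ) : ZMod 3) := rfl

theorem sq_bound {y : GolayPt → ℤ} {p q : GolayPt} (hpq : p ≠ q) :
    y p ^ 2 + y q ^ 2 ≤ sqNorm y := by
  unfold sqNorm
  have h1 : ∑ i ∈ ({p, q} : Finset GolayPt), y i ^ 2 ≤ ∑ i, y i ^ 2 :=
    Finset.sum_le_sum_of_subset_of_nonneg (Finset.subset_univ _) (fun i _ _ => sq_nonneg _)
  rwa [Finset.sum_pair hpq] at h1

/-- a lattice vector of norm 64 congruent to `8 e_p` modulo three is `8 e_p` -/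
theorem eq_E8 (y : leechLattice) (p : GolayPt) (hN : sqNorm (y : GolayPt → ℤ) = 64)
    (h0 : ∀ q, q ≠ p → (((y : GolayPt → ℤ) q : ℤ) : ZMod 3) = 0)
    (h1 : (((y : GolayPt → ℤ) p : ℤ) : ZMod 3) = -1) : y = E8 p := by
  have hd : ∀ q, q ≠ p → (3 : ℤ) ∣ (y : GolayPt → ℤ) q := fun q hq =>
    (ZMod.intCast_zmod_eq_zero_iff_dvd _ 3).1 (h0 q hq)
  obtain ⟨m, z, hz, -, -⟩ := (mem_leech_iff _).1 y.2
  have hp3 : ((y : GolayPt → ℤ) p) % 3 = 2 := by
    have h2 : ((((y : GolayPt → ℤ) p + 1 : ℤ)) : ZMod 3) = 0 := by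
      rw [Int.cast_add, h1]; simp
    have h3 := (ZMod.intCast_zmod_eq_zero_iff_dvd _ 3).1 h2
    push_cast at h3
    omega
  -- all other coordinates vanish
  have hzero : ∀ q, q ≠ p → (y : GolayPt → ℤ) q = 0 := by
    intro q hq
    by_contra hne
    obtain ⟨a, ha⟩ := hd q hq
    rcases Int.even_or_odd m with hm | hm
    · -- even
      have hev : ∀ i, Even ((y : GolayPt → ℤ) i) := by
        intro i; rw [hz]; exact hm.add (even_two_mul _)
      have hother : ∀ r, r ≠ p → r ≠ q → (y : GolayPt → ℤ) r = 0 := by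
        intro r hr hrq
        by_contra hr0
        obtain ⟨b, hb⟩ := hd r hr
        have h2 := sq_bound (y := (y : GolayPt → ℤ)) hrq
        rw [hN] at h2
        have e1 := hev q
        have e2 := hev r
        have b1 : 6 ≤ |(y : GolayPt → ℤ) q| := by
          obtain ⟨c, hc⟩ := e1
          rcases abs_cases ((y : GolayPt → ℤ) q) with h | h <;> omega
        have b2 : 6 ≤ |(y : GolayPt → ℤ) r| := by
          obtain ⟨c, hc⟩ := e2
          rcases abs_cases ((y : GolayPt → ℤ) r) with h | h <;> omega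
        have c1 : 36 ≤ (y : GolayPt → ℤ) q ^ 2 := by rw [← sq_abs]; nlinarith
        have c2 : 36 ≤ (y : GolayPt → ℤ) r ^ 2 := by rw [← sq_abs]; nlinarith
        omega
      have hsum : sqNorm (y : GolayPt → ℤ) = (y : GolayPt → ℤ) p ^ 2 + (y : GolayPt → ℤ) q ^ 2 := by
        unfold sqNorm
        rw [← Finset.sum_pair (f := fun i => (y : GolayPt → ℤ) i ^ 2) (Ne.symm hq)]
        symm
        apply Finset.sum_subset (Finset.subset_univ _)
        intro r _ hr
        simp only [Finset.mem_insert, Finset.mem_singleton, not_or] at hr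
        rw [hother r hr.1 hr.2]; norm_num
      rw [hN] at hsum
      have key2 : ∀ u v : ℤ, 64 = u ^ 2 + v ^ 2 → -8 ≤ u ∧ u ≤ 8 := by
        intro u v h
        constructor <;> nlinarith [sq_nonneg v]
      have b2 := key2 _ _ hsum
      have b1 := key2 _ _ (hsum.trans (add_comm _ _))
      obtain ⟨c, hc⟩ := hev q
      have key : ∀ u v : ℤ, -8 ≤ u → u ≤ 8 → -8 ≤ v → v ≤ 8 → u % 3 = 2 → v % 6 = 0 → v ≠ 0 →
          64 = u ^ 2 + v ^ 2 → False := by
        intro u v h1 h2 h3 h4
        interval_cases u <;> interval_cases v <;> norm_num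
      exact key _ _ b2.1 b2.2 b1.1 b1.2 hp3 (by omega) hne hsum
    · -- odd: all coordinates odd
      have hod : ∀ i, Odd ((y : GolayPt → ℤ) i) := by
        intro i; rw [hz]; exact hm.add_even (even_two_mul _)
      have h9 : ∀ r ∈ (Finset.univ.erase p : Finset GolayPt), (9 : ℤ) ≤ (y : GolayPt → ℤ) r ^ 2 := by
        intro r hr
        obtain ⟨b, hb⟩ := hd r (Finset.ne_of_mem_erase hr)
        obtain ⟨c, hc⟩ := hod r
        have b2 : 3 ≤ |(y : GolayPt → ℤ) r| := by
          rcases abs_cases ((y : GolayPt → ℤ) r) with h | h <;> omega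
        rw [← sq_abs]; nlinarith
      have h2 : ∑ r ∈ (Finset.univ.erase p : Finset GolayPt), (9 : ℤ) ≤ sqNorm (y : GolayPt → ℤ) := by
        refine (Finset.sum_le_sum h9).trans ?_
        unfold sqNorm
        exact Finset.sum_le_sum_of_subset_of_nonneg (Finset.erase_subset _ _)
          (fun i _ _ => sq_nonneg _)
      rw [Finset.sum_const, Finset.card_erase_of_mem (Finset.mem_univ _), hN] at h2
      have : (Finset.univ : Finset GolayPt).card = 24 := by decide
      rw [this] at h2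
      norm_num at h2
  have hp2 : (y : GolayPt → ℤ) p ^ 2 = 64 := by
    rw [← hN]
    unfold sqNorm
    rw [Finset.sum_eq_single p]
    · intro q _ hq; rw [hzero q hq]; norm_num
    · intro h; exact absurd (Finset.mem_univ _) h
  have hp8 : (y : GolayPt → ℤ) p = 8 := by
    have h3 : ((y : GolayPt → ℤ) p - 8) * ((y : GolayPt → ℤ) p + 8) = 0 := by
      have : ((y : GolayPt → ℤ) p - 8) * ((y : GolayPt → ℤ) p + 8) = (y : GolayPt → ℤ) p ^ 2 - 64 := by ring
      rw [this, hp2]; norm_num
    rcases mul_eq_zero.1 h3 with h | h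
    · omega
    · omega
  apply Subtype.ext
  funext q
  rw [E8_apply]
  by_cases h : q = p
  · subst h; rw [if_pos rfl]; exact hp8
  · rw [if_neg h]; exact hzero q h

theorem sqNorm_E8 (p : GolayPt) : sqNorm (E8 p : GolayPt → ℤ) = 64 := by
  unfold sqNorm
  rw [Finset.sum_eq_single p]
  · rw [E8_apply, if_pos rfl]; norm_num
  · intro q _ hq; rw [E8_apply, if_neg hq]; norm_num
  · intro h; exact absurd (Finset.mem_univ _) h

theorem eq_one_of_rho {k : Co0} (h : rho k = 1) : k = 1 := by
  have h1 : ∀ p, k • E8 p = E8 p := by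
    intro p
    apply eq_E8
    · rw [co0_sqNorm, sqNorm_E8]
    · intro q hq
      have h2 := congrFun (congrFun h ⟨pos q, pos_lt q⟩) ⟨pos p, pos_lt p⟩
      rw [rho_apply, Matrix.one_apply_ne] at h2
      · have h3 := neg_eq_zero.1 h2
        rwa [show pt ((⟨pos q, pos_lt q⟩ : Fin 24) : ℕ) = q from pt_pos q,
          show pt ((⟨pos p, pos_lt p⟩ : Fin 24) : ℕ) = p from pt_pos p] at h3
      · intro h3
        exact hq (pos_inj (congrArg Fin.val h3))
    · have h2 := congrFun (congrFun h ⟨pos p, pos_lt p⟩) ⟨pos p, pos_lt p⟩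
      rw [rho_apply, Matrix.one_apply_eq] at h2
      rw [show pt ((⟨pos p, pos_lt p⟩ : Fin 24) : ℕ) = p from pt_pos p] at h2
      rw [← h2, neg_neg]
  apply Subtype.ext
  apply Equiv.ext
  intro x
  show ((k • x : leechLattice)) = x
  apply Subtype.ext
  funext q
  have h2 := smul_key k x q
  have h3 := smul_key 1 x q
  simp only [h1] at h2
  simp only [one_smul] at h3
  rw [← h3] at h2
  exact mul_left_cancel₀ (by norm_num) h2

/-- **The representation modulo three is faithful.** -/
theorem rho_injective : Function.Injective rho := by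
  intro g h hgh
  have h1 : rho (h⁻¹ * g) = 1 := by
    rw [map_mul, hgh, ← map_mul, inv_mul_cancel, map_one]
  exact (inv_mul_eq_one.mp (eq_one_of_rho h1)).symm

/-! ### Codes -/

/-- the configuration -/
def cfg : Cfg := ⟨24, 15, 3, 2, 0, 1, 171, 9⟩

/-- the matrix with code `G` -/
def mt (G : ℕ) : Mx24 := mat cfg G

/-- the row with code `R` -/
def rv (R : ℕ) : Fin 24 → ZMod 3 := rowVec cfg R

theorem cfg_good : cfg.good = true := by decide +kernel

/-- `G` is the packed matrix of an element of `K` -/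
def HasCode (K : Subgroup Co0) (G : ℕ) : Prop :=
  okG cfg G = true ∧ ∃ g ∈ K, rho g = mt G

/-- the check that `G` is the packed matrix given by the list of columns `A` (8 times the matrix) -/
def matchCode (A : List ℕ) (G : ℕ) : Bool :=
  allTo (fun i => allTo (fun j => (dg 15 G (i + 24 * j) + dig (A.getD j 0) i + 2) % 3 == 0) 24) 24

theorem rho_of_match {A : List ℕ} {g : Co0} (hr : Rep 8 A g) {G : ℕ} (h : matchCode A G = true) :
    rho g = mt G := by
  obtain ⟨-, hlen, hA, hg⟩ := hr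
  unfold matchCode at h
  rw [allTo_iff] at h
  ext i j
  have h1 := h i i.2
  rw [allTo_iff] at h1
  have h2 := h1 j j.2
  rw [beq_iff_eq] at h2
  rw [rho_apply]
  have h3 := congrFun (hg (E8 (pt j))) (pt i)
  have h4 : mv A (E8 (pt j) : GolayPt → ℤ) (pt i) = 8 * vec (A.getD (j : ℕ) 0) (pt i) := by
    show ∑ q, (E8 (pt j) : GolayPt → ℤ) q * vec (A.getD (pos q) 0) (pt i) = _
    rw [Finset.sum_eq_single (pt j)]
    · rw [E8_apply, if_pos rfl, pos_pt j j.2]
    · intro q _ hq; rw [E8_apply, if_neg hq, zero_mul]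
    · intro h; exact absurd (Finset.mem_univ _) h
  rw [h4, Pi.smul_apply, smul_eq_mul] at h3
  have h5 : ((g • E8 (pt j) : leechLattice) : GolayPt → ℤ) (pt i) = sdig (A.getD (j : ℕ) 0) i := by
    have h6 : (8 : ℤ) * vec (A.getD (j : ℕ) 0) (pt i) =
        8 * ((g • E8 (pt j) : leechLattice) : GolayPt → ℤ) (pt i) := by exact_mod_cast h3
    have h7 := mul_left_cancel₀ (by norm_num) h6
    rw [← h7, vec_apply, pos_pt i i.2]
  rw [h5]
  show _ = ((dg 15 G (i + 24 * j) : ℕ) : ZMod 3)
  have h6 : ((dg 15 G (i + 24 * j) + dig (A.getD (j : ℕ) 0) i + 2 : ℕ) : ZMod 3) = 0 :=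
    (ZMod.natCast_eq_zero_iff _ 3).2 (Nat.dvd_of_mod_eq_zero h2)
  unfold sdig
  push_cast at h6 ⊢
  have e16 : (16 : ZMod 3) = -2 := by decide
  rw [e16]
  linear_combination -h6

/-- the right action on rows -/
def act (v : Fin 24 → ZMod 3) (g : Co0) : Fin 24 → ZMod 3 := Matrix.vecMul v (rho g)

theorem act_mul (v : Fin 24 → ZMod 3) (g h : Co0) : act v (g * h) = act (act v g) h := by
  unfold act
  rw [map_mul, Matrix.vecMul_vecMul]

theorem act_one (v : Fin 24 → ZMod 3) : act v 1 = v := by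
  unfold act
  rw [map_one, Matrix.vecMul_one]

theorem run_rv {w : List ℕ} (hw : ∀ g ∈ w, okG cfg g = true) {R : ℕ} (hR : OkR cfg R) :
    OkR cfg (run cfg w R) ∧ rv (run cfg w R) = Matrix.vecMul (rv R) (w.map mt).prod :=
  run_spec (good_of_check cfg_good) w hw hR

theorem rv_inj {R S : ℕ} (hR : OkR cfg R) (hS : OkR cfg S) (h : rv R = rv S) : R = S :=
  rowVec_injOn hR hS h

theorem mt_prod_eq {w₁ w₂ : List ℕ} (h1 : ∀ g ∈ w₁, okG cfg g = true) (h2 : ∀ g ∈ w₂, okG cfg g = true)
    (h : checkEq cfg w₁ w₂ 0 24 = true) : (w₁.map mt).prod = (w₂.map mt).prod :=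
  prod_eq_of_check cfg_good (by decide) h1 h2 h

end Cfsg.Agent.SporRec.LeechMod3
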