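import Cfsg.Agent.SporRec.LyFiveFrame

/-!
# Abelian subgroups of order divisible by 25 of the symmetric group of degree 11

They are generated by two disjoint 5-cycles.
-/

set_option autoImplicit false

namespace Cfsg.Agent.SporRec.LyFiveAbel

open Subgroup Equiv Cfsg Cfsg.Agent.SporRec.TwoAn Cfsg.Agent.SporRec.LyType

section perm

variable {P : Subgroup (Perm (Fin 11))} (hP : ∀ a ∈ P, ∀ b ∈ P, a * b = b * a)

include hP in
/-- A point stabiliser fixes the orbit pointwise. -/
theorem fix_orbit {x y : Fin 11} (hy : y ∈ MulAction.orbit P x) {s : P} (hs : s ∈ MulAction.stabilizer P x) :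
    s • y = y := by
  obtain ⟨p, rfl⟩ := hy
  show s • (p • x) = p • x
  have hc : s * p = p * s := Subtype.ext (hP s s.2 p p.2)
  rw [← mul_smul, hc, mul_smul, MulAction.mem_stabilizer_iff.1 hs]

include hP in
theorem five_dvd_orbit {g : P} (hg5 : g ^ 5 = 1) {x : Fin 11} (hx : g • x ≠ x) :
    5 ∣ Nat.card (MulAction.orbit P x) := by
  classical
  have hn : (MulAction.stabilizer P x).Normal := ⟨fun n hn p => by
    have hc : p * n = n * p := Subtype.ext (hP p p.2 n n.2)
    rw [hc, mul_inv_cancel_right]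
    exact hn⟩
  have h1 : Nat.card (P ⧸ MulAction.stabilizer P x) = Nat.card (MulAction.orbit P x) :=
    Nat.card_congr (MulAction.orbitEquivQuotientStabilizer P x).symm
  have h2 : orderOf (g : P ⧸ MulAction.stabilizer P x) = 5 := by
    have : Fact (Nat.Prime 5) := ⟨by norm_num⟩
    refine orderOf_eq_prime ?_ ?_
    · rw [← QuotientGroup.mk_pow, hg5, QuotientGroup.mk_one]
    · intro h
      rw [QuotientGroup.eq_one_iff] at h
      exact hx (MulAction.mem_stabilizer_iff.1 h)
  rw [← h1, ← h2]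
  exact orderOf_dvd_natCard _

theorem smul_notMem_orbit {x y : Fin 11} (hy : y ∉ MulAction.orbit P x) (s : P) : s • y ∉ MulAction.orbit P x := by
  intro h
  apply hy
  rw [← MulAction.orbit_eq_iff] at h ⊢
  rw [← h, MulAction.orbit_smul]

theorem orbit_pos (x : Fin 11) : 0 < Nat.card (MulAction.orbit P x) := by
  have : Nonempty (MulAction.orbit P x) := ⟨⟨x, MulAction.mem_orbit_self x⟩⟩
  exact Nat.card_pos

include hP in
/-- Two disjoint 5-cycles generating. -/
theorem exists_cycles (h25 : 25 ∣ Nat.card P) : Nat.card P = 25 ∧ ∃ σ ∈ P, ∃ τ ∈ P, σ.IsCycle ∧ σ.support.card = 5 ∧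
    τ.IsCycle ∧ τ.support.card = 5 ∧ σ.Disjoint τ ∧ ∀ p ∈ P, ∃ i j : ℕ, p = σ ^ i * τ ^ j := by
  classical
  have hp5 : Fact (Nat.Prime 5) := ⟨by norm_num⟩
  have hcard : ∀ x : Fin 11, Nat.card (MulAction.orbit P x) * Nat.card (MulAction.stabilizer P x) = Nat.card P := by
    intro x
    rw [Nat.card_eq_fintype_card, Nat.card_eq_fintype_card, Nat.card_eq_fintype_card,
      MulAction.card_orbit_mul_card_stabilizer_eq_card_group]
  have hle : ∀ x : Fin 11, Nat.card (MulAction.orbit P x) ≤ 11 := by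
    intro x
    calc Nat.card (MulAction.orbit P x) ≤ Nat.card (Fin 11) := Finite.card_subtype_le _
      _ = 11 := by simp
  -- first orbit
  obtain ⟨g1, hg1⟩ := exists_prime_orderOf_dvd_card' (G := P) 5 (dvd_trans (by norm_num) h25)
  have hg15 : g1 ^ 5 = 1 := by rw [← hg1, pow_orderOf_eq_one]
  have hmove : ∀ g : P, g ≠ 1 → ∃ x : Fin 11, g • x ≠ x := by
    intro g hg
    by_contra hcon
    push Not at hcon
    exact hg (Subtype.ext (Perm.ext fun x => hcon x))
  obtain ⟨x1, hx1⟩ := hmove g1 (by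
    intro h
    rw [h, orderOf_one] at hg1
    omega)
  have ho1 := five_dvd_orbit hP hg15 hx1
  -- a non-trivial stabiliser
  have hS1 : 5 ∣ Nat.card (MulAction.stabilizer P x1) := by
    have h1 := hcard x1
    have h2 := hle x1
    have h3 := orbit_pos (P := P) x1
    rw [← h1] at h25
    obtain ⟨m, hm⟩ := ho1
    have hm' : m = 1 ∨ m = 2 := by omega
    rw [hm, mul_assoc] at h25
    have h4 : 5 ∣ m * Nat.card (MulAction.stabilizer P x1) := by
      have : 5 * 5 ∣ 5 * (m * Nat.card (MulAction.stabilizer P x1)) := h25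
      exact Nat.dvd_of_mul_dvd_mul_left (by norm_num) this
    rcases hm' with rfl | rfl
    · simpa using h4
    · exact (Nat.Coprime.dvd_mul_left (by norm_num)).1 h4
  obtain ⟨g2, hg2⟩ := exists_prime_orderOf_dvd_card' (G := MulAction.stabilizer P x1) 5 hS1
  have hg25 : (g2 : P) ^ 5 = 1 := by
    have : g2 ^ 5 = 1 := by rw [← hg2, pow_orderOf_eq_one]
    exact congrArg Subtype.val this
  have hg2ne : (g2 : P) ≠ 1 := by
    intro h
    have : g2 = 1 := Subtype.ext h
    rw [this, orderOf_one] at hg2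
    omega
  obtain ⟨x2, hx2⟩ := hmove g2 hg2ne
  have ho2 := five_dvd_orbit hP hg25 hx2
  have hx21 : x2 ∉ MulAction.orbit P x1 := fun h => hx2 (fix_orbit hP h g2.2)
  -- the two orbits are disjoint
  have hdis : Disjoint (MulAction.orbit P x1) (MulAction.orbit P x2) := by
    rw [Set.disjoint_left]
    intro y hy1 hy2
    apply hx21
    rw [← MulAction.orbit_eq_iff] at hy1 hy2 ⊢
    rw [← hy2, hy1]
  have hunion : (MulAction.orbit P x1 ∪ MulAction.orbit P x2).ncard =
      Nat.card (MulAction.orbit P x1) + Nat.card (MulAction.orbit P x2) :=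
    Set.ncard_union_eq hdis (Set.toFinite _) (Set.toFinite _)
  have hcompl := Set.ncard_add_ncard_compl (MulAction.orbit P x1 ∪ MulAction.orbit P x2)
  rw [hunion, Nat.card_eq_fintype_card (α := Fin 11), Fintype.card_fin] at hcompl
  have hpos1 := orbit_pos (P := P) x1
  have hpos2 := orbit_pos (P := P) x2
  have hc1 : Nat.card (MulAction.orbit P x1) = 5 := by omega
  have hc2 : Nat.card (MulAction.orbit P x2) = 5 := by omega
  have hc3 : (MulAction.orbit P x1 ∪ MulAction.orbit P x2)ᶜ.ncard = 1 := by omega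
  obtain ⟨q, hq⟩ := Set.ncard_eq_one.1 hc3
  have hqq : ∀ y, y ∉ MulAction.orbit P x1 → y ∉ MulAction.orbit P x2 → y = q := by
    intro y h1 h2
    have : y ∈ (MulAction.orbit P x1 ∪ MulAction.orbit P x2)ᶜ := by
      rw [Set.mem_compl_iff, Set.mem_union]
      tauto
    rw [hq] at this
    exact this
  have hfix1 : ∀ s : P, s ∈ MulAction.stabilizer P x1 → ∀ y, y ∉ MulAction.orbit P x2 → s • y = y := by
    intro s hs y hy
    by_cases h1 : y ∈ MulAction.orbit P x1
    · exact fix_orbit hP h1 hs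
    · rw [hqq y h1 hy, hqq (s • q)]
      · rw [← hqq y h1 hy]; exact smul_notMem_orbit h1 s
      · rw [← hqq y h1 hy]; exact smul_notMem_orbit hy s
  have hfix2 : ∀ s : P, s ∈ MulAction.stabilizer P x2 → ∀ y, y ∉ MulAction.orbit P x1 → s • y = y := by
    intro s hs y hy
    by_cases h1 : y ∈ MulAction.orbit P x2
    · exact fix_orbit hP h1 hs
    · rw [hqq y hy h1, hqq (s • q)]
      · rw [← hqq y hy h1]; exact smul_notMem_orbit hy s
      · rw [← hqq y hy h1]; exact smul_notMem_orbit h1 s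
  have htriv : ∀ s : P, s ∈ MulAction.stabilizer P x1 → s ∈ MulAction.stabilizer P x2 → s = 1 := by
    intro s hs1 hs2
    by_contra hne
    obtain ⟨y, hy⟩ := hmove s hne
    by_cases h2 : y ∈ MulAction.orbit P x2
    · exact hy (fix_orbit hP h2 hs2)
    · exact hy (hfix1 s hs1 y h2)
  -- the order
  have hcS1 : Nat.card (MulAction.stabilizer P x1) ≤ 5 := by
    rw [← hc2]
    refine Nat.card_le_card_of_injective (fun s : MulAction.stabilizer P x1 =>
      (⟨(s : P) • x2, MulAction.mem_orbit _ _⟩ : MulAction.orbit P x2)) ?_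
    intro s s' h
    have h1 : (s : P) • x2 = (s' : P) • x2 := congrArg Subtype.val h
    have h2 : (s' : P)⁻¹ * s = 1 := by
      apply htriv
      · exact mul_mem (inv_mem s'.2) s.2
      · rw [MulAction.mem_stabilizer_iff, mul_smul, h1, inv_smul_smul]
    exact Subtype.ext (inv_mul_eq_one.1 h2).symm
  have hcP : Nat.card P = 25 := by
    have h1 := hcard x1
    rw [hc1] at h1
    have h2 : 0 < Nat.card P := Nat.card_pos
    have h3 := Nat.le_of_dvd h2 h25
    omega
  have hcS1' : Nat.card (MulAction.stabilizer P x1) = 5 := by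
    have h1 := hcard x1
    rw [hc1, hcP] at h1
    omega
  have hcS2' : Nat.card (MulAction.stabilizer P x2) = 5 := by
    have h1 := hcard x2
    rw [hc2, hcP] at h1
    omega
  obtain ⟨g3, hg3⟩ := exists_prime_orderOf_dvd_card' (G := MulAction.stabilizer P x2) 5 (by rw [hcS2'])
  have hg35 : (g3 : P) ^ 5 = 1 := by
    have : g3 ^ 5 = 1 := by rw [← hg3, pow_orderOf_eq_one]
    exact congrArg Subtype.val this
  have hg3ne : (g3 : P) ≠ 1 := by
    intro h
    have : g3 = 1 := Subtype.ext h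
    rw [this, orderOf_one] at hg3
    omega
  -- cycles
  have hcyc : ∀ (s : P) (x : Fin 11), s ^ 5 = 1 → s ≠ 1 → Nat.card (MulAction.orbit P x) = 5 →
      (∀ y, y ∉ MulAction.orbit P x → s • y = y) →
      (s : Perm (Fin 11)).IsCycle ∧ (s : Perm (Fin 11)).support.card = 5 ∧
        ∀ y, y ∈ MulAction.orbit P x ↔ y ∈ (s : Perm (Fin 11)).support := by
    intro s x hs5 hs1 hcx hs
    have hsub : (s : Perm (Fin 11)).support ⊆ (MulAction.orbit P x).toFinset := by
      intro y hy
      rw [Set.mem_toFinset]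
      by_contra h
      exact (Perm.mem_support.1 hy) (hs y h)
    have hcard5 : (MulAction.orbit P x).toFinset.card = 5 := by
      rw [Set.toFinset_card, ← Nat.card_eq_fintype_card, hcx]
    have hord : orderOf (s : Perm (Fin 11)) = 5 := by
      refine orderOf_eq_prime (congrArg Subtype.val hs5) (fun h => hs1 (Subtype.ext h))
    have h1 : (s : Perm (Fin 11)).IsCycle := by
      apply Perm.isCycle_of_prime_order
      · rw [hord]; norm_num
      · rw [hord]
        have := Finset.card_le_card hsub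
        omega
    have h2 : (s : Perm (Fin 11)).support.card = 5 := by rw [← h1.orderOf, hord]
    refine ⟨h1, h2, fun y => ?_⟩
    have h3 : (s : Perm (Fin 11)).support = (MulAction.orbit P x).toFinset :=
      Finset.eq_of_subset_of_card_le hsub (by rw [hcard5, h2])
    rw [h3, Set.mem_toFinset]
  obtain ⟨a1, a2, a3⟩ := hcyc g2 x2 hg25 hg2ne hc2 (hfix1 g2 g2.2)
  obtain ⟨b1, b2, b3⟩ := hcyc g3 x1 hg35 hg3ne hc1 (hfix2 g3 g3.2)
  refine ⟨hcP, (g2 : P), (g2 : P).2, (g3 : P), (g3 : P).2, a1, a2, b1, b2, ?_, ?_⟩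
  · rw [Perm.disjoint_iff_disjoint_support, Finset.disjoint_left]
    intro y h1 h2
    rw [← a3] at h1
    rw [← b3] at h2
    exact Set.disjoint_left.1 hdis h2 h1
  · intro p hp
    have h1 : (g3 : P).1 x1 ≠ x1 := Perm.mem_support.1 ((b3 x1).1 (MulAction.mem_orbit_self x1))
    have h2 : p x1 ∈ MulAction.orbit P x1 := MulAction.mem_orbit x1 (⟨p, hp⟩ : P)
    have h3 : (g3 : P).1 (p x1) ≠ p x1 := Perm.mem_support.1 ((b3 _).1 h2)
    obtain ⟨j, hj⟩ := b1.exists_pow_eq h1 h3
    have h4 : ((g3 : P) ^ j)⁻¹ * ⟨p, hp⟩ ∈ MulAction.stabilizer P x1 := by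
      rw [MulAction.mem_stabilizer_iff, mul_smul, inv_smul_eq_iff]
      exact hj.symm
    obtain ⟨i, hi⟩ := (mem_powers_of_prime_card (G := MulAction.stabilizer P x1) hcS1' (g := g2)
      (g' := ⟨_, h4⟩) (fun h => hg2ne (congrArg Subtype.val h)))
    refine ⟨i, j, ?_⟩
    have h5 : (g2 : P) ^ i = ((g3 : P) ^ j)⁻¹ * ⟨p, hp⟩ := congrArg Subtype.val hi
    have h6 : (⟨p, hp⟩ : P) = (g3 : P) ^ j * (g2 : P) ^ i := by rw [h5, mul_inv_cancel_left]
    have h7 : (g3 : P) ^ j * (g2 : P) ^ i = (g2 : P) ^ i * (g3 : P) ^ j :=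
      Subtype.ext (hP _ ((g3 : P) ^ j).2 _ ((g2 : P) ^ i).2)
    rw [h7] at h6
    exact congrArg Subtype.val h6

end perm

end Cfsg.Agent.SporRec.LyFiveAbel
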