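import Cfsg.Agent.SporRec.LyFiveSix
import Cfsg.Agent.SporRec.LyFive

/-!
# Assembly of the 5-local data of a group of Lyons type

`exists_fixed`: if `25` divides `|C_G(f) ∩ C_G(x)|`, `x` of order `3` in `2·A₆`, then `x` centralises an element of
`core f` outside `⟨f⟩`.
`build`: the structure `LyFive` from `Extraspecial hf` and one such 3-cycle.
-/

set_option autoImplicit false
set_option linter.dupNamespace false

namespace Cfsg.Agent.SporRec.LyFiveBuild

open Subgroup Equiv Cfsg Cfsg.Agent.SporRec.TwoAn Cfsg.Agent.SporRec.LyType Cfsg.Agent.SporRec.LyFiveCore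
  Cfsg.Agent.SporRec.LyFiveExtra Cfsg.Agent.SporRec.LyFiveCov Cfsg.Agent.SporRec.LyFiveSix

section abstract_

variable {G : Type*} [Group G] [Finite G] {t f : G} {K S : Subgroup G} (h : FiveIn t f K S)

include h

omit [Finite G] in
/-- Uniqueness of the factorisation. -/
theorem factor_unique {k k' s s' : G} (hk : k ∈ K) (hk' : k' ∈ K) (hs : s ∈ S) (hs' : s' ∈ S)
    (he : k * s = k' * s') : k = k' ∧ s = s' := by
  have h1 : k'⁻¹ * k = s' * s⁻¹ := by
    calc k'⁻¹ * k = k'⁻¹ * (k * s) * s⁻¹ := by group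
      _ = k'⁻¹ * (k' * s') * s⁻¹ := by rw [he]
      _ = s' * s⁻¹ := by group
  have h2 : k'⁻¹ * k = 1 := h.eq_one_of_mem (mul_mem (inv_mem hk') hk) (by
    rw [h1]; exact mul_mem hs' (inv_mem hs))
  have h3 : k = k' := (inv_mul_eq_one.1 h2).symm
  refine ⟨h3, ?_⟩
  rw [h3] at he
  exact mul_left_cancel he

theorem exists_fixed {x : G} (hx : x ∈ S) (hno : ∀ s ∈ S, s ^ 5 = 1 → s * x = x * s → s = 1)
    (h25 : 25 ∣ Nat.card (centralizer ({f} : Set G) ⊓ centralizer ({x} : Set G) : Subgroup G)) :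
    ∃ e ∈ K, e ∉ zpowers f ∧ e * x = x * e := by
  have hp : Fact (Nat.Prime 5) := ⟨by norm_num⟩
  obtain ⟨P, hP⟩ := Sylow.exists_subgroup_card_pow_prime
    (G := (centralizer ({f} : Set G) ⊓ centralizer ({x} : Set G) : Subgroup G)) 5 (n := 2) h25
  by_contra hcon
  push Not at hcon
  -- the elements of `P` lie in `⟨f⟩`
  have key : ∀ y ∈ P, ((y : (centralizer ({f} : Set G) ⊓ centralizer ({x} : Set G) : Subgroup G)) : G) ∈ zpowers f := by
    intro y hy
    have hyf : (y : G) * f = f * y := mem_centralizer_singleton_iff.1 y.2.1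
    have hyx : (y : G) * x = x * y := mem_centralizer_singleton_iff.1 y.2.2
    obtain ⟨k, hk, s, hs, he⟩ := h.fac y hyf
    have h1 : k * (s * x) = (x * k * x⁻¹) * (x * s) := by
      rw [he] at hyx
      calc k * (s * x) = k * s * x := by group
        _ = x * (k * s) := hyx
        _ = (x * k * x⁻¹) * (x * s) := by group
    obtain ⟨h2, h3⟩ := factor_unique h hk (h.S_norm hx hk) (mul_mem hs hx) (mul_mem hx hs) h1
    have h25' : (y : G) ^ 25 = 1 := by
      have h4 : (⟨y, hy⟩ : P) ^ 25 = 1 := by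
        have := pow_card_eq_one' (G := P) (x := ⟨y, hy⟩)
        rwa [hP] at this
      have h5 := congrArg (fun z : P => ((z : (centralizer ({f} : Set G) ⊓ centralizer ({x} : Set G) : Subgroup G)) : G)) h4
      exact h5
    obtain ⟨k₁, hk₁, he₁⟩ := h.mem_K_pow hk hs 25
    rw [← he, h25'] at he₁
    have h4 : s ^ 25 = 1 := by
      have h5 : (1 : G) * 1 = k₁ * s ^ 25 := by rw [← he₁, one_mul]
      exact (factor_unique h (one_mem _) hk₁ (one_mem _) (Subgroup.pow_mem _ hs 25) h5).2.symm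
    have hs5 : s ^ 5 = 1 := by
      have d1 : orderOf s ∣ 25 := orderOf_dvd_of_pow_eq_one h4
      have d2 : orderOf s ∣ 720 := by
        have := orderOf_dvd_natCard (⟨s, hs⟩ : S)
        rw [h.six.card, Subgroup.orderOf_mk] at this
        exact this
      have d3 := Nat.dvd_gcd d1 d2
      have d4 : Nat.gcd 25 720 = 5 := by norm_num
      rw [d4] at d3
      exact orderOf_dvd_iff_pow_eq_one.1 d3
    have hs1 : s = 1 := hno s hs hs5 h3
    have hyk : (y : G) = k := by rw [he, hs1, mul_one]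
    by_contra hyF
    rw [hyk] at hyF
    apply hcon k hk hyF
    rw [hyk] at hyx
    exact hyx
  -- contradiction by counting
  let ι : P → zpowers f := fun y => ⟨_, key y y.2⟩
  have hι : Function.Injective ι := by
    intro a b hab
    have h1 := congrArg Subtype.val hab
    exact Subtype.ext (Subtype.ext h1)
  have h2 : Nat.card P ≤ Nat.card (zpowers f) := Nat.card_le_card_of_injective ι hι
  rw [hP, h.card_F] at h2
  exact absurd h2 (by norm_num)

end abstract_

section cover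

variable {α : Type*} [Fintype α] [DecidableEq α] {C : Type*} [Group C] (K : Cover α C)

include K in
/-- In `2·A₆` no element of order five commutes with an element of order three. -/
theorem five_three (hα : Fintype.card α = 6) {s x : C} (hs5 : s ^ 5 = 1) (hx3 : x ^ 3 = 1) (hx1 : x ≠ 1)
    (hsx : s * x = x * s) : s = 1 := by
  by_contra hs1
  have hπ1 : K.π s ≠ 1 := by
    intro h
    rcases (K.ker s).1 h with h2 | h2
    · exact hs1 h2
    · rw [h2] at hs5
      have : K.z = 1 := by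
        calc K.z = K.z ^ 5 * (K.z * K.z)⁻¹ * (K.z * K.z)⁻¹ := by group
          _ = 1 := by rw [hs5, K.z_mul_z]; group
      exact K.z_ne this
  have hp : Fact (Nat.Prime 5) := ⟨by norm_num⟩
  have ho : orderOf (K.π s) = 5 := orderOf_eq_prime (by rw [← map_pow, hs5, map_one]) hπ1
  have hc : (K.π s).IsCycle := Perm.isCycle_of_prime_order' (by rw [ho]; norm_num) (by rw [ho, hα]; norm_num)
  obtain ⟨k, l, hl, he⟩ := K.exists_of_comm_cycle hc hsx.symm
  -- `l` is supported on one point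
  have hcard : (K.π s).support.card = 5 := by rw [← hc.orderOf, ho]
  have hl1 : K.π l = 1 := by
    have h1 : (K.π l).support.card ≤ 1 := by
      have h2 : (K.π l).support ⊆ (K.π s).supportᶜ := by
        intro y hy
        rw [Finset.mem_compl, Perm.mem_support, not_not]
        by_contra hy'
        exact (Perm.mem_support.1 hy) (hl y hy')
      have h3 := Finset.card_le_card h2
      rw [Finset.card_compl, hcard, hα] at h3
      exact h3
    exact Perm.card_support_le_one.1 h1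
  have h2 : K.π x = K.π s ^ k := by rw [he, map_mul, hl1, mul_one, map_zpow]
  have h3 : K.π x ^ 5 = 1 := by
    rw [h2, ← zpow_natCast, ← zpow_mul, mul_comm, zpow_mul, zpow_natCast, ← ho, pow_orderOf_eq_one, one_zpow]
  have h4 : K.π x ^ 3 = 1 := by rw [← map_pow, hx3, map_one]
  have h5 : K.π x = 1 := by
    have d1 := Nat.dvd_gcd (orderOf_dvd_of_pow_eq_one h3) (orderOf_dvd_of_pow_eq_one h4)
    have d2 : Nat.gcd 5 3 = 1 := by norm_num
    rw [d2] at d1
    exact orderOf_eq_one_iff.1 (Nat.dvd_one.1 d1)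
  rcases (K.ker x).1 h5 with h6 | h6
  · exact hx1 h6
  · rw [h6] at hx3
    have : K.z = 1 := by
      calc K.z = K.z ^ 3 * (K.z * K.z)⁻¹ := by group
        _ = 1 := by rw [hx3, K.z_mul_z]; group
    exact K.z_ne this

/-- Lifts of order three of 3-cycles are conjugate. -/
theorem conj_three (hα : 5 ≤ Fintype.card α) {x y : C} (hx3 : x ^ 3 = 1) (hy3 : y ^ 3 = 1)
    (hx : (K.π x).IsThreeCycle) (hy : (K.π y).IsThreeCycle) : ∃ c : C, c * x * c⁻¹ = y := by
  have h1 := alternatingGroup.isThreeCycle_isConj (α := α) (by rwa [Nat.card_eq_fintype_card])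
    (σ := proj K x) (τ := proj K y) hx hy
  obtain ⟨σ, hσ⟩ := isConj_iff.1 h1
  obtain ⟨c, rfl⟩ := proj_surjective K σ
  refine ⟨c, K.odd_lift_unique (n := 3) (by decide) ?_ hy3 ?_⟩
  · rw [conj_pow, hx3, mul_one, mul_inv_cancel]
  · rw [map_mul, map_mul, map_inv]
    exact congrArg Subtype.val hσ

end cover

variable {G : Type*} [Group G] {L : LyType G} {f : G}

theorem mem_Sx_of_three (hf : Five L f) {x : G} (hxt : x * L.t = L.t * x) (hx3 : x ^ 3 = 1)
    (hxf : x * f = f * x) : x ∈ Sx hf := by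
  obtain ⟨k, l, hl, he⟩ := exists_factor hf hxt hxf
  have hlf : (l : G) * f = f * l := congrArg Subtype.val (L.K.comm_of_mem_sub hl)
  have h1 : f ^ (3 * k) * (l : G) ^ 3 = 1 := by
    have c1 : Commute (f ^ k) (l : G) := ((show Commute (l : G) f from hlf).zpow_right k).symm
    have h2 : x ^ 3 = (f ^ k) ^ 3 * (l : G) ^ 3 := by rw [he, c1.mul_pow]
    rw [hx3] at h2
    have h3 : f ^ (3 * k) = (f ^ k) ^ 3 := by
      rw [mul_comm, zpow_mul]
      exact zpow_natCast (f ^ k) 3
    rw [h3, ← h2]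
  have h2 : (⟨f, L.mem_iff.2 hf.comm⟩ : centralizer ({L.t} : Set G)) ^ (3 * k) ∈
      L.K.sub (fun x => L.K.π ⟨f, L.mem_iff.2 hf.comm⟩ x = x) := by
    have h3 : (⟨f, L.mem_iff.2 hf.comm⟩ : centralizer ({L.t} : Set G)) ^ (3 * k) = (l ^ 3)⁻¹ := by
      apply Subtype.ext
      show f ^ (3 * k) = ((l : G) ^ 3)⁻¹
      rw [eq_inv_iff_mul_eq_one, h1]
    rw [h3]
    exact inv_mem (Subgroup.pow_mem _ hl 3)
  have h3 := zpow_eq_one_of_mem_sub hf h2
  have h4 : (5 : ℤ) ∣ 3 * k := by
    have := orderOf_dvd_iff_zpow_eq_one.2 h3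
    rwa [orderOf_f hf] at this
  have h5 : f ^ k = 1 := by
    apply orderOf_dvd_iff_zpow_eq_one.1
    rw [orderOf_f hf]
    have : (5 : ℤ) ∣ k := by omega
    exact this
  rw [he, h5, one_mul]
  exact ⟨⟨l, hl⟩, rfl⟩

theorem no_five_three (hf : Five L f) {x : G} (hx : x ∈ Sx hf) (hx1 : x ≠ 1) (hx3 : x ^ 3 = 1) :
    ∀ s ∈ Sx hf, s ^ 5 = 1 → s * x = x * s → s = 1 := by
  rintro _ ⟨s, rfl⟩ hs5 hsx
  obtain ⟨x, rfl⟩ := hx
  have e := emb_injective hf
  have h1 : s = 1 := by
    refine five_three (L.K.restrict (fun x => L.K.π ⟨f, L.mem_iff.2 hf.comm⟩ x = x)) (card_fixed hf)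
      (s := s) (x := x) (e ?_) (e ?_) ?_ (e ?_)
    · rw [map_pow, map_one]; exact hs5
    · rw [map_pow, map_one]; exact hx3
    · rintro rfl
      exact hx1 (map_one _)
    · rw [map_mul, map_mul]; exact hsx
  rw [h1, map_one]

/-- Conjugacy of 3-cycles in `Sx hf`. -/
theorem conj_Sx (hf : Five L f) {x y : G} (hxt : x * L.t = L.t * x) (hyt : y * L.t = L.t * y) (hx3 : x ^ 3 = 1)
    (hy3 : y ^ 3 = 1) (hxf : x * f = f * x) (hyf : y * f = f * y)
    (hx : (L.K.π ⟨x, L.mem_iff.2 hxt⟩).cycleType = {3}) (hy : (L.K.π ⟨y, L.mem_iff.2 hyt⟩).cycleType = {3}) :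
    ∃ c ∈ Sx hf, c * x * c⁻¹ = y := by
  obtain ⟨x', hx'⟩ := mem_Sx_of_three hf hxt hx3 hxf
  obtain ⟨y', hy'⟩ := mem_Sx_of_three hf hyt hy3 hyf
  have e := emb_injective hf
  have hct : ∀ (u : L.K.sub (fun x => L.K.π ⟨f, L.mem_iff.2 hf.comm⟩ x = x)) (v : G) (hv : v * L.t = L.t * v),
      emb hf u = v → (L.K.π ⟨v, L.mem_iff.2 hv⟩).cycleType = {3} →
      ((L.K.restrict (fun x => L.K.π ⟨f, L.mem_iff.2 hf.comm⟩ x = x)).π u).IsThreeCycle := by
    rintro u _ hv rfl h
    have h1 : (L.K.π (u : centralizer ({L.t} : Set G))).cycleType = {3} := h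
    rw [← L.K.ofSubtype_subProj, Perm.cycleType_ofSubtype] at h1
    exact h1
  obtain ⟨c, hc⟩ := conj_three (L.K.restrict (fun x => L.K.π ⟨f, L.mem_iff.2 hf.comm⟩ x = x))
    (by rw [card_fixed hf]; norm_num) (x := x') (y := y')
    (e (by rw [map_pow, map_one, hx', hx3])) (e (by rw [map_pow, map_one, hy', hy3]))
    (hct x' x hxt hx' hx) (hct y' y hyt hy' hy)
  refine ⟨emb hf c, ⟨c, rfl⟩, ?_⟩
  rw [← hx', ← hy', ← hc, map_mul, map_mul, map_inv]

variable [Finite G]

/-- A 3-cycle with a fixed point, from the divisibility by `25`. -/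
theorem exists_fixed_of_dvd (hf : Five L f) (hcard : Nat.card (core f) = 5 ^ 5) {x : G} (hxt : x * L.t = L.t * x)
    (hx1 : x ≠ 1) (hx3 : x ^ 3 = 1) (hxf : x * f = f * x)
    (h25 : 25 ∣ Nat.card (centralizer ({f} : Set G) ⊓ centralizer ({x} : Set G) : Subgroup G)) :
    ∃ e ∈ core f, e ∉ zpowers f ∧ e * x = x * e :=
  exists_fixed (fiveIn hf hcard) (mem_Sx_of_three hf hxt hx3 hxf)
    (no_five_three hf (mem_Sx_of_three hf hxt hx3 hxf) hx1 hx3) h25

/-- The 5-local data. -/
def build (hf : Five L f) (hE : Extraspecial hf)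
    (h3 : ∃ (x : G) (hxt : x * L.t = L.t * x), x ^ 3 = 1 ∧ x * f = f * x ∧
      (L.K.π ⟨x, L.mem_iff.2 hxt⟩).cycleType = {3} ∧ ∃ e ∈ core f, e ∉ zpowers f ∧ e * x = x * e) :
    LyFive.LyFive L where
  f := f
  f_comm := hf.comm
  f_pow := hf.pow
  f_cycle := by rw [hf.cyc.cycleType, hf.card]
  E := core f
  card_E := by rw [hE.card]; norm_num
  pow_E := hE.pow_five
  f_mem := self_mem_core hf
  f_central := fun e he => comm_of_mem_core he
  cent_t := fun e he het => mem_zpowers_of_comm hf he het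
  inv_t := fun e he => conj_t_mul hf he
  comm_E := hE.commutator
  center_E := hE.center
  norm_f := by
    intro g hg
    obtain ⟨k, hk, c, -, hct, he⟩ := exists_mul_normalizer hf (conj_zpowers_mem hg hf.pow)
    exact ⟨k, hk, c, hct, he⟩
  norm_E := fun g hg e he => conj_mem_core_of_normalizer (conj_zpowers_mem hg hf.pow) he
  three := by
    intro y hyt hy3 hy hyf
    obtain ⟨x, hxt, hx3, hxf, hx, e, he, heF, hex⟩ := h3
    obtain ⟨c, hc, hcx⟩ := conj_Sx hf hxt hyt hx3 hy3 hxf hyf hx hy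
    have hcf : c * f = f * c := (fiveIn hf hE.card).Sf c hc
    refine ⟨c * e * c⁻¹, conj_mem_core_of_comm hcf he, ?_, ?_⟩
    · intro h
      apply heF
      have h1 : c⁻¹ * (c * e * c⁻¹) * c ∈ zpowers f := by
        have h2 := (fiveIn hf hE.card).S_comm_F (inv_mem hc) h
        rw [h2, inv_mul_cancel_right]
        exact h
      have h2 : c⁻¹ * (c * e * c⁻¹) * c = e := by group
      rwa [h2] at h1
    · rw [← hcx]
      calc c * e * c⁻¹ * (c * x * c⁻¹) = c * (e * x) * c⁻¹ := by group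
        _ = c * (x * e) * c⁻¹ := by rw [hex]
        _ = c * x * c⁻¹ * (c * e * c⁻¹) := by group

theorem build_f (hf : Five L f) (hE : Extraspecial hf) (h3) : (build hf hE h3).f = f := rfl

end Cfsg.Agent.SporRec.LyFiveBuild
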