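import Cfsg.Agent.SporRec.TwoAn

/-!
# Centralisers of odd cycles in double covers of alternating groups
-/

set_option autoImplicit false

namespace Cfsg.Agent.SporRec.TwoAn

open Subgroup Equiv

namespace Cover

variable {α : Type*} [Fintype α] [DecidableEq α] {C : Type*} [Group C] (K : Cover α C)

/-- Elements supported on the fixed points of `g` commute with `g`. -/
theorem comm_of_mem_sub {g s : C} (hs : s ∈ K.sub (fun x => K.π g x = x)) : s * g = g * s := by
  apply K.commute_of_disjoint
  intro x
  by_cases hx : K.π g x = x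
  · exact Or.inr hx
  · exact Or.inl (hs x hx)

/-- The centraliser of the lift `g` of a cycle: `g ^ k * s`, `s` supported on the fixed points of `g`. -/
theorem exists_of_comm_cycle {g : C} (hc : (K.π g).IsCycle) {h : C} (hgh : h * g = g * h) :
    ∃ k : ℤ, ∃ s ∈ K.sub (fun x => K.π g x = x), h = g ^ k * s := by
  have h1 : Commute (K.π h) (K.π g) := by
    show K.π h * K.π g = K.π g * K.π h
    rw [← map_mul, hgh, map_mul]
  obtain ⟨hc', h2⟩ := hc.commute_iff.1 h1
  obtain ⟨k, hk⟩ := Subgroup.mem_zpowers_iff.1 h2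
  refine ⟨k, g ^ (-k) * h, ?_, by rw [← mul_assoc, ← zpow_add, add_neg_cancel, zpow_zero, one_mul]⟩
  intro x hx
  have h3 : (K.π g ^ k) x = K.π h x := by
    rw [hk, Perm.ofSubtype_subtypePerm_of_mem hc' (Perm.mem_support.2 hx)]
  rw [map_mul, map_zpow, Perm.mul_apply, ← h3, zpow_neg, ← Perm.mul_apply, inv_mul_cancel, Perm.one_apply]

theorem comm_cycle_iff {g : C} (hc : (K.π g).IsCycle) {h : C} :
    h * g = g * h ↔ ∃ k : ℤ, ∃ s ∈ K.sub (fun x => K.π g x = x), h = g ^ k * s := by
  constructor
  · exact K.exists_of_comm_cycle hc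
  · rintro ⟨k, s, hs, rfl⟩
    have h1 := K.comm_of_mem_sub hs
    rw [mul_assoc, h1, ← mul_assoc, ← mul_assoc, ← zpow_add_one, ← zpow_one_add, add_comm]

/-- The centraliser of a lift of a cycle as a product of subgroups. -/
theorem centralizer_cycle {g : C} (hc : (K.π g).IsCycle) :
    Subgroup.centralizer ({g} : Set C) = zpowers g ⊔ K.sub (fun x => K.π g x = x) := by
  apply le_antisymm
  · intro h hh
    rw [Subgroup.mem_centralizer_singleton_iff] at hh
    obtain ⟨k, s, hs, rfl⟩ := K.exists_of_comm_cycle hc hh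
    exact mul_mem ((le_sup_left : zpowers g ≤ _) (zpow_mem_zpowers g k)) ((le_sup_right : K.sub _ ≤ _) hs)
  · rw [sup_le_iff]
    constructor
    · rw [zpowers_le, Subgroup.mem_centralizer_singleton_iff]
    · intro s hs
      rw [Subgroup.mem_centralizer_singleton_iff]
      exact K.comm_of_mem_sub hs

/-- The powers of an element of odd order meet `K.sub` of its fixed points trivially. -/
theorem disjoint_cycle {g : C} {n : ℕ} (hn : Odd n) (hg : g ^ n = 1) :
    Disjoint (zpowers g) (K.sub (fun x => K.π g x = x)) := by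
  rw [Subgroup.disjoint_def]
  rintro x ⟨k, rfl⟩ hx
  have h1 : K.π (g ^ k) = 1 := by
    ext y
    rw [Perm.one_apply]
    by_cases hy : K.π g y = y
    · rw [map_zpow]
      exact Perm.zpow_apply_eq_self_of_apply_eq_self hy k
    · exact hx y hy
  rcases (K.ker _).1 h1 with h | h
  · exact h
  · exfalso
    have h2 : (g ^ k) ^ n = 1 := by
      rw [← zpow_natCast, ← zpow_mul, mul_comm, zpow_mul, zpow_natCast, hg, one_zpow]
    have h : g ^ k = K.z := h
    rw [h, K.z_pow, if_neg (Nat.not_even_iff_odd.mpr hn)] at h2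
    exact K.z_ne h2

end Cover

end Cfsg.Agent.SporRec.TwoAn
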