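import Cfsg.Agent.SporRec.LyType
import Cfsg.Agent.SporRec.TwoAnCycle
import Cfsg.Agent.Lib.Cores
import Cfsg.Prelude.Def_Local
import Cfsg.Agent.S0215
import Cfsg.Agent.S1180

/-!
# The largest normal subgroup of odd order of the centraliser of a 5-cycle lift in a group of Lyons type

Notation: `L : LyType G`, `f` the lift of order 5 of a 5-cycle (`Five L f`), `core f = O(C_G(f))`.
* `core_conj`, `core_normalizer`: `core` is compatible with conjugation, normalised by `N_G(⟨f⟩)`;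
* `exists_mul`: `C_G(f) = core f · C_{C(t)}(f)`;
* `mem_zpowers_of_comm`: `C_{core f}(t) = ⟨f⟩`;
* `conj_t_mul`: `t` inverts `core f / ⟨f⟩`; `comm_core`: `core f / ⟨f⟩` is abelian;
* `exists_mul_normalizer`: `N_G(⟨f⟩) = core f · N_{C(t)}(⟨f⟩)`;
* `card_core`: `|core f| = 5 |C_{core f}(v)|²` for a suitable involution `v`.
-/

set_option autoImplicit false

namespace Cfsg.Agent.SporRec.LyFiveCore

open Subgroup Equiv Cfsg Cfsg.Agent.SporRec.TwoAn Cfsg.Agent.SporRec.LyType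

section general

variable {G : Type*} [Group G] [Finite G]

/-- Square roots in subgroups of odd order. -/
theorem exists_sqrt {H : Subgroup G} (hH : Odd (Nat.card H)) {n : G} (hn : n ∈ H) :
    ∃ j : ℕ, n ^ j * n ^ j = n := by
  have h1 : orderOf n ∣ Nat.card H := H.orderOf_dvd_natCard hn
  have h2 : Odd (orderOf n) := Odd.of_dvd_nat hH h1
  obtain ⟨m, hm⟩ := h2
  refine ⟨m + 1, ?_⟩
  rw [← pow_add]
  have : m + 1 + (m + 1) = orderOf n + 1 := by omega
  rw [this, pow_succ, pow_orderOf_eq_one, one_mul]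

/-- Involutions in a coset of a `t`-invariant odd order subgroup are conjugate. -/
theorem exists_conj_of_coset {H : Subgroup G} (hH : Odd (Nat.card H)) {t n : G} (ht : t * t = 1)
    (hn : n ∈ H) (h : n * t * (n * t) = 1) : ∃ m ∈ H, m * t * m⁻¹ = n * t := by
  obtain ⟨j, hj⟩ := exists_sqrt hH hn
  have hti : t⁻¹ = t := inv_eq_of_mul_eq_one_left ht
  have h1 : t * n * t⁻¹ = n⁻¹ := by
    rw [hti, eq_comm, inv_eq_iff_mul_eq_one, ← h]
    group
  have h2 : t * n ^ j * t⁻¹ = (n ^ j)⁻¹ := by rw [← conj_pow, h1, inv_pow]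
  refine ⟨n ^ j, H.pow_mem hn j, ?_⟩
  have h3 : t * (n ^ j)⁻¹ = n ^ j * t := by
    have : (t * n ^ j * t⁻¹)⁻¹ = n ^ j := by rw [h2, inv_inv]
    calc t * (n ^ j)⁻¹ = (t * n ^ j * t⁻¹)⁻¹ * t := by group
      _ = n ^ j * t := by rw [this]
  calc n ^ j * t * (n ^ j)⁻¹ = n ^ j * (t * (n ^ j)⁻¹) := by group
    _ = n ^ j * n ^ j * t := by rw [h3, mul_assoc]
    _ = n * t := by rw [hj]

theorem odd_pPrimeCore (Y : Type*) [Group Y] [Finite Y] : Odd (Nat.card (pPrimeCore 2 Y)) := by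
  have := Cfsg.Agent.Lib.Cores.pPrimeCore_coprime (G := Y) 2
  rw [Nat.coprime_two_right] at this
  exact this

/-- Glauberman's Z*-theorem as a factorisation. -/
theorem zstar {Y : Type*} [Group Y] [Finite Y] {t : Y} (ht : t * t = 1) (ht1 : t ≠ 1)
    (hiso : ∀ g : Y, t * (g * t * g⁻¹) = (g * t * g⁻¹) * t → g * t * g⁻¹ = t) (y : Y) :
    ∃ k ∈ pPrimeCore 2 Y, ∃ c : Y, c * t = t * c ∧ y = k * c := by
  classical
  have : Fact (Nat.Prime 2) := ⟨Nat.prime_two⟩
  have hz : orderOf t = 2 := orderOf_eq_prime (by rw [pow_two, ht]) ht1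
  have hiso' : Cfsg.IsIsolatedInvolution t := ⟨hz, fun g hg => hiso g hg⟩
  have hp : IsPGroup 2 (zpowers t) := by
    rw [IsPGroup.iff_card]
    exact ⟨1, by rw [Nat.card_zpowers, hz, pow_one]⟩
  obtain ⟨P, hP⟩ := hp.exists_le_sylow
  have hzP : t ∈ P := hP (mem_zpowers t)
  obtain ⟨N, hN, hodd, hcomm⟩ := Cfsg.Agent.S0215.result P t hz hzP fun g hg =>
    Cfsg.Agent.S1180.eq_of_conj_mem_isPGroup t hiso' (P : Subgroup Y) P.isPGroup' hzP g hg
  have hNle : N ≤ pPrimeCore 2 Y :=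
    Cfsg.Agent.Lib.Cores.le_pPrimeCore hN (Nat.coprime_two_right.2 hodd)
  have hti : t⁻¹ = t := inv_eq_of_mul_eq_one_left ht
  -- `y⁻¹ t y = n t` with `n` in the core
  have h1 : y⁻¹ * t * y * t⁻¹ ∈ N := by
    have := hcomm y⁻¹
    have h2 := N.inv_mem this
    have e : (t * y⁻¹ * t⁻¹ * y⁻¹⁻¹)⁻¹ = y⁻¹ * t * y * t⁻¹ := by group
    rwa [e] at h2
  set n := y⁻¹ * t * y * t⁻¹ with hn
  have h2 : n * t = y⁻¹ * t * y := by rw [hn]; group
  obtain ⟨m, hm, hm'⟩ := exists_conj_of_coset (odd_pPrimeCore Y) ht (hNle h1) (by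
    rw [h2]
    calc y⁻¹ * t * y * (y⁻¹ * t * y) = y⁻¹ * (t * t) * y := by group
      _ = 1 := by rw [ht]; group)
  -- `m t m⁻¹ = y⁻¹ t y`
  rw [h2] at hm'
  have hnorm : (pPrimeCore 2 Y).Normal := Cfsg.Agent.Lib.Cores.pPrimeCore_normal 2
  refine ⟨y * m⁻¹ * y⁻¹, hnorm.conj_mem _ ((pPrimeCore 2 Y).inv_mem hm) y, y * m, ?_, by group⟩
  calc y * m * t = y * (m * t * m⁻¹) * m := by group
    _ = y * (y⁻¹ * t * y) * m := by rw [hm']
    _ = t * (y * m) := by group

/-- the core of a subgroup, as a subgroup of the ambient group -/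
def coreOf (Y : Subgroup G) : Subgroup G := (pPrimeCore 2 Y).map Y.subtype

omit [Finite G] in
theorem coreOf_le (Y : Subgroup G) : coreOf Y ≤ Y := map_subtype_le _

theorem odd_card_coreOf (Y : Subgroup G) : Odd (Nat.card (coreOf Y)) := by
  rw [coreOf, card_map_of_injective Y.subtype_injective]
  exact odd_pPrimeCore Y

omit [Finite G] in
theorem mem_coreOf {Y : Subgroup G} {k : G} : k ∈ coreOf Y ↔ ∃ h : k ∈ Y, (⟨k, h⟩ : Y) ∈ pPrimeCore 2 Y := by
  constructor
  · rintro ⟨⟨y, hy⟩, h1, rfl⟩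
    exact ⟨hy, h1⟩
  · rintro ⟨h, h1⟩
    exact ⟨⟨k, h⟩, h1, rfl⟩

/-- A subgroup of odd order of `Y` normalised by `Y` lies in the core. -/
theorem le_coreOf {Y N : Subgroup G} (hNY : N ≤ Y) (hN : ∀ y ∈ Y, ∀ n ∈ N, y * n * y⁻¹ ∈ N)
    (hodd : Odd (Nat.card N)) : N ≤ coreOf Y := by
  intro n hn
  rw [mem_coreOf]
  refine ⟨hNY hn, ?_⟩
  have h1 : (N.subgroupOf Y).Normal := ⟨fun a ha g => by
    rw [mem_subgroupOf] at ha ⊢
    exact hN g g.2 a ha⟩
  refine Cfsg.Agent.Lib.Cores.le_pPrimeCore h1 (Nat.coprime_two_right.2 ?_) (show (⟨n, hNY hn⟩ : Y) ∈ N.subgroupOf Y from ?_)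
  · rw [Nat.card_congr (subgroupOfEquivOfLe hNY).toEquiv]
    exact hodd
  · rw [mem_subgroupOf]; exact hn

/-- The core is compatible with conjugation. -/
theorem conj_mem_coreOf {Y Y' : Subgroup G} {g : G} (h1 : ∀ y ∈ Y, g * y * g⁻¹ ∈ Y')
    (h2 : ∀ y ∈ Y', g⁻¹ * y * g ∈ Y) {k : G} (hk : k ∈ coreOf Y) : g * k * g⁻¹ ∈ coreOf Y' := by
  rw [mem_coreOf] at hk ⊢
  obtain ⟨hkY, hk⟩ := hk
  refine ⟨h1 k hkY, ?_⟩
  let e : Y ≃* Y' :=
    { toFun := fun y => ⟨g * y * g⁻¹, h1 y y.2⟩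
      invFun := fun y => ⟨g⁻¹ * y * g, h2 y y.2⟩
      left_inv := fun y => Subtype.ext (by
        show g⁻¹ * (g * y * g⁻¹) * g = y
        group)
      right_inv := fun y => Subtype.ext (by
        show g * (g⁻¹ * y * g) * g⁻¹ = y
        group)
      map_mul' := fun x y => Subtype.ext (by
        show g * ((x : G) * y) * g⁻¹ = g * x * g⁻¹ * (g * y * g⁻¹)
        group) }
  rw [← Cfsg.Agent.Lib.Cores.map_equiv_pPrimeCore e 2]
  exact ⟨⟨k, hkY⟩, hk, rfl⟩

end general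

/-- `O(C_G(f))` -/
abbrev core {G : Type*} [Group G] (f : G) : Subgroup G := Cfsg.centralizerPPrimeCore 2 f

theorem core_eq {G : Type*} [Group G] (f : G) : core f = coreOf (centralizer ({f} : Set G)) := rfl

/-- A double cover of an alternating group of degree at least five has no normal subgroup of odd order. -/
theorem normal_odd_trivial {α : Type*} [Fintype α] [DecidableEq α] {C : Type*} [Group C] (K : Cover α C)
    (hα : 5 ≤ Fintype.card α) (M : Subgroup C) (hodd : Odd (Nat.card M))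
    (hn : ∀ g : C, ∀ m ∈ M, g * m * g⁻¹ ∈ M) : M = ⊥ := by
  have hz : K.z ∉ M := by
    intro h
    have h1 := M.orderOf_dvd_natCard h
    rw [K.orderOf_z] at h1
    exact (Nat.not_even_iff_odd.2 hodd) (even_iff_two_dvd.2 h1)
  have hsimple : IsSimpleGroup (alternatingGroup α) :=
    alternatingGroup.isSimpleGroup (by rw [Nat.card_eq_fintype_card]; exact hα)
  have hN : ((M.map K.π).subgroupOf (alternatingGroup α)).Normal := by
    constructor
    rintro n hn' ⟨g, hg⟩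
    rw [mem_subgroupOf] at hn' ⊢
    obtain ⟨m, hm, hm'⟩ := hn'
    obtain ⟨c, rfl⟩ := K.exists_lift hg
    refine ⟨c * m * c⁻¹, hn c m hm, ?_⟩
    rw [map_mul, map_mul, map_inv, hm']
    rfl
  rcases hN.eq_bot_or_eq_top with hb | ht
  · rw [eq_bot_iff]
    intro m hm
    rw [mem_bot]
    have h1 : (⟨K.π m, K.mem_alternating m⟩ : alternatingGroup α) ∈
        (M.map K.π).subgroupOf (alternatingGroup α) := by
      rw [mem_subgroupOf]
      exact ⟨m, hm, rfl⟩
    rw [hb, mem_bot] at h1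
    rcases (K.ker m).1 (congrArg Subtype.val h1) with h2 | h2
    · exact h2
    · exact absurd (h2 ▸ hm) hz
  · exfalso
    obtain ⟨e⟩ : Nonempty (Fin 4 ↪ α) :=
      Function.Embedding.nonempty_of_card_le (by simpa using (by omega : 4 ≤ Fintype.card α))
    have hne : ∀ i j : Fin 4, i ≠ j → e i ≠ e j := fun i j h h' => h (e.injective h')
    have hmem := Cover.swap_mul_swap_mem (e 0) (e 1) (e 2) (e 3) (hne _ _ (by decide)) (hne _ _ (by decide))
    have h1 : (⟨_, hmem⟩ : alternatingGroup α) ∈ (M.map K.π).subgroupOf (alternatingGroup α) := by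
      rw [ht]; exact mem_top _
    rw [mem_subgroupOf] at h1
    obtain ⟨m, hm, hm'⟩ := h1
    have h2 := K.dbl _ _ _ _ (hne _ _ (by decide)) (hne _ _ (by decide)) (hne _ _ (by decide))
      (hne _ _ (by decide)) (hne _ _ (by decide)) (hne _ _ (by decide)) m hm'
    exact hz (h2 ▸ M.mul_mem hm hm)

/-- `f` is a lift of order 5 of a 5-cycle. -/
structure Five {G : Type*} [Group G] (L : LyType G) (f : G) : Prop where
  comm : f * L.t = L.t * f
  pow : f ^ 5 = 1
  cyc : (L.K.π ⟨f, L.mem_iff.2 comm⟩).IsCycle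
  card : (L.K.π ⟨f, L.mem_iff.2 comm⟩).support.card = 5

section five

variable {G : Type*} [Group G] {L : LyType G} {f : G} (hf : Five L f)

include hf

theorem f_ne : f ≠ 1 := by
  intro h
  apply hf.cyc.ne_one
  have : (⟨f, L.mem_iff.2 hf.comm⟩ : centralizer ({L.t} : Set G)) = 1 := Subtype.ext h
  rw [this, map_one]

theorem orderOf_f : orderOf f = 5 := by
  have : Fact (Nat.Prime 5) := ⟨by norm_num⟩
  exact orderOf_eq_prime hf.pow (f_ne hf)

theorem t_notMem : L.t ∉ zpowers f := by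
  intro h
  have h1 : orderOf L.t ∣ orderOf f := by
    have := (zpowers f).orderOf_dvd_natCard h
    rwa [Nat.card_zpowers] at this
  rw [orderOf_f hf, orderOf_eq_prime (p := 2) (by rw [pow_two, L.t_mul_t]) L.t_ne] at h1
  omega

theorem card_fixed : Fintype.card {x : Fin 11 // L.K.π ⟨f, L.mem_iff.2 hf.comm⟩ x = x} = 6 := by
  have h1 := hf.card
  have h2 : (L.K.π ⟨f, L.mem_iff.2 hf.comm⟩).support.card +
      Fintype.card {x : Fin 11 // L.K.π ⟨f, L.mem_iff.2 hf.comm⟩ x = x} = 11 := by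
    rw [Fintype.card_subtype, ← Finset.card_union_of_disjoint]
    · have : (L.K.π ⟨f, L.mem_iff.2 hf.comm⟩).support ∪
          Finset.univ.filter (fun x => L.K.π ⟨f, L.mem_iff.2 hf.comm⟩ x = x) = Finset.univ := by
        ext x
        simp only [Finset.mem_union, Perm.mem_support, Finset.mem_filter, Finset.mem_univ, true_and]
        tauto
      rw [this, Finset.card_univ, Fintype.card_fin]
    · rw [Finset.disjoint_left]
      intro x hx hx'
      rw [Perm.mem_support] at hx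
      rw [Finset.mem_filter] at hx'
      exact hx hx'.2
  omega

/-- Factorisation of the elements of `C_C(f)`. -/
theorem exists_factor {s : G} (hst : s * L.t = L.t * s) (hsf : s * f = f * s) :
    ∃ k : ℤ, ∃ l : centralizer ({L.t} : Set G),
      l ∈ L.K.sub (fun x => L.K.π ⟨f, L.mem_iff.2 hf.comm⟩ x = x) ∧ s = f ^ k * l := by
  obtain ⟨k, l, hl, h⟩ := L.K.exists_of_comm_cycle hf.cyc (h := ⟨s, L.mem_iff.2 hst⟩) (Subtype.ext hsf)
  exact ⟨k, l, hl, congrArg Subtype.val h⟩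

/-- `⟨f⟩` meets the group of elements supported on the fixed points of `f` trivially. -/
theorem zpow_eq_one_of_mem_sub {k : ℤ} (h : (⟨f, L.mem_iff.2 hf.comm⟩ : centralizer ({L.t} : Set G)) ^ k ∈
    L.K.sub (fun x => L.K.π ⟨f, L.mem_iff.2 hf.comm⟩ x = x)) : f ^ k = 1 := by
  set F : centralizer ({L.t} : Set G) := ⟨f, L.mem_iff.2 hf.comm⟩ with hF
  have hF5 : F ^ 5 = 1 := Subtype.ext hf.pow
  have h1 : L.K.π (F ^ k) = 1 := by
    ext x
    rw [Perm.one_apply]
    by_cases hx : L.K.π F x = x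
    · rw [map_zpow, Perm.zpow_apply_eq_self_of_apply_eq_self hx]
    · rw [h x hx]
  rcases (L.K.ker _).1 h1 with h2 | h2
  · exact congrArg Subtype.val h2
  · exfalso
    have h3 : (F ^ k) ^ 5 = 1 := by rw [← zpow_natCast, ← zpow_mul, mul_comm, zpow_mul, zpow_natCast, hF5, one_zpow]
    rw [h2] at h3
    have h4 : L.K.z ^ 5 = L.K.z := by
      rw [L.K.z_pow, if_neg (by decide)]
    rw [h4] at h3
    exact L.K.z_ne h3

/-- An involution commuting with `t` and `f` is `t`. -/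
theorem eq_one_or_t {s : G} (hst : s * L.t = L.t * s) (hsf : s * f = f * s) (hs : s * s = 1) :
    s = 1 ∨ s = L.t := by
  obtain ⟨k, l, hl, h⟩ := exists_factor hf hst hsf
  set F : centralizer ({L.t} : Set G) := ⟨f, L.mem_iff.2 hf.comm⟩ with hF
  have hlF : l * F = F * l := L.K.comm_of_mem_sub hl
  have hlF' : Commute l F := hlF
  set S : centralizer ({L.t} : Set G) := ⟨s, L.mem_iff.2 hst⟩ with hS
  have hS' : S = F ^ k * l := Subtype.ext h
  have hSS : S * S = 1 := Subtype.ext hs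
  have hFl : F ^ (2 * k) = (l * l)⁻¹ := by
    have h1 : F ^ k * l * (F ^ k * l) = F ^ (2 * k) * (l * l) := by
      have h2 : l * F ^ k = F ^ k * l := (hlF'.zpow_right k).eq
      calc F ^ k * l * (F ^ k * l) = F ^ k * (l * F ^ k) * l := by group
        _ = F ^ k * F ^ k * (l * l) := by rw [h2]; group
        _ = F ^ (2 * k) * (l * l) := by rw [← zpow_add, two_mul]
    rw [← hS', hSS] at h1
    rw [eq_inv_iff_mul_eq_one, ← h1]
  have h2 : F ^ (2 * k) ∈ L.K.sub (fun x => L.K.π F x = x) := by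
    rw [hFl]
    exact inv_mem (mul_mem hl hl)
  have h3 : f ^ (2 * k) = 1 := zpow_eq_one_of_mem_sub hf h2
  have h4 : f ^ k = 1 := by
    have h5 : (5 : ℤ) ∣ 2 * k := by
      have := orderOf_dvd_iff_zpow_eq_one.2 h3
      rwa [orderOf_f hf] at this
    have h6 : (5 : ℤ) ∣ k := by omega
    apply orderOf_dvd_iff_zpow_eq_one.1
    rw [orderOf_f hf]
    exact h6
  have h5 : s = l := by rw [h, h4, one_mul]
  have h6 : (⟨l, hl⟩ : L.K.sub (fun x => L.K.π F x = x)) * ⟨l, hl⟩ = 1 := by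
    apply Subtype.ext
    apply Subtype.ext
    show (l : G) * l = 1
    rw [← h5, hs]
  rcases (L.K.restrict (fun x => L.K.π F x = x)).eq_one_or_eq_z_of_card_lt (by
    rw [card_fixed hf]; norm_num) h6 with h7 | h7
  · left
    rw [h5]
    exact congrArg (fun x : L.K.sub (fun x => L.K.π F x = x) => ((x : centralizer ({L.t} : Set G)) : G)) h7
  · right
    have h8 := congrArg (fun x : L.K.sub (fun x => L.K.π F x = x) => ((x : centralizer ({L.t} : Set G)) : G)) h7
    exact h5.trans (h8.trans L.hz)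

omit hf in
theorem mem_cent {g : G} : g ∈ centralizer ({f} : Set G) ↔ g * f = f * g := mem_centralizer_singleton_iff

omit hf in
theorem core_le : core f ≤ centralizer ({f} : Set G) := coreOf_le _

omit hf in
theorem comm_of_mem_core {k : G} (hk : k ∈ core f) : k * f = f * k := mem_cent.1 (core_le hk)

/-- `C_G(f) = O(C_G(f)) C_{C(t)}(f)`. -/
theorem exists_mul [Finite G] {g : G} (hg : g * f = f * g) :
    ∃ k ∈ core f, ∃ c : G, c * L.t = L.t * c ∧ c * f = f * c ∧ g = k * c := by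
  have htf : L.t ∈ centralizer ({f} : Set G) := mem_cent.2 hf.comm.symm
  obtain ⟨⟨k, hk⟩, hk', ⟨c, hc⟩, hct, hgc⟩ := zstar (Y := centralizer ({f} : Set G)) (t := ⟨L.t, htf⟩)
    (Subtype.ext L.t_mul_t) (fun h => L.t_ne (congrArg Subtype.val h)) (fun g hg => by
      have h1 : L.t * ((g : G) * L.t * (g : G)⁻¹) = (g : G) * L.t * (g : G)⁻¹ * L.t := congrArg Subtype.val hg
      have h2 : ((g : G) * L.t * (g : G)⁻¹) * f = f * ((g : G) * L.t * (g : G)⁻¹) := by
        have := (g * ⟨L.t, htf⟩ * g⁻¹).2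
        exact mem_cent.1 this
      apply Subtype.ext
      show (g : G) * L.t * (g : G)⁻¹ = L.t
      rcases eq_one_or_t hf h1.symm h2 (by
        calc (g : G) * L.t * (g : G)⁻¹ * ((g : G) * L.t * (g : G)⁻¹) = (g : G) * (L.t * L.t) * (g : G)⁻¹ := by group
          _ = 1 := by rw [L.t_mul_t]; group) with h3 | h3
      · exfalso
        apply L.t_ne
        have : L.t = (g : G)⁻¹ * ((g : G) * L.t * (g : G)⁻¹) * g := by group
        rw [this, h3]; group
      · exact h3) ⟨g, mem_cent.2 hg⟩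
  exact ⟨k, mem_coreOf.2 ⟨hk, hk'⟩, c, congrArg Subtype.val hct, mem_cent.1 hc, congrArg Subtype.val hgc⟩

theorem odd_card_core [Finite G] : Odd (Nat.card (core f)) := odd_card_coreOf _

omit hf in
theorem conj_mem_core_of_comm [Finite G] {y k : G} (hy : y * f = f * y) (hk : k ∈ core f) : y * k * y⁻¹ ∈ core f := by
  have hy' : y⁻¹ * f = f * y⁻¹ := by
    rw [inv_mul_eq_iff_eq_mul, ← mul_assoc, hy, mul_inv_cancel_right]
  refine conj_mem_coreOf (Y := centralizer ({f} : Set G)) (fun x hx => ?_) (fun x hx => ?_) hk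
  · exact mul_mem (mul_mem (mem_cent.2 hy) hx) (mem_cent.2 hy')
  · exact mul_mem (mul_mem (mem_cent.2 hy') hx) (mem_cent.2 hy)

theorem self_mem_core [Finite G] : f ∈ core f := by
  refine le_coreOf (Y := centralizer ({f} : Set G)) (N := zpowers f) ?_ ?_ ?_ (mem_zpowers f)
  · rw [zpowers_le]; exact mem_cent.2 rfl
  · rintro y hy n ⟨k, rfl⟩
    have h1 : Commute y (f ^ k) := Commute.zpow_right (mem_cent.1 hy) k
    rw [h1.eq, mul_inv_cancel_right]
    exact ⟨k, rfl⟩
  · rw [Nat.card_zpowers, orderOf_f hf]; decide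

theorem zpowers_le_core [Finite G] : zpowers f ≤ core f := by
  rw [zpowers_le]; exact self_mem_core hf

/-- `C_{O(C_G(f))}(t) = ⟨f⟩`. -/
theorem mem_zpowers_of_comm [Finite G] {k : G} (hk : k ∈ core f) (hkt : k * L.t = L.t * k) : k ∈ zpowers f := by
  obtain ⟨i, l, hl, h⟩ := exists_factor hf hkt (comm_of_mem_core hk)
  set F : centralizer ({L.t} : Set G) := ⟨f, L.mem_iff.2 hf.comm⟩ with hF
  set p : Fin 11 → Prop := fun x => L.K.π F x = x with hp
  let φ : L.K.sub p →* G := (centralizer ({L.t} : Set G)).subtype.comp (L.K.sub p).subtype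
  have hφ : Function.Injective φ := by
    intro a b hab
    exact Subtype.ext (Subtype.ext hab)
  have hM : (core f).comap φ = ⊥ := by
    refine normal_odd_trivial (L.K.restrict p) ?_ _ ?_ ?_
    · rw [card_fixed hf]; norm_num
    · have h1 : Nat.card ((core f).comap φ) = Nat.card (((core f).comap φ).map φ) :=
        (card_map_of_injective hφ).symm
      have h2 : Nat.card (((core f).comap φ).map φ) ∣ Nat.card (core f) :=
        card_dvd_of_le (map_comap_le _ _)
      rw [h1]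
      exact Odd.of_dvd_nat (odd_card_core hf) h2
    · intro g m hm
      rw [mem_comap] at hm ⊢
      rw [map_mul, map_mul, map_inv]
      refine conj_mem_core_of_comm ?_ hm
      exact congrArg Subtype.val (L.K.comm_of_mem_sub g.2)
  have hl' : (⟨l, hl⟩ : L.K.sub p) ∈ (core f).comap φ := by
    rw [mem_comap]
    show (l : G) ∈ core f
    have : (l : G) = f ^ (-i) * k := by rw [h, ← mul_assoc, ← zpow_add, neg_add_cancel, zpow_zero, one_mul]
    rw [this]
    exact (core f).mul_mem (zpowers_le_core hf (zpow_mem_zpowers f _)) hk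
  rw [hM, mem_bot] at hl'
  have h3 : (l : G) = 1 := congrArg φ hl'
  rw [h, h3, mul_one]
  exact zpow_mem_zpowers f i

theorem t_comm_zpow {x : G} (hx : x ∈ zpowers f) : L.t * x = x * L.t := by
  obtain ⟨i, rfl⟩ := hx
  have h1 : Commute L.t f := hf.comm.symm
  exact (h1.zpow_right i).eq

/-- Elements of `⟨f⟩` are central in the core. -/
theorem comm_zpow {x k : G} (hx : x ∈ zpowers f) (hk : k ∈ core f) : k * x = x * k := by
  obtain ⟨i, rfl⟩ := hx
  have h1 : Commute k f := comm_of_mem_core hk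
  exact (h1.zpow_right i).eq

theorem conj_t_mem_core [Finite G] {k : G} (hk : k ∈ core f) : L.t * k * L.t⁻¹ ∈ core f :=
  conj_mem_core_of_comm hf.comm.symm hk

theorem eq_one_of_mul_self {x : G} (hx : x ∈ zpowers f) (h : x * x = 1) : x = 1 := by
  have h1 := (zpowers f).orderOf_dvd_natCard hx
  rw [Nat.card_zpowers, orderOf_f hf] at h1
  have h2 : orderOf x ∣ 2 := orderOf_dvd_of_pow_eq_one (by rw [pow_two, h])
  have h3 : orderOf x ∣ Nat.gcd 5 2 := Nat.dvd_gcd h1 h2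
  exact orderOf_eq_one_iff.1 (Nat.dvd_one.1 h3)

/-- Every element of the core is `m x` with `m` inverted by `t` and `x ∈ ⟨f⟩`. -/
theorem exists_inverted_mul [Finite G] {k : G} (hk : k ∈ core f) :
    ∃ m ∈ core f, ∃ x ∈ zpowers f, L.t * m * L.t⁻¹ = m⁻¹ ∧ k = m * x := by
  set c := L.t * k * L.t⁻¹ * k⁻¹ with hc
  have hcK : c ∈ core f := (core f).mul_mem (conj_t_mem_core hf hk) ((core f).inv_mem hk)
  obtain ⟨j, hj⟩ := exists_sqrt (odd_card_core hf) hcK
  have hti := L.t_inv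
  have htt := L.t_mul_t
  have h1 : L.t * c * L.t⁻¹ = c⁻¹ := by
    rw [hc, hti]
    calc L.t * (L.t * k * L.t * k⁻¹) * L.t = (L.t * L.t) * k * L.t * k⁻¹ * L.t := by group
      _ = k * L.t * k⁻¹ * L.t := by rw [htt, one_mul]
      _ = (L.t⁻¹ * k * L.t⁻¹ * k⁻¹)⁻¹ := by group
      _ = (L.t * k * L.t * k⁻¹)⁻¹ := by rw [hti]
  set m := c ^ j with hm
  have hmK : m ∈ core f := (core f).pow_mem hcK j
  have h2 : L.t * m * L.t⁻¹ = m⁻¹ := by rw [hm, ← conj_pow, h1, inv_pow]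
  have h3 : m * k ∈ zpowers f := by
    refine mem_zpowers_of_comm hf ((core f).mul_mem hmK hk) ?_
    -- `m⁻¹ t m = t m m = t c = k t k⁻¹`
    have h4 : m⁻¹ * L.t * m = k * L.t * k⁻¹ := by
      calc m⁻¹ * L.t * m = (L.t * m * L.t⁻¹) * L.t * m := by rw [h2]
        _ = L.t * (m * m) := by group
        _ = L.t * (L.t * k * L.t⁻¹ * k⁻¹) := by rw [hj]
        _ = (L.t * L.t) * k * L.t⁻¹ * k⁻¹ := by group
        _ = k * L.t * k⁻¹ := by rw [htt, one_mul, hti]
    calc m * k * L.t = m * (k * L.t * k⁻¹) * k := by group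
      _ = m * (m⁻¹ * L.t * m) * k := by rw [h4]
      _ = L.t * (m * k) := by group
  refine ⟨m⁻¹, (core f).inv_mem hmK, m * k, h3, ?_, by group⟩
  have h5 : L.t * m⁻¹ * L.t⁻¹ = (L.t * m * L.t⁻¹)⁻¹ := by group
  rw [h5, h2]

/-- `t` inverts `O(C_G(f)) / ⟨f⟩`. -/
theorem conj_t_mul [Finite G] {k : G} (hk : k ∈ core f) : L.t * k * L.t⁻¹ * k ∈ zpowers f := by
  obtain ⟨m, hm, x, hx, h1, rfl⟩ := exists_inverted_mul hf hk
  have h2 : L.t * (m * x) * L.t⁻¹ * (m * x) = x * x := by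
    calc L.t * (m * x) * L.t⁻¹ * (m * x) = (L.t * m * L.t⁻¹) * (L.t * x) * L.t⁻¹ * (m * x) := by group
      _ = m⁻¹ * (x * L.t) * L.t⁻¹ * (m * x) := by rw [h1, t_comm_zpow hf hx]
      _ = m⁻¹ * (x * m) * x := by group
      _ = m⁻¹ * (m * x) * x := by rw [comm_zpow hf hx hm]
      _ = x * x := by group
  rw [h2]
  exact mul_mem hx hx

/-- `O(C_G(f)) / ⟨f⟩` is abelian. -/
theorem commutator_mem [Finite G] {a b : G} (ha : a ∈ core f) (hb : b ∈ core f) : a * b * a⁻¹ * b⁻¹ ∈ zpowers f := by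
  obtain ⟨m, hm, x, hx, h1, rfl⟩ := exists_inverted_mul hf ha
  obtain ⟨n, hn, y, hy, h2, rfl⟩ := exists_inverted_mul hf hb
  have e1 : m * x * (n * y) * (m * x)⁻¹ * (n * y)⁻¹ = m * n * m⁻¹ * n⁻¹ := by
    have hx1 : n * x = x * n := comm_zpow hf hx hn
    have hx2 : y * x = x * y := comm_zpow hf hx ((zpowers_le_core hf) hy)
    have hy1 : m * y = y * m := comm_zpow hf hy hm
    calc m * x * (n * y) * (m * x)⁻¹ * (n * y)⁻¹
        = m * (x * n) * y * x⁻¹ * m⁻¹ * y⁻¹ * n⁻¹ := by group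
      _ = m * (n * x) * y * x⁻¹ * m⁻¹ * y⁻¹ * n⁻¹ := by rw [hx1]
      _ = m * n * (x * y) * x⁻¹ * m⁻¹ * y⁻¹ * n⁻¹ := by group
      _ = m * n * (y * x) * x⁻¹ * m⁻¹ * y⁻¹ * n⁻¹ := by rw [hx2]
      _ = m * n * y * (y * m)⁻¹ * n⁻¹ := by group
      _ = m * n * y * (m * y)⁻¹ * n⁻¹ := by rw [hy1]
      _ = m * n * m⁻¹ * n⁻¹ := by group
  rw [e1]
  -- `t (m n) t⁻¹ = m⁻¹ n⁻¹`, and `t (m n) t⁻¹ (m n) ∈ ⟨f⟩`
  have h3 := conj_t_mul hf ((core f).mul_mem hm hn)
  have h4 : L.t * (m * n) * L.t⁻¹ * (m * n) = m⁻¹ * n⁻¹ * (m * n) := by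
    calc L.t * (m * n) * L.t⁻¹ * (m * n) = (L.t * m * L.t⁻¹) * (L.t * n * L.t⁻¹) * (m * n) := by group
      _ = m⁻¹ * n⁻¹ * (m * n) := by rw [h1, h2]
  rw [h4] at h3
  -- conjugate by `n m`, `⟨f⟩` is central
  have h5 : (n * m) * (m⁻¹ * n⁻¹ * (m * n)) = (m⁻¹ * n⁻¹ * (m * n)) * (n * m) :=
    comm_zpow hf h3 ((core f).mul_mem hn hm)
  have h6 : m * n * m⁻¹ * n⁻¹ = m⁻¹ * n⁻¹ * (m * n) := by
    calc m * n * m⁻¹ * n⁻¹ = (n * m) * (m⁻¹ * n⁻¹ * (m * n)) * (n * m)⁻¹ := by group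
      _ = (m⁻¹ * n⁻¹ * (m * n)) * (n * m) * (n * m)⁻¹ := by rw [h5]
      _ = m⁻¹ * n⁻¹ * (m * n) := by group
  rw [h6]
  exact h3

/-- An involution centralising `f` is conjugate to `t` under the core. -/
theorem exists_conj_core [Finite G] {s : G} (hsf : s * f = f * s) (hs : s * s = 1) (hs1 : s ≠ 1) :
    ∃ m ∈ core f, m * L.t * m⁻¹ = s := by
  obtain ⟨k, hk, c, hct, hcf, h⟩ := exists_mul hf hsf
  -- `c ^ 2 ∈ ⟨f⟩`
  have h1 : c * c ∈ core f := by
    have h7 : k * (c * k * c⁻¹) * (c * c) = 1 := by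
      have h6 : k * c * (k * c) = 1 := by rw [← h, hs]
      rw [← h6]; group
    rw [eq_inv_of_mul_eq_one_right h7]
    exact (core f).inv_mem ((core f).mul_mem hk (conj_mem_core_of_comm hcf hk))
  have h2 : c * c ∈ zpowers f := by
    refine mem_zpowers_of_comm hf h1 ?_
    rw [mul_assoc, hct, ← mul_assoc, hct, mul_assoc]
  obtain ⟨i, hi⟩ := h2
  replace hi : f ^ i = c * c := hi
  have hcf' : Commute c f := hcf
  have hct' : Commute c L.t := hct
  have hft' : Commute f L.t := hf.comm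
  set e := c * f ^ (-3 * i) with he
  have hee : e * e = 1 := by
    have h3 : Commute c (f ^ (-3 * i)) := hcf'.zpow_right _
    rw [he]
    calc c * f ^ (-3 * i) * (c * f ^ (-3 * i)) = c * (f ^ (-3 * i) * c) * f ^ (-3 * i) := by group
      _ = c * (c * f ^ (-3 * i)) * f ^ (-3 * i) := by rw [h3.eq]
      _ = (c * c) * (f ^ (-3 * i) * f ^ (-3 * i)) := by group
      _ = f ^ i * (f ^ (-3 * i) * f ^ (-3 * i)) := by rw [hi]
      _ = (f ^ (5 : ℤ)) ^ (-i) := by rw [← zpow_add, ← zpow_add, ← zpow_mul]; congr 1; ring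
      _ = 1 := by
        have : f ^ (5 : ℤ) = 1 := by exact_mod_cast hf.pow
        rw [this, one_zpow]
  have het : e * L.t = L.t * e := (hct'.mul_left (hft'.zpow_left _)).eq
  have hef : e * f = f * e := (hcf'.mul_left ((Commute.refl f).zpow_left _)).eq
  have hce : c = e * f ^ (3 * i) := by
    rw [he, mul_assoc, ← zpow_add]
    have : -3 * i + 3 * i = 0 := by ring
    rw [this, zpow_zero, mul_one]
  have hcomm3 : Commute e (f ^ (3 * i)) := (show Commute e f from hef).zpow_right _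
  set k1 := k * f ^ (3 * i) with hk1
  have hk1K : k1 ∈ core f := (core f).mul_mem hk (zpowers_le_core hf (zpow_mem_zpowers f _))
  have hs' : s = k1 * e := by
    rw [h, hce, hcomm3.eq, hk1, mul_assoc]
  rcases eq_one_or_t hf het hef hee with h3 | h3
  · exfalso
    rw [h3, mul_one] at hs'
    have h4 : orderOf s ∣ Nat.card (core f) := (core f).orderOf_dvd_natCard (hs' ▸ hk1K)
    have h5 : orderOf s = 2 := orderOf_eq_prime (by rw [pow_two, hs]) hs1
    rw [h5] at h4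
    exact (Nat.not_even_iff_odd.2 (odd_card_core hf)) (even_iff_two_dvd.2 h4)
  · rw [h3] at hs'
    rw [hs']
    exact exists_conj_of_coset (odd_card_core hf) L.t_mul_t hk1K (by rw [← hs', hs])

omit hf in
/-- The centraliser and the core only depend on `⟨f⟩`. -/
theorem centralizer_eq_of_mem {f f' : G} (h1 : f' ∈ zpowers f) (h2 : f ∈ zpowers f') :
    centralizer ({f'} : Set G) = centralizer ({f} : Set G) := by
  ext g
  rw [mem_cent, mem_cent]
  constructor
  · intro h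
    obtain ⟨i, hi⟩ := h2
    rw [← hi]
    exact ((show Commute g f' from h).zpow_right i).eq
  · intro h
    obtain ⟨i, hi⟩ := h1
    rw [← hi]
    exact ((show Commute g f from h).zpow_right i).eq

omit hf in
/-- The core is compatible with conjugation. -/
theorem core_conj [Finite G] {f : G} (g : G) {k : G} (hk : k ∈ core f) : g * k * g⁻¹ ∈ core (g * f * g⁻¹) := by
  refine conj_mem_coreOf (Y := centralizer ({f} : Set G)) (Y' := centralizer ({g * f * g⁻¹} : Set G))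
    (fun x hx => ?_) (fun x hx => ?_) hk
  · rw [mem_cent] at hx ⊢
    calc g * x * g⁻¹ * (g * f * g⁻¹) = g * (x * f) * g⁻¹ := by group
      _ = g * (f * x) * g⁻¹ := by rw [hx]
      _ = g * f * g⁻¹ * (g * x * g⁻¹) := by group
  · rw [mem_cent] at hx ⊢
    calc g⁻¹ * x * g * f = g⁻¹ * (x * (g * f * g⁻¹)) * g := by group
      _ = g⁻¹ * (g * f * g⁻¹ * x) * g := by rw [hx]
      _ = f * (g⁻¹ * x * g) := by group

omit hf in
theorem conj_mem_zpowers {f n : G} (hn : n ∈ normalizer (zpowers f : Set G)) :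
    n * f * n⁻¹ ∈ zpowers f ∧ f ∈ zpowers (n * f * n⁻¹) := by
  refine ⟨(mem_normalizer_iff.1 hn f).1 (mem_zpowers f), ?_⟩
  have h1 : n⁻¹ ∈ normalizer (zpowers f : Set G) := inv_mem hn
  obtain ⟨i, hi⟩ := (mem_normalizer_iff.1 h1 f).1 (mem_zpowers f)
  refine ⟨i, ?_⟩
  show (n * f * n⁻¹) ^ i = f
  have hi' : f ^ i = n⁻¹ * f * n⁻¹⁻¹ := hi
  rw [conj_zpow, hi']
  group

omit hf in
/-- `N_G(⟨f⟩)` normalises the core. -/
theorem conj_mem_core_of_normalizer [Finite G] {f n : G} (hn : n ∈ normalizer (zpowers f : Set G)) {k : G}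
    (hk : k ∈ core f) : n * k * n⁻¹ ∈ core f := by
  have h1 := core_conj n hk
  obtain ⟨h2, h3⟩ := conj_mem_zpowers hn
  rw [core_eq, centralizer_eq_of_mem h2 h3] at h1
  exact h1

/-- `N_G(⟨f⟩) = O(C_G(f)) N_{C(t)}(⟨f⟩)`. -/
theorem exists_mul_normalizer [Finite G] {n : G} (hn : n ∈ normalizer (zpowers f : Set G)) :
    ∃ k ∈ core f, ∃ c ∈ normalizer (zpowers f : Set G), c * L.t = L.t * c ∧ n = k * c := by
  obtain ⟨h2, h3⟩ := conj_mem_zpowers hn
  have h4 : n * L.t * n⁻¹ ∈ centralizer ({f} : Set G) := by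
    rw [← centralizer_eq_of_mem h2 h3, mem_cent]
    calc n * L.t * n⁻¹ * (n * f * n⁻¹) = n * (L.t * f) * n⁻¹ := by group
      _ = n * (f * L.t) * n⁻¹ := by rw [hf.comm]
      _ = n * f * n⁻¹ * (n * L.t * n⁻¹) := by group
  obtain ⟨m, hm, hm'⟩ := exists_conj_core hf (mem_cent.1 h4) (by
    calc n * L.t * n⁻¹ * (n * L.t * n⁻¹) = n * (L.t * L.t) * n⁻¹ := by group
      _ = 1 := by rw [L.t_mul_t]; group) (by
    intro h
    apply L.t_ne
    have : L.t = n⁻¹ * (n * L.t * n⁻¹) * n := by group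
    rw [this, h]; group)
  have hmn : m ∈ normalizer (zpowers f : Set G) := by
    rw [mem_normalizer_iff]
    intro x
    constructor
    · intro hx
      rw [comm_zpow hf hx hm, mul_inv_cancel_right]
      exact hx
    · intro hx
      have h5 := comm_zpow hf hx ((core f).inv_mem hm)
      have h6 : x = m⁻¹ * (m * x * m⁻¹) * m := by group
      rw [h6, h5]
      simpa using hx
  refine ⟨m, hm, m⁻¹ * n, mul_mem (inv_mem hmn) hn, ?_, by group⟩
  calc m⁻¹ * n * L.t = m⁻¹ * (n * L.t * n⁻¹) * n := by group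
    _ = m⁻¹ * (m * L.t * m⁻¹) * n := by rw [hm']
    _ = L.t * (m⁻¹ * n) := by group

end five

end Cfsg.Agent.SporRec.LyFiveCore
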