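import Cfsg.Agent.SporRec.LyFiveTwenty
import Cfsg.Agent.SporRec.LyFiveBuild

/-!
# From `25 ∣ |C_G(f) ∩ C_G(x)|` to the 5-local data of a group of Lyons type

`x` is a 3-cycle lift commuting with the 5-cycle lift `f`.
-/

set_option autoImplicit false

namespace Cfsg.Agent.SporRec.LyFiveDvd

open Subgroup Equiv Cfsg Cfsg.Agent.SporRec.TwoAn Cfsg.Agent.SporRec.LyType Cfsg.Agent.SporRec.LyFiveCore
  Cfsg.Agent.SporRec.LyFiveCard Cfsg.Agent.SporRec.LyFiveFrame Cfsg.Agent.SporRec.LyFiveAbel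
  Cfsg.Agent.SporRec.LyFiveTwenty Cfsg.Agent.SporRec.LyFiveBuild Cfsg.Agent.SporRec.LyFiveSix

variable {G : Type*} [Group G] [Finite G] {L : LyType G} {f : G} (hf : Five L f)

include hf in
omit [Finite G] in
theorem eq_one_of_mem_Sx {s : G} (hs : s ∈ Sx hf) (hsf : s ∈ zpowers f) : s = 1 := by
  obtain ⟨i, hi⟩ := hsf
  have hi' : f ^ i = s := hi
  rw [← hi']
  apply zpow_eq_one_of_mem_sub hf
  rw [mem_Sx] at hs
  obtain ⟨h, hs⟩ := hs
  intro x hx
  have : (⟨f, L.mem_iff.2 hf.comm⟩ : centralizer ({L.t} : Set G)) ^ i = ⟨s, L.mem_iff.2 h⟩ :=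
    Subtype.ext hi'
  rw [this]
  exact hs x hx

include hf in
omit [Finite G] in
theorem comm_f_of_mem_Sx {s : G} (hs : s ∈ Sx hf) : s * f = f * s := by
  obtain ⟨c, rfl⟩ := hs
  exact congrArg Subtype.val (L.K.comm_of_mem_sub c.2)

include hf in
/-- A 5-element commuting with `f` and with a 3-cycle lift lies in the core. -/
theorem mem_core {x : G} (hxt : x * L.t = L.t * x) (hx1 : x ≠ 1) (hx3 : x ^ 3 = 1) (hxf : x * f = f * x)
    {y : G} (hyf : y * f = f * y) (hyx : y * x = x * y) (hy : y ^ 25 = 1) : y ∈ core f := by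
  have hxS : x ∈ Sx hf := mem_Sx_of_three hf hxt hx3 hxf
  obtain ⟨k, hk, c, hct, hcf, hyc⟩ := exists_mul hf hyf
  obtain ⟨i, l, hl, hcl⟩ := exists_factor hf hct hcf
  have hlS : (l : G) ∈ Sx hf := ⟨⟨l, hl⟩, rfl⟩
  set k1 := k * f ^ i with hk1
  have hk1K : k1 ∈ core f := (core f).mul_mem hk (zpowers_le_core hf (zpow_mem_zpowers f i))
  have hy1 : y = k1 * l := by rw [hyc, hcl, hk1, mul_assoc]
  have hlf : (l : G) * f = f * l := comm_f_of_mem_Sx hf hlS
  have hlt : (l : G) * L.t = L.t * l := L.mem_iff.1 l.2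
  -- `l` commutes with `x`
  have h1 : x * l * x⁻¹ * (l : G)⁻¹ ∈ core f := by
    have h2 : x * l * x⁻¹ * (l : G)⁻¹ = (x * k1 * x⁻¹)⁻¹ * k1 := by
      have h3 : x * (k1 * l) * x⁻¹ = k1 * l := by rw [← hy1, ← hyx, mul_inv_cancel_right]
      calc x * l * x⁻¹ * (l : G)⁻¹ = (x * k1 * x⁻¹)⁻¹ * (x * (k1 * l) * x⁻¹) * (l : G)⁻¹ := by group
        _ = (x * k1 * x⁻¹)⁻¹ * k1 := by rw [h3]; group
    rw [h2]
    exact (core f).mul_mem ((core f).inv_mem (conj_mem_core_of_comm hxf hk1K)) hk1K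
  have h2 : x * l * x⁻¹ * (l : G)⁻¹ ∈ zpowers f := by
    refine mem_zpowers_of_comm hf h1 ?_
    have c1 : Commute x L.t := hxt
    have c2 : Commute (l : G) L.t := hlt
    exact (((c1.mul_left c2).mul_left c1.inv_left).mul_left c2.inv_left).eq
  have h3 : x * l * x⁻¹ * (l : G)⁻¹ = 1 := by
    apply eq_one_of_mem_Sx hf _ h2
    exact mul_mem (mul_mem (mul_mem hxS hlS) (inv_mem hxS)) (inv_mem hlS)
  have hlx : (l : G) * x = x * l := by
    rw [mul_inv_eq_one, mul_inv_eq_iff_eq_mul] at h3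
    exact h3.symm
  -- `l ^ 25 = 1`
  have h4 : ∀ n : ℕ, ∃ k' ∈ core f, (k1 * (l : G)) ^ n = k' * (l : G) ^ n := by
    intro n
    induction n with
    | zero => exact ⟨1, one_mem _, by rw [pow_zero, pow_zero, mul_one]⟩
    | succ n ih =>
      obtain ⟨k', hk', h⟩ := ih
      have hln : (l : G) ^ n * f = f * (l : G) ^ n := ((show Commute (l : G) f from hlf).pow_left n).eq
      refine ⟨k' * ((l : G) ^ n * k1 * ((l : G) ^ n)⁻¹), (core f).mul_mem hk' (conj_mem_core_of_comm hln hk1K), ?_⟩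
      rw [pow_succ, h, pow_succ]
      group
  obtain ⟨k', hk', h5⟩ := h4 25
  rw [← hy1, hy] at h5
  have h6 : (l : G) ^ 25 ∈ core f := by
    rw [eq_inv_of_mul_eq_one_right h5.symm]
    exact (core f).inv_mem hk'
  have h7 : (l : G) ^ 25 ∈ zpowers f :=
    mem_zpowers_of_comm hf h6 (((show Commute (l : G) L.t from hlt).pow_left 25).eq)
  have h8 : (l : G) ^ 25 = 1 := eq_one_of_mem_Sx hf (pow_mem hlS 25) h7
  have hno := no_five_three hf hxS hx1 hx3
  have h9 : (l : G) ^ 5 = 1 := hno _ (pow_mem hlS 5) (by rw [← pow_mul]; exact h8)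
    (((show Commute (l : G) x from hlx).pow_left 5).eq)
  have h10 : (l : G) = 1 := hno _ hlS h9 hlx
  rw [hy1, h10, mul_one]
  exact hk1K

include hf in
/-- `25 ∣ |C_G(f) ∩ C_G(x)|` implies `25 ∣ |O(C_G(f))|`. -/
theorem dvd_card_core {x : G} (hxt : x * L.t = L.t * x) (hx1 : x ≠ 1) (hx3 : x ^ 3 = 1) (hxf : x * f = f * x)
    (h25 : 25 ∣ Nat.card (centralizer ({f} : Set G) ⊓ centralizer ({x} : Set G) : Subgroup G)) :
    25 ∣ Nat.card (core f) := by
  classical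
  have hp5 : Fact (Nat.Prime 5) := ⟨by norm_num⟩
  set D : Subgroup G := centralizer ({f} : Set G) ⊓ centralizer ({x} : Set G) with hD
  obtain ⟨P, hP⟩ := Sylow.exists_subgroup_card_pow_prime (G := D) (n := 2) 5 (by norm_num; exact h25)
  have h1 : P.map D.subtype ≤ core f := by
    rintro _ ⟨⟨y, hyD⟩, hy, rfl⟩
    have hyD' := mem_inf.1 hyD
    refine mem_core hf hxt hx1 hx3 hxf (mem_centralizer_singleton_iff.1 hyD'.1)
      (mem_centralizer_singleton_iff.1 hyD'.2) ?_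
    have h2 : orderOf (⟨y, hyD⟩ : D) ∣ 25 := by
      have := P.orderOf_dvd_natCard hy
      rw [hP] at this
      exact this
    have h3 : (⟨y, hyD⟩ : D) ^ 25 = 1 := orderOf_dvd_iff_pow_eq_one.1 h2
    exact congrArg Subtype.val h3
  have h2 := card_dvd_of_le h1
  rw [card_map_of_injective D.subtype_injective, hP] at h2
  norm_num at h2
  exact h2

include hf in
/-- The 5-local data from `25 ∣ |C_G(f) ∩ C_G(x)|`. -/
theorem exists_lyFive {x : G} (hxt : x * L.t = L.t * x) (hx3 : x ^ 3 = 1) (hxf : x * f = f * x)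
    (hx : (L.K.π ⟨x, L.mem_iff.2 hxt⟩).cycleType = {3})
    (h25 : 25 ∣ Nat.card (centralizer ({f} : Set G) ⊓ centralizer ({x} : Set G) : Subgroup G)) :
    Nonempty (Extraspecial hf) ∧ ∃ M : Cfsg.Agent.SporRec.LyFive.LyFive L, M.f = f ∧ M.E = core f := by
  have hx1 : x ≠ 1 := by
    intro h
    have : (⟨x, L.mem_iff.2 hxt⟩ : centralizer ({L.t} : Set G)) = 1 := Subtype.ext h
    rw [this, map_one, Perm.cycleType_one] at hx
    exact absurd hx (by simp)
  obtain ⟨hcard, hv25⟩ := card_core_of_dvd hf (dvd_card_core hf hxt hx1 hx3 hxf h25)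
  obtain ⟨v, w, h, hv, hv1, hvt1, hvt, hvf, -⟩ := exists_vwh hf
  have hE : Extraspecial hf := extraspecial hf hcard hv hvf (hv25 v hv hvt hvf)
  have h3 : ∃ (x : G) (hxt : x * L.t = L.t * x), x ^ 3 = 1 ∧ x * f = f * x ∧
      (L.K.π ⟨x, L.mem_iff.2 hxt⟩).cycleType = {3} ∧ ∃ e ∈ core f, e ∉ zpowers f ∧ e * x = x * e :=
    ⟨x, hxt, hx3, hxf, hx, exists_fixed_of_dvd hf hcard hxt hx1 hx3 hxf h25⟩
  exact ⟨⟨hE⟩, build hf hE h3, rfl, rfl⟩

end Cfsg.Agent.SporRec.LyFiveDvd
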