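import Cfsg.Agent.SporRec.LyFiveMod
import Cfsg.Agent.Lib.NormalElementary

/-!
# The group `O(C_G(f))` of order `5⁵` is extraspecial

Abstract form: `K` of order `5⁵` with centre containing `f`, a group `S ≅ 2·A₆` acting, the involution `t` of `S`
inverting `K / ⟨f⟩` and centralising only `⟨f⟩` in `K`.
-/

set_option autoImplicit false
set_option linter.dupNamespace false

namespace Cfsg.Agent.SporRec.LyFiveExtra

open Subgroup

/-- The properties of `S ≅ 2·A₆` that are used. -/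
structure Six {G : Type*} [Group G] (t : G) (S : Subgroup G) : Prop where
  t_mem : t ∈ S
  t_ne : t ≠ 1
  t_sq : t * t = 1
  comm : ∀ s ∈ S, s * t = t * s
  perf : commutator S = ⊤
  norm : ∀ N : Subgroup S, N.Normal → (⟨t, t_mem⟩ : S) ∉ N → N = ⊥
  card : Nat.card S = 720
  five : ∀ s ∈ S, s ≠ 1 → s ^ 5 = 1 → ∃ a ∈ S, (s * (a * (s * s) * a⁻¹)) * (s * (a * (s * s) * a⁻¹)) = t

/-- The input from the local analysis of `C_G(f)`. -/
structure FiveIn {G : Type*} [Group G] (t f : G) (K S : Subgroup G) : Prop where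
  six : Six t S
  f5 : orderOf f = 5
  mem : f ∈ K
  cent : ∀ k ∈ K, k * f = f * k
  norm : ∀ y, y * f * y⁻¹ ∈ zpowers f → ∀ k ∈ K, y * k * y⁻¹ ∈ K
  card : Nat.card K = 5 ^ 5
  ct : ∀ k ∈ K, k * t = t * k → k ∈ zpowers f
  inv : ∀ k ∈ K, t * k * t⁻¹ * k ∈ zpowers f
  Sf : ∀ s ∈ S, s * f = f * s
  fac : ∀ g, g * f = f * g → ∃ k ∈ K, ∃ s ∈ S, g = k * s

namespace FiveIn

variable {G : Type*} [Group G] {t f : G} {K S : Subgroup G} (h : FiveIn t f K S)

include h

theorem tt : t * t = 1 := h.six.t_sq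

theorem tinv : t⁻¹ = t := inv_eq_of_mul_eq_one_left h.tt

theorem f_ne : f ≠ 1 := by
  intro hf
  have := h.f5
  rw [hf, orderOf_one] at this
  exact absurd this (by norm_num)

theorem f_pow : f ^ 5 = 1 := by rw [← h.f5, pow_orderOf_eq_one]

theorem F_le : zpowers f ≤ K := zpowers_le.2 h.mem

theorem comm_F {k x : G} (hk : k ∈ K) (hx : x ∈ zpowers f) : k * x = x * k := by
  obtain ⟨n, rfl⟩ := hx
  exact ((show Commute k f from h.cent k hk).zpow_right n).eq

theorem S_comm_F {s x : G} (hs : s ∈ S) (hx : x ∈ zpowers f) : s * x = x * s := by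
  obtain ⟨n, rfl⟩ := hx
  exact ((show Commute s f from h.Sf s hs).zpow_right n).eq

theorem S_norm {s k : G} (hs : s ∈ S) (hk : k ∈ K) : s * k * s⁻¹ ∈ K :=
  h.norm s (by rw [h.Sf s hs, mul_inv_cancel_right]; exact mem_zpowers f) k hk

theorem card_F : Nat.card (zpowers f) = 5 := by rw [Nat.card_zpowers, h.f5]

/-- Commutators of elements of `K` are powers of `f`. -/
theorem comm_mem {a b : G} (ha : a ∈ K) (hb : b ∈ K) : a * b * a⁻¹ * b⁻¹ ∈ zpowers f := by
  have h1 := h.inv a ha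
  have h2 := h.inv b hb
  have h3 := h.inv (a * b) (mul_mem ha hb)
  set p := t * a * t⁻¹ * a with hp
  set q := t * b * t⁻¹ * b with hq
  set r := t * (a * b) * t⁻¹ * (a * b) with hr
  have e1 : t * a * t⁻¹ = p * a⁻¹ := by rw [hp]; group
  have e2 : t * b * t⁻¹ = q * b⁻¹ := by rw [hq]; group
  have e3 : r = p * a⁻¹ * (q * b⁻¹) * (a * b) := by rw [← e1, ← e2, hr]; group
  have hqa : q * a⁻¹ = a⁻¹ * q := (h.comm_F (inv_mem ha) h2).symm
  have e4 : a⁻¹ * b⁻¹ * a * b = (p * q)⁻¹ * r := by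
    rw [e3]
    calc a⁻¹ * b⁻¹ * a * b = (p * q)⁻¹ * (p * (q * a⁻¹) * b⁻¹ * (a * b)) := by group
      _ = (p * q)⁻¹ * (p * (a⁻¹ * q) * b⁻¹ * (a * b)) := by rw [hqa]
      _ = (p * q)⁻¹ * (p * a⁻¹ * (q * b⁻¹) * (a * b)) := by group
  have h5 : a⁻¹ * b⁻¹ * a * b ∈ zpowers f := by
    rw [e4]
    exact mul_mem (inv_mem (mul_mem h1 h2)) h3
  have hc : (b * a) * (a⁻¹ * b⁻¹ * a * b) = (a⁻¹ * b⁻¹ * a * b) * (b * a) := h.comm_F (mul_mem hb ha) h5
  have e5 : a * b * a⁻¹ * b⁻¹ = a⁻¹ * b⁻¹ * a * b := by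
    calc a * b * a⁻¹ * b⁻¹ = (b * a) * (a⁻¹ * b⁻¹ * a * b) * (b * a)⁻¹ := by group
      _ = a⁻¹ * b⁻¹ * a * b := by rw [hc]; group
  rw [e5]
  exact h5

/-- The fifth power is multiplicative on `K`. -/
theorem mul_pow_five {a b : G} (ha : a ∈ K) (hb : b ∈ K) : (a * b) ^ 5 = a ^ 5 * b ^ 5 := by
  have h1 := h.comm_mem (inv_mem hb) (inv_mem ha)
  rw [inv_inv, inv_inv] at h1
  have : Fact (Nat.Prime 5) := ⟨by norm_num⟩
  refine Cfsg.Agent.Lib.NormalElementary.mul_pow_prime_of_swap (p := 5) (c := b⁻¹ * a⁻¹ * b * a) (by norm_num)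
    (by group) (h.comm_F ha h1).symm (h.comm_F hb h1).symm ?_
  obtain ⟨n, hn⟩ := h1
  have hn : f ^ n = b⁻¹ * a⁻¹ * b * a := hn
  rw [← hn, ← zpow_natCast, ← zpow_mul, mul_comm, zpow_mul, zpow_natCast, h.f_pow, one_zpow]

variable [Finite G]

/-- Irreducibility, first form. -/
theorem eq_or_of_pow {U : Subgroup G} (hFU : zpowers f ≤ U) (hUK : U ≤ K)
    (hSU : ∀ s ∈ S, ∀ u ∈ U, s * u * s⁻¹ ∈ U) (h5 : ∀ u ∈ U, u ^ 5 ∈ zpowers f) : U = zpowers f ∨ U = K := by
  by_cases hne : U ≤ zpowers f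
  · exact Or.inl (le_antisymm hne hFU)
  right
  have h1 := LyFiveMod.relIndex_ge (S := S) h.six.perf (t := ⟨t, h.six.t_mem⟩) h.six.norm
    (by rw [h.six.card]; norm_num) (F := zpowers f) (U := U) hne hSU
    (fun s hs x hx => by rw [h.S_comm_F hs hx, mul_inv_cancel_right]; exact hx)
    (fun u hu x hx => by rw [h.comm_F (hUK hu) hx, mul_inv_cancel_right]; exact hx) h5
    (fun u hu => h.inv u (hUK hu))
  have h2 : Nat.card (zpowers f) * (zpowers f).relIndex U = Nat.card U := by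
    have := Subgroup.relIndex_mul_relIndex ⊥ (zpowers f) U bot_le hFU
    rwa [Subgroup.relIndex_bot_left, Subgroup.relIndex_bot_left] at this
  rw [h.card_F] at h2
  refine Subgroup.eq_of_le_of_card_ge hUK ?_
  rw [h.card, ← h2]
  calc 5 ^ 5 = 5 * 5 ^ 4 := by norm_num
    _ ≤ 5 * (zpowers f).relIndex U := Nat.mul_le_mul_left 5 h1

/-- `K / ⟨f⟩` is elementary abelian. -/
theorem pow_five_mem {k : G} (hk : k ∈ K) : k ^ 5 ∈ zpowers f := by
  let U : Subgroup G :=
    { carrier := {x | x ∈ K ∧ x ^ 5 ∈ zpowers f}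
      mul_mem' := fun {a b} ha hb => ⟨mul_mem ha.1 hb.1, by
        rw [h.mul_pow_five ha.1 hb.1]; exact mul_mem ha.2 hb.2⟩
      one_mem' := ⟨one_mem _, by rw [one_pow]; exact one_mem _⟩
      inv_mem' := fun {a} ha => ⟨inv_mem ha.1, by rw [inv_pow]; exact inv_mem ha.2⟩ }
  have hmem : ∀ x, x ∈ U ↔ x ∈ K ∧ x ^ 5 ∈ zpowers f := fun x => Iff.rfl
  rcases h.eq_or_of_pow (U := U)
    (fun x hx => ⟨h.F_le hx, Subgroup.pow_mem _ hx 5⟩) (fun x hx => hx.1)
    (fun s hs u hu => ⟨h.S_norm hs hu.1, by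
      rw [conj_pow, h.S_comm_F hs hu.2, mul_inv_cancel_right]; exact hu.2⟩)
    (fun u hu => hu.2) with h1 | h1
  · -- then `K / ⟨f⟩` has no element of order five
    exfalso
    have hnorm : ((zpowers f).subgroupOf K).Normal := ⟨fun x hx g => by
      rw [mem_subgroupOf] at hx ⊢
      show (g : G) * x * (g : G)⁻¹ ∈ _
      rw [h.comm_F g.2 hx, mul_inv_cancel_right]
      exact hx⟩
    have hcard : Nat.card (K ⧸ (zpowers f).subgroupOf K) = 5 ^ 4 := by
      have h2 := Subgroup.relIndex_mul_relIndex ⊥ (zpowers f) K bot_le h.F_le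
      rw [Subgroup.relIndex_bot_left, Subgroup.relIndex_bot_left, h.card, h.card_F] at h2
      have h3 : Nat.card (K ⧸ (zpowers f).subgroupOf K) = (zpowers f).relIndex K := rfl
      omega
    have : Fact (Nat.Prime 5) := ⟨by norm_num⟩
    obtain ⟨q, hq⟩ := exists_prime_orderOf_dvd_card' (G := K ⧸ (zpowers f).subgroupOf K) 5
      (by rw [hcard]; norm_num)
    induction q using QuotientGroup.induction_on with
    | H x =>
      have h4 : ((x : K ⧸ (zpowers f).subgroupOf K)) ^ 5 = 1 := by rw [← hq, pow_orderOf_eq_one]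
      rw [← QuotientGroup.mk_pow, QuotientGroup.eq_one_iff] at h4
      have h5 : (x : G) ∈ U := ⟨x.2, h4⟩
      rw [h1] at h5
      have h6 : ((x : K ⧸ (zpowers f).subgroupOf K)) = 1 := (QuotientGroup.eq_one_iff x).2 h5
      rw [h6, orderOf_one] at hq
      exact absurd hq (by norm_num)
  · have h2 : k ∈ U := by rw [h1]; exact hk
    exact h2.2

/-- (E8) irreducibility. -/
theorem eq_or {U : Subgroup G} (hFU : zpowers f ≤ U) (hUK : U ≤ K) (hSU : ∀ s ∈ S, ∀ u ∈ U, s * u * s⁻¹ ∈ U) :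
    U = zpowers f ∨ U = K :=
  h.eq_or_of_pow hFU hUK hSU (fun _ hu => h.pow_five_mem (hUK hu))

/-- The only element of `S` centralising `K` is `1`. -/
theorem faithful {s : G} (hs : s ∈ S) (hc : ∀ k ∈ K, s * k = k * s) : s = 1 := by
  let N : Subgroup S := (centralizer (K : Set G)).subgroupOf S
  have hN : N.Normal := ⟨fun x hx g => by
    rw [mem_subgroupOf, mem_centralizer_iff] at hx ⊢
    intro k hk
    have h1 := hx ((g : G)⁻¹ * k * g) (by
      have := h.S_norm (inv_mem g.2) hk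
      rwa [inv_inv] at this)
    show k * ((g : G) * x * (g : G)⁻¹) = (g : G) * x * (g : G)⁻¹ * k
    calc k * ((g : G) * x * (g : G)⁻¹) = g * ((g : G)⁻¹ * k * g * x) * (g : G)⁻¹ := by group
      _ = g * (x * ((g : G)⁻¹ * k * g)) * (g : G)⁻¹ := by rw [h1]
      _ = (g : G) * x * (g : G)⁻¹ * k := by group⟩
  have ht : (⟨t, h.six.t_mem⟩ : S) ∉ N := by
    intro ht
    rw [mem_subgroupOf, mem_centralizer_iff] at ht
    have h1 : K ≤ zpowers f := fun k hk => h.ct k hk (ht k hk)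
    have h2 := Nat.card_mono (Set.toFinite _) (show (K : Set G) ⊆ zpowers f from h1)
    have h3 : Nat.card K ≤ Nat.card (zpowers f) := h2
    rw [h.card, h.card_F] at h3
    exact absurd h3 (by norm_num)
  have h1 : (⟨s, hs⟩ : S) ∈ N := by
    rw [mem_subgroupOf, mem_centralizer_iff]
    intro k hk
    exact (hc k hk).symm
  rw [h.six.norm N hN ht, mem_bot] at h1
  exact congrArg Subtype.val h1

end FiveIn

/-! ### Transport -/

theorem Six.map {G H : Type*} [Group G] [Group H] {t : G} {S : Subgroup G} (h : Six t S) (e : G ≃* H) :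
    Six (e t) (S.map e.toMonoidHom) where
  t_mem := mem_map_of_mem _ h.t_mem
  t_ne := by
    rw [Ne, MulEquiv.map_eq_one_iff]
    exact h.t_ne
  t_sq := by rw [← map_mul, h.t_sq, map_one]
  comm := by
    rintro _ ⟨s, hs, rfl⟩
    show e s * e t = e t * e s
    rw [← map_mul, h.comm s hs, map_mul]
  perf := by
    let ψ : S ≃* (S.map e.toMonoidHom) := S.equivMapOfInjective e.toMonoidHom e.injective
    have h1 : (commutator S).map ψ.toMonoidHom = commutator (S.map e.toMonoidHom) := by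
      rw [_root_.commutator_def, _root_.commutator_def, Subgroup.map_commutator, ← MonoidHom.range_eq_map,
        MonoidHom.range_eq_top.2 ψ.surjective]
    rw [← h1, h.perf, ← MonoidHom.range_eq_map, MonoidHom.range_eq_top.2 ψ.surjective]
  norm := by
    intro N hN ht
    let ψ : S ≃* (S.map e.toMonoidHom) := S.equivMapOfInjective e.toMonoidHom e.injective
    have h1 : N.comap ψ.toMonoidHom = ⊥ := by
      refine h.norm _ (hN.comap _) ?_
      intro h2
      apply ht
      exact h2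
    rw [eq_bot_iff]
    intro x hx
    obtain ⟨y, rfl⟩ := ψ.surjective x
    have h2 : y ∈ N.comap ψ.toMonoidHom := hx
    rw [h1, mem_bot] at h2
    rw [h2, map_one]
    exact one_mem _
  card := by
    rw [← h.card]
    exact (Nat.card_congr (S.equivMapOfInjective e.toMonoidHom e.injective).toEquiv).symm
  five := by
    rintro _ ⟨s, hs, rfl⟩ hs1 hs5
    have h1 : s ≠ 1 := by
      rintro rfl
      exact hs1 (map_one _)
    have h2 : s ^ 5 = 1 := by
      apply e.injective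
      rw [map_pow, map_one]
      exact hs5
    obtain ⟨a, ha, hae⟩ := h.five s hs h1 h2
    refine ⟨e a, mem_map_of_mem _ ha, ?_⟩
    show (e s * (e a * (e s * e s) * (e a)⁻¹)) * (e s * (e a * (e s * e s) * (e a)⁻¹)) = e t
    rw [← hae]
    simp only [map_mul, map_inv]

theorem zpowers_map {G H : Type*} [Group G] [Group H] (e : G ≃* H) {f x : G} :
    e x ∈ zpowers (e f) ↔ x ∈ zpowers f := by
  constructor
  · rintro ⟨n, hn⟩
    refine ⟨n, e.injective ?_⟩
    show e (f ^ n) = e x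
    rw [map_zpow]
    exact hn
  · rintro ⟨n, rfl⟩
    refine ⟨n, ?_⟩
    show e f ^ n = e (f ^ n)
    rw [map_zpow]

theorem FiveIn.map {G H : Type*} [Group G] [Group H] {t f : G} {K S : Subgroup G} (h : FiveIn t f K S) (e : G ≃* H) :
    FiveIn (e t) (e f) (K.map e.toMonoidHom) (S.map e.toMonoidHom) where
  six := h.six.map e
  f5 := by rw [MulEquiv.orderOf_eq, h.f5]
  mem := mem_map_of_mem _ h.mem
  cent := by
    rintro _ ⟨k, hk, rfl⟩
    show e k * e f = e f * e k
    rw [← map_mul, h.cent k hk, map_mul]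
  norm := by
    rintro y hy _ ⟨k, hk, rfl⟩
    obtain ⟨y, rfl⟩ := e.surjective y
    have h1 : y * f * y⁻¹ ∈ zpowers f := by
      rw [← zpowers_map e, map_mul, map_mul, map_inv]
      exact hy
    refine ⟨y * k * y⁻¹, h.norm y h1 k hk, ?_⟩
    show e (y * k * y⁻¹) = e y * e k * (e y)⁻¹
    rw [map_mul, map_mul, map_inv]
  card := by
    rw [← h.card]
    exact (Nat.card_congr (K.equivMapOfInjective e.toMonoidHom e.injective).toEquiv).symm
  ct := by
    rintro _ ⟨k, hk, rfl⟩ hkt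
    have hkt : e k * e t = e t * e k := hkt
    rw [← map_mul, ← map_mul] at hkt
    exact (zpowers_map e).2 (h.ct k hk (e.injective hkt))
  inv := by
    rintro _ ⟨k, hk, rfl⟩
    have := (zpowers_map e).2 (h.inv k hk)
    rw [map_mul, map_mul, map_mul, map_inv] at this
    exact this
  Sf := by
    rintro _ ⟨s, hs, rfl⟩
    show e s * e f = e f * e s
    rw [← map_mul, h.Sf s hs, map_mul]
  fac := by
    intro g hg
    obtain ⟨g, rfl⟩ := e.surjective g
    rw [← map_mul, ← map_mul] at hg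
    obtain ⟨k, hk, s, hs, he⟩ := h.fac g (e.injective hg)
    exact ⟨e k, mem_map_of_mem _ hk, e s, mem_map_of_mem _ hs, by rw [he, map_mul]⟩

end Cfsg.Agent.SporRec.LyFiveExtra
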