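import Cfsg.Agent.SporRec.LyFiveCard

/-!
# Groups of Lyons type: 5-elements commuting with a 3-cycle

`f` is a lift of a 5-cycle and `x` of a disjoint 3-cycle.  No involution of `C_G(x)` inverts `f`, and the
`5`-elements of `C_G(f) ∩ C_G(x)` lie in `O(C_G(f))`.
-/

set_option autoImplicit false
set_option linter.unusedSectionVars false

namespace Cfsg.Agent.SporRec.LyFiveInv

open Subgroup Equiv
open Cfsg.Agent.SporRec.TwoAn Cfsg.Agent.SporRec.LyType Cfsg.Agent.SporRec.LyFiveCore

section perm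

variable {α : Type*} [Fintype α] [DecidableEq α]

/-- An element of order prime to that of a cycle, commuting with it, fixes its points. -/
theorem fix_of_comm_cycle {X σ : Perm α} (hX : X.IsCycle) {n : ℕ} (hn : σ ^ n = 1)
    (hnm : Nat.Coprime n (orderOf X)) (h : Commute σ X) {a : α} (ha : X a ≠ a) : σ a = a := by
  obtain ⟨hc', h2⟩ := hX.commute_iff.1 h
  obtain ⟨k, hk⟩ := (Submonoid.mem_powers_iff _ _).1 (mem_powers_iff_mem_zpowers.2 h2)
  have h3 : ∀ b, X b ≠ b → σ b = (X ^ k) b := fun b hb => by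
    rw [hk, Perm.ofSubtype_subtypePerm_of_mem hc' (Perm.mem_support.2 hb)]
  set s := (X ^ k)⁻¹ * σ with hs
  have hsfix : ∀ b, X b ≠ b → s b = b := fun b hb => by
    rw [hs, Perm.mul_apply, h3 b hb, Perm.inv_eq_iff_eq]
  have hsX : Commute (X ^ k) s := by
    have h5 : Commute (X ^ k) σ := (h.symm).pow_left k
    exact ((Commute.refl (X ^ k)).inv_right).mul_right h5
  have hσ : σ = X ^ k * s := by rw [hs]; group
  have h6 : X ^ (k * n) * s ^ n = 1 := by
    rw [pow_mul, ← hsX.mul_pow, ← hσ, hn]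
  have hsn : ∀ j : ℕ, (s ^ j) a = a := by
    intro j
    induction j with
    | zero => simp
    | succ j ih => rw [pow_succ, Perm.mul_apply, hsfix a ha, ih]
  have h7 : (X ^ (k * n)) a = a := by
    have := congrArg (fun τ : Perm α => τ a) h6
    simpa [Perm.mul_apply, hsn n] using this
  have h8 : X ^ (k * n) = 1 := hX.pow_eq_one_iff.2 ⟨a, ha, h7⟩
  have h9 : orderOf X ∣ k := (hnm.symm).dvd_of_dvd_mul_right (orderOf_dvd_of_pow_eq_one h8)
  rw [hσ, Perm.mul_apply, hsfix a ha, orderOf_dvd_iff_pow_eq_one.1 h9, Perm.one_apply]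

/-- An involution inverting a cycle of odd length fixes one of its points. -/
theorem exists_fix_of_inv {F σ : Perm α} (hodd : Odd F.support.card) (hσ : σ * σ = 1)
    (h : σ * F * σ⁻¹ = F⁻¹) : ∃ a, F a ≠ a ∧ σ a = a := by
  have hc : ∀ a, F⁻¹ (σ a) = σ (F a) := fun a => by
    have h1 : σ * F = F⁻¹ * σ := by rw [← h]; group
    have := congrArg (fun τ : Perm α => τ a) h1
    simpa using this.symm
  have hp : ∀ a, F (σ a) ≠ σ a ↔ F a ≠ a := by
    intro a
    constructor
    · intro h1 h2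
      apply h1
      have h3 := hc a
      rw [h2, Perm.inv_eq_iff_eq] at h3
      exact h3.symm
    · intro h1 h2
      apply h1
      have h3 : F⁻¹ (σ a) = σ a := by rw [Perm.inv_eq_iff_eq]; exact h2.symm
      rw [hc] at h3
      exact σ.injective h3
  let τ : Perm {a // F a ≠ a} := σ.subtypePerm hp
  by_contra hcon
  push Not at hcon
  have hτ : τ ^ 2 ^ 1 = 1 := by
    ext a
    have h0 : σ (σ a) = a := congrArg (fun ρ : Perm α => ρ a) hσ
    rw [pow_one, pow_two, Perm.mul_apply]
    exact h0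
  have h1 : Fintype.card {a // F a ≠ a} = F.support.card := by
    rw [Fintype.card_subtype]
    congr 1
  have hfix : ∀ b, τ b ≠ b := by
    intro b hb
    exact hcon b b.2 (congrArg Subtype.val hb)
  have h2 : Even (Fintype.card {a // F a ≠ a}) := by
    have h3 : τ.support = Finset.univ := by
      ext b; simp [hfix b]
    have h4 := Perm.two_dvd_card_support (σ := τ) (by simpa using hτ)
    rw [h3, Finset.card_univ] at h4
    exact even_iff_two_dvd.2 h4
  rw [h1] at h2
  exact (Nat.not_even_iff_odd.2 hodd) h2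

/-- A permutation of `p`-power order moving fewer than `p` points is trivial. -/
theorem eq_one_of_card_lt {σ : Perm α} {p n : ℕ} (hp : p.Prime) (h : σ ^ p ^ n = 1) (hc : σ.support.card < p) :
    σ = 1 := by
  by_contra h1
  have h2 : σ.cycleType ≠ 0 := by rwa [Ne, Perm.cycleType_eq_zero]
  obtain ⟨m, hm⟩ := Multiset.exists_mem_of_ne_zero h2
  have h3 : m ∣ p ^ n := (Perm.dvd_of_mem_cycleType hm).trans (orderOf_dvd_of_pow_eq_one h)
  have h4 : 2 ≤ m := Perm.two_le_of_mem_cycleType hm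
  have h5 : m ≤ σ.support.card := Perm.le_card_support_of_mem_cycleType hm
  obtain ⟨k, hk, rfl⟩ := (Nat.dvd_prime_pow hp).1 h3
  have h6 : k ≠ 0 := by rintro rfl; simp at h4
  have h7 : p ∣ p ^ k := dvd_pow_self p h6
  have := Nat.le_of_dvd (by omega) h7
  omega

end perm

section

variable {G : Type*} [Group G] {L : LyType G} {f x : G}

/-- `x` is a lift of order three of a 3-cycle disjoint from `f`. -/
structure Three (L : LyType G) (x : G) : Prop where
  comm : x * L.t = L.t * x
  pow : x ^ 3 = 1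
  cyc : (L.K.π ⟨x, L.mem_iff.2 comm⟩).IsThreeCycle

theorem Three.comm_of_disjoint (hx : Three L x) (hf : Five L f)
    (hd : (L.K.π ⟨f, L.mem_iff.2 hf.comm⟩).Disjoint (L.K.π ⟨x, L.mem_iff.2 hx.comm⟩)) : x * f = f * x :=
  (congrArg Subtype.val (L.K.commute_of_disjoint hd)).symm

/-- An element of `⟨f⟩` of order dividing three is trivial. -/
theorem eq_one_of_cube (hf : Five L f) {g : G} (hg : g ∈ zpowers f) (h3 : g ^ 3 = 1) : g = 1 := by
  have h1 := (zpowers f).orderOf_dvd_natCard hg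
  rw [Nat.card_zpowers, LyFiveCore.orderOf_f hf] at h1
  have h2 : orderOf g ∣ Nat.gcd 5 3 := Nat.dvd_gcd h1 (orderOf_dvd_of_pow_eq_one h3)
  exact orderOf_eq_one_iff.1 (Nat.dvd_one.1 h2)

/-- Commutation modulo `⟨f⟩` with `x` is commutation. -/
theorem comm_of_mod (hx : Three L x) (hf : Five L f) (hxf : x * f = f * x) {m : G}
    (h : m * x * m⁻¹ * x⁻¹ ∈ zpowers f) : m * x = x * m := by
  obtain ⟨g, hg⟩ : ∃ g, g = m * x * m⁻¹ * x⁻¹ := ⟨_, rfl⟩
  rw [← hg] at h
  have hgx : m * x * m⁻¹ = g * x := by rw [hg]; group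
  have hc : Commute g x := by
    obtain ⟨i, rfl⟩ := h
    exact (Commute.zpow_right (show Commute x f from hxf) i).symm
  have h3 : g ^ 3 = 1 := by
    have h4 : (m * x * m⁻¹) ^ 3 = 1 := by rw [conj_pow, hx.pow, mul_one, mul_inv_cancel]
    rw [hgx, hc.mul_pow, hx.pow, mul_one] at h4
    exact h4
  rw [eq_one_of_cube hf h h3, one_mul, mul_inv_eq_iff_eq_mul] at hgx
  exact hgx

variable [Finite G]

/-- No involution commuting with the 3-element `x` inverts the 5-element `f`. -/
theorem no_inv (hx : Three L x) (hf : Five L f)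
    (hd : (L.K.π ⟨f, L.mem_iff.2 hf.comm⟩).Disjoint (L.K.π ⟨x, L.mem_iff.2 hx.comm⟩)) {s : G} (hs : s * s = 1)
    (hsx : s * x = x * s) (hsf : s * f * s⁻¹ = f⁻¹) : False := by
  have hxf := hx.comm_of_disjoint hf hd
  obtain ⟨k, hk, m, -, hmt, hskm⟩ := exists_mul_normalizer (L := L) hf (LyFiveCard.v_mem_normalizer hsf)
  have hm : m = k⁻¹ * s := by rw [hskm]; group
  have hkf := comm_of_mem_core hk
  have hmf : m * f * m⁻¹ = f⁻¹ := by
    calc m * f * m⁻¹ = k⁻¹ * (s * f * s⁻¹) * k := by rw [hm]; group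
      _ = k⁻¹ * (f⁻¹ * k) := by rw [hsf, mul_assoc]
      _ = f⁻¹ := by
        have : f⁻¹ * k = k * f⁻¹ := by
          rw [inv_mul_eq_iff_eq_mul, ← mul_assoc, eq_mul_inv_iff_mul_eq, hkf]
        rw [this]; group
  have hinv : ∀ g ∈ zpowers f, m * g * m⁻¹ = g⁻¹ := fun g hg => LyFiveCard.conj_zpowers hmf hg
  have hsk : s * k⁻¹ * s⁻¹ ∈ core f :=
    conj_mem_core_of_normalizer (LyFiveCard.v_mem_normalizer hsf) ((core f).inv_mem hk)
  have hmm : m * m = 1 := by
    have h1 : m * m ∈ core f := by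
      have : m * m = k⁻¹ * (s * k⁻¹ * s⁻¹) * (s * s) := by rw [hm]; group
      rw [this, hs, mul_one]
      exact (core f).mul_mem ((core f).inv_mem hk) hsk
    have h2 : m * m ∈ zpowers f := mem_zpowers_of_comm hf h1 (by
      rw [mul_assoc, hmt, ← mul_assoc, hmt, mul_assoc])
    have h3 := hinv _ h2
    have h4 : m * (m * m) * m⁻¹ = m * m := by group
    rw [h4, eq_inv_iff_mul_eq_one] at h3
    exact eq_one_of_mul_self hf h2 h3
  have hmx : m * x = x * m := by
    apply comm_of_mod hx hf hxf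
    have h1 : m * x * m⁻¹ * x⁻¹ = k⁻¹ * (x * k * x⁻¹) := by
      calc m * x * m⁻¹ * x⁻¹ = k⁻¹ * (s * x) * s⁻¹ * k * x⁻¹ := by rw [hm]; group
        _ = k⁻¹ * (x * k * x⁻¹) := by rw [hsx]; group
    apply mem_zpowers_of_comm hf
    · rw [h1]
      exact (core f).mul_mem ((core f).inv_mem hk) (conj_mem_core_of_comm hxf hk)
    · have c1 : Commute m L.t := hmt
      have c2 : Commute x L.t := hx.comm
      exact (((c1.mul_left c2).mul_left c1.inv_left).mul_left c2.inv_left).eq
  -- in the cover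
  set F : centralizer ({L.t} : Set G) := ⟨f, L.mem_iff.2 hf.comm⟩ with hF
  set X : centralizer ({L.t} : Set G) := ⟨x, L.mem_iff.2 hx.comm⟩ with hX
  set M : centralizer ({L.t} : Set G) := ⟨m, L.mem_iff.2 hmt⟩ with hM
  have hMM : M * M = 1 := Subtype.ext hmm
  have hMX : Commute (L.K.π M) (L.K.π X) := by
    show L.K.π M * L.K.π X = L.K.π X * L.K.π M
    rw [← map_mul, ← map_mul]
    congr 1
    exact Subtype.ext hmx
  have hMF : L.K.π M * L.K.π F * (L.K.π M)⁻¹ = (L.K.π F)⁻¹ := by
    rw [← map_inv, ← map_mul, ← map_inv, ← map_mul]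
    congr 1
    exact Subtype.ext hmf
  have hππ : L.K.π M * L.K.π M = 1 := by rw [← map_mul, hMM, map_one]
  obtain ⟨a, ha, haM⟩ := exists_fix_of_inv (by rw [hf.card]; decide) hππ hMF
  have hfixX : ∀ b, L.K.π X b ≠ b → L.K.π M b = b := fun b hb =>
    fix_of_comm_cycle hx.cyc.isCycle (n := 2) (by rw [pow_two, hππ]) (by rw [hx.cyc.orderOf]; decide) hMX hb
  obtain ⟨-, j, hj⟩ := L.K.sq_eq_one_iff.1 hMM
  have h1 : (L.K.π M).support ⊆ (insert a (L.K.π X).support)ᶜ := by
    intro b hb
    rw [Finset.mem_compl, Finset.mem_insert, Perm.mem_support]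
    rw [Perm.mem_support] at hb
    rintro (rfl | h)
    · exact hb haM
    · exact hb (hfixX b h)
  have h2 := Finset.card_le_card h1
  have ha' : a ∉ (L.K.π X).support := by
    rw [Perm.mem_support, not_not]
    exact (hd a).resolve_left ha
  rw [Finset.card_compl, Finset.card_insert_of_notMem ha', hx.cyc.card_support, Fintype.card_fin] at h2
  have h3 : (L.K.π M).support.card = 0 := by omega
  rw [Finset.card_eq_zero, Perm.support_eq_empty_iff] at h3
  rw [h3, one_mul, inv_one, mul_one] at hMF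
  have h4 : (L.K.π F) ^ 2 = 1 := by rw [pow_two]; exact mul_eq_one_iff_eq_inv.2 hMF
  have h5 := orderOf_dvd_of_pow_eq_one h4
  rw [hf.cyc.orderOf, hf.card] at h5
  omega

/-- The `5`-elements commuting with `f` and `x` lie in the core of the centraliser of `f`. -/
theorem mem_core_of_pow (hx : Three L x) (hf : Five L f)
    (hd : (L.K.π ⟨f, L.mem_iff.2 hf.comm⟩).Disjoint (L.K.π ⟨x, L.mem_iff.2 hx.comm⟩)) {p : G} {n : ℕ}
    (hp : p ^ 5 ^ n = 1) (hpf : p * f = f * p) (hpx : p * x = x * p) : p ∈ core f := by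
  have hxf := hx.comm_of_disjoint hf hd
  obtain ⟨k, hk, c, hct, hcf, hpkc⟩ := exists_mul hf hpf
  have hc : c = k⁻¹ * p := by rw [hpkc]; group
  -- powers
  have hpow : ∀ j : ℕ, ∃ k' ∈ core f, p ^ j = k' * c ^ j := by
    intro j
    induction j with
    | zero => exact ⟨1, (core f).one_mem, by simp⟩
    | succ j ih =>
      obtain ⟨k', hk', h⟩ := ih
      have hcj : c ^ j * f = f * c ^ j := ((show Commute c f from hcf).pow_left j)
      refine ⟨k' * (c ^ j * k * (c ^ j)⁻¹), (core f).mul_mem hk' (conj_mem_core_of_comm hcj hk), ?_⟩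
      rw [pow_succ, h, hpkc, pow_succ]
      group
  have hcn : c ^ 5 ^ n ∈ zpowers f := by
    obtain ⟨k', hk', h⟩ := hpow (5 ^ n)
    rw [hp] at h
    apply mem_zpowers_of_comm hf
    · have : c ^ 5 ^ n = k'⁻¹ := eq_inv_of_mul_eq_one_right h.symm
      rw [this]
      exact (core f).inv_mem hk'
    · exact ((show Commute c L.t from hct).pow_left _)
  have hcx : c * x = x * c := by
    apply comm_of_mod hx hf hxf
    have h1 : c * x * c⁻¹ * x⁻¹ = k⁻¹ * (x * k * x⁻¹) := by
      calc c * x * c⁻¹ * x⁻¹ = k⁻¹ * (p * x) * p⁻¹ * k * x⁻¹ := by rw [hc]; group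
        _ = k⁻¹ * (x * k * x⁻¹) := by rw [hpx]; group
    apply mem_zpowers_of_comm hf
    · rw [h1]
      exact (core f).mul_mem ((core f).inv_mem hk) (conj_mem_core_of_comm hxf hk)
    · have c1 : Commute c L.t := hct
      have c2 : Commute x L.t := hx.comm
      exact (((c1.mul_left c2).mul_left c1.inv_left).mul_left c2.inv_left).eq
  obtain ⟨i, l, hl, hcl⟩ := exists_factor hf hct hcf
  set F : centralizer ({L.t} : Set G) := ⟨f, L.mem_iff.2 hf.comm⟩ with hF
  set X : centralizer ({L.t} : Set G) := ⟨x, L.mem_iff.2 hx.comm⟩ with hX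
  have hlF : Commute l F := L.K.comm_of_mem_sub hl
  have hlf : Commute (l : G) f := congrArg Subtype.val hlF.eq
  -- `l` commutes with `x`
  have hlx : (l : G) * x = x * l := by
    have h1 : (l : G) = f ^ (-i) * c := by rw [hcl]; group
    have c1 : Commute (f ^ (-i)) x := ((show Commute x f from hxf).zpow_right _).symm
    rw [h1]
    exact (c1.mul_left (show Commute c x from hcx)).eq
  have hlX : Commute (L.K.π l) (L.K.π X) := by
    show L.K.π l * L.K.π X = L.K.π X * L.K.π l
    rw [← map_mul, ← map_mul]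
    congr 1
    exact Subtype.ext hlx
  -- the power of `l`
  have hln : l ^ 5 ^ n = 1 := by
    have h1 : c ^ 5 ^ n = (f ^ i) ^ 5 ^ n * (l : G) ^ 5 ^ n := by
      rw [hcl]
      exact (((hlf.symm).zpow_left i).mul_pow _)
    have h2 : (l : G) ^ 5 ^ n ∈ zpowers f := by
      have : (l : G) ^ 5 ^ n = ((f ^ i) ^ 5 ^ n)⁻¹ * c ^ 5 ^ n := by rw [h1]; group
      rw [this]
      exact mul_mem (inv_mem (pow_mem (zpow_mem (mem_zpowers f) _) _)) hcn
    obtain ⟨j, hj⟩ := h2
    have hj' : f ^ j = (l : G) ^ 5 ^ n := hj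
    have h3 : F ^ j = l ^ 5 ^ n := by
      apply Subtype.ext
      rw [Subgroup.coe_zpow, Subgroup.coe_pow]
      exact hj'
    have h4 : F ^ j ∈ L.K.sub (fun x => L.K.π F x = x) := by rw [h3]; exact pow_mem hl _
    have h5 := zpow_eq_one_of_mem_sub hf h4
    apply Subtype.ext
    rw [Subgroup.coe_pow, ← hj', h5]
    rfl
  have hπn : (L.K.π l) ^ 5 ^ n = 1 := by rw [← map_pow, hln, map_one]
  have hπ1 : L.K.π l = 1 := by
    refine eq_one_of_card_lt (p := 5) (by norm_num) hπn ?_
    have h1 : (L.K.π l).support ⊆ ((L.K.π F).support ∪ (L.K.π X).support)ᶜ := by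
      intro b hb
      rw [Finset.mem_compl, Finset.mem_union, Perm.mem_support, Perm.mem_support]
      rw [Perm.mem_support] at hb
      rintro (h | h)
      · exact hb (hl b h)
      · exact hb (fix_of_comm_cycle hx.cyc.isCycle hπn (by
          rw [hx.cyc.orderOf]; exact Nat.Coprime.pow_left _ (by norm_num)) hlX h)
    have h2 := Finset.card_le_card h1
    rw [Finset.card_compl, Finset.card_union_of_disjoint (Perm.disjoint_iff_disjoint_support.1 hd), hf.card,
      hx.cyc.card_support, Fintype.card_fin] at h2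
    omega
  have hl1 : (l : G) = 1 := by
    rcases (L.K.ker l).1 hπ1 with h | h
    · rw [h]; rfl
    · exfalso
      rw [h, L.K.z_pow, if_neg] at hln
      · exact L.K.z_ne hln
      · rw [Nat.not_even_iff_odd]
        exact Odd.pow (by decide)
  rw [hpkc, hcl, hl1, mul_one]
  exact (core f).mul_mem hk (zpow_mem (self_mem_core hf) _)

/-- If `C_G(x)` contains an element of order five inverted by an involution of `C_G(x)` then there is a `5`-element
of `O(C_G(f))` outside `⟨f⟩` commuting with `x`, and `25` divides the order of `O(C_G(f))`. -/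
theorem core_and (hx : Three L x) (hf : Five L f)
    (hd : (L.K.π ⟨f, L.mem_iff.2 hf.comm⟩).Disjoint (L.K.π ⟨x, L.mem_iff.2 hx.comm⟩)) {y τ : G}
    (hy5 : y ^ 5 = 1) (hy1 : y ≠ 1) (hyx : y * x = x * y) (hτ : τ * τ = 1) (hτx : τ * x = x * τ)
    (hτy : τ * y * τ⁻¹ = y⁻¹) :
    (∃ e ∈ core f, e ∉ zpowers f ∧ e * x = x * e ∧ ∃ n : ℕ, e ^ 5 ^ n = 1) ∧ 25 ∣ Nat.card (core f) := by
  classical
  have h5 : Fact (Nat.Prime 5) := ⟨by norm_num⟩
  have hxf := hx.comm_of_disjoint hf hd
  set H := centralizer ({x} : Set G) with hH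
  have hmH : ∀ g : G, g ∈ H ↔ g * x = x * g := fun g => mem_centralizer_singleton_iff
  let F : H := ⟨f, (hmH f).2 hxf.symm⟩
  let Y : H := ⟨y, (hmH y).2 hyx⟩
  have hoF : orderOf F = 5 := by
    rw [← LyFiveCore.orderOf_f hf]; exact Subgroup.orderOf_mk f _
  have hoy : orderOf y = 5 := orderOf_eq_prime hy5 hy1
  have hoY : orderOf Y = 5 := by
    rw [← hoy]; exact Subgroup.orderOf_mk y _
  have hpF : IsPGroup 5 (zpowers F) := by
    rw [IsPGroup.iff_card]; exact ⟨1, by rw [Nat.card_zpowers, hoF, pow_one]⟩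
  have hpY : IsPGroup 5 (zpowers Y) := by
    rw [IsPGroup.iff_card]; exact ⟨1, by rw [Nat.card_zpowers, hoY, pow_one]⟩
  obtain ⟨P, hP⟩ := hpF.exists_le_sylow
  -- a generator of a group of order five
  have hgen : ∀ {g h : G}, orderOf g = 5 → orderOf h = 5 → h ∈ zpowers g → g ∈ zpowers h := by
    intro g h hg hh hmem
    have h1 : zpowers h ≤ zpowers g := by rw [zpowers_le]; exact hmem
    have h2 : zpowers h = zpowers g :=
      Subgroup.eq_of_le_of_card_ge h1 (by rw [Nat.card_zpowers, Nat.card_zpowers, hg, hh])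
    rw [h2]; exact mem_zpowers g
  by_cases hPF : (P : Subgroup H) = zpowers F
  · exfalso
    obtain ⟨P', hP'⟩ := hpY.exists_le_sylow
    obtain ⟨h, hh⟩ := MulAction.exists_smul_eq H P' P
    have h1 : h * Y * h⁻¹ ∈ (P : Subgroup H) := by
      rw [← hh]
      exact ⟨Y, hP' (mem_zpowers Y), rfl⟩
    rw [hPF] at h1
    obtain ⟨j, hj⟩ := h1
    have h2 : (h : G) * y * (h : G)⁻¹ ∈ zpowers f := ⟨j, by
      have := congrArg Subtype.val hj
      simpa using this⟩
    have h3 : orderOf ((h : G) * y * (h : G)⁻¹) = 5 := by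
      have := orderOf_injective (MulAut.conj (h : G)).toMonoidHom (MulAut.conj (h : G)).injective y
      rw [← hoy, ← this]; rfl
    have h4 := hgen (LyFiveCore.orderOf_f hf) h3 h2
    have hhx := (hmH h).1 h.2
    have hhx' : (h : G)⁻¹ * x = x * (h : G)⁻¹ := by
      rw [inv_mul_eq_iff_eq_mul, ← mul_assoc, eq_mul_inv_iff_mul_eq]; exact hhx.symm
    refine no_inv hx hf hd (s := (h : G) * τ * (h : G)⁻¹) ?_ ?_ ?_
    · calc (h : G) * τ * (h : G)⁻¹ * ((h : G) * τ * (h : G)⁻¹) = h * (τ * τ) * (h : G)⁻¹ := by group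
        _ = 1 := by rw [hτ]; group
    · have c1 : Commute (h : G) x := hhx
      exact ((c1.mul_left (show Commute τ x from hτx)).mul_left c1.inv_left).eq
    · have h5 : ∀ g ∈ zpowers ((h : G) * y * (h : G)⁻¹),
          ((h : G) * τ * (h : G)⁻¹) * g * ((h : G) * τ * (h : G)⁻¹)⁻¹ = g⁻¹ := fun g hg =>
        LyFiveCard.conj_zpowers (by
          calc ((h : G) * τ * (h : G)⁻¹) * (h * y * (h : G)⁻¹) * ((h : G) * τ * (h : G)⁻¹)⁻¹
              = h * (τ * y * τ⁻¹) * (h : G)⁻¹ := by group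
            _ = (h * y * (h : G)⁻¹)⁻¹ := by rw [hτy]; group) hg
      exact h5 f h4
  · -- a further element commuting with `f`
    obtain ⟨p, hpP, hpF', hpc⟩ : ∃ p ∈ (P : Subgroup H), p ∉ zpowers F ∧ p * F = F * p := by
      have hFP : F ∈ (P : Subgroup H) := hP (mem_zpowers F)
      by_cases hcen : ∀ g ∈ (P : Subgroup H), g * F = F * g
      · have hlt : zpowers F < (P : Subgroup H) := lt_of_le_of_ne hP (Ne.symm hPF)
        obtain ⟨p, hp1, hp2⟩ := SetLike.exists_of_lt hlt
        exact ⟨p, hp1, hp2, hcen p hp1⟩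
      · have hF1 : F ≠ 1 := by
          intro h; rw [h, orderOf_one] at hoF; omega
        have hnt : Nontrivial (P : Subgroup H) := ⟨⟨F, hFP⟩, 1, fun h => hF1 (congrArg Subtype.val h)⟩
        have := P.isPGroup'.center_nontrivial
        obtain ⟨z0, hz0⟩ := exists_ne (1 : center (P : Subgroup H))
        have hz1 : ((z0 : (P : Subgroup H)) : H) ≠ 1 := fun h => hz0 (Subtype.ext (Subtype.ext h))
        have hzc : ∀ g ∈ (P : Subgroup H), g * ((z0 : (P : Subgroup H)) : H) = ((z0 : (P : Subgroup H)) : H) * g :=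
          fun g hg => congrArg Subtype.val (Subgroup.mem_center_iff.1 z0.2 ⟨g, hg⟩)
        refine ⟨z0, (z0 : (P : Subgroup H)).2, fun hmem => hcen fun g hg => ?_, (hzc F hFP).symm⟩
        -- then `F` is a power of `z0`
        have h1 : zpowers ((z0 : (P : Subgroup H)) : H) ≤ zpowers F := by rw [zpowers_le]; exact hmem
        have h2 : Nat.card (zpowers ((z0 : (P : Subgroup H)) : H)) ∣ 5 := by
          have h2' := card_dvd_of_le h1
          rw [Nat.card_zpowers F, hoF] at h2'; exact h2'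
        have h3 : Nat.card (zpowers ((z0 : (P : Subgroup H)) : H)) = 5 := by
          rcases (Nat.dvd_prime (by norm_num)).1 h2 with h | h
          · exfalso
            rw [Nat.card_zpowers, orderOf_eq_one_iff] at h
            exact hz1 h
          · exact h
        have h4 : zpowers ((z0 : (P : Subgroup H)) : H) = zpowers F :=
          Subgroup.eq_of_le_of_card_ge h1 (by rw [h3, Nat.card_zpowers, hoF])
        have h5 : F ∈ zpowers ((z0 : (P : Subgroup H)) : H) := by rw [h4]; exact mem_zpowers F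
        obtain ⟨j, hj⟩ := h5
        rw [← hj]
        exact ((show Commute g _ from hzc g hg).zpow_right j).eq
    obtain ⟨n, hn⟩ : ∃ n : ℕ, p ^ 5 ^ n = 1 := by
      obtain ⟨n, hn⟩ := P.isPGroup' ⟨p, hpP⟩
      exact ⟨n, congrArg Subtype.val hn⟩
    have hpcore : (p : G) ∈ core f := mem_core_of_pow hx hf hd (n := n) (congrArg Subtype.val hn)
      (congrArg Subtype.val hpc) ((hmH p).1 p.2)
    have hpf : (p : G) ∉ zpowers f := by
      rintro ⟨j, hj⟩
      exact hpF' ⟨j, Subtype.ext (by simpa using hj)⟩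
    refine ⟨⟨p, hpcore, hpf, (hmH p).1 p.2, n, congrArg Subtype.val hn⟩, ?_⟩
    let R : Subgroup G := (P : Subgroup H).map H.subtype ⊓ core f
    have hRp : IsPGroup 5 R := by
      refine IsPGroup.to_le (P.isPGroup'.map H.subtype) inf_le_left
    obtain ⟨k, hk⟩ := IsPGroup.iff_card.1 hRp
    have hle : zpowers f ≤ R := by
      rw [zpowers_le]
      exact ⟨⟨F, hP (mem_zpowers F), rfl⟩, self_mem_core hf⟩
    have hpR : (p : G) ∈ R := ⟨⟨p, hpP, rfl⟩, hpcore⟩
    have hne : zpowers f ≠ R := by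
      intro h
      rw [← h] at hpR
      exact hpf hpR
    have hlt : 5 < Nat.card R := by
      by_contra hge
      apply hne
      refine Subgroup.eq_of_le_of_card_ge hle ?_
      rw [Nat.card_zpowers, LyFiveCore.orderOf_f hf]
      omega
    have hk2 : 2 ≤ k := by
      by_contra hlt2
      have : k ≤ 1 := by omega
      have := Nat.pow_le_pow_right (show 0 < 5 by norm_num) this
      rw [← hk] at this
      omega
    have h25 : 25 ∣ Nat.card R := by
      rw [hk]; exact pow_dvd_pow 5 hk2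
    exact h25.trans (card_dvd_of_le inf_le_right)

/-- If `C_G(x)` contains an element of order five inverted by an involution of `C_G(x)` then `25` divides the order of
`O(C_G(f))`. -/
theorem core_dvd (hx : Three L x) (hf : Five L f)
    (hd : (L.K.π ⟨f, L.mem_iff.2 hf.comm⟩).Disjoint (L.K.π ⟨x, L.mem_iff.2 hx.comm⟩)) {y τ : G}
    (hy5 : y ^ 5 = 1) (hy1 : y ≠ 1) (hyx : y * x = x * y) (hτ : τ * τ = 1) (hτx : τ * x = x * τ)
    (hτy : τ * y * τ⁻¹ = y⁻¹) : 25 ∣ Nat.card (core f) :=
  (core_and hx hf hd hy5 hy1 hyx hτ hτx hτy).2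

end

end Cfsg.Agent.SporRec.LyFiveInv
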