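import Cfsg.Agent.SporRec.LyFiveExtra

/-!
# `O(C_G(f))` is extraspecial of order `5⁵` and exponent five
-/

set_option autoImplicit false
set_option linter.dupNamespace false

namespace Cfsg.Agent.SporRec.LyFiveExtra

open Subgroup

theorem card_mul_relIndex' {G : Type*} [Group G] {D K : Subgroup G} (h : D ≤ K) :
    Nat.card D * D.relIndex K = Nat.card K := by
  have := Subgroup.relIndex_mul_relIndex ⊥ D K bot_le h
  rwa [Subgroup.relIndex_bot_left, Subgroup.relIndex_bot_left] at this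

namespace FiveIn

variable {G : Type*} [Group G] {t f : G} {K S : Subgroup G} (h : FiveIn t f K S)

include h

theorem t_notin_F : t ∉ zpowers f := by
  rintro ⟨n, hn⟩
  have hn : f ^ n = t := hn
  apply h.six.t_ne
  have h1 : t ^ 5 = 1 := by
    rw [← hn, ← zpow_natCast, ← zpow_mul, mul_comm, zpow_mul, zpow_natCast, h.f_pow, one_zpow]
  calc t = t ^ 5 * (t * t)⁻¹ * (t * t)⁻¹ := by group
    _ = 1 := by rw [h1, h.tt]; group

theorem eq_one_of_mem {x : G} (hK : x ∈ K) (hS : x ∈ S) : x = 1 := by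
  have hx : x ∈ zpowers f := h.ct x hK (h.six.comm x hS)
  have hN : ((zpowers x).subgroupOf S).Normal := ⟨fun y hy g => by
    rw [mem_subgroupOf] at hy ⊢
    show (g : G) * y * (g : G)⁻¹ ∈ _
    rw [h.S_comm_F g.2 ((zpowers_le.2 hx) hy), mul_inv_cancel_right]
    exact hy⟩
  have h1 := h.six.norm _ hN (by
    intro ht
    exact h.t_notin_F ((zpowers_le.2 hx) (mem_subgroupOf.1 ht)))
  have h2 : (⟨x, hS⟩ : S) ∈ (zpowers x).subgroupOf S := mem_subgroupOf.2 (mem_zpowers x)
  rw [h1, mem_bot] at h2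
  exact congrArg Subtype.val h2

theorem K_le : K ≤ centralizer ({f} : Set G) := fun k hk => mem_centralizer_singleton_iff.2 (h.cent k hk)

theorem S_le : S ≤ centralizer ({f} : Set G) := fun s hs => mem_centralizer_singleton_iff.2 (h.Sf s hs)

theorem normal_K : (K.subgroupOf (centralizer ({f} : Set G))).Normal := ⟨fun x hx g => by
  rw [mem_subgroupOf] at hx ⊢
  have hg := mem_centralizer_singleton_iff.1 g.2
  exact h.norm g (by rw [hg, mul_inv_cancel_right]; exact mem_zpowers f) x hx⟩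

theorem complement : IsComplement' (K.subgroupOf (centralizer ({f} : Set G))) (S.subgroupOf (centralizer ({f} : Set G))) := by
  apply isComplement'_of_disjoint_and_mul_eq_univ
  · rw [Subgroup.disjoint_def]
    intro x hx hx'
    exact Subtype.ext (h.eq_one_of_mem hx hx')
  · rw [Set.eq_univ_iff_forall]
    intro x
    obtain ⟨k, hk, s, hs, he⟩ := h.fac x (mem_centralizer_singleton_iff.1 x.2)
    exact Set.mem_mul.2 ⟨⟨k, h.K_le hk⟩, hk, ⟨s, h.S_le hs⟩, hs, Subtype.ext he.symm⟩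

theorem index_K [Finite G] : (K.subgroupOf (centralizer ({f} : Set G))).index = 720 := by
  have h1 := h.complement.card_mul_card
  have h2 := Subgroup.card_mul_index (K.subgroupOf (centralizer ({f} : Set G)))
  have h3 : Nat.card (K.subgroupOf (centralizer ({f} : Set G))) = 5 ^ 5 := by
    rw [← h.card]
    exact Nat.card_congr (Subgroup.subgroupOfEquivOfLe h.K_le).toEquiv
  have h4 : Nat.card (S.subgroupOf (centralizer ({f} : Set G))) = 720 := by
    rw [← h.six.card]
    exact Nat.card_congr (Subgroup.subgroupOfEquivOfLe h.S_le).toEquiv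
  rw [h3, h4, ← h2, h3] at h1
  exact (Nat.eq_of_mul_eq_mul_left (by norm_num) h1).symm

theorem card_centralizer [Finite G] : Nat.card (centralizer ({f} : Set G)) = 5 ^ 5 * 720 := by
  have h2 := Subgroup.card_mul_index (K.subgroupOf (centralizer ({f} : Set G)))
  have h3 : Nat.card (K.subgroupOf (centralizer ({f} : Set G))) = 5 ^ 5 := by
    rw [← h.card]
    exact Nat.card_congr (Subgroup.subgroupOfEquivOfLe h.K_le).toEquiv
  rw [h.index_K, h3] at h2
  exact h2.symm

theorem mem_K_pow {k s : G} (hk : k ∈ K) (hs : s ∈ S) (n : ℕ) : ∃ k' ∈ K, (k * s) ^ n = k' * s ^ n := by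
  induction n with
  | zero => exact ⟨1, one_mem _, by simp⟩
  | succ n ih =>
    obtain ⟨k', hk', he⟩ := ih
    refine ⟨k' * (s ^ n * k * (s ^ n)⁻¹), mul_mem hk' (h.S_norm (Subgroup.pow_mem _ hs n) hk), ?_⟩
    rw [pow_succ, he, pow_succ]
    group

/-- An element `s ≠ 1` of order `5` in `S` centralises no subgroup of small index of `K`. -/
theorem centralised_small [Finite G] {s : G} (hs : s ∈ S) (hs1 : s ≠ 1) (hs5 : s ^ 5 = 1) {D : Subgroup G} (hD : D ≤ K)
    (hi : D.relIndex K ≤ 5) (hc : ∀ d ∈ D, s * d = d * s) : False := by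
  obtain ⟨a, ha, hat⟩ := h.six.five s hs hs1 hs5
  set D' : Subgroup G := D.map (MulAut.conj a).toMonoidHom with hD'
  have hD'K : D' ≤ K := by
    rintro _ ⟨d, hd, rfl⟩
    exact h.S_norm ha (hD hd)
  have hcard : Nat.card D' = Nat.card D :=
    (Nat.card_congr (D.equivMapOfInjective (MulAut.conj a).toMonoidHom (MulAut.conj a).injective).toEquiv).symm
  have e1 := card_mul_relIndex' hD
  have e2 := card_mul_relIndex' hD'K
  have hpos : 0 < Nat.card D := Nat.card_pos
  have hi' : D'.relIndex K ≤ 5 := by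
    have : D'.relIndex K = D.relIndex K := by
      rw [hcard, ← e1] at e2
      exact Nat.eq_of_mul_eq_mul_left hpos e2
    rw [this]; exact hi
  have h3 : (D ⊓ D').relIndex K ≤ 25 := (relIndex_inf_le (H := D) (K := D') (L := K)).trans (Nat.mul_le_mul hi hi')
  have e3 := card_mul_relIndex' (inf_le_left.trans hD : D ⊓ D' ≤ K)
  have h4 : ¬ (D ⊓ D' ≤ zpowers f) := by
    intro hle
    have h5 : Nat.card (D ⊓ D' : Subgroup G) ≤ Nat.card (zpowers f) := Nat.card_mono (Set.toFinite _) hle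
    rw [h.card_F] at h5
    rw [h.card] at e3
    have : Nat.card (D ⊓ D' : Subgroup G) * (D ⊓ D').relIndex K ≤ 5 * 25 := Nat.mul_le_mul h5 h3
    rw [e3] at this
    exact absurd this (by norm_num)
  obtain ⟨w, hw, hwF⟩ := Set.not_subset.1 h4
  obtain ⟨hwD, hwD'⟩ := hw
  apply hwF
  apply h.ct w (hD hwD)
  have c1 : Commute w s := (hc w hwD).symm
  have c2 : Commute w (a * (s * s) * a⁻¹) := by
    obtain ⟨d, hd, rfl⟩ := hwD'
    have h6 : Commute d s := (hc d hd).symm
    show a * d * a⁻¹ * (a * (s * s) * a⁻¹) = a * (s * s) * a⁻¹ * (a * d * a⁻¹)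
    calc a * d * a⁻¹ * (a * (s * s) * a⁻¹) = a * (d * (s * s)) * a⁻¹ := by group
      _ = a * ((s * s) * d) * a⁻¹ := by rw [(h6.mul_right h6).eq]
      _ = a * (s * s) * a⁻¹ * (a * d * a⁻¹) := by group
  have c3 : Commute w t := by
    rw [← hat]
    exact (c1.mul_right c2).mul_right (c1.mul_right c2)
  exact c3.eq

variable [Finite G]

/-- `K` is not abelian. -/
theorem not_comm {g : G} (hfK : g * f * g⁻¹ ∈ K) (hinv : (g * t * g⁻¹) * f * (g * t * g⁻¹)⁻¹ = f⁻¹)
    (hcard : 5 < Nat.card (K ⊓ centralizer ({g * t * g⁻¹} : Set G) : Subgroup G)) :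
    ¬ ∀ a ∈ K, ∀ b ∈ K, a * b = b * a := by
  intro hab
  set v := g * t * g⁻¹ with hv
  set f' := g * f * g⁻¹ with hf'
  set K' := K.map (MulAut.conj g).toMonoidHom with hK'
  set S' := S.map (MulAut.conj g).toMonoidHom with hS'
  have h' : FiveIn v f' K' S' := h.map (MulAut.conj g)
  -- 1. `f ∈ K'`
  have hff' : f * f' = f' * f := hab f h.mem f' hfK
  have h1 : f ∈ K' := by
    obtain ⟨k, hk, s, hs, he⟩ := h'.fac f hff'
    have e1 : f⁻¹ = (v * k * v⁻¹) * k⁻¹ * f := by
      rw [← hinv]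
      nth_rewrite 1 [he]
      have e2 : v * s * v⁻¹ = s := by rw [← h'.six.comm s hs, mul_inv_cancel_right]
      calc v * (k * s) * v⁻¹ = v * k * v⁻¹ * (v * s * v⁻¹) := by group
        _ = v * k * v⁻¹ * s := by rw [e2]
        _ = v * k * v⁻¹ * k⁻¹ * (k * s) := by group
        _ = v * k * v⁻¹ * k⁻¹ * f := by rw [← he]
    have e3 : f⁻¹ * f⁻¹ ∈ K' := by
      have e4 : f⁻¹ * f⁻¹ = (v * k * v⁻¹) * k⁻¹ := by
        nth_rewrite 1 [e1]
        group
      rw [e4]
      exact mul_mem (h'.S_norm h'.six.t_mem hk) (inv_mem hk)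
    have e5 : f = (f⁻¹ * f⁻¹) * (f⁻¹ * f⁻¹) := by
      calc f = f ^ 5 * (f⁻¹ * f⁻¹) * (f⁻¹ * f⁻¹) := by group
        _ = (f⁻¹ * f⁻¹) * (f⁻¹ * f⁻¹) := by rw [h.f_pow, one_mul]
    rw [e5]
    exact mul_mem e3 e3
  -- 2. `K'` is abelian
  have hab' : ∀ a ∈ K', ∀ b ∈ K', a * b = b * a := by
    rintro _ ⟨a, ha, rfl⟩ _ ⟨b, hb, rfl⟩
    show g * a * g⁻¹ * (g * b * g⁻¹) = g * b * g⁻¹ * (g * a * g⁻¹)
    calc g * a * g⁻¹ * (g * b * g⁻¹) = g * (a * b) * g⁻¹ := by group
      _ = g * (b * a) * g⁻¹ := by rw [hab a ha b hb]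
      _ = g * b * g⁻¹ * (g * a * g⁻¹) := by group
  -- 3. `K ≤ C(f')`
  have h3 : K ≤ centralizer ({f'} : Set G) := fun k hk => mem_centralizer_singleton_iff.2 (hab k hk f' hfK)
  -- 4. `K' ≰ K`
  have h4 : ¬ K' ≤ K := by
    intro hle
    have h5 : K' = K := eq_of_le_of_card_ge hle (by rw [h.card, h'.card])
    have h6 : K ⊓ centralizer ({v} : Set G) ≤ zpowers f' := by
      intro x hx
      refine h'.ct x (by rw [h5]; exact hx.1) (mem_centralizer_singleton_iff.1 hx.2)
    have h7 : Nat.card (K ⊓ centralizer ({v} : Set G) : Subgroup G) ≤ Nat.card (zpowers f') :=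
      Nat.card_mono (Set.toFinite _) h6
    rw [h'.card_F] at h7
    omega
  -- 5. the index of `K ∩ K'`
  have h5 : K'.relIndex K ≤ 5 := by
    have hn := h'.normal_K
    have d1 : (K'.subgroupOf (centralizer ({f'} : Set G))).relIndex (K.subgroupOf (centralizer ({f'} : Set G))) ∣
        (K'.subgroupOf (centralizer ({f'} : Set G))).index := relIndex_dvd_index_of_normal _ _
    rw [relIndex_subgroupOf h3, h'.index_K] at d1
    have d2 : K'.relIndex K ∣ 5 ^ 5 := by
      rw [← h.card]; exact relIndex_dvd_card _ _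
    have d3 := Nat.dvd_gcd d1 d2
    have d4 : Nat.gcd 720 (5 ^ 5) = 5 := by norm_num
    rw [d4] at d3
    exact Nat.le_of_dvd (by norm_num) d3
  -- 6. an element of `K'` outside `K`
  obtain ⟨k', hk', hk'K⟩ := Set.not_subset.1 h4
  have hk'f : k' * f = f * k' := hab' k' hk' f h1
  obtain ⟨k, hk, s, hs, he⟩ := h.fac k' hk'f
  have hs1 : s ≠ 1 := by
    rintro rfl
    apply hk'K
    rw [he, mul_one]
    exact hk
  have hs25 : s ^ 25 = 1 := by
    obtain ⟨k₁, hk₁, he₁⟩ := h.mem_K_pow hk hs 25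
    have e1 : k' ^ 25 = 1 := by
      have e2 := h'.pow_five_mem hk'
      obtain ⟨n, hn⟩ := e2
      have hn : f' ^ n = k' ^ 5 := hn
      rw [show (25 : ℕ) = 5 * 5 from rfl, pow_mul, ← hn, ← zpow_natCast, ← zpow_mul, mul_comm, zpow_mul,
        zpow_natCast, h'.f_pow, one_zpow]
    rw [← he, e1] at he₁
    have e3 : s ^ 25 = k₁⁻¹ := by
      rw [eq_inv_iff_mul_eq_one]
      have e4 : s ^ 25 = k₁⁻¹ * 1 := by rw [he₁]; group
      rw [e4]
      group
    exact h.eq_one_of_mem (by rw [e3]; exact inv_mem hk₁) (Subgroup.pow_mem _ hs 25)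
  have hs5 : s ^ 5 = 1 := by
    have d1 : orderOf s ∣ 25 := orderOf_dvd_of_pow_eq_one hs25
    have d2 : orderOf s ∣ 720 := by
      have := orderOf_dvd_natCard (⟨s, hs⟩ : S)
      rw [h.six.card, Subgroup.orderOf_mk] at this
      exact this
    have d3 := Nat.dvd_gcd d1 d2
    have d4 : Nat.gcd 25 720 = 5 := by norm_num
    rw [d4] at d3
    exact orderOf_dvd_iff_pow_eq_one.1 d3
  refine h.centralised_small (D := K' ⊓ K) hs hs1 hs5 inf_le_right (by rwa [inf_relIndex_right]) ?_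
  rintro d ⟨hd', hd⟩
  have e1 : k' * d = d * k' := hab' k' hk' d hd'
  have e2 : k⁻¹ * d = d * k⁻¹ := hab _ (inv_mem hk) d hd
  have e3 : s = k⁻¹ * k' := by rw [he]; group
  rw [e3]
  calc k⁻¹ * k' * d = k⁻¹ * (k' * d) := by group
    _ = (k⁻¹ * d) * k' := by rw [e1]; group
    _ = d * (k⁻¹ * k') := by rw [e2]; group

/-- The involution-theoretic extra input. -/
structure Extra (t f : G) (K : Subgroup G) : Prop where
  ex : ∃ g : G, g * f * g⁻¹ ∈ K ∧ (g * t * g⁻¹) * f * (g * t * g⁻¹)⁻¹ = f⁻¹ ∧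
    5 < Nat.card (K ⊓ centralizer ({g * t * g⁻¹} : Set G) : Subgroup G)

/-- (E4) the centre. -/
theorem center (hx : Extra t f K) {a : G} (ha : a ∈ K) (hc : ∀ k ∈ K, a * k = k * a) : a ∈ zpowers f := by
  obtain ⟨g, h1, h2, h3⟩ := hx.ex
  rcases h.eq_or (U := K ⊓ centralizer (K : Set G))
    (fun x hx => ⟨h.F_le hx, mem_centralizer_iff.2 fun k hk => h.comm_F hk hx⟩) inf_le_left
    (fun s hs u hu => ⟨h.S_norm hs hu.1, mem_centralizer_iff.2 fun k hk => by
      have h4 := mem_centralizer_iff.1 hu.2 (s⁻¹ * k * s) (by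
        have := h.S_norm (inv_mem hs) hk
        rwa [inv_inv] at this)
      calc k * (s * u * s⁻¹) = s * (s⁻¹ * k * s * u) * s⁻¹ := by group
        _ = s * (u * (s⁻¹ * k * s)) * s⁻¹ := by rw [h4]
        _ = s * u * s⁻¹ * k := by group⟩) with h4 | h4
  · rw [← h4]
    exact ⟨ha, mem_centralizer_iff.2 fun k hk => (hc k hk).symm⟩
  · exfalso
    refine h.not_comm h1 h2 h3 ?_
    intro a ha b hb
    rw [← h4] at ha
    exact (mem_centralizer_iff.1 ha.2 b hb).symm

/-- (E3) the exponent. -/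
theorem pow_five (hx : Extra t f K) {k : G} (hk : k ∈ K) : k ^ 5 = 1 := by
  obtain ⟨g, h1, h2, -⟩ := hx.ex
  let U : Subgroup G :=
    { carrier := {x | x ∈ K ∧ x ^ 5 = 1}
      mul_mem' := fun {a b} ha hb => ⟨mul_mem ha.1 hb.1, by
        rw [h.mul_pow_five ha.1 hb.1, ha.2, hb.2, one_mul]⟩
      one_mem' := ⟨one_mem _, one_pow _⟩
      inv_mem' := fun {a} ha => ⟨inv_mem ha.1, by rw [inv_pow, ha.2, inv_one]⟩ }
  rcases h.eq_or (U := U)
    (fun x hx => ⟨h.F_le hx, by
      obtain ⟨n, rfl⟩ := hx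
      show (f ^ n) ^ 5 = 1
      rw [← zpow_natCast, ← zpow_mul, mul_comm, zpow_mul, zpow_natCast, h.f_pow, one_zpow]⟩)
    (fun x hx => hx.1)
    (fun s hs u hu => ⟨h.S_norm hs hu.1, by rw [conj_pow, hu.2, mul_one, mul_inv_cancel]⟩) with h3 | h3
  · exfalso
    have h4 : g * f * g⁻¹ ∈ U := ⟨h1, by rw [conj_pow, h.f_pow, mul_one, mul_inv_cancel]⟩
    rw [h3] at h4
    -- then `v` inverts and centralises `f'`
    have h5 : (g * t * g⁻¹) * (g * f * g⁻¹) * (g * t * g⁻¹)⁻¹ = (g * f * g⁻¹)⁻¹ := by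
      obtain ⟨n, hn⟩ := h4
      have hn : f ^ n = g * f * g⁻¹ := hn
      rw [← hn, ← conj_zpow, h2, inv_zpow]
    have h6 : (g * t * g⁻¹) * (g * f * g⁻¹) * (g * t * g⁻¹)⁻¹ = g * f * g⁻¹ := by
      have := h.Sf t h.six.t_mem
      calc (g * t * g⁻¹) * (g * f * g⁻¹) * (g * t * g⁻¹)⁻¹ = g * (t * f) * t⁻¹ * g⁻¹ := by group
        _ = g * f * g⁻¹ := by rw [this]; group
    rw [h6] at h5
    have h7 : f = f⁻¹ := by
      have : g⁻¹ * (g * f * g⁻¹) * g = g⁻¹ * (g * f * g⁻¹)⁻¹ * g := by rw [← h5]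
      calc f = g⁻¹ * (g * f * g⁻¹) * g := by group
        _ = g⁻¹ * (g * f * g⁻¹)⁻¹ * g := this
        _ = f⁻¹ := by group
    apply h.f_ne
    have h8 : f * f = 1 := by
      nth_rewrite 1 [h7]
      exact inv_mul_cancel f
    calc f = f ^ 5 * (f * f)⁻¹ * (f * f)⁻¹ := by group
      _ = 1 := by rw [h.f_pow, h8]; group
  · have h4 : k ∈ U := by rw [h3]; exact hk
    exact h4.2

/-- (E9) the centraliser of an element of order three with a fixed point outside `⟨f⟩`. -/
theorem card_centralizer_three {x : G} (hx : x ∈ S) (hx1 : x ≠ 1) (hx3 : x ^ 3 = 1)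
    (he : ∃ e ∈ K, e ∉ zpowers f ∧ e * x = x * e) :
    Nat.card (K ⊓ centralizer ({x} : Set G) : Subgroup G) = 5 ^ 3 := by
  set D : Subgroup G := K ⊓ centralizer ({x} : Set G) with hD
  have hFD : zpowers f ≤ D := fun y hy => ⟨h.F_le hy, mem_centralizer_singleton_iff.2 (h.S_comm_F hx hy).symm⟩
  -- the order is a power of five
  have h1 : Nat.card D ∣ 5 ^ 5 := by
    rw [← h.card]
    exact Subgroup.card_dvd_of_le inf_le_left
  obtain ⟨j, hj, hj'⟩ := (Nat.dvd_prime_pow (by norm_num)).1 h1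
  -- more than five
  have h2 : 5 < Nat.card D := by
    obtain ⟨e, heK, heF, hex⟩ := he
    have h3 : Nat.card (zpowers f) ∣ Nat.card D := Subgroup.card_dvd_of_le hFD
    rw [h.card_F] at h3
    have h4 := Nat.le_of_dvd Nat.card_pos h3
    rcases h4.lt_or_eq with h5 | h5
    · exact h5
    · exfalso
      have h6 : zpowers f = D := eq_of_le_of_card_ge hFD (by rw [h.card_F]; exact h5.ge)
      apply heF
      rw [h6]
      exact ⟨heK, mem_centralizer_singleton_iff.2 hex⟩
  -- not everything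
  have h3 : Nat.card D ≠ 5 ^ 5 := by
    intro h4
    have h5 : D = K := eq_of_le_of_card_ge inf_le_left (by rw [h4, h.card])
    apply hx1
    refine h.faithful hx fun k hk => ?_
    rw [← h5] at hk
    exact (mem_centralizer_singleton_iff.1 hk.2).symm
  -- congruence modulo three
  have h4 : 5 ^ 5 ≡ Nat.card D [MOD 3] := by
    classical
    have : Fact (Nat.Prime 3) := ⟨by norm_num⟩
    let φ : Function.End K := fun k => ⟨x * k * x⁻¹, h.S_norm hx k.2⟩
    have hφ : φ ^ 3 ^ 1 = 1 := by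
      funext k
      apply Subtype.ext
      show x * (x * (x * (k : G) * x⁻¹) * x⁻¹) * x⁻¹ = k
      have hx3' : x * x * x = 1 := by rw [← hx3, pow_three']
      calc x * (x * (x * (k : G) * x⁻¹) * x⁻¹) * x⁻¹ = (x * x * x) * k * (x * x * x)⁻¹ := by group
        _ = k := by rw [hx3']; group
    have : Fintype K := Fintype.ofFinite K
    have h5 := Equiv.Perm.card_fixedPoints_modEq (f := φ) (p := 3) (n := 1) hφ
    have h6 : Fintype.card K = 5 ^ 5 := by rw [← Nat.card_eq_fintype_card, h.card]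
    have h7 : Fintype.card (Function.fixedPoints φ) = Nat.card D := by
      rw [← Nat.card_eq_fintype_card]
      refine Nat.card_congr
        { toFun := fun k => ⟨k.1, k.1.2, mem_centralizer_singleton_iff.2 ?_⟩
          invFun := fun d => ⟨⟨d.1, d.2.1⟩, ?_⟩
          left_inv := fun k => rfl
          right_inv := fun d => rfl }
      · have h8 := congrArg Subtype.val k.2
        have h8 : x * (k.1 : G) * x⁻¹ = k.1 := h8
        rw [mul_inv_eq_iff_eq_mul] at h8
        exact h8.symm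
      · apply Subtype.ext
        show x * (d : G) * x⁻¹ = d
        rw [mul_inv_eq_iff_eq_mul]
        exact (mem_centralizer_singleton_iff.1 d.2.2).symm
    rw [h6, h7] at h5
    exact h5
  rw [hj'] at h2 h3 h4 ⊢
  interval_cases j
  · exact absurd h2 (by norm_num)
  · exact absurd h2 (by norm_num)
  · exact absurd h4 (by decide)
  · rfl
  · exact absurd h4 (by decide)
  · exact absurd rfl h3

omit [Finite G] in
/-- (E10) the centraliser in `K` of an element inverting `f` is abelian. -/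
theorem comm_of_inverted {v : G} (hinv : v * f * v⁻¹ = f⁻¹) {a b : G} (ha : a ∈ K) (hb : b ∈ K)
    (hav : a * v = v * a) (hbv : b * v = v * b) : a * b = b * a := by
  have h1 := h.comm_mem ha hb
  have hca : Commute v a := hav.symm
  have hcb : Commute v b := hbv.symm
  have h2 : Commute v (a * b * a⁻¹ * b⁻¹) := ((hca.mul_right hcb).mul_right hca.inv_right).mul_right hcb.inv_right
  obtain ⟨n, hn⟩ := h1
  have hn : f ^ n = a * b * a⁻¹ * b⁻¹ := hn
  rw [← hn] at h2
  have h3 : v * f ^ n * v⁻¹ = (f ^ n)⁻¹ := by rw [← conj_zpow, hinv, inv_zpow]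
  rw [h2.eq, mul_inv_cancel_right] at h3
  have h4 : f ^ n * f ^ n = 1 := by
    nth_rewrite 1 [h3]
    exact inv_mul_cancel _
  have h5 : (f ^ n) ^ 5 = 1 := by
    rw [← zpow_natCast, ← zpow_mul, mul_comm, zpow_mul, zpow_natCast, h.f_pow, one_zpow]
  have h6 : f ^ n = 1 := by
    calc f ^ n = (f ^ n) ^ 5 * (f ^ n * f ^ n)⁻¹ * (f ^ n * f ^ n)⁻¹ := by group
      _ = 1 := by rw [h5, h4]; group
  rw [hn] at h6
  calc a * b = (a * b * a⁻¹ * b⁻¹) * (b * a) := by group
    _ = b * a := by rw [h6, one_mul]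

end FiveIn

end Cfsg.Agent.SporRec.LyFiveExtra
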