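import Mathlib

/-!
# Small modules for `2.A₆` in characteristic five

A perfect group of order more than `480` in which every normal subgroup avoiding the involution `t` is trivial has no
module of dimension at most three over the field of five elements on which `t` acts as `-1`.
-/

set_option autoImplicit false
set_option linter.dupNamespace false

namespace Cfsg.Agent.SporRec.LyFiveMod

open Subgroup Matrix

instance fact5 : Fact (Nat.Prime 5) := ⟨by norm_num⟩

section module

variable {S : Type*} [Group S] [Finite S] {V : Type*} [AddCommGroup V] [Module (ZMod 5) V] [Finite V]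

omit [Finite S] [Finite V] in
theorem det_eq_one (hperf : commutator S = ⊤) (ρ : S →* Module.End (ZMod 5) V) (s : S) :
    LinearMap.det (ρ s) = 1 := by
  let δ : S →* (ZMod 5)ˣ := MonoidHom.toHomUnits ((LinearMap.det : Module.End (ZMod 5) V →* ZMod 5).comp ρ)
  have h1 : commutator S ≤ δ.ker := Abelianization.commutator_subset_ker δ
  rw [hperf] at h1
  have h2 : δ s = 1 := MonoidHom.mem_ker.1 (h1 (mem_top s))
  have h3 := congrArg (Units.val) h2
  rw [MonoidHom.coe_toHomUnits] at h3
  exact h3

omit [Finite S] in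
theorem four_le_finrank (hperf : commutator S = ⊤) {t : S} (hN : ∀ N : Subgroup S, N.Normal → t ∉ N → N = ⊥)
    (hcard : 480 < Nat.card S) [Nontrivial V] (ρ : S →* Module.End (ZMod 5) V) (hρ : ρ t = -1) :
    4 ≤ Module.finrank (ZMod 5) V := by
  have hfd : Module.Finite (ZMod 5) V := Module.Finite.of_finite
  have hpos : 0 < Module.finrank (ZMod 5) V := Module.finrank_pos
  by_contra hlt
  have hlt : Module.finrank (ZMod 5) V < 4 := by omega
  have hneg : (-1 : Module.End (ZMod 5) V) ≠ 1 := by
    intro h
    obtain ⟨v, hv⟩ := exists_ne (0 : V)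
    have h1 := LinearMap.congr_fun h v
    have h2 : -v = v := h1
    have h3 : (2 : ZMod 5) • v = 0 := by
      rw [two_smul]
      nth_rewrite 1 [← h2]
      exact neg_add_cancel v
    have h4 : (3 : ZMod 5) • ((2 : ZMod 5) • v) = v := by
      rw [smul_smul, show (3 : ZMod 5) * 2 = 1 from by decide, one_smul]
    rw [h3, smul_zero] at h4
    exact hv h4.symm
  have hdet := det_eq_one hperf ρ t
  rw [hρ] at hdet
  have hd2 : LinearMap.det (-1 : Module.End (ZMod 5) V) = (-1 : ZMod 5) ^ Module.finrank (ZMod 5) V := by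
    have h1 : (-1 : Module.End (ZMod 5) V) = (-1 : ZMod 5) • (1 : Module.End (ZMod 5) V) := by
      rw [neg_smul, one_smul]
    rw [h1, LinearMap.det_smul, map_one, mul_one]
  rw [hd2] at hdet
  have hfin : Module.finrank (ZMod 5) V = 2 := by
    interval_cases h : Module.finrank (ZMod 5) V
    · exact absurd hdet (by decide)
    · rfl
    · exact absurd hdet (by decide)
  -- dimension two: faithful, but `|GL₂(5)| = 480`
  let r : S →* (Module.End (ZMod 5) V)ˣ := MonoidHom.toHomUnits ρ
  have hinj : Function.Injective r := by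
    rw [← MonoidHom.ker_eq_bot_iff]
    refine hN _ inferInstance ?_
    intro ht
    rw [MonoidHom.mem_ker] at ht
    have := congrArg Units.val ht
    exact hneg (hρ.symm.trans this)
  let b : Module.Basis (Fin 2) (ZMod 5) V := Module.finBasisOfFinrankEq (ZMod 5) V hfin
  let e : Module.End (ZMod 5) V ≃* Matrix (Fin 2) (Fin 2) (ZMod 5) := (LinearMap.toMatrixAlgEquiv b).toMulEquiv
  let e' : (Module.End (ZMod 5) V)ˣ ≃* GL (Fin 2) (ZMod 5) := Units.mapEquiv e
  have h1 : Nat.card S ≤ Nat.card (GL (Fin 2) (ZMod 5)) :=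
    Nat.card_le_card_of_injective (fun s => e' (r s)) (e'.injective.comp hinj)
  have h2 : Nat.card (GL (Fin 2) (ZMod 5)) = 480 := by
    have h3 := Matrix.card_GL_field (𝔽 := ZMod 5) 2
    rw [h3, Fin.prod_univ_two]
    simp [ZMod.card]
  omega

end module

section group

variable {S : Type*} [Group S] {A : Type*} [CommGroup A] [Finite A]

/-- An elementary abelian `5`-group on which such a group acts with `t` inverting has order at least `5⁴`. -/
theorem card_ge (hperf : commutator S = ⊤) {t : S} (hN : ∀ N : Subgroup S, N.Normal → t ∉ N → N = ⊥)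
    (hcard : 480 < Nat.card S) [Nontrivial A] (hA : ∀ a : A, a ^ 5 = 1) (φ : S →* MulAut A)
    (hφ : ∀ a, φ t a = a⁻¹) : 5 ^ 4 ≤ Nat.card A := by
  let _ : Module (ZMod 5) (Additive A) := AddCommGroup.zmodModule (n := 5) (fun a => hA a.toMul)
  let ρ : S →* Module.End (ZMod 5) (Additive A) :=
    { toFun := fun s => AddMonoidHom.toZModLinearMap 5 (MonoidHom.toAdditive (φ s).toMonoidHom)
      map_one' := by
        ext a
        show Additive.ofMul (φ 1 a.toMul) = a
        rw [map_one]
        rfl
      map_mul' := fun s s' => by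
        ext a
        show Additive.ofMul (φ (s * s') a.toMul) = Additive.ofMul (φ s (φ s' a.toMul))
        rw [map_mul]
        rfl }
  have hρ : ρ t = -1 := by
    ext a
    show Additive.ofMul (φ t a.toMul) = -a
    rw [hφ]
    rfl
  have : Nontrivial (Additive A) := inferInstanceAs (Nontrivial A)
  have : Finite (Additive A) := inferInstanceAs (Finite A)
  have h := four_le_finrank hperf hN hcard ρ hρ
  have h2 : Nat.card (Additive A) = 5 ^ Module.finrank (ZMod 5) (Additive A) := by
    have := Module.natCard_eq_pow_finrank (K := ZMod 5) (V := Additive A)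
    rwa [Nat.card_zmod] at this
  have h3 : Nat.card A = Nat.card (Additive A) := rfl
  rw [h3, h2]
  exact Nat.pow_le_pow_right (by norm_num) h

end group

section sections

variable {G : Type*} [Group G] [Finite G]

/-- Sections `U / F` of exponent five on which `S` acts with `t` inverting are trivial or of order at least `5⁴`. -/
theorem relIndex_ge {S : Subgroup G} (hperf : commutator S = ⊤) {t : S}
    (hN : ∀ N : Subgroup S, N.Normal → t ∉ N → N = ⊥) (hcard : 480 < Nat.card S) {F U : Subgroup G}
    (hne : ¬ U ≤ F) (hSU : ∀ s ∈ S, ∀ u ∈ U, s * u * s⁻¹ ∈ U) (hSF : ∀ s ∈ S, ∀ x ∈ F, s * x * s⁻¹ ∈ F)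
    (hUF : ∀ u ∈ U, ∀ x ∈ F, u * x * u⁻¹ ∈ F) (h5 : ∀ u ∈ U, u ^ 5 ∈ F)
    (hinv : ∀ u ∈ U, (t : G) * u * (t : G)⁻¹ * u ∈ F) : 5 ^ 4 ≤ F.relIndex U := by
  have hnorm : (F.subgroupOf U).Normal := ⟨fun x hx g => hUF g g.2 x hx⟩
  -- the action on the quotient
  let c : S → (U ≃* U) := fun s =>
    { toFun := fun u => ⟨s * u * (s : G)⁻¹, hSU s s.2 u u.2⟩
      invFun := fun u => ⟨(s : G)⁻¹ * u * s, by
        have := hSU (s : G)⁻¹ (inv_mem s.2) u u.2
        rwa [inv_inv] at this⟩
      left_inv := fun u => Subtype.ext (by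
        show (s : G)⁻¹ * (s * u * (s : G)⁻¹) * s = u
        group)
      right_inv := fun u => Subtype.ext (by
        show (s : G) * ((s : G)⁻¹ * u * s) * (s : G)⁻¹ = u
        group)
      map_mul' := fun u v => Subtype.ext (by
        show (s : G) * ((u : G) * v) * (s : G)⁻¹ = s * u * (s : G)⁻¹ * (s * v * (s : G)⁻¹)
        group) }
  have hc : ∀ s : S, (F.subgroupOf U).map (c s).toMonoidHom = F.subgroupOf U := by
    intro s
    ext u
    constructor
    · rintro ⟨v, hv, rfl⟩
      exact hSF s s.2 v hv
    · intro hu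
      refine ⟨(c s).symm u, ?_, (c s).apply_symm_apply u⟩
      have := hSF (s : G)⁻¹ (inv_mem s.2) u hu
      rw [inv_inv] at this
      exact this
  let Φ : S → MulAut (U ⧸ F.subgroupOf U) := fun s => QuotientGroup.congr _ _ (c s) (hc s)
  have hΦ : ∀ (s : S) (u : U), Φ s (u : U ⧸ F.subgroupOf U) = ((c s u : U) : U ⧸ F.subgroupOf U) := fun s u => rfl
  have hinv' : ∀ a : U ⧸ F.subgroupOf U, Φ t a = a⁻¹ := by
    intro a
    induction a using QuotientGroup.induction_on with
    | H u =>
      rw [hΦ, ← QuotientGroup.mk_inv, QuotientGroup.eq]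
      show ((c t u : U) : G)⁻¹ * ((u⁻¹ : U) : G) ∈ F
      have := inv_mem (hUF _ u.2 _ (hinv u u.2))
      have e : (((u : G) * ((t : G) * u * (t : G)⁻¹ * u) * (u : G)⁻¹)⁻¹) = ((c t u : U) : G)⁻¹ * ((u⁻¹ : U) : G) := by
        show _ = ((t : G) * u * (t : G)⁻¹)⁻¹ * (u : G)⁻¹
        group
      rw [e] at this
      exact this
  have hcomm : ∀ a b : U ⧸ F.subgroupOf U, a * b = b * a := by
    intro a b
    have h1 : Φ t (a * b) = (a * b)⁻¹ := hinv' _
    rw [map_mul, hinv', hinv', _root_.mul_inv_rev] at h1
    have h2 := congrArg (fun x => x⁻¹) h1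
    simp only [_root_.mul_inv_rev, inv_inv] at h2
    exact h2.symm
  let _ : CommGroup (U ⧸ F.subgroupOf U) := { (inferInstance : Group (U ⧸ F.subgroupOf U)) with mul_comm := hcomm }
  let φ : S →* MulAut (U ⧸ F.subgroupOf U) :=
    { toFun := Φ
      map_one' := by
        ext a
        induction a using QuotientGroup.induction_on with
        | H u =>
          rw [hΦ, MulAut.one_apply]
          congr 1
          apply Subtype.ext
          show (1 : G) * u * (1 : G)⁻¹ = u
          group
      map_mul' := fun s s' => by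
        ext a
        induction a using QuotientGroup.induction_on with
        | H u =>
          rw [MulAut.mul_apply, hΦ, hΦ, hΦ]
          congr 1
          apply Subtype.ext
          show ((s * s' : S) : G) * u * ((s * s' : S) : G)⁻¹ = s * (s' * u * (s' : G)⁻¹) * (s : G)⁻¹
          rw [Subgroup.coe_mul]
          group }
  have hnt : Nontrivial (U ⧸ F.subgroupOf U) := by
    obtain ⟨u, hu, huF⟩ := Set.not_subset.1 hne
    refine ⟨⟨((⟨u, hu⟩ : U) : U ⧸ F.subgroupOf U), 1, ?_⟩⟩
    intro h
    rw [QuotientGroup.eq_one_iff] at h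
    exact huF h
  exact card_ge hperf hN hcard (fun a => by
    induction a using QuotientGroup.induction_on with
    | H u =>
      rw [← QuotientGroup.mk_pow, QuotientGroup.eq_one_iff]
      exact h5 u u.2) φ hinv'

end sections

end Cfsg.Agent.SporRec.LyFiveMod
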