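import Cfsg.Agent.SporRec.LyFiveMain
import Cfsg.Agent.SporRec.LyFiveCov
import Cfsg.Agent.SporRec.LyFiveCore

/-!
# `O(C_G(f))` is extraspecial of order `5⁵` in a group of Lyons type

`Sx hf` is the subgroup `2·A₆` of the elements of `C_G(t)` supported on the fixed points of `f`.
`fiveIn`: the core of `C_G(f)`, when it has order `5⁵`, satisfies the abstract hypotheses `FiveIn`.
-/

set_option autoImplicit false
set_option linter.dupNamespace false

namespace Cfsg.Agent.SporRec.LyFiveSix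

open Subgroup Equiv Cfsg Cfsg.Agent.SporRec.TwoAn Cfsg.Agent.SporRec.LyType Cfsg.Agent.SporRec.LyFiveCore
  Cfsg.Agent.SporRec.LyFiveExtra Cfsg.Agent.SporRec.LyFiveCov

section six

variable {α : Type*} [Fintype α] [DecidableEq α] {C G : Type*} [Group C] [Group G]

/-- The image of a double cover of `A₆` under an injective homomorphism. -/
theorem six_of_cover (K : Cover α C) (hα : Fintype.card α = 6) (φ : C →* G) (hφ : Function.Injective φ) :
    Six (φ K.z) φ.range := by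
  have hfinC : Finite C := Nat.finite_of_card_ne_zero (by
    rw [card_eq K (by omega), hα]; decide)
  have hmem : φ K.z ∈ φ.range := ⟨K.z, rfl⟩
  refine ⟨hmem, ?_, ?_, ?_, ?_, ?_, ?_, ?_⟩
  · intro h
    apply K.z_ne
    apply hφ
    rw [h, map_one]
  · rw [← map_mul, K.z_mul_z, map_one]
  · rintro _ ⟨c, rfl⟩
    rw [← map_mul, ← map_mul, K.z_comm]
  · have h1 : (commutator C).map φ.rangeRestrict = commutator φ.range := by
      rw [_root_.commutator_def, _root_.commutator_def, Subgroup.map_commutator, ← MonoidHom.range_eq_map,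
        MonoidHom.range_eq_top.2 φ.rangeRestrict_surjective]
    rw [← h1, commutator_eq_top K (by omega), ← MonoidHom.range_eq_map,
      MonoidHom.range_eq_top.2 φ.rangeRestrict_surjective]
  · intro N hN ht
    have h1 : N.comap φ.rangeRestrict = ⊥ :=
      eq_bot_of_normal K (by omega) (hN.comap _) (fun h => ht h)
    rw [eq_bot_iff]
    intro x hx
    obtain ⟨y, rfl⟩ := φ.rangeRestrict_surjective x
    have h2 : y ∈ N.comap φ.rangeRestrict := hx
    rw [h1, mem_bot] at h2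
    rw [h2, map_one]
    exact one_mem _
  · have h1 : Nat.card φ.range = Nat.card C := (Nat.card_congr (MonoidHom.ofInjective hφ).toEquiv).symm
    rw [h1, card_eq K (by omega), hα]
    rfl
  · rintro _ ⟨s, rfl⟩ hs1 hs5
    have hs1' : s ≠ 1 := by
      rintro rfl
      exact hs1 (map_one _)
    have hs5' : s ^ 5 = 1 := by
      apply hφ
      rw [map_pow, map_one]
      exact hs5
    have hπ1 : K.π s ≠ 1 := by
      intro h
      rcases (K.ker s).1 h with h2 | h2
      · exact hs1' h2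
      · rw [h2] at hs5'
        have : K.z = 1 := by
          calc K.z = K.z ^ 5 * (K.z * K.z)⁻¹ * (K.z * K.z)⁻¹ := by group
            _ = 1 := by rw [hs5', K.z_mul_z]; group
        exact K.z_ne this
    have hp : Fact (Nat.Prime 5) := ⟨by norm_num⟩
    have ho : orderOf (K.π s) = 5 := orderOf_eq_prime (by rw [← map_pow, hs5', map_one]) hπ1
    have hc : (K.π s).IsCycle := Perm.isCycle_of_prime_order' (by rw [ho]; norm_num) (by rw [ho, hα]; norm_num)
    obtain ⟨a, ha⟩ := five_cycle K hc (by rw [← hc.orderOf, ho])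
    refine ⟨φ a, ⟨a, rfl⟩, ?_⟩
    rw [← ha]
    simp only [map_mul, map_inv]

end six

variable {G : Type*} [Group G] {L : LyType G} {f : G}

/-- The embedding of the `2·A₆` on the fixed points of `f`. -/
def emb (hf : Five L f) : L.K.sub (fun x => L.K.π ⟨f, L.mem_iff.2 hf.comm⟩ x = x) →* G :=
  (centralizer ({L.t} : Set G)).subtype.comp (L.K.sub (fun x => L.K.π ⟨f, L.mem_iff.2 hf.comm⟩ x = x)).subtype

/-- The subgroup `2·A₆` on the fixed points of `f`. -/
def Sx (hf : Five L f) : Subgroup G := (emb hf).range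

theorem mem_Sx (hf : Five L f) {s : G} : s ∈ Sx hf ↔ ∃ h : s * L.t = L.t * s,
    ∀ x, L.K.π ⟨f, L.mem_iff.2 hf.comm⟩ x ≠ x → L.K.π ⟨s, L.mem_iff.2 h⟩ x = x := by
  constructor
  · rintro ⟨⟨c, hc⟩, rfl⟩
    exact ⟨L.mem_iff.1 c.2, hc⟩
  · rintro ⟨h, hs⟩
    exact ⟨⟨⟨s, L.mem_iff.2 h⟩, hs⟩, rfl⟩

theorem emb_injective (hf : Five L f) : Function.Injective (emb hf) := by
  intro a b hab
  exact Subtype.ext (Subtype.ext hab)

theorem six (hf : Five L f) : Six L.t (Sx hf) := by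
  have h := six_of_cover (L.K.restrict (fun x => L.K.π ⟨f, L.mem_iff.2 hf.comm⟩ x = x)) (card_fixed hf)
    (emb hf) (emb_injective hf)
  have h1 : emb hf (L.K.restrict (fun x => L.K.π ⟨f, L.mem_iff.2 hf.comm⟩ x = x)).z = L.t := by
    show ((L.K.z : centralizer ({L.t} : Set G)) : G) = L.t
    exact L.hz
  rw [h1] at h
  exact h

theorem conj_zpowers_mem {y : G} (hy : y * f * y⁻¹ ∈ zpowers f) (hf5 : f ^ 5 = 1) :
    y ∈ normalizer (zpowers f : Set G) := by
  have hfin : Finite (zpowers f) :=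
    (finite_zpowers.2 (isOfFinOrder_iff_pow_eq_one.2 ⟨5, by norm_num, hf5⟩)).to_subtype
  rw [mem_normalizer_iff]
  intro x
  have h1 : ∀ x ∈ zpowers f, y * x * y⁻¹ ∈ zpowers f := by
    rintro _ ⟨n, rfl⟩
    show y * f ^ n * y⁻¹ ∈ zpowers f
    rw [← conj_zpow]
    exact Subgroup.zpow_mem _ hy n
  constructor
  · exact h1 x
  · intro hx
    -- the injective map `x ↦ y x y⁻¹` of the finite set `⟨f⟩` is surjective
    let ψ : zpowers f → zpowers f := fun x => ⟨y * x * y⁻¹, h1 x x.2⟩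
    have hψ : Function.Injective ψ := by
      intro a b hab
      have h2 : y * (a : G) * y⁻¹ = y * b * y⁻¹ := congrArg Subtype.val hab
      exact Subtype.ext (mul_left_cancel (mul_right_cancel h2))
    obtain ⟨z, hz⟩ := Finite.surjective_of_injective hψ ⟨_, hx⟩
    have h2 : y * (z : G) * y⁻¹ = y * x * y⁻¹ := congrArg Subtype.val hz
    have h3 : (z : G) = x := mul_left_cancel (mul_right_cancel h2)
    rw [← h3]
    exact z.2

variable [Finite G]

/-- The abstract hypotheses hold for `O(C_G(f))` when it has order `5⁵`. -/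
theorem fiveIn (hf : Five L f) (hcard : Nat.card (core f) = 5 ^ 5) : FiveIn L.t f (core f) (Sx hf) where
  six := six hf
  f5 := orderOf_f hf
  mem := self_mem_core hf
  cent := fun k hk => comm_of_mem_core hk
  norm := fun y hy k hk => conj_mem_core_of_normalizer (conj_zpowers_mem hy hf.pow) hk
  card := hcard
  ct := fun k hk hkt => mem_zpowers_of_comm hf hk hkt
  inv := fun k hk => conj_t_mul hf hk
  Sf := by
    rintro _ ⟨s, rfl⟩
    exact congrArg Subtype.val (L.K.comm_of_mem_sub s.2)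
  fac := by
    intro g hg
    obtain ⟨k, hk, c, hct, hcf, hgc⟩ := exists_mul hf hg
    obtain ⟨i, l, hl, hcl⟩ := exists_factor hf hct hcf
    refine ⟨k * f ^ i, mul_mem hk (zpowers_le_core hf (zpow_mem_zpowers f i)), l, ⟨⟨l, hl⟩, rfl⟩, ?_⟩
    rw [hgc, hcl, mul_assoc]

/-- The extra input from an involution `v` inverting `f` with `|C_K(v)| = 25`. -/
theorem exists_conj (hf : Five L f) {v : G} (hv : v * v = 1) (hv1 : v ≠ 1)
    (h25 : Nat.card (core f ⊓ centralizer ({v} : Set G) : Subgroup G) = 25) :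
    ∃ g : G, g * L.t * g⁻¹ = v ∧ g * f * g⁻¹ ∈ core f ∧ g * f * g⁻¹ * v = v * (g * f * g⁻¹) := by
  have hp : Fact (Nat.Prime 5) := ⟨by norm_num⟩
  obtain ⟨g₀, hg₀⟩ := L.one v hv hv1
  set V := centralizer ({v} : Set G) with hV
  -- the order of `C(v)`
  have hcardV : Nat.card V = Nat.factorial 11 := by
    have h1 := card_eq (L.rebase g₀ hg₀).K (by rw [Fintype.card_fin]; norm_num)
    rw [Fintype.card_fin] at h1
    exact h1
  -- `f₁ = g₀ f g₀⁻¹`
  have hf₁ : g₀ * f * g₀⁻¹ ∈ V := by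
    rw [hV, mem_centralizer_singleton_iff, ← hg₀]
    have := hf.comm
    calc g₀ * f * g₀⁻¹ * (g₀ * L.t * g₀⁻¹) = g₀ * (f * L.t) * g₀⁻¹ := by group
      _ = g₀ * (L.t * f) * g₀⁻¹ := by rw [this]
      _ = g₀ * L.t * g₀⁻¹ * (g₀ * f * g₀⁻¹) := by group
  let f₁ : V := ⟨g₀ * f * g₀⁻¹, hf₁⟩
  have hf₁5 : f₁ ^ 5 = 1 := by
    apply Subtype.ext
    show (g₀ * f * g₀⁻¹) ^ 5 = 1
    rw [conj_pow, hf.pow, mul_one, mul_inv_cancel]
  have hP₁ : IsPGroup 5 (zpowers f₁) := by
    rintro ⟨x, n, rfl⟩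
    refine ⟨1, Subtype.ext ?_⟩
    show (f₁ ^ n) ^ 5 ^ 1 = 1
    rw [pow_one, ← zpow_natCast, ← zpow_mul, mul_comm, zpow_mul, zpow_natCast, hf₁5, one_zpow]
  obtain ⟨P, hP⟩ := hP₁.exists_le_sylow
  -- `B` is a Sylow subgroup
  let B : Subgroup V := (core f ⊓ V).subgroupOf V
  have hB : Nat.card B = 5 ^ 2 := by
    rw [show (5 : ℕ) ^ 2 = 25 from rfl, ← h25]
    exact Nat.card_congr (Subgroup.subgroupOfEquivOfLe inf_le_right).toEquiv
  obtain ⟨Q, hQ⟩ := (IsPGroup.of_card hB).exists_le_sylow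
  have hQB : B = (Q : Subgroup V) := by
    apply eq_of_le_of_card_ge hQ
    obtain ⟨k, hk⟩ := IsPGroup.iff_card.1 Q.isPGroup'
    have h1 : Nat.card (Q : Subgroup V) ∣ Nat.card V := Subgroup.card_subgroup_dvd_card _
    rw [hk, hcardV] at h1
    have h2 : k ≤ 2 := by
      by_contra hcon
      have h3 : (5 : ℕ) ^ 3 ∣ 5 ^ k := pow_dvd_pow 5 (by omega)
      exact absurd (h3.trans h1) (by decide)
    show Nat.card (Q : Subgroup V) ≤ Nat.card B
    rw [hk, hB]
    exact Nat.pow_le_pow_right (by norm_num) h2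
  obtain ⟨c, hc⟩ := MulAction.exists_smul_eq V P Q
  have h1 : c * f₁ * c⁻¹ ∈ B := by
    rw [hQB, ← hc]
    exact ⟨f₁, hP (mem_zpowers f₁), rfl⟩
  have hcv := mem_centralizer_singleton_iff.1 c.2
  have e1 : ((c : G) * g₀) * f * ((c : G) * g₀)⁻¹ = ((c * f₁ * c⁻¹ : V) : G) := by
    show ((c : G) * g₀) * f * ((c : G) * g₀)⁻¹ = c * (g₀ * f * g₀⁻¹) * (c : G)⁻¹
    group
  refine ⟨c * g₀, ?_, ?_, ?_⟩
  · calc (c : G) * g₀ * L.t * (c * g₀)⁻¹ = c * (g₀ * L.t * g₀⁻¹) * (c : G)⁻¹ := by group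
      _ = c * v * (c : G)⁻¹ := by rw [hg₀]
      _ = v := by rw [hcv, mul_inv_cancel_right]
  · rw [e1]
    exact (mem_subgroupOf.1 h1).1
  · rw [e1]
    exact mem_centralizer_singleton_iff.1 (c * f₁ * c⁻¹ : V).2

omit [Finite G] in
/-- A involution inverting `f` is not trivial. -/
theorem ne_one_of_inverts (hf : Five L f) {v : G} (hvf : v * f * v⁻¹ = f⁻¹) : v ≠ 1 := by
  rintro rfl
  have h1 : f = f⁻¹ := by rw [← hvf]; group
  apply f_ne hf
  have h2 : f * f = 1 := by
    nth_rewrite 1 [h1]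
    exact inv_mul_cancel f
  calc f = f ^ 5 * (f * f)⁻¹ * (f * f)⁻¹ := by group
    _ = 1 := by rw [hf.pow, h2]; group

/-- The input `Extra`. -/
theorem extra (hf : Five L f) {v : G} (hv : v * v = 1) (hvf : v * f * v⁻¹ = f⁻¹)
    (h25 : Nat.card (core f ⊓ centralizer ({v} : Set G) : Subgroup G) = 25) : FiveIn.Extra L.t f (core f) := by
  obtain ⟨g, h1, h2, -⟩ := exists_conj hf hv (ne_one_of_inverts hf hvf) h25
  exact ⟨g, h2, by rw [h1, hvf], by rw [h1, h25]; norm_num⟩

/-- The results on the core `K` of `C_G(f)`: `|K| = 5⁵`, exponent `5`, `Z(K) = ⟨f⟩ ≥ [K, K]`, irreducibility. -/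
structure Extraspecial (hf : Five L f) : Prop where
  /-- (E2) -/
  card : Nat.card (core f) = 5 ^ 5
  /-- (E3) -/
  pow_five : ∀ a ∈ core f, a ^ 5 = 1
  /-- (E4) -/
  center : ∀ a ∈ core f, (∀ k ∈ core f, a * k = k * a) → a ∈ zpowers f
  /-- (E5) -/
  commutator : ∀ a ∈ core f, ∀ b ∈ core f, a * b * a⁻¹ * b⁻¹ ∈ zpowers f
  not_comm : ∃ a ∈ core f, ∃ b ∈ core f, a * b ≠ b * a
  /-- (E8) irreducibility -/
  eq_or : ∀ U : Subgroup G, zpowers f ≤ U → U ≤ core f → (∀ s ∈ Sx hf, ∀ u ∈ U, s * u * s⁻¹ ∈ U) →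
    U = zpowers f ∨ U = core f
  /-- (E9) -/
  card_three : ∀ x ∈ Sx hf, x ≠ 1 → x ^ 3 = 1 → (∃ e ∈ core f, e ∉ zpowers f ∧ e * x = x * e) →
    Nat.card (core f ⊓ centralizer ({x} : Set G) : Subgroup G) = 5 ^ 3
  faithful : ∀ s ∈ Sx hf, (∀ k ∈ core f, s * k = k * s) → s = 1
  card_centralizer : Nat.card (centralizer ({f} : Set G)) = 5 ^ 5 * 720

theorem extraspecial (hf : Five L f) (hcard : Nat.card (core f) = 5 ^ 5) {v : G} (hv : v * v = 1)
    (hvf : v * f * v⁻¹ = f⁻¹) (h25 : Nat.card (core f ⊓ centralizer ({v} : Set G) : Subgroup G) = 25) :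
    Extraspecial hf where
  card := hcard
  pow_five := fun _ ha => (fiveIn hf hcard).pow_five (extra hf hv hvf h25) ha
  center := fun _ ha hc => (fiveIn hf hcard).center (extra hf hv hvf h25) ha hc
  commutator := fun _ ha _ hb => (fiveIn hf hcard).comm_mem ha hb
  not_comm := by
    obtain ⟨g, h1, h2, h3⟩ := (extra hf hv hvf h25).ex
    have h4 := (fiveIn hf hcard).not_comm h1 h2 h3
    push Not at h4
    exact h4
  eq_or := fun _ h1 h2 h3 => (fiveIn hf hcard).eq_or h1 h2 h3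
  card_three := fun _ h1 h2 h3 h4 => (fiveIn hf hcard).card_centralizer_three h1 h2 h3 h4
  faithful := fun _ h1 h2 => (fiveIn hf hcard).faithful h1 h2
  card_centralizer := (fiveIn hf hcard).card_centralizer

end Cfsg.Agent.SporRec.LyFiveSix
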