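import Cfsg.Agent.SporRec.LyFiveAbel

/-!
# The core of `C_G(f)` has order `5⁵` in a group of Lyons type

* `card_inf_eq`: if `5` divides `|C_{core f}(v)|` then `C_{core f}(v)` has order 25, generated by two commuting 5-cycle
  lifts of `C(v)`; so `|core f| = 5⁵` (`card_core_eq_of_dvd`).
* `dvd_of_dvd`: if `25 ∣ |C_G(f) ∩ C_G(x)|`, `x` a 3-cycle lift commuting with `f`, then `25 ∣ |core f|`.
-/

set_option autoImplicit false

namespace Cfsg.Agent.SporRec.LyFiveTwenty

open Subgroup Equiv Cfsg Cfsg.Agent.SporRec.TwoAn Cfsg.Agent.SporRec.LyType Cfsg.Agent.SporRec.LyFiveCore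
  Cfsg.Agent.SporRec.LyFiveCard Cfsg.Agent.SporRec.LyFiveFrame Cfsg.Agent.SporRec.LyFiveAbel

theorem zmod_five : ∀ m : ZMod 5, m ^ 4 + 1 ≠ 0 := by decide

/-- Abelian subgroups of odd order divisible by 25 of `2.A₁₁`. -/
theorem exists_cycles_cover {C : Type*} [Group C] [Finite C] (K : Cover (Fin 11) C) {B : Subgroup C}
    (hodd : Odd (Nat.card B)) (hB : ∀ a ∈ B, ∀ b ∈ B, a * b = b * a) (h25 : 25 ∣ Nat.card B) :
    Nat.card B = 25 ∧ ∃ σ ∈ B, ∃ τ ∈ B, σ ^ 5 = 1 ∧ τ ^ 5 = 1 ∧ (K.π σ).IsCycle ∧ (K.π σ).support.card = 5 ∧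
      (K.π τ).IsCycle ∧ (K.π τ).support.card = 5 ∧ (K.π σ).Disjoint (K.π τ) ∧
      ∀ p ∈ B, ∃ i j : ℕ, p = σ ^ i * τ ^ j := by
  have hzB : K.z ∉ B := by
    intro h
    have h1 := B.orderOf_dvd_natCard h
    rw [K.orderOf_z] at h1
    exact (Nat.not_even_iff_odd.2 hodd) (even_iff_two_dvd.2 h1)
  have hinj : Function.Injective (K.π.comp B.subtype) := by
    rw [injective_iff_map_eq_one]
    intro a ha
    rcases (K.ker a).1 ha with h | h
    · exact Subtype.ext h
    · exact absurd (h ▸ a.2) hzB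
  have hcard : Nat.card (B.map K.π) = Nat.card B := by
    have h1 : B.map K.π = (⊤ : Subgroup B).map (K.π.comp B.subtype) := by
      rw [← Subgroup.map_map, ← MonoidHom.range_eq_map, Subgroup.range_subtype]
    rw [h1, card_map_of_injective hinj, card_top]
  have hP : ∀ a ∈ B.map K.π, ∀ b ∈ B.map K.π, a * b = b * a := by
    rintro _ ⟨a, ha, rfl⟩ _ ⟨b, hb, rfl⟩
    rw [← map_mul, ← map_mul, hB a ha b hb]
  obtain ⟨h1, σ, ⟨s, hs, rfl⟩, τ, ⟨t, ht, rfl⟩, c1, c2, c3, c4, c5', c6⟩ :=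
    exists_cycles hP (by rw [hcard]; exact h25)
  have hpow : ∀ s ∈ B, (K.π s).IsCycle → (K.π s).support.card = 5 → s ^ 5 = 1 := by
    intro s hs hc hc5
    have h2 : K.π (s ^ 5) = 1 := by
      rw [map_pow, ← hc5, ← hc.orderOf, pow_orderOf_eq_one]
    rcases (K.ker _).1 h2 with h3 | h3
    · exact h3
    · exact absurd (h3 ▸ B.pow_mem hs 5) hzB
  refine ⟨hcard ▸ h1, s, hs, t, ht, hpow s hs c1 c2, hpow t ht c3 c4, c1, c2, c3, c4, c5', ?_⟩
  intro p hp
  obtain ⟨i, j, hij⟩ := c6 (K.π p) ⟨p, hp, rfl⟩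
  refine ⟨i, j, ?_⟩
  have h2 : K.π (p⁻¹ * (s ^ i * t ^ j)) = 1 := by
    rw [map_mul, map_inv, map_mul, map_pow, map_pow, ← hij, inv_mul_cancel]
  rcases (K.ker _).1 h2 with h3 | h3
  · exact inv_mul_eq_one.1 h3
  · exact absurd (h3 ▸ B.mul_mem (B.inv_mem hp) (B.mul_mem (B.pow_mem hs i) (B.pow_mem ht j))) hzB

variable {G : Type*} [Group G]

/-- The same inside a group of Lyons type. -/
theorem exists_five_pair [Finite G] (L : LyType G) {B : Subgroup G} (hBt : B ≤ centralizer ({L.t} : Set G))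
    (hodd : Odd (Nat.card B)) (hB : ∀ a ∈ B, ∀ b ∈ B, a * b = b * a) (h25 : 25 ∣ Nat.card B) :
    Nat.card B = 25 ∧ ∃ σ ∈ B, ∃ τ ∈ B, ∃ hσ : Five L σ, ∃ hτ : Five L τ,
      (L.K.π ⟨σ, L.mem_iff.2 hσ.comm⟩).Disjoint (L.K.π ⟨τ, L.mem_iff.2 hτ.comm⟩) ∧
      ∀ p ∈ B, ∃ i j : ℕ, p = σ ^ i * τ ^ j := by
  have hc : Nat.card (B.subgroupOf (centralizer ({L.t} : Set G))) = Nat.card B :=
    Nat.card_congr (subgroupOfEquivOfLe hBt).toEquiv
  obtain ⟨h1, ⟨σ, hσC⟩, hσ, ⟨τ, hτC⟩, hτ, h2, h3, h4, h5, h6, h7, h8, h9⟩ :=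
    exists_cycles_cover L.K (B := B.subgroupOf (centralizer ({L.t} : Set G))) (by rw [hc]; exact hodd)
      (fun a ha b hb => Subtype.ext (hB a (mem_subgroupOf.1 ha) b (mem_subgroupOf.1 hb))) (by rw [hc]; exact h25)
  refine ⟨hc ▸ h1, σ, mem_subgroupOf.1 hσ, τ, mem_subgroupOf.1 hτ,
    ⟨L.mem_iff.1 hσC, congrArg Subtype.val h2, h4, h5⟩, ⟨L.mem_iff.1 hτC, congrArg Subtype.val h3, h6, h7⟩, h8, ?_⟩
  intro p hp
  obtain ⟨i, j, h⟩ := h9 ⟨p, hBt hp⟩ (mem_subgroupOf.2 hp)
  exact ⟨i, j, congrArg Subtype.val h⟩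

section

variable {L : LyType G} {f : G} (hf : Five L f)
  {v : G} (hv : v * v = 1) (hv1 : v ≠ 1) (hvt : v * L.t = L.t * v) (hvf : v * f * v⁻¹ = f⁻¹)

include hf hvt hvf in
/-- If `5` divides the order of `B = C_{core f}(v)` then so does `25`. -/
theorem twentyfive_dvd [Finite G] {h : G} (hhf : h * f = f * h) (hhv : h * v = v * h) (hh4 : h ^ 4 = L.t)
    (h5 : 5 ∣ Nat.card (core f ⊓ centralizer ({v} : Set G) : Subgroup G)) :
    25 ∣ Nat.card (core f ⊓ centralizer ({v} : Set G) : Subgroup G) := by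
  classical
  have hp5 : Fact (Nat.Prime 5) := ⟨by norm_num⟩
  set B : Subgroup G := core f ⊓ centralizer ({v} : Set G) with hB
  have hBmem : ∀ x, x ∈ B ↔ x ∈ core f ∧ x * v = v * x := fun x => by
    rw [hB, mem_inf, mem_centralizer_singleton_iff]
  obtain ⟨⟨b, hbB⟩, hb⟩ := exists_prime_orderOf_dvd_card' (G := B) 5 h5
  have hob : orderOf b = 5 := by rw [← hb]; exact (orderOf_mk b hbB).symm ▸ rfl
  have hb5 : b ^ 5 = 1 := by rw [← hob, pow_orderOf_eq_one]
  have hconj : ∀ x ∈ B, h * x * h⁻¹ ∈ B := by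
    intro x hx
    rw [hBmem] at hx ⊢
    refine ⟨conj_mem_core_of_comm hhf hx.1, ?_⟩
    have c1 : Commute h v := hhv
    have c2 : Commute x v := hx.2
    exact ((c1.mul_left c2).mul_left c1.inv_left).eq
  by_cases hmem : h * b * h⁻¹ ∈ zpowers b
  · exfalso
    obtain ⟨j, hj⟩ := hmem
    have hj' : b ^ j = h * b * h⁻¹ := hj
    have h1 : ∀ n : ℕ, h ^ n * b * (h ^ n)⁻¹ = b ^ (j ^ n) := by
      intro n
      induction n with
      | zero => simp
      | succ n ih =>
        have : h ^ (n + 1) * b * (h ^ (n + 1))⁻¹ = h * (h ^ n * b * (h ^ n)⁻¹) * h⁻¹ := by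
          rw [pow_succ']; group
        rw [this, ih, ← conj_zpow, ← hj', ← zpow_mul, pow_succ, mul_comm]
    have h2 := h1 4
    rw [hh4, conj_t_eq_inv hf hvt hvf ((hBmem b).1 hbB).1 ((hBmem b).1 hbB).2] at h2
    -- b⁻¹ = b ^ (j^4), so 5 ∣ j^4 + 1
    have h3 : b ^ (j ^ 4 + 1) = 1 := by
      rw [zpow_add, ← h2, zpow_one, inv_mul_cancel]
    have h4 : (5 : ℤ) ∣ j ^ 4 + 1 := by
      have := orderOf_dvd_iff_zpow_eq_one.2 h3
      rwa [hob] at this
    apply zmod_five (j : ZMod 5)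
    have := (ZMod.intCast_zmod_eq_zero_iff_dvd (j ^ 4 + 1) 5).2 (by exact_mod_cast h4)
    push_cast at this
    exact this
  · -- `⟨b⟩` and its conjugate generate a group of order 25
    set b' := h * b * h⁻¹ with hb'
    have hb'B : b' ∈ B := hconj b hbB
    have hob' : orderOf b' = 5 := by
      rw [hb', ← hob]
      have : h * b * h⁻¹ = MulAut.conj h b := rfl
      rw [this]
      exact MulEquiv.orderOf_eq _ b
    have hcomm : b * b' = b' * b :=
      comm_of_comm hf hvf ((hBmem b).1 hbB).1 ((hBmem b).1 hbB).2 ((hBmem b').1 hb'B).1 ((hBmem b').1 hb'B).2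
    have hdis : zpowers b ⊓ zpowers b' = ⊥ := by
      rw [eq_bot_iff]
      intro x hx
      rw [mem_inf] at hx
      by_contra hne
      rw [mem_bot] at hne
      have h1 : Nat.card (zpowers b') = 5 := by rw [Nat.card_zpowers, hob']
      have h2 : (⟨b', mem_zpowers b'⟩ : zpowers b') ∈ zpowers (⟨x, hx.2⟩ : zpowers b') :=
        mem_zpowers_of_prime_card h1 (fun h => hne (congrArg Subtype.val h))
      obtain ⟨i, hi⟩ := h2
      have h3 : x ^ i = b' := congrArg Subtype.val hi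
      apply hmem
      rw [← h3]
      exact zpow_mem hx.1 i
    -- the product map
    let ψ : zpowers b × zpowers b' →* B :=
      { toFun := fun p => ⟨(p.1 : G) * p.2, B.mul_mem
          ((zpowers_le.2 hbB) p.1.2) ((zpowers_le.2 hb'B) p.2.2)⟩
        map_one' := Subtype.ext (by show (1 : G) * 1 = 1; rw [mul_one])
        map_mul' := fun p q => Subtype.ext (by
          show ((p.1 : G) * q.1) * ((p.2 : G) * q.2) = (p.1 : G) * p.2 * (q.1 * q.2)
          have : (q.1 : G) * p.2 = p.2 * q.1 := by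
            obtain ⟨i, hi⟩ := q.1.2
            obtain ⟨j, hj⟩ := p.2.2
            have hi' : b ^ i = (q.1 : G) := hi
            have hj' : b' ^ j = (p.2 : G) := hj
            rw [← hi', ← hj']
            exact ((show Commute b b' from hcomm).zpow_zpow i j).eq
          calc ((p.1 : G) * q.1) * ((p.2 : G) * q.2) = (p.1 : G) * (q.1 * p.2) * q.2 := by group
            _ = (p.1 : G) * (p.2 * q.1) * q.2 := by rw [this]
            _ = _ := by group) }
    have hψ : Function.Injective ψ := by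
      rw [injective_iff_map_eq_one]
      rintro ⟨⟨x, hx⟩, ⟨y, hy⟩⟩ h
      have h1 : x * y = 1 := congrArg Subtype.val h
      have h2 : x = y⁻¹ := eq_inv_of_mul_eq_one_left h1
      have h3 : x ∈ zpowers b ⊓ zpowers b' := ⟨hx, by rw [h2]; exact (zpowers b').inv_mem hy⟩
      rw [hdis, mem_bot] at h3
      subst h3
      rw [one_mul] at h1
      subst h1
      rfl
    have h1 : Nat.card (zpowers b × zpowers b') = 25 := by
      rw [Nat.card_prod, Nat.card_zpowers, Nat.card_zpowers, hob, hob']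
    rw [← h1]
    exact Subgroup.card_dvd_of_injective ψ hψ

include hf hv hv1 hvt hvf in
/-- `C_{core f}(v)` has order 25 if its order is divisible by 5. -/
theorem card_inf_eq [Finite G] {h : G} (hhf : h * f = f * h) (hhv : h * v = v * h) (hh4 : h ^ 4 = L.t)
    (h5 : 5 ∣ Nat.card (core f ⊓ centralizer ({v} : Set G) : Subgroup G)) :
    Nat.card (core f ⊓ centralizer ({v} : Set G) : Subgroup G) = 25 := by
  obtain ⟨L', hL'⟩ := L.exists_rebase hv hv1
  have hBmem : ∀ x, x ∈ core f ⊓ centralizer ({v} : Set G) ↔ x ∈ core f ∧ x * v = v * x := fun x => by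
    rw [mem_inf, mem_centralizer_singleton_iff]
  exact (exists_five_pair L' (B := core f ⊓ centralizer ({v} : Set G)) (by rw [hL']; exact inf_le_right)
    (Odd.of_dvd_nat (odd_card_core hf) (card_dvd_of_le inf_le_left))
    (fun a ha b hb => comm_of_comm hf hvf ((hBmem a).1 ha).1 ((hBmem a).1 ha).2 ((hBmem b).1 hb).1 ((hBmem b).1 hb).2)
    (twentyfive_dvd hf hvt hvf hhf hhv hh4 h5)).1

end

section conj

/-- The involutions inverting `F` are conjugate under the centraliser of `F`. -/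
theorem conj_of_inverting_std {C : Type*} [Group C] (K : Cover (Fin 11) C) {F : C} (hF : K.π F = c5) (hF5 : F ^ 5 = 1)
    {v v' : C} (hv : v * v = 1) (hvF : v * F * v⁻¹ = F⁻¹) (hv' : v' * v' = 1) (hvF' : v' * F * v'⁻¹ = F⁻¹) :
    ∃ c : C, c * F = F * c ∧ c * v * c⁻¹ = v' := by
  have hcyc : (K.π F).IsCycle := by rw [hF]; exact c5_isCycle
  obtain ⟨u, hu⟩ := K.exists_lift (Cover.swap_mul_swap_mem 1 4 2 3 (by decide) (by decide))
  have huu : u * u = K.z := K.dbl 1 4 2 3 (by decide) (by decide) (by decide) (by decide) (by decide) (by decide) u hu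
  have huF : u * F * u⁻¹ = F⁻¹ := by
    refine K.odd_lift_unique (n := 5) (by decide) ?_ ?_ ?_
    · rw [conj_pow, hF5, mul_one, mul_inv_cancel]
    · rw [inv_pow, hF5, inv_one]
    · rw [map_mul, map_mul, map_inv, map_inv, hu, hF]
      decide
  have huFk : ∀ k : ℤ, u * F ^ k = F ^ (-k) * u := by
    intro k
    have : u * F ^ k * u⁻¹ = F ^ (-k) := by rw [← conj_zpow, huF, inv_zpow, zpow_neg]
    rw [← this]; group
  have hF5' : ∀ k : ℤ, F ^ (5 * k) = 1 := by
    intro k
    rw [zpow_mul]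
    have : F ^ (5 : ℤ) = 1 := by exact_mod_cast hF5
    rw [this, one_zpow]
  -- normal form
  have key : ∀ v : C, v * v = 1 → v * F * v⁻¹ = F⁻¹ → ∃ j : ℤ, ∃ s ∈ K.sub (fun x => K.π F x = x),
      s * s = K.z ∧ F ^ j * v * (F ^ j)⁻¹ = u * s := by
    intro v hv hvF
    have h1 : (u⁻¹ * v) * F = F * (u⁻¹ * v) := by
      have h2 : v * F = F⁻¹ * v := by rw [← hvF]; group
      have h3 : u⁻¹ * F⁻¹ = F * u⁻¹ := by
        have : u * F = F⁻¹ * u := by rw [← huF]; group
        rw [inv_mul_eq_iff_eq_mul, ← mul_assoc, this, mul_assoc, mul_inv_cancel, mul_one]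
      calc u⁻¹ * v * F = u⁻¹ * (v * F) := by group
        _ = (u⁻¹ * F⁻¹) * v := by rw [h2]; group
        _ = F * (u⁻¹ * v) := by rw [h3]; group
    obtain ⟨k, s, hs, hks⟩ := K.exists_of_comm_cycle hcyc h1
    have hsF : s * F = F * s := K.comm_of_mem_sub hs
    have hsFk : ∀ k : ℤ, s * F ^ k = F ^ k * s := fun k => ((show Commute s F from hsF).zpow_right k).eq
    have hv' : v = u * F ^ k * s := by rw [mul_assoc, ← hks, mul_inv_cancel_left]
    have hus : u * s = s * u := by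
      refine K.commute_of_disjoint ?_
      intro x
      by_cases hx : K.π F x = x
      · left
        rw [hF] at hx
        rw [hu]
        revert hx
        revert x
        decide
      · exact Or.inr (hs x hx)
    refine ⟨-(2 * k), s, hs, ?_, ?_⟩
    · -- from `v * v = 1`
      have h2 : v * v = u * u * (s * s) := by
        rw [hv']
        calc u * F ^ k * s * (u * F ^ k * s) = u * F ^ k * (s * u) * F ^ k * s := by group
          _ = u * F ^ k * (u * s) * F ^ k * s := by rw [hus]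
          _ = u * (F ^ k * u) * (s * F ^ k) * s := by group
          _ = u * (F ^ k * u) * (F ^ k * s) * s := by rw [hsFk]
          _ = u * F ^ k * (u * F ^ k) * (s * s) := by group
          _ = u * F ^ k * (F ^ (-k) * u) * (s * s) := by rw [huFk]
          _ = u * u * (s * s) := by group
      rw [hv, huu] at h2
      have h3 : s * s = K.z * (K.z * (s * s)) := by rw [← mul_assoc, K.z_mul_z, one_mul]
      rw [h3, ← h2, mul_one]
    · rw [hv']
      calc F ^ (-(2 * k)) * (u * F ^ k * s) * (F ^ (-(2 * k)))⁻¹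
          = F ^ (-(2 * k)) * u * F ^ k * (s * F ^ (2 * k)) := by
            rw [zpow_neg, inv_inv]; group
        _ = F ^ (-(2 * k)) * u * F ^ k * (F ^ (2 * k) * s) := by rw [hsFk]
        _ = F ^ (-(2 * k)) * (u * F ^ (3 * k)) * s := by
            have : F ^ (3 * k) = F ^ k * F ^ (2 * k) := by rw [← zpow_add]; congr 1; ring
            rw [this]; group
        _ = F ^ (-(2 * k)) * (F ^ (-(3 * k)) * u) * s := by rw [huFk]
        _ = F ^ (5 * (-k)) * u * s := by
            have : F ^ (5 * (-k)) = F ^ (-(2 * k)) * F ^ (-(3 * k)) := by rw [← zpow_add]; congr 1; ring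
            rw [this]; group
        _ = u * s := by rw [hF5', one_mul]
  obtain ⟨j, s, hs, hss, h1⟩ := key v hv hvF
  obtain ⟨j', s', hs', hss', h1'⟩ := key v' hv' hvF'
  -- `s` and `s'` are conjugate in `2.A₆`
  have hcard : Fintype.card {x : Fin 11 // K.π F x = x} = 6 := by
    rw [hF]; decide
  have hsupp : ∀ s : K.sub (fun x => K.π F x = x), s * s = (K.restrict (fun x => K.π F x = x)).z →
      (K.restrict (fun x => K.π F x = x)).π s * (K.restrict (fun x => K.π F x = x)).π s = 1 ∧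
        ((K.restrict (fun x => K.π F x = x)).π s).support.card = 4 := by
    intro s hs
    have h2 : (K.restrict (fun x => K.π F x = x)).π s * (K.restrict (fun x => K.π F x = x)).π s = 1 := by
      rw [← map_mul, hs, Cover.π_z]
    refine ⟨h2, ?_⟩
    obtain ⟨k, hk, h3⟩ := (K.restrict (fun x => K.π F x = x)).exists_sq _ h2 rfl
    have h4 : ((K.restrict (fun x => K.π F x = x)).π s).support.card ≤ 6 := by
      rw [← hcard]; exact Finset.card_le_univ _
    have h5 : k = 0 ∨ k = 1 := by omega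
    rcases h5 with rfl | rfl
    · rw [hs, pow_zero] at h3
      exact absurd h3 (K.restrict (fun x => K.π F x = x)).z_ne
    · exact hk
  have e1 := hsupp ⟨s, hs⟩ (Subtype.ext hss)
  have e2 := hsupp ⟨s', hs'⟩ (Subtype.ext hss')
  obtain ⟨⟨c, hcs⟩, hc⟩ := isConj_of_card_support_eq (K.restrict (fun x => K.π F x = x)) e1.1 e2.1 (by
    intro h
    have := e2.2
    rw [h, Perm.support_one, Finset.card_empty] at this
    omega) (by rw [e1.2, e2.2])
  have hc' : c * s * c⁻¹ = s' := congrArg Subtype.val hc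
  have hcF : c * F = F * c := K.comm_of_mem_sub hcs
  have hcu : c * u = u * c := by
    refine (K.commute_of_disjoint ?_).symm
    intro x
    by_cases hx : K.π F x = x
    · left
      rw [hF] at hx
      rw [hu]
      revert hx
      revert x
      decide
    · exact Or.inr (hcs x hx)
  refine ⟨(F ^ j')⁻¹ * c * F ^ j, ?_, ?_⟩
  · have d1 : Commute (F ^ j')⁻¹ F := ((Commute.refl F).zpow_left j').inv_left
    have d2 : Commute c F := hcF
    have d3 : Commute (F ^ j) F := (Commute.refl F).zpow_left j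
    exact ((d1.mul_left d2).mul_left d3).eq
  · calc (F ^ j')⁻¹ * c * F ^ j * v * ((F ^ j')⁻¹ * c * F ^ j)⁻¹
        = (F ^ j')⁻¹ * c * (F ^ j * v * (F ^ j)⁻¹) * c⁻¹ * F ^ j' := by group
      _ = (F ^ j')⁻¹ * (c * u) * s * c⁻¹ * F ^ j' := by rw [h1]; group
      _ = (F ^ j')⁻¹ * (u * (c * s * c⁻¹)) * F ^ j' := by rw [hcu]; group
      _ = (F ^ j')⁻¹ * (F ^ j' * v' * (F ^ j')⁻¹) * F ^ j' := by rw [hc', h1']
      _ = v' := by group

variable {L : LyType G} {f : G} (hf : Five L f)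

include hf in
/-- The involutions of `C(t)` inverting `f` are conjugate under `C(t) ∩ C(f)`. -/
theorem conj_of_inverting {v v' : G} (hv : v * v = 1) (hvt : v * L.t = L.t * v) (hvf : v * f * v⁻¹ = f⁻¹)
    (hv' : v' * v' = 1) (hvt' : v' * L.t = L.t * v') (hvf' : v' * f * v'⁻¹ = f⁻¹) :
    ∃ c : G, c * L.t = L.t * c ∧ c * f = f * c ∧ c * v * c⁻¹ = v' := by
  obtain ⟨τ, hπ⟩ := exists_relabel hf
  obtain ⟨c, h1, h2⟩ := conj_of_inverting_std (L.K.congr τ) hπ (Subtype.ext hf.pow) (v := ⟨v, L.mem_iff.2 hvt⟩)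
    (v' := ⟨v', L.mem_iff.2 hvt'⟩) (Subtype.ext hv) (Subtype.ext hvf) (Subtype.ext hv') (Subtype.ext hvf')
  exact ⟨c, L.mem_iff.1 c.2, congrArg Subtype.val h1, congrArg Subtype.val h2⟩

include hf in
/-- If `25 ∣ |core f|` then `|core f| = 5⁵` and `|C_{core f}(v)| = 25` for every involution `v` of `C(t)` inverting
`f`. -/
theorem card_core_of_dvd [Finite G] (h25 : 25 ∣ Nat.card (core f)) : Nat.card (core f) = 5 ^ 5 ∧
    ∀ v : G, v * v = 1 → v * L.t = L.t * v → v * f * v⁻¹ = f⁻¹ →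
      Nat.card (core f ⊓ centralizer ({v} : Set G) : Subgroup G) = 25 := by
  obtain ⟨v, w, h, hv, hv1, hvt1, hvt, hvf, hwt, hwf, hwv, hht, hhf, hhv, hh4⟩ := exists_vwh hf
  have h1 := card_core hf hv hvt hvf hwt hwf hwv
  have h5 : 5 ∣ Nat.card (core f ⊓ centralizer ({v} : Set G) : Subgroup G) := by
    rw [h1] at h25
    have h2 : 5 * 5 ∣ 5 * Nat.card (core f ⊓ centralizer ({v} : Set G) : Subgroup G) ^ 2 := h25
    have h3 := Nat.dvd_of_mul_dvd_mul_left (by norm_num) h2
    exact Nat.Prime.dvd_of_dvd_pow (by norm_num) h3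
  have h2 := card_inf_eq hf hv hv1 hvt hvf hhf hhv hh4 h5
  refine ⟨by rw [h1, h2]; norm_num, ?_⟩
  intro v' hv' hvt' hvf'
  obtain ⟨c, hct, hcf, hcv⟩ := conj_of_inverting hf hv hvt hvf hv' hvt' hvf'
  rw [← h2]
  have hcf' : c⁻¹ * f = f * c⁻¹ := by
    rw [inv_mul_eq_iff_eq_mul, ← mul_assoc, hcf, mul_inv_cancel_right]
  symm
  refine Nat.card_congr
    { toFun := fun x => ⟨c * x * c⁻¹, ⟨conj_mem_core_of_comm hcf x.2.1, mem_centralizer_singleton_iff.2 ?_⟩⟩
      invFun := fun x => ⟨c⁻¹ * x * c, ⟨by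
        have := conj_mem_core_of_comm hcf' x.2.1
        rwa [inv_inv] at this, mem_centralizer_singleton_iff.2 ?_⟩⟩
      left_inv := fun x => Subtype.ext (by
        show c⁻¹ * (c * x * c⁻¹) * c = x
        group)
      right_inv := fun x => Subtype.ext (by
        show c * (c⁻¹ * x * c) * c⁻¹ = x
        group) }
  · have h3 := mem_centralizer_singleton_iff.1 x.2.2
    rw [← hcv]
    calc c * x * c⁻¹ * (c * v * c⁻¹) = c * (x * v) * c⁻¹ := by group
      _ = c * (v * x) * c⁻¹ := by rw [h3]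
      _ = c * v * c⁻¹ * (c * x * c⁻¹) := by group
  · have h3 := mem_centralizer_singleton_iff.1 x.2.2
    have h4 : v = c⁻¹ * v' * c := by rw [← hcv]; group
    rw [h4]
    calc c⁻¹ * x * c * (c⁻¹ * v' * c) = c⁻¹ * (x * v') * c := by group
      _ = c⁻¹ * (v' * x) * c := by rw [h3]
      _ = c⁻¹ * v' * c * (c⁻¹ * x * c) := by group

end conj

end Cfsg.Agent.SporRec.LyFiveTwenty
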