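import Cfsg.Agent.SporRec.LyHexCount

/-!
# The element `N = n_β`

In a group with elements satisfying `RelP`, an element `n` normalising the torus `T` and interchanging `⟨x₁₀⟩` and
`⟨x₁₁⟩` can be multiplied by an element of the torus to give an element satisfying `RelN`, provided that
`C(⟨x₁₀, x₁₁⟩) = R` and `C(T) = T × ⟨x⟩` with `x` of order three commuting with `A`.
-/

set_option autoImplicit false
set_option linter.dupNamespace false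
set_option linter.unusedSectionVars false

namespace Cfsg.Agent.SporRec.LyHexAct

open Subgroup Cfsg.Agent.SporRec.LyHexRel Cfsg.Agent.SporRec.LyHexCount

section general

variable {H : Type*} [Group H]

theorem orderOf_five {x : H} (hx : x ^ 5 = 1) (h1 : x ≠ 1) : orderOf x = 5 := by
  have : Fact (Nat.Prime 5) := ⟨by norm_num⟩
  exact orderOf_eq_prime hx h1

theorem pow_eq_iff {x : H} (hx : x ^ 5 = 1) (h1 : x ≠ 1) {a b : ℕ} : x ^ a = x ^ b ↔ a % 5 = b % 5 := by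
  rw [pow_eq_pow_iff_modEq, orderOf_five hx h1]; rfl

theorem pow_eq_one_iff' {x : H} (hx : x ^ 5 = 1) (h1 : x ≠ 1) {a : ℕ} : x ^ a = 1 ↔ a % 5 = 0 := by
  have := pow_eq_iff hx h1 (a := a) (b := 0)
  rwa [pow_zero] at this

theorem pow_congr {x : H} (hx : x ^ 5 = 1) {a b : ℕ} (h : a % 5 = b % 5) : x ^ a = x ^ b := by
  rw [← Nat.div_add_mod a 5, ← Nat.div_add_mod b 5, pow_add, pow_add, pow_mul, pow_mul, hx, one_pow, one_pow, h]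

theorem pow_congr4 {x : H} (hx : x ^ 4 = 1) {a b : ℕ} (h : a % 4 = b % 4) : x ^ a = x ^ b := by
  rw [← Nat.div_add_mod a 4, ← Nat.div_add_mod b 4, pow_add, pow_add, pow_mul, pow_mul, hx, one_pow, one_pow, h]

theorem mem_of_pow_mem {x : H} (hx : x ^ 5 = 1) {K : Subgroup H} {a : ℕ} (ha : x ^ a ∈ K) (h : a % 5 ≠ 0) :
    x ∈ K := by
  have h5 : a % 5 = 1 ∨ a % 5 = 2 ∨ a % 5 = 3 ∨ a % 5 = 4 := by omega
  rcases h5 with h | h | h | h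
  · have : x = x ^ a := by rw [pow_congr hx (b := 1) (by omega), pow_one]
    rw [this]; exact ha
  · have : x = (x ^ a) ^ 3 := by rw [← pow_mul, pow_congr hx (b := 1) (by omega), pow_one]
    rw [this]; exact pow_mem ha 3
  · have : x = (x ^ a) ^ 2 := by rw [← pow_mul, pow_congr hx (b := 1) (by omega), pow_one]
    rw [this]; exact pow_mem ha 2
  · have : x = (x ^ a) ^ 4 := by rw [← pow_mul, pow_congr hx (b := 1) (by omega), pow_one]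
    rw [this]; exact pow_mem ha 4

theorem conj_pow' (t x : H) (n : ℕ) : t * x ^ n * t⁻¹ = (t * x * t⁻¹) ^ n := (conj_pow).symm

theorem wt_pow {t x : H} {p : ℕ} (h : t * x * t⁻¹ = x ^ p) (i : ℕ) : t ^ i * x * (t ^ i)⁻¹ = x ^ p ^ i := by
  induction i with
  | zero => simp
  | succ i ih =>
    calc t ^ (i + 1) * x * (t ^ (i + 1))⁻¹ = t * (t ^ i * x * (t ^ i)⁻¹) * t⁻¹ := by rw [pow_succ']; group
      _ = x ^ p ^ (i + 1) := by rw [ih, conj_pow', h, ← pow_mul, pow_succ']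

theorem wt {t s x : H} {p q : ℕ} (h : t * x * t⁻¹ = x ^ p) (k : s * x * s⁻¹ = x ^ q) (i j : ℕ) :
    (t ^ i * s ^ j) * x * (t ^ i * s ^ j)⁻¹ = x ^ (p ^ i * q ^ j) := by
  calc (t ^ i * s ^ j) * x * (t ^ i * s ^ j)⁻¹ = t ^ i * (s ^ j * x * (s ^ j)⁻¹) * (t ^ i)⁻¹ := by group
    _ = x ^ (p ^ i * q ^ j) := by rw [wt_pow k, conj_pow', wt_pow h, ← pow_mul]

/-- Peeling off a factor from an element fixed by a torus element. -/
theorem peel {x τ k : H} {K : Subgroup H} {w a : ℕ} (hx : x ^ 5 = 1) (hxK : x ∉ K) (hτ : τ * x * τ⁻¹ = x ^ w)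
    (hk : k ∈ K) (hk' : τ * k * τ⁻¹ ∈ K) (hr : τ * (x ^ a * k) * τ⁻¹ = x ^ a * k) :
    (w % 5 ≠ 1 → x ^ a = 1) ∧ τ * k * τ⁻¹ = k := by
  have h1 : x ^ (w * a) * (τ * k * τ⁻¹) = x ^ a * k := by
    rw [← hr, pow_mul, ← hτ, ← conj_pow']; group
  have hcase : x ^ (w * a) = x ^ a := by
    by_cases hw : w % 5 = 1
    · apply pow_congr hx
      rw [Nat.mul_mod, hw, one_mul, Nat.mod_mod]
    · by_cases ha : a % 5 = 0
      · rw [pow_congr hx (a := w * a) (b := 0) (by rw [Nat.mul_mod, ha, mul_zero]),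
          pow_congr hx (a := a) (b := 0) (by rw [ha])]
      · exfalso
        apply hxK
        have h2 : x ^ (w * a + 4 * a) ∈ K := by
          have h3 : x ^ (w * a + 4 * a) = k * (τ * k * τ⁻¹)⁻¹ := by
            have h4 : x ^ (4 * a) = (x ^ a)⁻¹ := by
              rw [eq_inv_iff_mul_eq_one, ← pow_add, show 4 * a + a = 5 * a by ring, pow_mul, hx, one_pow]
            rw [add_comm, pow_add, h4, eq_mul_inv_iff_mul_eq, mul_assoc, h1, inv_mul_cancel_left]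
          rw [h3]
          exact mul_mem hk (inv_mem hk')
        refine mem_of_pow_mem hx h2 ?_
        intro h3
        have h4 : (w + 4) * a % 5 = 0 := by rw [add_mul]; exact h3
        rcases (Nat.Prime.dvd_mul (by norm_num : Nat.Prime 5)).1 (Nat.dvd_of_mod_eq_zero h4) with h5 | h5
        · omega
        · exact ha (Nat.mod_eq_zero_of_dvd h5)
  constructor
  · intro hw
    by_contra hne
    have hx1 : x ≠ 1 := fun h => hxK (h ▸ K.one_mem)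
    have ha : a % 5 ≠ 0 := fun h => hne ((pow_eq_one_iff' hx hx1).2 h)
    have h2 := (pow_eq_iff hx hx1).1 hcase
    have h3 : (w + 4) * a % 5 = 0 := by
      have : (w + 4) * a = w * a + 4 * a := by ring
      rw [this]; omega
    rcases (Nat.Prime.dvd_mul (by norm_num : Nat.Prime 5)).1 (Nat.dvd_of_mod_eq_zero h3) with h5 | h5
    · omega
    · exact ha (Nat.mod_eq_zero_of_dvd h5)
  · rw [hcase] at h1
    exact mul_left_cancel h1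

theorem mem_zpowers_five {x g : H} (hx : x ^ 5 = 1) (hg : g ∈ zpowers x) : ∃ i < 5, g = x ^ i := by
  rcases pow_cases hx hg with rfl | rfl | rfl | rfl | rfl
  · exact ⟨0, by norm_num, (pow_zero _).symm⟩
  · exact ⟨1, by norm_num, (pow_one _).symm⟩
  · exact ⟨2, by norm_num, rfl⟩
  · exact ⟨3, by norm_num, rfl⟩
  · exact ⟨4, by norm_num, rfl⟩

end general

section basic

variable {H : Type*} [Group H] {e : Els H} (h : RelP e) (h11 : e.x11 ≠ 1)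
include h h11

theorem comm89_ne : e.x8 * e.x9 ≠ e.x9 * e.x8 := by
  intro hc
  have h1 := h.c89
  rw [hc] at h1
  have h2 : e.x11 ^ 3 = 1 := by rw [← h1]; group
  have := (pow_eq_one_iff' h.p11 h11).1 h2
  omega

theorem comm610_ne : e.x6 * e.x10 ≠ e.x10 * e.x6 := by
  intro hc
  have h1 := h.c610
  rw [hc] at h1
  apply h11
  rw [← h1]; group

/-- Elements of the centraliser as a subgroup. -/
theorem closure_comm {S : Set H} {g : H} (hS : ∀ s ∈ S, g * s = s * g) : ∀ k ∈ closure S, g * k = k * g := by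
  intro k hk
  have : closure S ≤ centralizer ({g} : Set H) := by
    rw [closure_le]
    intro s hs
    exact mem_centralizer_singleton_iff.2 (hS s hs).symm
  exact (mem_centralizer_singleton_iff.1 (this hk)).symm

theorem x8_not : e.x8 ∉ K9 e := by
  intro h8
  apply comm89_ne h h11
  have := closure_comm h h11 (g := e.x9) (S := {e.x9, e.x10, e.x11}) (by
    rintro s (rfl | rfl | rfl)
    · rfl
    · exact h.c910
    · exact h.c911) _ h8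
  exact this.symm

theorem x9_not : e.x9 ∉ K10 e := by
  intro h9
  apply comm89_ne h h11
  exact closure_comm h h11 (g := e.x8) (S := {e.x10, e.x11}) (by
    rintro s (rfl | rfl)
    · exact h.c810
    · exact h.c811) _ h9

theorem x10_not : e.x10 ∉ closure ({e.x11} : Set H) := by
  intro h10
  apply comm610_ne h h11
  exact closure_comm h h11 (g := e.x6) (S := {e.x11}) (by
    rintro s rfl
    exact h.c611) _ h10

theorem x8_ne : e.x8 ≠ 1 := fun h1 => x8_not h h11 (h1 ▸ one_mem _)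
theorem x9_ne : e.x9 ≠ 1 := fun h1 => x9_not h h11 (h1 ▸ one_mem _)
theorem x10_ne : e.x10 ≠ 1 := fun h1 => x10_not h h11 (h1 ▸ one_mem _)

omit h11 in
/-- Torus elements. -/
theorem mem_T {τ : H} (hτ : τ ∈ T e) : ∃ i < 4, ∃ j < 4, τ = e.t6 ^ i * e.t7 ^ j := by
  have hnorm : ∀ s ∈ ({e.t7} : Set H), e.t6 * s * e.t6⁻¹ ∈ closure ({e.t7} : Set H) := by
    rintro s rfl
    rw [conj_of_eq h.q67]; mem_word
  obtain ⟨i, hi, k, hk, rfl⟩ := (mem_insert_closure hnorm (n := 4) (by norm_num) h.q6).1 hτ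
  obtain ⟨j, hj, rfl⟩ : ∃ j < 4, k = e.t7 ^ j := by
    rw [← zpowers_eq_closure] at hk
    have hfin : IsOfFinOrder e.t7 := isOfFinOrder_iff_pow_eq_one.2 ⟨4, by norm_num, h.q7⟩
    classical
    have h1 := (hfin.mem_zpowers_iff_mem_range_orderOf).1 hk
    simp only [Finset.mem_image, Finset.mem_range] at h1
    obtain ⟨m, hm, rfl⟩ := h1
    exact ⟨m, lt_of_lt_of_le hm (Nat.le_of_dvd (by norm_num) (orderOf_dvd_of_pow_eq_one h.q7)), rfl⟩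
  exact ⟨i, hi, j, hj, rfl⟩

omit h11 in
theorem wt7 (i j : ℕ) : (e.t6 ^ i * e.t7 ^ j) * e.x7 * (e.t6 ^ i * e.t7 ^ j)⁻¹ = e.x7 ^ (3 ^ i * 4 ^ j) :=
  wt h.s67 h.s77 i j
omit h11 in
theorem wt8 (i j : ℕ) : (e.t6 ^ i * e.t7 ^ j) * e.x8 * (e.t6 ^ i * e.t7 ^ j)⁻¹ = e.x8 ^ (2 ^ i * 3 ^ j) :=
  wt h.s68 h.s78 i j
omit h11 in
theorem wt9 (i j : ℕ) : (e.t6 ^ i * e.t7 ^ j) * e.x9 * (e.t6 ^ i * e.t7 ^ j)⁻¹ = e.x9 ^ (1 ^ i * 2 ^ j) :=
  wt (by rw [pow_one]; exact h.s69) h.s79 i j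
omit h11 in
theorem wt10 (i j : ℕ) : (e.t6 ^ i * e.t7 ^ j) * e.x10 * (e.t6 ^ i * e.t7 ^ j)⁻¹ = e.x10 ^ (3 ^ i * 3 ^ j) :=
  wt h.s610 h.s710 i j
omit h11 in
theorem wt11 (i j : ℕ) : (e.t6 ^ i * e.t7 ^ j) * e.x11 * (e.t6 ^ i * e.t7 ^ j)⁻¹ = e.x11 ^ (2 ^ i * 1 ^ j) :=
  wt h.s611 (by rw [pow_one]; exact h.s711) i j
omit h11 in
theorem wt6 (i j : ℕ) : (e.t6 ^ i * e.t7 ^ j) * e.x6 * (e.t6 ^ i * e.t7 ^ j)⁻¹ = e.x6 ^ (4 ^ i * 2 ^ j) :=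
  wt h.s66 h.s76 i j

variable (h7 : e.x7 ∉ K8 e)
include h7

/-- Elements of `R` fixed by a torus element. -/
theorem CR (i j : ℕ) {r : H} (hr : r ∈ R e) (hfix : (e.t6 ^ i * e.t7 ^ j) * r * (e.t6 ^ i * e.t7 ^ j)⁻¹ = r) :
    ∃ a b c d m : ℕ, r = e.x7 ^ a * (e.x8 ^ b * (e.x9 ^ c * (e.x10 ^ d * e.x11 ^ m))) ∧
      ((3 ^ i * 4 ^ j) % 5 ≠ 1 → e.x7 ^ a = 1) ∧ ((2 ^ i * 3 ^ j) % 5 ≠ 1 → e.x8 ^ b = 1) ∧
      ((1 ^ i * 2 ^ j) % 5 ≠ 1 → e.x9 ^ c = 1) ∧ ((3 ^ i * 3 ^ j) % 5 ≠ 1 → e.x10 ^ d = 1) ∧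
      ((2 ^ i * 1 ^ j) % 5 ≠ 1 → e.x11 ^ m = 1) := by
  obtain ⟨a, -, k8, hk8, rfl⟩ := mem_R h hr
  obtain ⟨b, -, k9, hk9, rfl⟩ := mem_K8 h hk8
  obtain ⟨c, -, k10, hk10, rfl⟩ := mem_K9 h hk9
  obtain ⟨d, m, -, -, rfl⟩ := mem_K10 h hk10
  set τ := e.t6 ^ i * e.t7 ^ j with hτ
  have w8 := wt8 h i j
  have w9 := wt9 h i j
  have w10 := wt10 h i j
  have w11 := wt11 h i j
  rw [← hτ] at w8 w9 w10 w11
  have n8 : ∀ k ∈ K8 e, τ * k * τ⁻¹ ∈ K8 e := by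
    apply conj_closure
    unfold K8
    rintro s (rfl | rfl | rfl | rfl)
    · rw [w8]; mem_word
    · rw [w9]; mem_word
    · rw [w10]; mem_word
    · rw [w11]; mem_word
  have n9 : ∀ k ∈ K9 e, τ * k * τ⁻¹ ∈ K9 e := by
    apply conj_closure
    unfold K9
    rintro s (rfl | rfl | rfl)
    · rw [w9]; mem_word
    · rw [w10]; mem_word
    · rw [w11]; mem_word
  have n10 : ∀ k ∈ K10 e, τ * k * τ⁻¹ ∈ K10 e := by
    apply conj_closure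
    unfold K10
    rintro s (rfl | rfl)
    · rw [w10]; mem_word
    · rw [w11]; mem_word
  have n11 : ∀ k ∈ closure ({e.x11} : Set H), τ * k * τ⁻¹ ∈ closure ({e.x11} : Set H) := by
    apply conj_closure
    rintro s rfl
    rw [w11]; mem_word
  obtain ⟨f7, hfix8⟩ := peel h.p7 h7 (wt7 h i j) hk8 (n8 _ hk8) hfix
  obtain ⟨f8, hfix9⟩ := peel h.p8 (x8_not h h11) w8 hk9 (n9 _ hk9) hfix8
  obtain ⟨f9, hfix10⟩ := peel h.p9 (x9_not h h11) w9 hk10 (n10 _ hk10) hfix9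
  have hm : e.x11 ^ m ∈ closure ({e.x11} : Set H) := by mem_word
  obtain ⟨f10, hfix11⟩ := peel h.p10 (x10_not h h11) w10 hm (n11 _ hm) hfix10
  have h11' : e.x11 ∉ (⊥ : Subgroup H) := fun hb => h11 (mem_bot.1 hb)
  obtain ⟨f11, -⟩ := peel (k := 1) h.p11 h11' w11 (one_mem _) (by rw [mul_one, mul_inv_cancel]; exact one_mem _)
    (by rw [mul_one]; exact hfix11)
  exact ⟨a, b, c, d, m, rfl, f7, f8, f9, f10, f11⟩

/-- `C_R(t₆² t₇) = ⟨x₇⟩` -/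
theorem CR7 {r : H} (hr : r ∈ R e) (hfix : (e.t6 ^ 2 * e.t7 ^ 1) * r * (e.t6 ^ 2 * e.t7 ^ 1)⁻¹ = r) :
    ∃ a : ℕ, r = e.x7 ^ a := by
  obtain ⟨a, b, c, d, m, h1, -, f8, f9, f10, f11⟩ := CR h h11 h7 2 1 hr hfix
  refine ⟨a, ?_⟩
  rw [h1, f8 (by norm_num), f9 (by norm_num), f10 (by norm_num), f11 (by norm_num)]
  simp

/-- `C_R(t₆ t₇) = ⟨x₈⟩` -/
theorem CR8 {r : H} (hr : r ∈ R e) (hfix : (e.t6 ^ 1 * e.t7 ^ 1) * r * (e.t6 ^ 1 * e.t7 ^ 1)⁻¹ = r) :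
    ∃ a : ℕ, r = e.x8 ^ a := by
  obtain ⟨a, b, c, d, m, h1, f7, -, f9, f10, f11⟩ := CR h h11 h7 1 1 hr hfix
  refine ⟨b, ?_⟩
  rw [h1, f7 (by norm_num), f9 (by norm_num), f10 (by norm_num), f11 (by norm_num)]
  simp

/-- `C_R(t₆³) = ⟨x₉⟩` -/
theorem CR9 {r : H} (hr : r ∈ R e) (hfix : (e.t6 ^ 3 * e.t7 ^ 0) * r * (e.t6 ^ 3 * e.t7 ^ 0)⁻¹ = r) :
    ∃ a : ℕ, r = e.x9 ^ a := by
  obtain ⟨a, b, c, d, m, h1, f7, f8, -, f10, f11⟩ := CR h h11 h7 3 0 hr hfix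
  refine ⟨c, ?_⟩
  rw [h1, f7 (by norm_num), f8 (by norm_num), f10 (by norm_num), f11 (by norm_num)]
  simp

/-- `C_R(t₆ t₇²) = 1` -/
theorem CR1 {r : H} (hr : r ∈ R e) (hfix : (e.t6 ^ 1 * e.t7 ^ 2) * r * (e.t6 ^ 1 * e.t7 ^ 2)⁻¹ = r) :
    r = 1 := by
  obtain ⟨a, b, c, d, m, h1, f7, f8, f9, f10, f11⟩ := CR h h11 h7 1 2 hr hfix
  rw [h1, f7 (by norm_num), f8 (by norm_num), f9 (by norm_num), f10 (by norm_num), f11 (by norm_num)]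
  simp

end basic

/-! ### Actions on the torus and on `⟨x₁₀, x₁₁⟩` -/

section act

variable {H : Type*} [Group H]

/-- `u` acts on `⟨x, y⟩` by the matrix `p q r s`. -/
def Act (x y u : H) (p q r s : ℕ) : Prop := u * x * u⁻¹ = x ^ p * y ^ q ∧ u * y * u⁻¹ = x ^ r * y ^ s

theorem Act.mul {x y u v : H} (hxy : x * y = y * x) {p q r s p' q' r' s' : ℕ} (h : Act x y u p q r s)
    (k : Act x y v p' q' r' s') :
    Act x y (u * v) (p * p' + r * q') (q * p' + s * q') (p * r' + r * s') (q * r' + s * s') := by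
  have hc : Commute x y := hxy
  have key : ∀ a b : ℕ, u * (x ^ a * y ^ b) * u⁻¹ = x ^ (p * a + r * b) * y ^ (q * a + s * b) := by
    intro a b
    have e1 : u * (x ^ a * y ^ b) * u⁻¹ = (u * x * u⁻¹) ^ a * (u * y * u⁻¹) ^ b := by
      rw [← conj_pow', ← conj_pow']; group
    rw [e1, h.1, h.2, (Commute.pow_pow hc p q).mul_pow, (Commute.pow_pow hc r s).mul_pow, ← pow_mul, ← pow_mul,
      ← pow_mul, ← pow_mul]
    calc x ^ (p * a) * y ^ (q * a) * (x ^ (r * b) * y ^ (s * b))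
        = x ^ (p * a) * (y ^ (q * a) * x ^ (r * b)) * y ^ (s * b) := by group
      _ = x ^ (p * a) * (x ^ (r * b) * y ^ (q * a)) * y ^ (s * b) := by rw [(Commute.pow_pow hc _ _).eq]
      _ = x ^ (p * a + r * b) * y ^ (q * a + s * b) := by rw [pow_add, pow_add]; group
  constructor
  · calc u * v * x * (u * v)⁻¹ = u * (v * x * v⁻¹) * u⁻¹ := by group
      _ = _ := by rw [k.1, key]
  · calc u * v * y * (u * v)⁻¹ = u * (v * y * v⁻¹) * u⁻¹ := by group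
      _ = _ := by rw [k.2, key]

theorem Act.congr {x y u : H} {n : ℕ} (hx : ∀ a b : ℕ, a % n = b % n → x ^ a = x ^ b)
    (hy : ∀ a b : ℕ, a % n = b % n → y ^ a = y ^ b) {p q r s p' q' r' s' : ℕ} (h : Act x y u p q r s)
    (e1 : p % n = p' % n) (e2 : q % n = q' % n) (e3 : r % n = r' % n) (e4 : s % n = s' % n) :
    Act x y u p' q' r' s' := by
  constructor
  · rw [h.1, hx _ _ e1, hy _ _ e2]
  · rw [h.2, hx _ _ e3, hy _ _ e4]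

end act

section main

variable {H : Type*} [Group H] {e : Els H} (h : RelP e) (h11 : e.x11 ≠ 1) (h7 : e.x7 ∉ K8 e)
  (hc : ∀ g : H, g * e.x10 = e.x10 * g → g * e.x11 = e.x11 * g → g ∈ R e)

include h in
theorem Q67 : ∀ a b : ℕ, a % 4 = b % 4 → e.t6 ^ a = e.t6 ^ b := fun _ _ hab => pow_congr4 h.q6 hab

include h in
theorem comm_R10 : ∀ r ∈ R e, e.x10 * r = r * e.x10 := by
  intro r hr
  have : R e ≤ centralizer ({e.x10} : Set H) := by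
    unfold R
    rw [closure_le]
    rintro s (rfl | rfl | rfl | rfl | rfl)
    · exact mem_centralizer_singleton_iff.2 h.c710
    · exact mem_centralizer_singleton_iff.2 h.c810
    · exact mem_centralizer_singleton_iff.2 h.c910
    · exact mem_centralizer_singleton_iff.2 rfl
    · exact mem_centralizer_singleton_iff.2 h.c1011.symm
  exact (mem_centralizer_singleton_iff.1 (this hr)).symm

include h in
theorem comm_R11 : ∀ r ∈ R e, e.x11 * r = r * e.x11 := by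
  intro r hr
  have : R e ≤ centralizer ({e.x11} : Set H) := by
    unfold R
    rw [closure_le]
    rintro s (rfl | rfl | rfl | rfl | rfl)
    · exact mem_centralizer_singleton_iff.2 h.c711
    · exact mem_centralizer_singleton_iff.2 h.c811
    · exact mem_centralizer_singleton_iff.2 h.c911
    · exact mem_centralizer_singleton_iff.2 h.c1011
    · exact mem_centralizer_singleton_iff.2 rfl
  exact (mem_centralizer_singleton_iff.1 (this hr)).symm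

/-- The torus element `t₆ t₇²` -/
def tN (e : Els H) : H := e.t6 ^ 1 * e.t7 ^ 2

include h h11 h7 hc in
/-- Two elements commuting with `t₆ t₇²` and acting equally on `x₁₀`, `x₁₁` are equal. -/
theorem eq_of_act {u v : H} {p q r s : ℕ} (hu : Act e.x10 e.x11 u p q r s) (hv : Act e.x10 e.x11 v p q r s)
    (hu' : tN e * u = u * tN e) (hv' : tN e * v = v * tN e) : u = v := by
  have k10 : (v⁻¹ * u) * e.x10 = e.x10 * (v⁻¹ * u) := by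
    have h1 : u * e.x10 * u⁻¹ = v * e.x10 * v⁻¹ := by rw [hu.1, hv.1]
    calc (v⁻¹ * u) * e.x10 = v⁻¹ * (u * e.x10 * u⁻¹) * u := by group
      _ = e.x10 * (v⁻¹ * u) := by rw [h1]; group
  have k11 : (v⁻¹ * u) * e.x11 = e.x11 * (v⁻¹ * u) := by
    have h1 : u * e.x11 * u⁻¹ = v * e.x11 * v⁻¹ := by rw [hu.2, hv.2]
    calc (v⁻¹ * u) * e.x11 = v⁻¹ * (u * e.x11 * u⁻¹) * u := by group
      _ = e.x11 * (v⁻¹ * u) := by rw [h1]; group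
  have hR := hc _ k10 k11
  have hfix : (e.t6 ^ 1 * e.t7 ^ 2) * (v⁻¹ * u) * (e.t6 ^ 1 * e.t7 ^ 2)⁻¹ = v⁻¹ * u := by
    change tN e * (v⁻¹ * u) * (tN e)⁻¹ = v⁻¹ * u
    have h2 : tN e * v⁻¹ = v⁻¹ * tN e := by
      rw [eq_inv_mul_iff_mul_eq, ← mul_assoc, ← hv', mul_inv_cancel_right]
    calc tN e * (v⁻¹ * u) * (tN e)⁻¹ = (tN e * v⁻¹) * u * (tN e)⁻¹ := by group
      _ = v⁻¹ * (tN e * u) * (tN e)⁻¹ := by rw [h2]; group
      _ = v⁻¹ * u := by rw [hu']; group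
  have := CR1 h h11 h7 hR hfix
  rw [inv_mul_eq_one] at this
  exact this.symm

/-- Data for an element interchanging the two root subgroups. -/
structure Pre (e : Els H) (n : H) : Prop where
  torusMem : ∀ τ ∈ T e, n * τ * n⁻¹ ∈ T e
  n10 : n * e.x10 * n⁻¹ ∈ zpowers e.x11
  n11 : n * e.x11 * n⁻¹ ∈ zpowers e.x10

include h h11 in
theorem Pre.exists10 {n : H} (k : Pre e n) : ∃ m : ℕ, m % 5 ≠ 0 ∧ n * e.x10 * n⁻¹ = e.x11 ^ m := by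
  obtain ⟨m, -, hm⟩ := mem_zpowers_five h.p11 k.n10
  refine ⟨m, fun h0 => x10_ne h h11 ?_, hm⟩
  rw [pow_congr h.p11 (a := m) (b := 0) h0, pow_zero, mul_inv_eq_one] at hm
  exact mul_eq_left.1 hm

include h h11 in
theorem Pre.exists11 {n : H} (k : Pre e n) : ∃ m : ℕ, m % 5 ≠ 0 ∧ n * e.x11 * n⁻¹ = e.x10 ^ m := by
  obtain ⟨m, -, hm⟩ := mem_zpowers_five h.p10 k.n11
  refine ⟨m, fun h0 => h11 ?_, hm⟩
  rw [pow_congr h.p10 (a := m) (b := 0) h0, pow_zero, mul_inv_eq_one] at hm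
  exact mul_eq_left.1 hm

include h h11 in
/-- The action of `n` on the torus. -/
theorem Pre.torus {n : H} (k : Pre e n) : n * e.t6 * n⁻¹ = e.t6 ^ 3 ∧ n * e.t7 * n⁻¹ = e.t6 ^ 3 * e.t7 := by
  obtain ⟨m, hm0, hm⟩ := k.exists10 h h11
  obtain ⟨l, hl0, hl⟩ := k.exists11 h h11
  have key : ∀ τ : H, ∀ w10 w11 : ℕ, τ ∈ T e → τ * e.x10 * τ⁻¹ = e.x10 ^ w10 → τ * e.x11 * τ⁻¹ = e.x11 ^ w11 →
      ∃ i < 4, ∃ j < 4, n * τ * n⁻¹ = e.t6 ^ i * e.t7 ^ j ∧ (2 ^ i * 1 ^ j) * m % 5 = m * w10 % 5 ∧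
        (3 ^ i * 3 ^ j) * l % 5 = l * w11 % 5 := by
    intro τ w10 w11 hτ h10 h11'
    obtain ⟨i, hi, j, hj, hij⟩ := mem_T h (k.torusMem τ hτ)
    refine ⟨i, hi, j, hj, hij, ?_, ?_⟩
    · have h1 : (n * τ * n⁻¹) * e.x11 ^ m * (n * τ * n⁻¹)⁻¹ = e.x11 ^ (m * w10) := by
        rw [← hm]
        calc (n * τ * n⁻¹) * (n * e.x10 * n⁻¹) * (n * τ * n⁻¹)⁻¹ = n * (τ * e.x10 * τ⁻¹) * n⁻¹ := by group
          _ = e.x11 ^ (m * w10) := by rw [h10, conj_pow', hm, ← pow_mul]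
      rw [hij, conj_pow', wt11 h, ← pow_mul] at h1
      exact (pow_eq_iff h.p11 h11).1 h1
    · have h1 : (n * τ * n⁻¹) * e.x10 ^ l * (n * τ * n⁻¹)⁻¹ = e.x10 ^ (l * w11) := by
        rw [← hl]
        calc (n * τ * n⁻¹) * (n * e.x11 * n⁻¹) * (n * τ * n⁻¹)⁻¹ = n * (τ * e.x11 * τ⁻¹) * n⁻¹ := by group
          _ = e.x10 ^ (l * w11) := by rw [h11', conj_pow', hl, ← pow_mul]
      rw [hij, conj_pow', wt10 h, ← pow_mul] at h1
      exact (pow_eq_iff h.p10 (x10_ne h h11)).1 h1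
  constructor
  · obtain ⟨i, hi, j, hj, hij, e1, e2⟩ := key e.t6 3 2 (by unfold LyHexCount.T; mem_word) h.s610 h.s611
    have : i = 3 ∧ j = 0 := by
      interval_cases i <;> interval_cases j <;> norm_num at e1 e2 ⊢ <;> omega
    rw [hij, this.1, this.2, pow_zero, mul_one]
  · obtain ⟨i, hi, j, hj, hij, e1, e2⟩ := key e.t7 3 1 (by unfold LyHexCount.T; mem_word) h.s710
      (by rw [pow_one]; exact h.s711)
    have : i = 3 ∧ j = 1 := by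
      interval_cases i <;> interval_cases j <;> norm_num at e1 e2 ⊢ <;> omega
    rw [hij, this.1, this.2, pow_one]

include h h11 hc in
theorem Pre.conj_R {n : H} (k : Pre e n) : ∀ r ∈ R e, n * r * n⁻¹ ∈ R e := by
  intro r hr
  obtain ⟨m, hm0, hm⟩ := k.exists10 h h11
  obtain ⟨l, hl0, hl⟩ := k.exists11 h h11
  have c10 := comm_R10 h r hr
  have c11 := comm_R11 h r hr
  have a11 : e.x11 ∈ centralizer ({n * r * n⁻¹} : Set H) := by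
    apply mem_of_pow_mem h.p11 (a := m) _ hm0
    rw [mem_centralizer_singleton_iff, ← hm]
    calc n * e.x10 * n⁻¹ * (n * r * n⁻¹) = n * (e.x10 * r) * n⁻¹ := by group
      _ = n * r * n⁻¹ * (n * e.x10 * n⁻¹) := by rw [c10]; group
  have a10 : e.x10 ∈ centralizer ({n * r * n⁻¹} : Set H) := by
    apply mem_of_pow_mem h.p10 (a := l) _ hl0
    rw [mem_centralizer_singleton_iff, ← hl]
    calc n * e.x11 * n⁻¹ * (n * r * n⁻¹) = n * (e.x11 * r) * n⁻¹ := by group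
      _ = n * r * n⁻¹ * (n * e.x11 * n⁻¹) := by rw [c11]; group
  exact hc _ (mem_centralizer_singleton_iff.1 a10).symm (mem_centralizer_singleton_iff.1 a11).symm

include h h11 in
theorem Pre.torus_pow {n : H} (k : Pre e n) (i j : ℕ) :
    n * (e.t6 ^ i * e.t7 ^ j) * n⁻¹ = e.t6 ^ (3 * i + 3 * j) * e.t7 ^ j := by
  obtain ⟨h1, h2⟩ := k.torus h h11
  have hcom : Commute e.t6 e.t7 := h.q67
  calc n * (e.t6 ^ i * e.t7 ^ j) * n⁻¹ = (n * e.t6 * n⁻¹) ^ i * (n * e.t7 * n⁻¹) ^ j := by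
        rw [← conj_pow', ← conj_pow']; group
    _ = e.t6 ^ (3 * i + 3 * j) * e.t7 ^ j := by
        rw [h1, h2, (hcom.pow_left 3).mul_pow, ← pow_mul, ← pow_mul, pow_add, mul_assoc]

include h h11 h7 hc in
theorem Pre.n7 {n : H} (k : Pre e n) : ∃ b : ℕ, b % 5 ≠ 0 ∧ n * e.x7 * n⁻¹ = e.x8 ^ b := by
  have hR : n * e.x7 * n⁻¹ ∈ R e := k.conj_R h h11 hc _ (by unfold R; mem_word)
  have hfix : (e.t6 ^ 1 * e.t7 ^ 1) * (n * e.x7 * n⁻¹) * (e.t6 ^ 1 * e.t7 ^ 1)⁻¹ = n * e.x7 * n⁻¹ := by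
    have h1 : e.t6 ^ 1 * e.t7 ^ 1 = n * (e.t6 ^ 2 * e.t7 ^ 1) * n⁻¹ := by
      rw [k.torus_pow h h11, pow_congr4 h.q6 (a := 3 * 2 + 3 * 1) (b := 1) (by norm_num)]
    rw [h1]
    calc n * (e.t6 ^ 2 * e.t7 ^ 1) * n⁻¹ * (n * e.x7 * n⁻¹) * (n * (e.t6 ^ 2 * e.t7 ^ 1) * n⁻¹)⁻¹
        = n * ((e.t6 ^ 2 * e.t7 ^ 1) * e.x7 * (e.t6 ^ 2 * e.t7 ^ 1)⁻¹) * n⁻¹ := by group
      _ = n * e.x7 * n⁻¹ := by rw [wt7 h, pow_congr h.p7 (b := 1) (by norm_num), pow_one]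
  obtain ⟨b, hb⟩ := CR8 h h11 h7 hR hfix
  refine ⟨b, fun h0 => h7 ?_, hb⟩
  rw [pow_congr h.p8 (a := b) (b := 0) h0, pow_zero, mul_inv_eq_one] at hb
  rw [mul_eq_left.1 hb]; exact one_mem _

include h h11 h7 hc in
theorem Pre.n8 {n : H} (k : Pre e n) : ∃ b : ℕ, b % 5 ≠ 0 ∧ n * e.x8 * n⁻¹ = e.x7 ^ b := by
  have hR : n * e.x8 * n⁻¹ ∈ R e := k.conj_R h h11 hc _ (by unfold R; mem_word)
  have hfix : (e.t6 ^ 2 * e.t7 ^ 1) * (n * e.x8 * n⁻¹) * (e.t6 ^ 2 * e.t7 ^ 1)⁻¹ = n * e.x8 * n⁻¹ := by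
    have h1 : e.t6 ^ 2 * e.t7 ^ 1 = n * (e.t6 ^ 1 * e.t7 ^ 1) * n⁻¹ := by
      rw [k.torus_pow h h11, pow_congr4 h.q6 (a := 3 * 1 + 3 * 1) (b := 2) (by norm_num)]
    rw [h1]
    calc n * (e.t6 ^ 1 * e.t7 ^ 1) * n⁻¹ * (n * e.x8 * n⁻¹) * (n * (e.t6 ^ 1 * e.t7 ^ 1) * n⁻¹)⁻¹
        = n * ((e.t6 ^ 1 * e.t7 ^ 1) * e.x8 * (e.t6 ^ 1 * e.t7 ^ 1)⁻¹) * n⁻¹ := by group
      _ = n * e.x8 * n⁻¹ := by rw [wt8 h, pow_congr h.p8 (b := 1) (by norm_num), pow_one]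
  obtain ⟨b, hb⟩ := CR7 h h11 h7 hR hfix
  refine ⟨b, fun h0 => x8_ne h h11 ?_, hb⟩
  rw [pow_congr h.p7 (a := b) (b := 0) h0, pow_zero, mul_inv_eq_one] at hb
  exact mul_eq_left.1 hb

include h h11 h7 hc in
theorem Pre.n9 {n : H} (k : Pre e n) : ∃ b : ℕ, n * e.x9 * n⁻¹ = e.x9 ^ b := by
  have hR : n * e.x9 * n⁻¹ ∈ R e := k.conj_R h h11 hc _ (by unfold R; mem_word)
  have hfix : (e.t6 ^ 3 * e.t7 ^ 0) * (n * e.x9 * n⁻¹) * (e.t6 ^ 3 * e.t7 ^ 0)⁻¹ = n * e.x9 * n⁻¹ := by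
    have h1 : e.t6 ^ 3 * e.t7 ^ 0 = n * (e.t6 ^ 1 * e.t7 ^ 0) * n⁻¹ := by
      rw [k.torus_pow h h11]
    rw [h1]
    calc n * (e.t6 ^ 1 * e.t7 ^ 0) * n⁻¹ * (n * e.x9 * n⁻¹) * (n * (e.t6 ^ 1 * e.t7 ^ 0) * n⁻¹)⁻¹
        = n * ((e.t6 ^ 1 * e.t7 ^ 0) * e.x9 * (e.t6 ^ 1 * e.t7 ^ 0)⁻¹) * n⁻¹ := by group
      _ = n * e.x9 * n⁻¹ := by rw [wt9 h, pow_congr h.p9 (b := 1) (by norm_num), pow_one]
  exact CR9 h h11 h7 hR hfix

include h h11 h7 hc in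
/-- Adjustment by a torus element. -/
theorem Pre.adjust {n : H} (k : Pre e n) :
    ∃ N : H, Pre e N ∧ N * e.x7 * N⁻¹ = e.x8 ∧ N * e.x8 * N⁻¹ = e.x7 ^ 4 := by
  obtain ⟨b, hb0, hb⟩ := k.n7 h h11 h7 hc
  obtain ⟨a, ha0, ha⟩ := k.n8 h h11 h7 hc
  obtain ⟨i, j, e1, e2⟩ : ∃ i j : ℕ, (2 ^ i * 3 ^ j * b) % 5 = 1 ∧ (3 ^ i * 4 ^ j * a) % 5 = 4 := by
    have h1 : ∀ b a : Fin 5, b.val ≠ 0 → a.val ≠ 0 → ∃ i j : Fin 4,
        (2 ^ i.val * 3 ^ j.val * b.val) % 5 = 1 ∧ (3 ^ i.val * 4 ^ j.val * a.val) % 5 = 4 := by decide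
    obtain ⟨i, j, e1, e2⟩ := h1 ⟨b % 5, Nat.mod_lt _ (by norm_num)⟩ ⟨a % 5, Nat.mod_lt _ (by norm_num)⟩ hb0 ha0
    exact ⟨i, j, by simpa [Nat.mul_mod] using e1, by simpa [Nat.mul_mod] using e2⟩
  set τ := e.t6 ^ i * e.t7 ^ j with hτ
  have hτT : τ ∈ T e := by unfold LyHexCount.T; rw [hτ]; mem_word
  refine ⟨τ * n, ⟨?_, ?_, ?_⟩, ?_, ?_⟩
  · intro σ hσ
    have : τ * n * σ * (τ * n)⁻¹ = τ * (n * σ * n⁻¹) * τ⁻¹ := by group
    rw [this]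
    exact mul_mem (mul_mem hτT (k.torusMem σ hσ)) (inv_mem hτT)
  · have : τ * n * e.x10 * (τ * n)⁻¹ = τ * (n * e.x10 * n⁻¹) * τ⁻¹ := by group
    rw [this]
    exact conj_mem_of_zpowers (by rw [hτ, wt11 h]; exact npow_mem_zpowers _ _) _ k.n10
  · have : τ * n * e.x11 * (τ * n)⁻¹ = τ * (n * e.x11 * n⁻¹) * τ⁻¹ := by group
    rw [this]
    exact conj_mem_of_zpowers (by rw [hτ, wt10 h]; exact npow_mem_zpowers _ _) _ k.n11
  · have : τ * n * e.x7 * (τ * n)⁻¹ = τ * (n * e.x7 * n⁻¹) * τ⁻¹ := by group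
    rw [this, hb, conj_pow', hτ, wt8 h, ← pow_mul, pow_congr h.p8 (b := 1) (by omega), pow_one]
  · have : τ * n * e.x8 * (τ * n)⁻¹ = τ * (n * e.x8 * n⁻¹) * τ⁻¹ := by group
    rw [this, ha, conj_pow', hτ, wt7 h, ← pow_mul]
    exact pow_congr h.p7 (by omega)

/-! #### Commutator computations -/

include h in
theorem x8x9 (c : ℕ) : e.x8 * e.x9 ^ c * e.x8⁻¹ = e.x11 ^ (3 * c) * e.x9 ^ c := by
  have hcom : Commute (e.x11 ^ 3) e.x9 := Commute.pow_left (show Commute e.x11 e.x9 from h.c911.symm) 3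
  rw [conj_pow', conj_of_comm h.c89, hcom.mul_pow, ← pow_mul]

include h in
theorem x7x9 (c : ℕ) : e.x7 * e.x9 ^ c * e.x7⁻¹ = e.x10 ^ (3 * c) * e.x9 ^ c := by
  have hcom : Commute (e.x10 ^ 3) e.x9 := Commute.pow_left (show Commute e.x10 e.x9 from h.c910.symm) 3
  rw [conj_pow', conj_of_comm h.c79, hcom.mul_pow, ← pow_mul]

include h in
theorem x7kx9 (j c : ℕ) : e.x7 ^ j * e.x9 ^ c * (e.x7 ^ j)⁻¹ = e.x10 ^ (3 * c * j) * e.x9 ^ c := by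
  have hcom : Commute e.x7 e.x10 := h.c710
  induction j with
  | zero => simp
  | succ j ih =>
    have h1 : e.x7 * e.x10 ^ (3 * c * j) * e.x7⁻¹ = e.x10 ^ (3 * c * j) := by
      rw [(hcom.pow_right _).eq, mul_inv_cancel_right]
    calc e.x7 ^ (j + 1) * e.x9 ^ c * (e.x7 ^ (j + 1))⁻¹
        = e.x7 * (e.x7 ^ j * e.x9 ^ c * (e.x7 ^ j)⁻¹) * e.x7⁻¹ := by rw [pow_succ']; group
      _ = (e.x7 * e.x10 ^ (3 * c * j) * e.x7⁻¹) * (e.x7 * e.x9 ^ c * e.x7⁻¹) := by rw [ih]; group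
      _ = e.x10 ^ (3 * c * (j + 1)) * e.x9 ^ c := by
        rw [h1, x7x9 h, ← mul_assoc, ← pow_add]
        congr 2

include h in
/-- `[x₈, x₇⁴] = x₉³ x₁₀³ x₁₁²` -/
theorem c87 : e.x8 * e.x7 ^ 4 * e.x8⁻¹ * (e.x7 ^ 4)⁻¹ = e.x9 ^ 3 * (e.x10 ^ 3 * e.x11 ^ 2) := by
  have h4 : e.x7 ^ 4 = e.x7⁻¹ := by
    rw [eq_inv_iff_mul_eq_one, ← pow_succ, h.p7]
  have hw := h.c78
  have c7_10 : Commute e.x7 e.x10 := h.c710
  have c7_11 : Commute e.x7 e.x11 := h.c711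
  have c9_10 : Commute e.x9 e.x10 := h.c910
  -- `x₈ x₇⁻¹ x₈⁻¹ x₇ = x₇⁻¹ w x₇`
  have e1 : e.x8 * e.x7⁻¹ * e.x8⁻¹ * e.x7 = e.x7⁻¹ * (e.x9 ^ 3 * e.x10 ^ 2 * e.x11 ^ 2) * e.x7 := by
    rw [← hw]; group
  -- `x₇⁻¹ x₉³ x₇ = x₁₀ x₉³`
  have e2 : e.x7⁻¹ * e.x9 ^ 3 * e.x7 = e.x10 * e.x9 ^ 3 := by
    have h1 := x7kx9 h 4 3
    rw [h4, inv_inv] at h1
    rw [h1, pow_congr h.p10 (b := 1) (by norm_num), pow_one]
  have e3 : e.x7⁻¹ * e.x10 ^ 2 * e.x7 = e.x10 ^ 2 := by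
    rw [mul_assoc, ← (c7_10.pow_right 2).eq, inv_mul_cancel_left]
  have e4 : e.x7⁻¹ * e.x11 ^ 2 * e.x7 = e.x11 ^ 2 := by
    rw [mul_assoc, ← (c7_11.pow_right 2).eq, inv_mul_cancel_left]
  rw [h4, inv_inv, e1]
  calc e.x7⁻¹ * (e.x9 ^ 3 * e.x10 ^ 2 * e.x11 ^ 2) * e.x7
      = (e.x7⁻¹ * e.x9 ^ 3 * e.x7) * (e.x7⁻¹ * e.x10 ^ 2 * e.x7) * (e.x7⁻¹ * e.x11 ^ 2 * e.x7) := by group
    _ = e.x10 * e.x9 ^ 3 * e.x10 ^ 2 * e.x11 ^ 2 := by rw [e2, e3, e4]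
    _ = e.x9 ^ 3 * (e.x10 ^ 3 * e.x11 ^ 2) := by
      rw [← (c9_10.pow_left 3).eq, pow_succ' e.x10 2]; group

include h h11 h7 hc in
/-- The relations for the action on the root elements. -/
theorem Pre.roots {N : H} (k : Pre e N) (k7 : N * e.x7 * N⁻¹ = e.x8) (k8 : N * e.x8 * N⁻¹ = e.x7 ^ 4) :
    N * e.x9 * N⁻¹ = e.x9 ∧ N * e.x10 * N⁻¹ = e.x11 ∧ N * e.x11 * N⁻¹ = e.x10 ^ 4 := by
  obtain ⟨m, hm0, hm⟩ := k.exists10 h h11
  obtain ⟨l, hl0, hl⟩ := k.exists11 h h11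
  obtain ⟨c, hcc⟩ := k.n9 h h11 h7 hc
  have q1 : e.x11 ^ (3 * c) = e.x11 ^ (m * 3) := by
    have h1 : N * (e.x7 * e.x9 * e.x7⁻¹ * e.x9⁻¹) * N⁻¹ = N * e.x10 ^ 3 * N⁻¹ := by rw [h.c79]
    rw [conj_pow' N e.x10 3, hm, ← pow_mul] at h1
    rw [← h1]
    calc e.x11 ^ (3 * c) = (e.x8 * e.x9 ^ c * e.x8⁻¹) * (e.x9 ^ c)⁻¹ := by rw [x8x9 h, mul_inv_cancel_right]
      _ = N * (e.x7 * e.x9 * e.x7⁻¹ * e.x9⁻¹) * N⁻¹ := by rw [← hcc, ← k7]; group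
  have q2 : e.x10 ^ (3 * c * 4) = e.x10 ^ (l * 3) := by
    have h1 : N * (e.x8 * e.x9 * e.x8⁻¹ * e.x9⁻¹) * N⁻¹ = N * e.x11 ^ 3 * N⁻¹ := by rw [h.c89]
    rw [conj_pow' N e.x11 3, hl, ← pow_mul] at h1
    rw [← h1]
    calc e.x10 ^ (3 * c * 4) = (e.x7 ^ 4 * e.x9 ^ c * (e.x7 ^ 4)⁻¹) * (e.x9 ^ c)⁻¹ := by
          rw [x7kx9 h, mul_inv_cancel_right]
      _ = N * (e.x8 * e.x9 * e.x8⁻¹ * e.x9⁻¹) * N⁻¹ := by rw [← hcc, ← k8]; group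
  have q5 : e.x9 ^ 3 * (e.x10 ^ 3 * e.x11 ^ 2) = e.x9 ^ (c * 3) * (e.x11 ^ (m * 2) * e.x10 ^ (l * 2)) := by
    have h1 : N * (e.x7 * e.x8 * e.x7⁻¹ * e.x8⁻¹) * N⁻¹ = N * (e.x9 ^ 3 * e.x10 ^ 2 * e.x11 ^ 2) * N⁻¹ := by rw [h.c78]
    have h2 : N * (e.x7 * e.x8 * e.x7⁻¹ * e.x8⁻¹) * N⁻¹ = e.x8 * e.x7 ^ 4 * e.x8⁻¹ * (e.x7 ^ 4)⁻¹ := by
      rw [← k8, ← k7]; group
    have h3 : N * (e.x9 ^ 3 * e.x10 ^ 2 * e.x11 ^ 2) * N⁻¹ =
        (N * e.x9 ^ 3 * N⁻¹) * (N * e.x10 ^ 2 * N⁻¹) * (N * e.x11 ^ 2 * N⁻¹) := by group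
    rw [h2, c87 h, h3, conj_pow', conj_pow', conj_pow', hcc, hm, hl, ← pow_mul, ← pow_mul, ← pow_mul] at h1
    rw [h1, mul_assoc]
  have hc1 : c % 5 = 1 := by
    by_contra hne
    apply x9_not h h11
    have h1 : e.x9 ^ (c * 3 + 4 * 3) ∈ K10 e := by
      have h2 : e.x9 ^ (c * 3 + 4 * 3) = (e.x10 ^ 3 * e.x11 ^ 2) * (e.x11 ^ (m * 2) * e.x10 ^ (l * 2))⁻¹ := by
        have h4 : e.x9 ^ (4 * 3) = (e.x9 ^ 3)⁻¹ := by
          rw [eq_inv_iff_mul_eq_one, ← pow_add, pow_congr h.p9 (b := 0) (by norm_num), pow_zero]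
        rw [add_comm, pow_add, h4, eq_mul_inv_iff_mul_eq, mul_assoc, ← q5, inv_mul_cancel_left]
      rw [h2]
      unfold K10
      mem_word
    exact mem_of_pow_mem h.p9 h1 (by omega)
  have hm1 : m % 5 = 1 := by
    have := (pow_eq_iff h.p11 h11).1 q1
    omega
  have hl1 : l % 5 = 4 := by
    have := (pow_eq_iff h.p10 (x10_ne h h11)).1 q2
    omega
  refine ⟨?_, ?_, ?_⟩
  · rw [hcc, pow_congr h.p9 (b := 1) (by omega), pow_one]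
  · rw [hm, pow_congr h.p11 (b := 1) (by omega), pow_one]
  · rw [hl, pow_congr h.p10 (b := 4) (by omega)]

end main

end Cfsg.Agent.SporRec.LyHexAct
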