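import Cfsg.Agent.SporRec.LyHexIn
import Cfsg.Agent.R10.NGenW

/-!
# Groups of Lyons type: the centraliser of `U₂ = ⟨x₁₀, x₁₁⟩`

`cent_U2`: an element commuting with `x₁₀` and `x₁₁` lies in `R = ⟨x₇, …, x₁₁⟩`.
-/

set_option autoImplicit false
set_option linter.dupNamespace false

namespace Cfsg.Agent.SporRec.LyHexB1

open Subgroup Equiv Cfsg.Agent.SporRec.TwoAn Cfsg.Agent.SporRec.LyType Cfsg.Agent.SporRec.LyFive
open Cfsg.Agent.SporRec.LyHexRel Cfsg.Agent.SporRec.LyHexCount Cfsg.Agent.SporRec.LyHexIn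
open Cfsg.Agent.R10

/-! ### Permutations of eleven points -/

section perm

theorem p11_pow_five : p11 ^ 5 = 1 := by decide +kernel

theorem exists_pow_p11 : ∀ y : Fin 11, p11 y ≠ y → ∃ k : Fin 5, (p11 ^ (k : ℕ)) 5 = y := by decide +kernel

theorem comm_p11 {σ : Perm (Fin 11)} (h : σ * p11 = p11 * σ) :
    ∃ k : Fin 5, ∀ y, p11 y ≠ y → σ y = (p11 ^ (k : ℕ)) y := by
  have h1 : p11 (σ 5) ≠ σ 5 := by
    intro h2
    have h3 : σ (p11 5) = σ 5 := by
      have := congrArg (fun τ : Perm (Fin 11) => τ 5) h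
      simp only [Perm.mul_apply] at this
      rw [this, h2]
    exact absurd (σ.injective h3) (by decide)
  obtain ⟨k, hk⟩ := exists_pow_p11 _ h1
  refine ⟨k, fun y hy => ?_⟩
  obtain ⟨j, rfl⟩ := exists_pow_p11 y hy
  have hc : Commute σ p11 := h
  have h2 : σ * p11 ^ (j : ℕ) = p11 ^ (j : ℕ) * σ := (hc.pow_right _).eq
  have h3 := congrArg (fun τ : Perm (Fin 11) => τ 5) h2
  simp only [Perm.mul_apply] at h3
  rw [h3, ← hk, ← Perm.mul_apply, ← Perm.mul_apply, ← pow_add, ← pow_add, add_comm]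

theorem fix_of_comm {σ : Perm (Fin 11)} (h : σ * p11 = p11 * σ) {y : Fin 11} (hy : p11 y = y) :
    p11 (σ y) = σ y := by
  have := congrArg (fun τ : Perm (Fin 11) => τ y) h
  simp only [Perm.mul_apply] at this
  rw [← this, hy]

theorem card_fix : ({y : Fin 11 | p11 y = y} : Set (Fin 11)).ncard = 6 := by
  rw [Set.ncard_eq_toFinset_card']
  decide +kernel

theorem cover_fix : ∀ a y : Fin 11, p11 a = a → a ≠ 10 → p11 y = y → y ≠ 10 →
    ∃ i : Fin 5, (p7 ^ (i : ℕ)) a = y := by decide +kernel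

theorem sq_fix : ∀ k : Fin 5, (p11 ^ (k : ℕ)) ((p11 ^ (k : ℕ)) 5) = 5 → k = 0 := by decide +kernel

/-- An involution commuting with the five-cycle `p11` moves at most six points. -/
theorem card_support_le {σ : Perm (Fin 11)} (h : σ * p11 = p11 * σ) (h2 : σ * σ = 1) : σ.support.card ≤ 6 := by
  obtain ⟨k, hk⟩ := comm_p11 h
  have h5 : p11 5 ≠ 5 := by decide +kernel
  have h6 : p11 ((p11 ^ (k : ℕ)) 5) ≠ (p11 ^ (k : ℕ)) 5 := by
    rw [← Perm.mul_apply, ← pow_succ', pow_succ, Perm.mul_apply]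
    exact fun h7 => h5 ((p11 ^ (k : ℕ)).injective h7)
  have h3 : (p11 ^ (k : ℕ)) ((p11 ^ (k : ℕ)) 5) = 5 := by
    rw [← hk _ h6, ← hk _ h5, ← Perm.mul_apply, h2, Perm.one_apply]
  have hk0 := sq_fix k h3
  subst hk0
  have h4 : σ.support ⊆ {0, 1, 2, 3, 4, 10} := by
    intro y hy
    rw [Perm.mem_support] at hy
    by_contra h8
    apply hy
    have : ∀ y : Fin 11, y ∉ ({0, 1, 2, 3, 4, 10} : Finset (Fin 11)) → p11 y ≠ y := by decide +kernel
    rw [hk y (this y h8)]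
    rfl
  exact (Finset.card_le_card h4).trans (by decide)

/-- Points of the five-cycle `p7`. -/
abbrev Om : Type := {y : Fin 11 // y.val < 5}

/-- `p7` on its support. -/
def q7 : Perm Om := swap ⟨0, by decide⟩ ⟨1, by decide⟩ * swap ⟨1, by decide⟩ ⟨2, by decide⟩ *
  swap ⟨2, by decide⟩ ⟨3, by decide⟩ * swap ⟨3, by decide⟩ ⟨4, by decide⟩

theorem ofSubtype_q7 : Perm.ofSubtype q7 = p7 := by decide +kernel

theorem coset_perm : ∀ τ : Perm Om, (∃ i : Fin 5, τ = q7 ^ (i : ℕ)) ∨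
    (∃ i : Fin 5, (τ * q7 ^ (i : ℕ)) ^ 12 = 1 ∧ (τ * q7 ^ (i : ℕ)) ^ 3 ≠ 1) := by decide +kernel

/-- A group of permutations of odd order commuting with `p11` and containing `p7`: elements fixing the support of
`p11` are powers of `p7`. -/
theorem mem_of_odd {H : Subgroup (Perm (Fin 11))} (hodd : ¬ 2 ∣ Nat.card H) (hc : ∀ σ ∈ H, σ * p11 = p11 * σ)
    (h7 : p7 ∈ H) {σ : Perm (Fin 11)} (hσ : σ ∈ H) (hfix : ∀ y, p11 y ≠ y → σ y = y) :
    ∃ i : Fin 5, σ = p7 ^ (i : ℕ) := by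
  classical
  -- `σ` fixes `10`
  have h10 : σ 10 = 10 := by
    by_contra hne
    have hp : p11 10 = 10 := by decide +kernel
    have horb : MulAction.orbit H (10 : Fin 11) = {y : Fin 11 | p11 y = y} := by
      ext y
      rw [MulAction.mem_orbit_iff, Set.mem_ofPred_eq]
      constructor
      · rintro ⟨τ, rfl⟩
        exact fix_of_comm (hc _ τ.2) hp
      · intro hy
        by_cases hy10 : y = 10
        · exact ⟨1, by rw [hy10]; rfl⟩
        · obtain ⟨i, hi⟩ := cover_fix (σ 10) y (fix_of_comm (hc _ hσ) hp) hne hy hy10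
          exact ⟨⟨p7 ^ (i : ℕ) * σ, mul_mem (pow_mem h7 _) hσ⟩, hi⟩
    have h1 := MulAction.index_stabilizer H (10 : Fin 11)
    rw [horb, card_fix] at h1
    apply hodd
    have h2 := Subgroup.index_dvd_card (MulAction.stabilizer H (10 : Fin 11))
    rw [h1] at h2
    exact (show 2 ∣ 6 by decide).trans h2
  -- reduce to five points
  have hlt : ∀ y : Fin 11, ¬ y.val < 5 → σ y = y := by
    intro y hy
    have : ∀ y : Fin 11, ¬ y.val < 5 → p11 y ≠ y ∨ y = 10 := by decide +kernel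
    rcases this y hy with h | h
    · exact hfix y h
    · rw [h, h10]
  have hp1 : ∀ y : Fin 11, (σ y).val < 5 ↔ y.val < 5 := by
    intro y
    constructor
    · intro hy
      by_contra hn
      rw [hlt y hn] at hy
      exact hn hy
    · intro hy
      by_contra hn
      have := hlt _ hn
      rw [EmbeddingLike.apply_eq_iff_eq] at this
      rw [this] at hn
      exact hn hy
  have hp2 : ∀ y : Fin 11, σ y ≠ y → y.val < 5 := fun y hy => by
    by_contra hn
    exact hy (hlt y hn)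
  have h3 := Perm.ofSubtype_subtypePerm hp1 hp2
  set τ : Perm Om := σ.subtypePerm hp1 with hτ
  rcases coset_perm τ with ⟨i, hi⟩ | ⟨i, hi, hi3⟩
  · refine ⟨i, ?_⟩
    rw [← h3, hi, map_pow, ofSubtype_q7]
  · exfalso
    set ρ : Perm (Fin 11) := (σ * p7 ^ (i : ℕ)) ^ 3 with hρ
    have h4 : ρ ∈ H := pow_mem (mul_mem hσ (pow_mem h7 _)) 3
    have h5 : ρ = Perm.ofSubtype ((τ * q7 ^ (i : ℕ)) ^ 3) := by
      rw [hρ, map_pow, map_mul, map_pow, ofSubtype_q7, h3]
    have h6 : ρ ^ 4 = 1 := by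
      rw [h5, ← map_pow, ← pow_mul, hi, map_one]
    have h7 : ρ ≠ 1 := by
      intro h
      rw [h5] at h
      exact hi3 (Perm.ofSubtype_injective (h.trans (map_one _).symm))
    have h8 : orderOf ρ ∣ 4 := orderOf_dvd_of_pow_eq_one h6
    have h9 : orderOf ρ ≠ 1 := fun h => h7 (orderOf_eq_one_iff.1 h)
    have h10' : 2 ∣ orderOf ρ := by
      have h11 : orderOf ρ ∈ Nat.divisors 4 := Nat.mem_divisors.2 ⟨h8, by decide⟩
      have h12 : Nat.divisors 4 = {1, 2, 4} := by decide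
      rw [h12] at h11
      simp only [Finset.mem_insert, Finset.mem_singleton] at h11
      omega
    exact hodd (h10'.trans (H.orderOf_dvd_natCard h4))

end perm

/-! ### The group of elements normalising `x₁₀ ⟨x₁₁⟩` -/

section group

variable {G : Type*} [Group G] {L : LyType G} {F : LyFive L} (I : HexIn F)

theorem zpowers_x11 : zpowers I.e.x11 = zpowers F.f := by
  have h5 : Fact (Nat.Prime 5) := ⟨by decide⟩
  have h1 : zpowers I.e.x11 ≤ zpowers F.f := zpowers_le.2 I.m11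
  refine Subgroup.eq_of_le_of_card_ge h1 ?_
  rw [NGenW.card_zpowers_f, Nat.card_zpowers, orderOf_eq_prime I.rel.p11 I.x11_ne]

theorem x10_notMem : I.e.x10 ∉ zpowers F.f := by
  intro h
  have h1 := NGenW.commute_of_mem F h I.m6
  have h2 := I.rel.c610
  rw [h1] at h2
  apply I.x11_ne
  rw [← h2]; group

/-- The elements of `C_G(t) ∩ C_G(x₁₁)` normalising `x₁₀ ⟨x₁₁⟩`. -/
def S : Subgroup G where
  carrier := {c | c * L.t = L.t * c ∧ c * I.e.x11 = I.e.x11 * c ∧ ∃ z ∈ zpowers I.e.x11, c * I.e.x10 = z * I.e.x10 * c}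
  one_mem' := ⟨by simp, by simp, 1, one_mem _, by simp⟩
  mul_mem' := by
    rintro c d ⟨hc1, hc2, z, hz, hc⟩ ⟨hd1, hd2, w, hw, hd⟩
    have hcw : c * w = w * c := by
      obtain ⟨k, rfl⟩ := mem_zpowers_iff.1 hw
      exact (Commute.zpow_right (show Commute c I.e.x11 from hc2) k).eq
    refine ⟨?_, ?_, z * w, mul_mem hz hw, ?_⟩
    · rw [mul_assoc, hd1, ← mul_assoc, hc1, mul_assoc]
    · rw [mul_assoc, hd2, ← mul_assoc, hc2, mul_assoc]
    · have hzw : z * w = w * z := by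
        obtain ⟨k, rfl⟩ := mem_zpowers_iff.1 hz
        obtain ⟨l, rfl⟩ := mem_zpowers_iff.1 hw
        rw [← zpow_add, ← zpow_add, add_comm]
      calc c * d * I.e.x10 = c * (d * I.e.x10) := by group
        _ = c * (w * I.e.x10 * d) := by rw [hd]
        _ = (c * w) * I.e.x10 * d := by group
        _ = w * (c * I.e.x10) * d := by rw [hcw]; group
        _ = w * (z * I.e.x10 * c) * d := by rw [hc]
        _ = (w * z) * I.e.x10 * (c * d) := by group
        _ = _ := by rw [hzw]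
  inv_mem' := by
    rintro c ⟨hc1, hc2, z, hz, hc⟩
    have hcz : c * z = z * c := by
      obtain ⟨k, rfl⟩ := mem_zpowers_iff.1 hz
      exact (Commute.zpow_right (show Commute c I.e.x11 from hc2) k).eq
    refine ⟨?_, ?_, z⁻¹, inv_mem hz, ?_⟩
    · rw [inv_mul_eq_iff_eq_mul, ← mul_assoc, hc1, mul_inv_cancel_right]
    · rw [inv_mul_eq_iff_eq_mul, ← mul_assoc, hc2, mul_inv_cancel_right]
    · rw [inv_mul_eq_iff_eq_mul]
      have hcz' : c * z⁻¹ = z⁻¹ * c := by
        rw [eq_inv_mul_iff_mul_eq, ← mul_assoc, ← hcz, mul_inv_cancel_right]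
      calc I.e.x10 = z⁻¹ * (z * I.e.x10 * c) * c⁻¹ := by group
        _ = z⁻¹ * (c * I.e.x10) * c⁻¹ := by rw [hc]
        _ = (z⁻¹ * c) * I.e.x10 * c⁻¹ := by group
        _ = c * (z⁻¹ * I.e.x10 * c⁻¹) := by rw [← hcz']; group

theorem mem_S {c : G} : c ∈ S I ↔ c * L.t = L.t * c ∧ c * I.e.x11 = I.e.x11 * c ∧
    ∃ z ∈ zpowers I.e.x11, c * I.e.x10 = z * I.e.x10 * c := Iff.rfl

theorem x7_mem : I.e.x7 ∈ S I :=
  ⟨I.k7, I.rel.c711, 1, one_mem _, by rw [one_mul]; exact I.rel.c710⟩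

theorem x11_mem : I.e.x11 ∈ S I :=
  ⟨I.k11, rfl, 1, one_mem _, by rw [one_mul]; exact I.rel.c1011.symm⟩

theorem t_notMem : L.t ∉ S I := by
  rintro ⟨-, -, z, hz, h⟩
  rw [zpowers_x11] at hz
  have h1 := F.inv_t _ I.m10
  have h2 : L.t * I.e.x10 * L.t⁻¹ * I.e.x10 = z * I.e.x10 ^ 2 := by
    rw [h, pow_two]; group
  rw [h2] at h1
  have h3 : I.e.x10 ^ 2 ∈ zpowers F.f := by
    have := mul_mem (inv_mem hz) h1
    rwa [inv_mul_cancel_left] at this
  apply x10_notMem I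
  have h4 : I.e.x10 = (I.e.x10 ^ 2) ^ 3 := by
    rw [← pow_mul, show 2 * 3 = 5 + 1 from rfl, pow_succ, I.rel.p10, one_mul]
  rw [h4]
  exact pow_mem h3 3

/-- The projection of `S` to `A₁₁`. -/
def φ : S I →* Perm (Fin 11) :=
  L.K.π.comp (Subgroup.inclusion (show S I ≤ centralizer ({L.t} : Set G) from fun _ hc => L.mem_iff.2 hc.1))

theorem φ_apply {c : G} (hc : c ∈ S I) : φ I ⟨c, hc⟩ = L.K.π ⟨c, L.mem_iff.2 hc.1⟩ := rfl

theorem φ_comm (c : S I) : φ I c * p11 = p11 * φ I c := by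
  have h : φ I ⟨I.e.x11, x11_mem I⟩ = p11 := I.π11
  rw [← h, ← map_mul, ← map_mul]
  congr 1
  exact Subtype.ext c.2.2.1

theorem φ_ker {c : G} (hc : c ∈ S I) (h : φ I ⟨c, hc⟩ = 1) : c = 1 := by
  rcases (L.K.ker _).1 h with h1 | h1
  · exact congrArg Subtype.val h1
  · exfalso
    have h2 : c = L.t := (congrArg Subtype.val h1).trans L.hz
    exact t_notMem I (h2 ▸ hc)

theorem no_inv {s : G} (hs : s ∈ S I) (h2 : s * s = 1) : s = 1 := by
  apply φ_ker I hs
  by_contra hne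
  have h3 : φ I ⟨s, hs⟩ * φ I ⟨s, hs⟩ = 1 := by
    rw [← map_mul]
    have : (⟨s, hs⟩ : S I) * ⟨s, hs⟩ = 1 := Subtype.ext h2
    rw [this, map_one]
  have h4 := card_support_le (φ_comm I ⟨s, hs⟩) h3
  have h5 : (L.K.π ⟨s, L.mem_iff.2 hs.1⟩).support.card = 8 := by
    refine card_support_eq_eight L.K (by simp) (Subtype.ext h2) ?_ ?_
    · intro h
      exact hne ((L.K.ker _).2 (Or.inl h))
    · intro h
      exact hne ((L.K.ker _).2 (Or.inr h))
  rw [φ_apply, h5] at h4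
  omega

theorem odd_S [Finite G] : ¬ 2 ∣ Nat.card (S I) := by
  intro h
  have : Fact (Nat.Prime 2) := ⟨Nat.prime_two⟩
  obtain ⟨s, hs⟩ := exists_prime_orderOf_dvd_card' 2 h
  have h1 : (s : G) * s = 1 := by
    have := pow_orderOf_eq_one s
    rw [hs, pow_two] at this
    exact congrArg Subtype.val this
  have h2 := no_inv I s.2 h1
  have h3 : s = 1 := Subtype.ext h2
  rw [h3, orderOf_one] at hs
  omega

/-- `S = ⟨x₇, x₁₁⟩`. -/
theorem S_le [Finite G] {c : G} (hc : c ∈ S I) : ∃ i j : ℕ, c = I.e.x7 ^ i * I.e.x11 ^ j := by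
  have hodd : ¬ 2 ∣ Nat.card (φ I).range := fun h => odd_S I (h.trans (Subgroup.card_range_dvd (φ I)))
  have h7 : φ I ⟨I.e.x7, x7_mem I⟩ = p7 := I.π7
  have h11 : φ I ⟨I.e.x11, x11_mem I⟩ = p11 := I.π11
  obtain ⟨k, hk⟩ := comm_p11 (φ_comm I ⟨c, hc⟩)
  -- correct by a power of `x₁₁`
  set j : ℕ := 5 - (k : ℕ) with hj
  have hkj : (k : ℕ) + j = 5 := by omega
  have hd : c * I.e.x11 ^ j ∈ S I := mul_mem hc (pow_mem (x11_mem I) j)
  have hφd : φ I ⟨c * I.e.x11 ^ j, hd⟩ = φ I ⟨c, hc⟩ * p11 ^ j := by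
    rw [← h11, ← map_pow, ← map_mul]; rfl
  have hfix : ∀ y, p11 y ≠ y → φ I ⟨c * I.e.x11 ^ j, hd⟩ y = y := by
    intro y hy
    have hy' : p11 ((p11 ^ j) y) ≠ (p11 ^ j) y := by
      rw [← Perm.mul_apply, ← pow_succ', pow_succ, Perm.mul_apply]
      exact fun h => hy ((p11 ^ j).injective h)
    rw [hφd, Perm.mul_apply, hk _ hy', ← Perm.mul_apply, ← pow_add, hkj, p11_pow_five, Perm.one_apply]
  obtain ⟨i, hi⟩ := mem_of_odd hodd (by rintro _ ⟨s, rfl⟩; exact φ_comm I s) ⟨_, h7⟩ ⟨_, rfl⟩ hfix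
  have he : (I.e.x7 ^ (i : ℕ))⁻¹ * (c * I.e.x11 ^ j) ∈ S I := mul_mem (inv_mem (pow_mem (x7_mem I) _)) hd
  have h1 : φ I ⟨(I.e.x7 ^ (i : ℕ))⁻¹ * (c * I.e.x11 ^ j), he⟩ = 1 := by
    have h2 : (⟨(I.e.x7 ^ (i : ℕ))⁻¹ * (c * I.e.x11 ^ j), he⟩ : S I) =
        ((⟨I.e.x7, x7_mem I⟩ : S I) ^ (i : ℕ))⁻¹ * ⟨c * I.e.x11 ^ j, hd⟩ := rfl
    rw [h2, map_mul, map_inv, map_pow, h7, hi, inv_mul_cancel]
  have h2 := φ_ker I he h1
  refine ⟨i, k, ?_⟩
  rw [inv_mul_eq_one] at h2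
  rw [h2, mul_assoc, ← pow_add, add_comm, hkj, I.rel.p11, mul_one]

/-! ### The extraspecial group -/

theorem comm_eq {a b : G} (ha : a ∈ F.E) (hb : b ∈ F.E) :
    NGenW.β F (NGenW.q F a ha) (NGenW.q F b hb) = 0 ↔ a * b = b * a := by
  constructor
  · intro h
    have h1 := NGenW.β_spec F ha hb
    rw [h, ZMod.val_zero, pow_zero] at h1
    calc a * b = (a * b * a⁻¹ * b⁻¹) * (b * a) := by group
      _ = b * a := by rw [← h1, one_mul]
  · intro h
    apply NGenW.pow_val_inj F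
    rw [NGenW.β_spec F ha hb, ZMod.val_zero, pow_zero, h]
    group

/-- The elements of `E` commuting with `x₁₀`. -/
theorem mem_of_comm {k : G} (hk : k ∈ F.E) (hk10 : k * I.e.x10 = I.e.x10 * k) : k ∈ K8 I.e := by
  have h610 : NGenW.β F (NGenW.q F _ I.m6) (NGenW.q F _ I.m10) ≠ 0 := by
    intro h
    rw [comm_eq] at h
    have h2 := I.rel.c610
    rw [h] at h2
    apply I.x11_ne
    rw [← h2]; group
  have h89 : NGenW.β F (NGenW.q F _ I.m8) (NGenW.q F _ I.m9) ≠ 0 := by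
    intro h
    rw [comm_eq] at h
    have h2 := I.rel.c89
    rw [h] at h2
    apply I.x11_ne
    have h3 : I.e.x11 ^ 3 = 1 := by rw [← h2]; group
    have h5 := I.rel.p11
    calc I.e.x11 = (I.e.x11 ^ 3) ^ 2 * (I.e.x11 ^ 5)⁻¹ := by group
      _ = 1 := by rw [h3, h5]; group
  have h68 := (comm_eq I.m6 I.m8).2 I.rel.c68
  have h69 := (comm_eq I.m6 I.m9).2 I.rel.c69
  have h810 := (comm_eq I.m8 I.m10).2 I.rel.c810
  have h910 := (comm_eq I.m9 I.m10).2 I.rel.c910
  set w6 := NGenW.q F _ I.m6 with hw6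
  set w8 := NGenW.q F _ I.m8 with hw8
  set w9 := NGenW.q F _ I.m9 with hw9
  set w10 := NGenW.q F _ I.m10 with hw10
  have h98 : NGenW.β F w9 w8 ≠ 0 := by
    rw [NGenW.β_neg]; exact neg_ne_zero.2 h89
  have h106 : NGenW.β F w10 w6 ≠ 0 := by
    rw [NGenW.β_neg]; exact neg_ne_zero.2 h610
  have h86 : NGenW.β F w8 w6 = 0 := by rw [NGenW.β_neg, h68, neg_zero]
  have h96 : NGenW.β F w9 w6 = 0 := by rw [NGenW.β_neg, h69, neg_zero]
  have h108 : NGenW.β F w10 w8 = 0 := by rw [NGenW.β_neg, h810, neg_zero]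
  have h109 : NGenW.β F w10 w9 = 0 := by rw [NGenW.β_neg, h910, neg_zero]
  have hli : LinearIndependent (ZMod 5) ![w6, w8, w9, w10] := by
    rw [Fintype.linearIndependent_iff]
    intro c hc
    rw [Fin.sum_univ_four] at hc
    simp only [Matrix.cons_val_zero, Matrix.cons_val_one, Matrix.cons_val] at hc
    have e10 := congrArg (fun v => NGenW.β F v w10) hc
    have e9 := congrArg (fun v => NGenW.β F v w9) hc
    have e8 := congrArg (fun v => NGenW.β F v w8) hc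
    have e6 := congrArg (fun v => NGenW.β F v w6) hc
    simp only [map_add, map_smul, LinearMap.add_apply, LinearMap.smul_apply, map_zero, LinearMap.zero_apply,
      NGenW.β_self, h68, h69, h810, h910, h86, h96, h108, h109, smul_eq_mul, mul_zero, add_zero, zero_add,
      mul_eq_zero, h610, h89, h98, h106, or_false] at e10 e9 e8 e6
    intro i
    fin_cases i
    · exact e10
    · exact e9
    · exact e8
    · exact e6
  have hspan := hli.span_eq_top_of_card_eq_finrank' (by rw [NGenW.finrank_W]; rfl)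
  have hkm : NGenW.q F k hk ∈ Submodule.span (ZMod 5) (Set.range ![w6, w8, w9, w10]) := by
    rw [hspan]; exact Submodule.mem_top
  rw [Submodule.mem_span_range_iff_exists_fun] at hkm
  obtain ⟨c, hc⟩ := hkm
  rw [Fin.sum_univ_four] at hc
  simp only [Matrix.cons_val_zero, Matrix.cons_val_one, Matrix.cons_val] at hc
  have hc0 : c 0 = 0 := by
    have e10 := congrArg (fun v => NGenW.β F v w10) hc
    simp only [map_add, map_smul, LinearMap.add_apply, LinearMap.smul_apply,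
      NGenW.β_self, h810, h910, smul_eq_mul, mul_zero, add_zero] at e10
    rw [(comm_eq hk I.m10).2 hk10, mul_eq_zero] at e10
    exact e10.resolve_right h610
  rw [hc0, zero_smul, zero_add] at hc
  have hm : I.e.x8 ^ (c 1).val * I.e.x9 ^ (c 2).val * I.e.x10 ^ (c 3).val ∈ F.E :=
    mul_mem (mul_mem (pow_mem I.m8 _) (pow_mem I.m9 _)) (pow_mem I.m10 _)
  have hq : NGenW.q F _ hm = NGenW.q F k hk := by
    have e1 : NGenW.q F _ hm = (c 1).val • w8 + (c 2).val • w9 + (c 3).val • w10 := rfl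
    have e2 : ∀ (a : ZMod 5) (w : NGenW.W F), a.val • w = a • w := by
      intro a w
      conv_rhs => rw [← ZMod.natCast_zmod_val a]
      rw [Nat.cast_smul_eq_nsmul]
    rw [e1, e2, e2, e2, hc]
  rw [NGenW.q_eq_iff, ← zpowers_x11 I] at hq
  have h8 : I.e.x8 ∈ K8 I.e := subset_closure (by simp)
  have h9 : I.e.x9 ∈ K8 I.e := subset_closure (by simp)
  have h10 : I.e.x10 ∈ K8 I.e := subset_closure (by simp)
  have h11 : I.e.x11 ∈ K8 I.e := subset_closure (by simp)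
  have hle : zpowers I.e.x11 ≤ K8 I.e := zpowers_le.2 h11
  have h12 := mul_mem (mul_mem (mul_mem (pow_mem h8 (c 1).val) (pow_mem h9 (c 2).val)) (pow_mem h10 (c 3).val))
    (hle hq)
  rwa [mul_inv_cancel_left] at h12

/-- (B1): an element commuting with `x₁₀` and `x₁₁` lies in `R`. -/
theorem cent_U2 [Finite G] : ∀ g : G, g * I.e.x10 = I.e.x10 * g → g * I.e.x11 = I.e.x11 * g → g ∈ R I.e := by
  intro g hg10 hg11
  have hf11 : F.f ∈ zpowers I.e.x11 := by rw [zpowers_x11]; exact mem_zpowers F.f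
  have hgf : g * F.f = F.f * g := by
    obtain ⟨k, hk⟩ := mem_zpowers_iff.1 hf11
    rw [← hk]
    exact (Commute.zpow_right (show Commute g I.e.x11 from hg11) k).eq
  obtain ⟨k, hk, c, hc, rfl⟩ := F.norm_f g (by rw [hgf, mul_inv_cancel_right]; exact mem_zpowers F.f)
  have hkf := F.f_central k hk
  have hk11 : k * I.e.x11 = I.e.x11 * k := NGenW.commute_of_mem F I.m11 hk
  have hc11 : c * I.e.x11 = I.e.x11 * c := by
    have h1 : k * (c * I.e.x11) = k * (I.e.x11 * c) := by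
      rw [← mul_assoc, hg11, ← mul_assoc, ← mul_assoc, hk11]
    exact mul_left_cancel h1
  have hcS : c ∈ S I := by
    refine ⟨hc, hc11, k⁻¹ * I.e.x10 * k * I.e.x10⁻¹, ?_, ?_⟩
    · rw [zpowers_x11]
      have := F.comm_E _ (inv_mem hk) _ I.m10
      rwa [inv_inv] at this
    · calc c * I.e.x10 = k⁻¹ * (k * c * I.e.x10) := by group
        _ = k⁻¹ * (I.e.x10 * (k * c)) := by rw [hg10]
        _ = _ := by group
  obtain ⟨i, j, rfl⟩ := S_le I hcS
  have h7 : I.e.x7 ∈ R I.e := subset_closure (by simp)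
  have h11 : I.e.x11 ∈ R I.e := subset_closure (by simp)
  have hc10 : I.e.x7 ^ i * I.e.x11 ^ j * I.e.x10 = I.e.x10 * (I.e.x7 ^ i * I.e.x11 ^ j) := by
    have e1 : Commute I.e.x10 I.e.x7 := I.rel.c710.symm
    have e2 : Commute I.e.x10 I.e.x11 := I.rel.c1011
    exact ((e1.pow_right i).mul_right (e2.pow_right j)).eq.symm
  have hk10 : k * I.e.x10 = I.e.x10 * k := by
    have h1 : k * I.e.x10 * (I.e.x7 ^ i * I.e.x11 ^ j) = I.e.x10 * k * (I.e.x7 ^ i * I.e.x11 ^ j) := by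
      rw [mul_assoc, ← hc10, ← mul_assoc, hg10]; group
    exact mul_right_cancel h1
  have h8 : K8 I.e ≤ R I.e := closure_mono (by
    intro x; simp only [Set.mem_insert_iff, Set.mem_singleton_iff]; tauto)
  exact mul_mem (h8 (mem_of_comm I hk hk10)) (mul_mem (pow_mem h7 i) (pow_mem h11 j))

end group

end Cfsg.Agent.SporRec.LyHexB1
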