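import Cfsg.Agent.SporRec.LyHexIn
import Cfsg.Agent.SporRec.TwoAnEleven
import Cfsg.Agent.R10.NGenW

/-!
# Groups of Lyons type: an element fixing `x₁₀` and moving `x₁₁` to `x₁₁ x₁₀⁻¹`
-/

set_option autoImplicit false
set_option linter.dupNamespace false

namespace Cfsg.Agent.SporRec.LyHexB2

open Subgroup Equiv Cfsg.Agent.SporRec.TwoAn Cfsg.Agent.SporRec.LyType Cfsg.Agent.SporRec.LyFive
open Cfsg.Agent.SporRec.LyHexRel Cfsg.Agent.SporRec.LyHexIn

/-- A permutation of order five of eleven points commuting with a nontrivial permutation whose support has size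
divisible by four is a five-cycle. -/
theorem cycleType_of_comm {σ ρ : Perm (Fin 11)} (hσ : σ ^ 5 = 1) (hσ1 : σ ≠ 1) (hρ1 : ρ ≠ 1)
    (h4 : 4 ∣ ρ.support.card) (hc : ρ * σ = σ * ρ) : σ.cycleType = {5} := by
  classical
  have hp : Fact (Nat.Prime 5) := ⟨by norm_num⟩
  have ho : orderOf σ = 5 := orderOf_eq_prime hσ hσ1
  obtain ⟨n, hn⟩ := Perm.cycleType_prime_order (σ := σ) (by rw [ho]; norm_num)
  rw [ho] at hn
  have hs := σ.sum_cycleType
  rw [hn, Multiset.sum_replicate, smul_eq_mul] at hs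
  have hle : ∀ τ : Perm (Fin 11), τ.support.card ≤ 11 := fun τ => by
    simpa using Finset.card_le_univ τ.support
  have hle1 := hle σ
  have h01 : n = 0 ∨ n = 1 := by omega
  rcases h01 with rfl | rfl
  · rw [hn]; rfl
  · exfalso
    have hs10 : σ.support.card = 10 := by omega
    have hcompl : (σ.supportᶜ).card = 1 := by
      rw [Finset.card_compl, hs10, Fintype.card_fin]
    have hfix : ∀ x y, σ x = x → σ y = y → x = y := by
      intro x y hx hy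
      obtain ⟨a, ha⟩ := Finset.card_eq_one.1 hcompl
      have h1 : x ∈ σ.supportᶜ := by
        rw [Finset.mem_compl, Perm.mem_support, not_not]; exact hx
      have h2 : y ∈ σ.supportᶜ := by
        rw [Finset.mem_compl, Perm.mem_support, not_not]; exact hy
      rw [ha, Finset.mem_singleton] at h1 h2
      rw [h1, h2]
    have hcx : ∀ x, ρ (σ x) = σ (ρ x) := fun x => by
      rw [← Perm.mul_apply, hc, Perm.mul_apply]
    have hfρ : ∀ x, σ x = x → ρ x = x := fun x hx => hfix _ _ (by rw [← hcx, hx]) hx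
    let X := {x : Fin 11 // ρ x ≠ x}
    let f : Function.End X := fun x => ⟨σ x, by
      rw [hcx]
      exact fun h => x.2 (σ.injective h)⟩
    have h1 : ∀ (n : ℕ) (e : X), (((f ^ n : Function.End X) e : X) : Fin 11) = (σ ^ n) e := by
      intro n
      induction n with
      | zero => intro e; rfl
      | succ n ih =>
        intro e
        have h2 : ((f ^ (n + 1) : Function.End X) e : X) = (f ^ n : Function.End X) (f e) := by
          rw [pow_succ]; rfl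
        rw [h2, ih, pow_succ, Perm.mul_apply]
    have h2 : (f ^ 5 ^ 1 : Function.End X) = 1 := by
      funext e
      apply Subtype.ext
      rw [h1, pow_one, hσ, Perm.one_apply]; rfl
    have h3 := Equiv.Perm.card_fixedPoints_modEq (f := f) (p := 5) (n := 1) h2
    have h5 : Fintype.card (Function.fixedPoints f) = 0 := by
      rw [Fintype.card_eq_zero_iff]
      constructor
      rintro ⟨x, hx⟩
      exact x.2 (hfρ _ (congrArg Subtype.val hx))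
    have h6 : Fintype.card X = ρ.support.card := by
      apply Fintype.card_of_subtype
      intro x
      rw [Perm.mem_support]
    rw [h5, h6] at h3
    have h7 : 5 ∣ ρ.support.card := (Nat.modEq_zero_iff_dvd).1 h3
    have h8 := hle ρ
    have h9 : ρ.support.card = 0 := by omega
    rw [Finset.card_eq_zero, Perm.support_eq_empty_iff] at h9
    exact hρ1 h9

variable {G : Type*} [Group G] {L : LyType G}

/-- Two elements of order five of `C_G(t)` lifting five-cycles are conjugate in `C_G(t)`. -/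
theorem exists_conj_of_five {y f : G} (hy : y * L.t = L.t * y) (hf : f * L.t = L.t * f) (hy5 : y ^ 5 = 1)
    (hf5 : f ^ 5 = 1) (hyc : (L.K.π ⟨y, L.mem_iff.2 hy⟩).cycleType = {5})
    (hfc : (L.K.π ⟨f, L.mem_iff.2 hf⟩).cycleType = {5}) : ∃ c : G, c * L.t = L.t * c ∧ c * y * c⁻¹ = f := by
  have hconj : IsConj (L.K.π ⟨y, L.mem_iff.2 hy⟩) (L.K.π ⟨f, L.mem_iff.2 hf⟩) := by
    rw [Perm.isConj_iff_cycleType_eq, hyc, hfc]
  -- two fixed points
  set σ := L.K.π ⟨y, L.mem_iff.2 hy⟩ with hσ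
  have hs := σ.sum_cycleType
  rw [hyc, Multiset.sum_singleton] at hs
  have hcard : 1 < (σ.supportᶜ).card := by
    rw [Finset.card_compl, ← hs, Fintype.card_fin]
    norm_num
  obtain ⟨a, ha, b, hb, hab⟩ := Finset.one_lt_card.1 hcard
  rw [Finset.mem_compl, Perm.mem_support, not_not] at ha hb
  obtain ⟨c, hce, hc⟩ := TwoAnEleven.exists_even_conj hconj hab ha hb
  obtain ⟨c', hc'⟩ := L.K.exists_lift hce
  have h1 : L.K.π (c' * ⟨y, L.mem_iff.2 hy⟩ * c'⁻¹) = L.K.π ⟨f, L.mem_iff.2 hf⟩ := by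
    rw [map_mul, map_mul, map_inv, hc']
    exact hc
  have h2 := L.K.odd_lift_unique (g := c' * ⟨y, L.mem_iff.2 hy⟩ * c'⁻¹) (h := ⟨f, L.mem_iff.2 hf⟩) (n := 5)
    (by decide) (by rw [conj_pow]; have : (⟨y, L.mem_iff.2 hy⟩ : centralizer ({L.t} : Set G)) ^ 5 = 1 := Subtype.ext hy5
                    rw [this]; group) (Subtype.ext hf5) h1
  exact ⟨c', L.mem_iff.1 c'.2, congrArg Subtype.val h2⟩

variable {F : LyFive L}

section rel

variable {H : Type*} [Group H] {e : Els H} (h : RelP e)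

include h

theorem v_sq : (e.t6 ^ 2 * e.t7 ^ 2) * (e.t6 ^ 2 * e.t7 ^ 2) = 1 := by
  have hq : Commute e.t6 e.t7 := h.q67
  have h1 : e.t7 ^ 2 * e.t6 ^ 2 = e.t6 ^ 2 * e.t7 ^ 2 := ((hq.pow_pow 2 2).eq).symm
  calc (e.t6 ^ 2 * e.t7 ^ 2) * (e.t6 ^ 2 * e.t7 ^ 2) = e.t6 ^ 2 * (e.t7 ^ 2 * e.t6 ^ 2) * e.t7 ^ 2 := by group
    _ = e.t6 ^ 4 * e.t7 ^ 4 := by rw [h1]; group
    _ = 1 := by rw [h.q6, h.q7, one_mul]

theorem v_x10 : (e.t6 ^ 2 * e.t7 ^ 2) * e.x10 * (e.t6 ^ 2 * e.t7 ^ 2)⁻¹ = e.x10 := by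
  calc (e.t6 ^ 2 * e.t7 ^ 2) * e.x10 * (e.t6 ^ 2 * e.t7 ^ 2)⁻¹
      = e.t6 * (e.t6 * (e.t7 * (e.t7 * e.x10 * e.t7⁻¹) * e.t7⁻¹) * e.t6⁻¹) * e.t6⁻¹ := by
        rw [pow_two, pow_two]; group
    _ = e.x10 ^ 81 := by
      rw [h.s710, ← conj_pow, h.s710, ← pow_mul, ← conj_pow, h.s610, ← pow_mul, ← conj_pow, h.s610, ← pow_mul]
    _ = (e.x10 ^ 5) ^ 16 * e.x10 := by rw [← pow_mul, ← pow_succ]
    _ = e.x10 := by rw [h.p10, one_pow, one_mul]

theorem v_x11 : (e.t6 ^ 2 * e.t7 ^ 2) * e.x11 * (e.t6 ^ 2 * e.t7 ^ 2)⁻¹ = e.x11⁻¹ := by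
  calc (e.t6 ^ 2 * e.t7 ^ 2) * e.x11 * (e.t6 ^ 2 * e.t7 ^ 2)⁻¹
      = e.t6 * (e.t6 * (e.t7 * (e.t7 * e.x11 * e.t7⁻¹) * e.t7⁻¹) * e.t6⁻¹) * e.t6⁻¹ := by
        rw [pow_two, pow_two]; group
    _ = e.x11 ^ 4 := by
      rw [h.s711, h.s711, h.s611, ← conj_pow, h.s611, ← pow_mul]
    _ = e.x11⁻¹ := by rw [eq_inv_iff_mul_eq_one, ← pow_succ, h.p11]

theorem τ_sq : (e.t6 * e.t7⁻¹) * (e.t6 * e.t7⁻¹) = e.t6 ^ 2 * e.t7 ^ 2 := by
  have hq : Commute e.t6 e.t7 := h.q67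
  have h1 : e.t7⁻¹ * e.t6 = e.t6 * e.t7⁻¹ := (hq.inv_right.eq).symm
  have h2 : e.t7⁻¹ * e.t7⁻¹ = e.t7 ^ 2 := by
    have := h.q7
    calc e.t7⁻¹ * e.t7⁻¹ = e.t7⁻¹ * e.t7⁻¹ * e.t7 ^ 4 := by rw [this, mul_one]
      _ = e.t7 ^ 2 := by group
  calc (e.t6 * e.t7⁻¹) * (e.t6 * e.t7⁻¹) = e.t6 * (e.t7⁻¹ * e.t6) * e.t7⁻¹ := by group
    _ = e.t6 ^ 2 * (e.t7⁻¹ * e.t7⁻¹) := by rw [h1, pow_two]; group
    _ = _ := by rw [h2]

theorem τ_x10 : (e.t6 * e.t7⁻¹) * e.x10 * (e.t6 * e.t7⁻¹)⁻¹ = e.x10 := by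
  have h1 : e.t7 * e.x10 ^ 2 * e.t7⁻¹ = e.x10 := by
    rw [← conj_pow, h.s710, ← pow_mul]
    calc e.x10 ^ (3 * 2) = e.x10 ^ 5 * e.x10 := by rw [← pow_succ]
      _ = e.x10 := by rw [h.p10, one_mul]
  have h2 : e.t6 * e.x10 ^ 2 * e.t6⁻¹ = e.x10 := by
    rw [← conj_pow, h.s610, ← pow_mul]
    calc e.x10 ^ (3 * 2) = e.x10 ^ 5 * e.x10 := by rw [← pow_succ]
      _ = e.x10 := by rw [h.p10, one_mul]
  calc (e.t6 * e.t7⁻¹) * e.x10 * (e.t6 * e.t7⁻¹)⁻¹
      = (e.t6 * e.t7⁻¹) * (e.t7 * e.x10 ^ 2 * e.t7⁻¹) * (e.t6 * e.t7⁻¹)⁻¹ := by rw [h1]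
    _ = e.t6 * e.x10 ^ 2 * e.t6⁻¹ := by group
    _ = e.x10 := h2

end rel

theorem eq_one_of_sq_of_pow_five {H : Type*} [Group H] {y : H} (h2 : y * y = 1) (h5 : y ^ 5 = 1) : y = 1 := by
  have : y ^ 5 = (y * y) * (y * y) * y := by simp only [pow_succ, pow_zero, one_mul, mul_assoc]
  rw [this, h2, one_mul, one_mul] at h5
  exact h5

/-- The element `x₁₀` and the involution `t₆² t₇²` are conjugate to `f` and `t`. -/
theorem exists_g (I : HexIn F) : ∃ g : G, g * I.e.x10 * g⁻¹ = F.f ∧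
    g * (I.e.t6 ^ 2 * I.e.t7 ^ 2) * g⁻¹ = L.t := by
  have hR := I.rel
  set v := I.e.t6 ^ 2 * I.e.t7 ^ 2 with hv
  set τ := I.e.t6 * I.e.t7⁻¹ with hτ
  have hvv : v * v = 1 := v_sq hR
  have hv10 : v * I.e.x10 * v⁻¹ = I.e.x10 := v_x10 hR
  have hv11 : v * I.e.x11 * v⁻¹ = I.e.x11⁻¹ := v_x11 hR
  have hττ : τ * τ = v := τ_sq hR
  have hτ10 : τ * I.e.x10 * τ⁻¹ = I.e.x10 := τ_x10 hR
  have hx11 := I.x11_ne
  have hx10 : I.e.x10 ≠ 1 := by
    intro h
    apply hx11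
    rw [← hR.c610, h]
    group
  have hv1 : v ≠ 1 := by
    intro h
    rw [h] at hv11
    apply hx11
    refine eq_one_of_sq_of_pow_five ?_ hR.p11
    have : I.e.x11 = I.e.x11⁻¹ := by
      rw [← hv11]; group
    nth_rw 1 [this]
    exact inv_mul_cancel _
  obtain ⟨g, hg⟩ := L.one v hvv hv1
  have ht : L.t = g⁻¹ * v * g := by rw [← hg]; group
  have hτv : τ * v = v * τ := by rw [← hττ]; group
  -- the elements of `C_G(t)`
  have hy : (g⁻¹ * I.e.x10 * g) * L.t = L.t * (g⁻¹ * I.e.x10 * g) := by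
    rw [mul_inv_eq_iff_eq_mul] at hv10
    rw [ht]
    calc g⁻¹ * I.e.x10 * g * (g⁻¹ * v * g) = g⁻¹ * (I.e.x10 * v) * g := by group
      _ = g⁻¹ * (v * I.e.x10) * g := by rw [hv10]
      _ = _ := by group
  have hs : (g⁻¹ * τ * g) * L.t = L.t * (g⁻¹ * τ * g) := by
    rw [ht]
    calc g⁻¹ * τ * g * (g⁻¹ * v * g) = g⁻¹ * (τ * v) * g := by group
      _ = g⁻¹ * (v * τ) * g := by rw [hτv]
      _ = _ := by group
  have hy5 : (g⁻¹ * I.e.x10 * g) ^ 5 = 1 := by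
    have : g⁻¹ * I.e.x10 * g = g⁻¹ * I.e.x10 * (g⁻¹)⁻¹ := by rw [inv_inv]
    rw [this, conj_pow, hR.p10]
    group
  have hy1 : g⁻¹ * I.e.x10 * g ≠ 1 := by
    intro h
    apply hx10
    have : I.e.x10 = g * (g⁻¹ * I.e.x10 * g) * g⁻¹ := by group
    rw [this, h]
    group
  have hss : (g⁻¹ * τ * g) * (g⁻¹ * τ * g) = L.t := by
    rw [ht]
    calc g⁻¹ * τ * g * (g⁻¹ * τ * g) = g⁻¹ * (τ * τ) * g := by group
      _ = _ := by rw [hττ]
  have hys : (g⁻¹ * τ * g) * (g⁻¹ * I.e.x10 * g) = (g⁻¹ * I.e.x10 * g) * (g⁻¹ * τ * g) := by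
    rw [mul_inv_eq_iff_eq_mul] at hτ10
    calc g⁻¹ * τ * g * (g⁻¹ * I.e.x10 * g) = g⁻¹ * (τ * I.e.x10) * g := by group
      _ = g⁻¹ * (I.e.x10 * τ) * g := by rw [hτ10]
      _ = _ := by group
  set Y : centralizer ({L.t} : Set G) := ⟨g⁻¹ * I.e.x10 * g, L.mem_iff.2 hy⟩ with hY
  set S : centralizer ({L.t} : Set G) := ⟨g⁻¹ * τ * g, L.mem_iff.2 hs⟩ with hS
  have hY5 : Y ^ 5 = 1 := Subtype.ext hy5
  have hSS : S * S = L.K.z := Subtype.ext (by rw [L.hz]; exact hss)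
  have hYS : S * Y = Y * S := Subtype.ext hys
  have hcyc : (L.K.π Y).cycleType = {5} := by
    refine cycleType_of_comm (ρ := L.K.π S) (by rw [← map_pow, hY5, map_one]) ?_ ?_ ?_ ?_
    · intro h
      rcases (L.K.ker Y).1 h with h1 | h1
      · exact hy1 (congrArg Subtype.val h1)
      · have h2 := hY5
        rw [h1] at h2
        have h3 : L.K.z ^ 5 = L.K.z := by
          rw [L.K.z_pow, if_neg (by decide)]
        rw [h3] at h2
        exact L.K.z_ne h2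
    · intro h
      have h3 : S * S = 1 := by
        rcases (L.K.ker S).1 h with h1 | h1
        · rw [h1, one_mul]
        · rw [h1, L.K.z_mul_z]
      rw [hSS] at h3
      exact L.K.z_ne h3
    · apply L.K.four_dvd
      rw [← map_mul, hSS, L.K.π_z]
    · rw [← map_mul, hYS, map_mul]
  obtain ⟨c, hct, hc⟩ := exists_conj_of_five (L := L) hy F.f_comm hy5 F.f_pow hcyc F.f_cycle
  refine ⟨c * g⁻¹, ?_, ?_⟩
  · rw [← hc]; group
  · calc c * g⁻¹ * v * (c * g⁻¹)⁻¹ = c * (g⁻¹ * v * g) * c⁻¹ := by group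
      _ = c * L.t * c⁻¹ := by rw [← ht]
      _ = L.t := by rw [hct]; group

/-- There is an element fixing `x₁₀` and mapping `x₁₁` to `x₁₁ x₁₀⁻¹`. -/
theorem exists_z (I : HexIn F) : ∃ z : G, z * I.e.x10 = I.e.x10 * z ∧
    z * I.e.x11 * z⁻¹ = I.e.x11 * I.e.x10⁻¹ := by
  have hR := I.rel
  obtain ⟨g, hg10, hgv⟩ := exists_g I
  have hv11 := v_x11 hR
  set v := I.e.t6 ^ 2 * I.e.t7 ^ 2 with hv
  set y := g * I.e.x11 * g⁻¹ with hy
  have hy5 : y ^ 5 = 1 := by rw [hy, conj_pow, hR.p11]; group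
  have hy1 : y ≠ 1 := by
    intro h
    apply I.x11_ne
    have : I.e.x11 = g⁻¹ * y * g := by rw [hy]; group
    rw [this, h]; group
  have hyf : y * F.f = F.f * y := by
    rw [hy, ← hg10]
    calc g * I.e.x11 * g⁻¹ * (g * I.e.x10 * g⁻¹) = g * (I.e.x11 * I.e.x10) * g⁻¹ := by group
      _ = g * (I.e.x10 * I.e.x11) * g⁻¹ := by rw [hR.c1011]
      _ = _ := by group
  have hty : L.t * y * L.t⁻¹ = y⁻¹ := by
    rw [← hgv, hy]
    calc g * v * g⁻¹ * (g * I.e.x11 * g⁻¹) * (g * v * g⁻¹)⁻¹ = g * (v * I.e.x11 * v⁻¹) * g⁻¹ := by group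
      _ = _ := by rw [hv11]; group
  have hyy : y ≠ y⁻¹ := by
    intro h
    apply hy1
    refine eq_one_of_sq_of_pow_five ?_ hy5
    nth_rw 1 [h]
    exact inv_mul_cancel _
  -- `y` lies in `E`
  have hyE : y ∈ F.E := by
    obtain ⟨e, he, c, hct, hyec⟩ := F.norm_f y (by rw [hyf, mul_inv_cancel_right]; exact mem_zpowers _)
    have h1 : L.t * e * L.t⁻¹ ∈ F.E := F.norm_E L.t (by
      rw [← F.f_comm, mul_inv_cancel_right]; exact mem_zpowers _) e he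
    have h2 : y⁻¹ = (L.t * e * L.t⁻¹) * c := by
      rw [← hty, hyec]
      calc L.t * (e * c) * L.t⁻¹ = L.t * e * L.t⁻¹ * (L.t * c) * L.t⁻¹ := by group
        _ = L.t * e * L.t⁻¹ * (c * L.t) * L.t⁻¹ := by rw [hct]
        _ = _ := by group
    have h3 : y * y = e * (L.t * e * L.t⁻¹)⁻¹ := by
      calc y * y = y * (y⁻¹)⁻¹ := by rw [inv_inv]
        _ = (e * c) * ((L.t * e * L.t⁻¹) * c)⁻¹ := by rw [h2]; nth_rw 1 [hyec]
        _ = _ := by group
    have h4 : y * y ∈ F.E := by rw [h3]; exact mul_mem he (inv_mem h1)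
    have h5 : y = (y * y) ^ 3 := by
      calc y = y ^ 5 * y := by rw [hy5, one_mul]
        _ = (y * y) ^ 3 := by simp only [pow_succ, pow_zero, one_mul, mul_assoc]
    rw [h5]
    exact pow_mem h4 3
  have hynf : y ∉ zpowers F.f := by
    intro h
    obtain ⟨k, hk⟩ := mem_zpowers_iff.1 h
    apply hyy
    rw [← hty, ← hk]
    have h1 : L.t * F.f ^ k = F.f ^ k * L.t := (Commute.zpow_right (show Commute L.t F.f from F.f_comm.symm) k).eq
    rw [h1, mul_inv_cancel_right]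
  obtain ⟨e, he, hne⟩ : ∃ e ∈ F.E, y * e ≠ e * y := by
    by_contra hcon
    push Not at hcon
    exact hynf (F.center_E y hyE hcon)
  obtain ⟨k, hk⟩ := Cfsg.Agent.R10.NGenW.exists_pow F (F.comm_E e he y hyE)
  have hk0 : k ≠ 0 := by
    intro h
    rw [h, ZMod.val_zero, pow_zero] at hk
    apply hne
    calc y * e = 1 * (y * e) := by rw [one_mul]
      _ = (e * y * e⁻¹ * y⁻¹) * (y * e) := by rw [hk]
      _ = e * y := by group
  have hstep : e * y * e⁻¹ = F.f ^ k.val * y := by rw [hk]; group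
  have hef := F.f_central e he
  have hpow : ∀ m : ℕ, e ^ m * y * (e ^ m)⁻¹ = F.f ^ (k.val * m) * y := by
    intro m
    induction m with
    | zero => rw [pow_zero, mul_zero, pow_zero]; group
    | succ m ih =>
      have h1 : e * F.f ^ (k.val * m) = F.f ^ (k.val * m) * e :=
        (Commute.pow_right (show Commute e F.f from hef) _).eq
      calc e ^ (m + 1) * y * (e ^ (m + 1))⁻¹ = e * (e ^ m * y * (e ^ m)⁻¹) * e⁻¹ := by
            rw [pow_succ']; group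
        _ = (e * F.f ^ (k.val * m)) * y * e⁻¹ := by rw [ih]; group
        _ = F.f ^ (k.val * m) * (e * y * e⁻¹) := by rw [h1]; group
        _ = _ := by rw [hstep, ← mul_assoc, ← pow_add]; rfl
  set m : ℕ := (-(k⁻¹) : ZMod 5).val with hm
  have hm' : F.f ^ (k.val * m) = F.f⁻¹ := by
    rw [← Cfsg.Agent.R10.NGenW.pow_val_nat F (k.val * m), Nat.cast_mul, ZMod.natCast_zmod_val, hm,
      ZMod.natCast_zmod_val, mul_neg, mul_inv_cancel₀ hk0]
    have : (-1 : ZMod 5).val = 4 := by decide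
    rw [this, eq_inv_iff_mul_eq_one, ← pow_succ, F.f_pow]
  have hz := hpow m
  rw [hm'] at hz
  have hzf : e ^ m * F.f = F.f * e ^ m := (Commute.pow_left (show Commute e F.f from hef) m).eq
  refine ⟨g⁻¹ * e ^ m * g, ?_, ?_⟩
  · have e10 : I.e.x10 = g⁻¹ * F.f * g := by rw [← hg10]; group
    rw [e10]
    calc g⁻¹ * e ^ m * g * (g⁻¹ * F.f * g) = g⁻¹ * (e ^ m * F.f) * g := by group
      _ = g⁻¹ * (F.f * e ^ m) * g := by rw [hzf]
      _ = _ := by group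
  · have e11 : I.e.x11 = g⁻¹ * y * g := by rw [hy]; group
    have e10 : I.e.x10⁻¹ = g⁻¹ * F.f⁻¹ * g := by rw [← hg10]; group
    rw [e11, e10]
    calc g⁻¹ * e ^ m * g * (g⁻¹ * y * g) * (g⁻¹ * e ^ m * g)⁻¹ = g⁻¹ * (e ^ m * y * (e ^ m)⁻¹) * g := by group
      _ = g⁻¹ * (F.f⁻¹ * y) * g := by rw [hz]
      _ = g⁻¹ * (F.f⁻¹ * (y * F.f)) * F.f⁻¹ * g := by group
      _ = _ := by rw [hyf]; group

end Cfsg.Agent.SporRec.LyHexB2
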