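import Cfsg.Agent.SporRec.LyHexIn

/-!
# Groups of Lyons type: an element swapping the two root groups

`exists_n`: an element normalising the torus `⟨t₆, t₇⟩` and swapping `⟨x₁₀⟩` and `⟨x₁₁⟩`.
-/

set_option autoImplicit false
set_option linter.dupNamespace false

namespace Cfsg.Agent.SporRec.LyHexB3

open Subgroup Cfsg.Agent.SporRec.LyHexRel Cfsg.Agent.SporRec.LyHexCount

section general

variable {G : Type*} [Group G]

/-- Conjugation and powers. -/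
theorem conj_pow_pow {x t : G} {k : ℕ} (h : t * x * t⁻¹ = x ^ k) (m n : ℕ) :
    t ^ n * x ^ m * (t ^ n)⁻¹ = x ^ (m * k ^ n) := by
  induction n with
  | zero => simp
  | succ n ih =>
    calc t ^ (n + 1) * x ^ m * (t ^ (n + 1))⁻¹ = t * (t ^ n * x ^ m * (t ^ n)⁻¹) * t⁻¹ := by
          rw [pow_succ']; group
      _ = t * x ^ (m * k ^ n) * t⁻¹ := by rw [ih]
      _ = (t * x * t⁻¹) ^ (m * k ^ n) := by rw [conj_pow]
      _ = x ^ (m * k ^ (n + 1)) := by rw [h, ← pow_mul]; congr 1; ring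

theorem mem_norm_zpowers [Finite G] {x g : G} (h : g * x * g⁻¹ ∈ zpowers x) : g ∈ normalizer (zpowers x : Set G) := by
  refine mem_normalizer_fintype ?_
  rintro _ ⟨k, rfl⟩
  have : g * x ^ k * g⁻¹ = (g * x * g⁻¹) ^ k := conj_zpow.symm
  show g * x ^ k * g⁻¹ ∈ zpowers x
  rw [this]
  exact zpow_mem h k

theorem exists_pow {x y : G} (hx : x ^ 5 = 1) (hy : y ∈ zpowers x) : ∃ k < 5, y = x ^ k := by
  have hfin : IsOfFinOrder x := isOfFinOrder_iff_pow_eq_one.2 ⟨5, by norm_num, hx⟩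
  classical
  have h1 := (hfin.mem_zpowers_iff_mem_range_orderOf).1 hy
  simp only [Finset.mem_image, Finset.mem_range] at h1
  obtain ⟨m, hm, rfl⟩ := h1
  exact ⟨m, lt_of_lt_of_le hm (Nat.le_of_dvd (by norm_num) (orderOf_dvd_of_pow_eq_one hx)), rfl⟩

/-- Two complements which are two-groups, for a normal five-subgroup. -/
theorem exists_conj_le {D : Type*} [Group D] [Finite D] {T Q K : Subgroup D} (hT : IsPGroup 2 T) (hQ : IsPGroup 2 Q)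
    (hK : IsPGroup 5 K) (hd : Disjoint T K) (hm : ∀ d : D, ∃ τ ∈ T, ∃ k ∈ K, d = τ * k) :
    ∃ g : D, ∀ q ∈ Q, g⁻¹ * q * g ∈ T := by
  have h2 : Fact (Nat.Prime 2) := ⟨by norm_num⟩
  have h5 : Fact (Nat.Prime 5) := ⟨by norm_num⟩
  have hc : IsComplement' T K := by
    refine isComplement'_of_disjoint_and_mul_eq_univ hd ?_
    rw [Set.eq_univ_iff_forall]
    intro d
    obtain ⟨τ, hτ, k, hk, rfl⟩ := hm d
    exact ⟨τ, hτ, k, hk, rfl⟩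
  have hidx : T.index = Nat.card K := hc.symm.index_eq_card
  obtain ⟨n, hn⟩ := IsPGroup.iff_card.1 hK
  have hnd : ¬ 2 ∣ T.index := by
    rw [hidx, hn]
    intro h
    have := (Nat.prime_two.dvd_of_dvd_pow h)
    exact absurd this (by norm_num)
  let P : Sylow 2 D := hT.toSylow hnd
  have hP : (P : Subgroup D) = T := rfl
  obtain ⟨P', hP'⟩ := hQ.exists_le_sylow
  obtain ⟨g, hg⟩ := MulAction.exists_smul_eq D P P'
  refine ⟨g, fun q hq => ?_⟩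
  have h3 : q ∈ (P' : Subgroup D) := hP' hq
  rw [← hg, Sylow.coe_subgroup_smul] at h3
  obtain ⟨τ, hτ, e⟩ := h3
  have h4 : g * τ * g⁻¹ = q := e
  rw [← h4]
  have h5 : g⁻¹ * (g * τ * g⁻¹) * g = τ := by group
  rw [h5]; exact hτ

end general

section hex

variable {G : Type*} [Group G] {e : Els G} (h : RelP e)

include h

theorem isPGroup_R : IsPGroup 5 (R e) := by
  have hz : ∀ x : G, x ^ 5 = 1 → IsPGroup 5 (zpowers x) := by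
    intro x hx
    rintro ⟨_, k, rfl⟩
    refine ⟨1, Subtype.ext ?_⟩
    show (x ^ k) ^ (5 ^ 1) = 1
    rw [pow_one, ← zpow_natCast, ← zpow_mul, mul_comm, zpow_mul, zpow_natCast, hx, one_zpow]
  have h11 : IsPGroup 5 (closure ({e.x11} : Set G)) := by
    rw [← zpowers_eq_closure]; exact hz _ h.p11
  have h10 : IsPGroup 5 (closure ({e.x10, e.x11} : Set G)) := by
    rw [closure_insert_eq]
    exact (hz _ h.p10).to_sup_of_normal_right' h11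
      (zpowers_le_normalizer (conj_closure (norm_10 h)) 5 (by norm_num) h.p10)
  have h9 : IsPGroup 5 (closure ({e.x9, e.x10, e.x11} : Set G)) := by
    rw [closure_insert_eq]
    exact (hz _ h.p9).to_sup_of_normal_right' h10
      (zpowers_le_normalizer (conj_closure (norm_9 h)) 5 (by norm_num) h.p9)
  have h8 : IsPGroup 5 (closure ({e.x8, e.x9, e.x10, e.x11} : Set G)) := by
    rw [closure_insert_eq]
    exact (hz _ h.p8).to_sup_of_normal_right' h9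
      (zpowers_le_normalizer (conj_closure (norm_8 h)) 5 (by norm_num) h.p8)
  rw [R, closure_insert_eq]
  exact (hz _ h.p7).to_sup_of_normal_right' h8
    (zpowers_le_normalizer (conj_closure (norm_7 h)) 5 (by norm_num) h.p7)

theorem mem_T {g : G} (hg : g ∈ T e) : ∃ i < 4, ∃ j < 4, g = e.t6 ^ i * e.t7 ^ j := by
  obtain ⟨i, hi, k, hk, rfl⟩ := (mem_insert_closure (x := e.t6) (S := {e.t7}) (by
    rintro s (rfl : s = e.t7)
    rw [h.q67, mul_inv_cancel_right]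
    exact subset_closure rfl) (n := 4) (by norm_num) h.q6).1 hg
  rw [← zpowers_eq_closure] at hk
  have hfin : IsOfFinOrder e.t7 := isOfFinOrder_iff_pow_eq_one.2 ⟨4, by norm_num, h.q7⟩
  classical
  have h1 := (hfin.mem_zpowers_iff_mem_range_orderOf).1 hk
  simp only [Finset.mem_image, Finset.mem_range] at h1
  obtain ⟨m, hm, rfl⟩ := h1
  exact ⟨i, hi, m, lt_of_lt_of_le hm (Nat.le_of_dvd (by norm_num) (orderOf_dvd_of_pow_eq_one h.q7)), rfl⟩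

theorem isPGroup_T : IsPGroup 2 (T e) := by
  rintro ⟨τ, hτ⟩
  obtain ⟨i, -, j, -, rfl⟩ := mem_T h hτ
  refine ⟨2, Subtype.ext ?_⟩
  show (e.t6 ^ i * e.t7 ^ j) ^ 2 ^ 2 = 1
  have hc : Commute (e.t6 ^ i) (e.t7 ^ j) := (show Commute e.t6 e.t7 from h.q67).pow_pow i j
  rw [hc.mul_pow, ← pow_mul, ← pow_mul, show i * 2 ^ 2 = 4 * i by ring, show j * 2 ^ 2 = 4 * j by ring, pow_mul,
    pow_mul, h.q6, h.q7, one_pow, one_pow, one_mul]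

theorem conj_x10 (i j m : ℕ) : (e.t6 ^ i * e.t7 ^ j) * e.x10 ^ m * (e.t6 ^ i * e.t7 ^ j)⁻¹ =
    e.x10 ^ (m * 3 ^ j * 3 ^ i) := by
  calc (e.t6 ^ i * e.t7 ^ j) * e.x10 ^ m * (e.t6 ^ i * e.t7 ^ j)⁻¹ =
      e.t6 ^ i * (e.t7 ^ j * e.x10 ^ m * (e.t7 ^ j)⁻¹) * (e.t6 ^ i)⁻¹ := by group
    _ = _ := by rw [conj_pow_pow h.s710, conj_pow_pow h.s610]

theorem conj_x11 (i j m : ℕ) : (e.t6 ^ i * e.t7 ^ j) * e.x11 ^ m * (e.t6 ^ i * e.t7 ^ j)⁻¹ =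
    e.x11 ^ (m * 2 ^ i) := by
  have h1 : e.t7 * e.x11 * e.t7⁻¹ = e.x11 ^ 1 := by rw [h.s711, pow_one]
  calc (e.t6 ^ i * e.t7 ^ j) * e.x11 ^ m * (e.t6 ^ i * e.t7 ^ j)⁻¹ =
      e.t6 ^ i * (e.t7 ^ j * e.x11 ^ m * (e.t7 ^ j)⁻¹) * (e.t6 ^ i)⁻¹ := by group
    _ = _ := by rw [conj_pow_pow h1, conj_pow_pow h.s611, one_pow, mul_one]

theorem orderOf_x10 (h11 : e.x11 ≠ 1) : orderOf e.x10 = 5 := by
  have : Fact (Nat.Prime 5) := ⟨by norm_num⟩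
  refine orderOf_eq_prime h.p10 (fun h0 => h11 ?_)
  have := h.c610
  rw [h0] at this
  rw [← this]; group

omit h in
theorem exists_ij_fin : ∀ a b : Fin 5, a ≠ 0 → b ≠ 0 → ∃ i j : Fin 4, (1 * 3 ^ (j : ℕ) * 3 ^ (i : ℕ)) % 5 = (a : ℕ) ∧
    (1 * 2 ^ (i : ℕ)) % 5 = (b : ℕ) := by decide

omit h in
theorem exists_ij {a b : ℕ} (ha : a < 5) (hb : b < 5) (ha0 : a ≠ 0) (hb0 : b ≠ 0) : ∃ i < 4, ∃ j < 4,
    (1 * 3 ^ j * 3 ^ i) % 5 = a ∧ (1 * 2 ^ i) % 5 = b := by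
  obtain ⟨i, j, h1, h2⟩ := exists_ij_fin ⟨a, ha⟩ ⟨b, hb⟩ (fun h => ha0 (congrArg Fin.val h))
    (fun h => hb0 (congrArg Fin.val h))
  exact ⟨i, i.2, j, j.2, h1, h2⟩

/-- An element normalising the torus and swapping the two root groups. -/
theorem exists_n_aux [Finite G] (h11 : e.x11 ≠ 1)
    (hc : ∀ g : G, g * e.x10 = e.x10 * g → g * e.x11 = e.x11 * g → g ∈ R e) {z : G} (hz : z * e.x10 = e.x10 * z)
    (hz' : z * e.x11 * z⁻¹ = e.x11 * e.x10⁻¹) :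
    ∃ n : G, (∀ τ ∈ T e, n * τ * n⁻¹ ∈ T e) ∧ n * e.x10 * n⁻¹ ∈ zpowers e.x11 ∧
      n * e.x11 * n⁻¹ ∈ zpowers e.x10 := by
  have h5 : Fact (Nat.Prime 5) := ⟨by norm_num⟩
  have ho10 := orderOf_x10 h h11
  have ho11 : orderOf e.x11 = 5 := orderOf_eq_prime h.p11 h11
  -- the element `n₀`
  have hx10 : e.x6 * e.x10 * e.x6⁻¹ = e.x11 * e.x10 := conj_of_comm h.c610
  have hx11 : e.x6 * e.x11 * e.x6⁻¹ = e.x11 := conj_of_eq h.c611
  have hz10 : z * e.x10 * z⁻¹ = e.x10 := conj_of_eq hz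
  let n₀ : G := e.x6 * z * e.x6
  have hn10 : n₀ * e.x10 * n₀⁻¹ = e.x11 := by
    calc n₀ * e.x10 * n₀⁻¹ = e.x6 * (z * (e.x6 * e.x10 * e.x6⁻¹) * z⁻¹) * e.x6⁻¹ := by
          show e.x6 * z * e.x6 * e.x10 * (e.x6 * z * e.x6)⁻¹ = _
          group
      _ = e.x6 * ((z * e.x11 * z⁻¹) * (z * e.x10 * z⁻¹)) * e.x6⁻¹ := by rw [hx10]; group
      _ = e.x6 * e.x11 * e.x6⁻¹ := by rw [hz', hz10, inv_mul_cancel_right]
      _ = e.x11 := hx11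
  have hn11 : n₀ * e.x11 * n₀⁻¹ = e.x10⁻¹ := by
    calc n₀ * e.x11 * n₀⁻¹ = e.x6 * (z * (e.x6 * e.x11 * e.x6⁻¹) * z⁻¹) * e.x6⁻¹ := by
          show e.x6 * z * e.x6 * e.x11 * (e.x6 * z * e.x6)⁻¹ = _
          group
      _ = e.x6 * (e.x11 * e.x10⁻¹) * e.x6⁻¹ := by rw [hx11, hz']
      _ = (e.x6 * e.x11 * e.x6⁻¹) * (e.x6 * e.x10 * e.x6⁻¹)⁻¹ := by group
      _ = e.x10⁻¹ := by
        rw [hx11, hx10, mul_inv_rev, ← mul_assoc, show e.x11 * e.x10⁻¹ = e.x10⁻¹ * e.x11 from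
          ((show Commute e.x10 e.x11 from h.c1011).inv_left).eq.symm, mul_inv_cancel_right]
  -- the normaliser of the two root groups
  let D : Subgroup G := normalizer (zpowers e.x10 : Set G) ⊓ normalizer (zpowers e.x11 : Set G)
  have hDmem : ∀ g : G, g ∈ D ↔ g * e.x10 * g⁻¹ ∈ zpowers e.x10 ∧ g * e.x11 * g⁻¹ ∈ zpowers e.x11 := by
    intro g
    constructor
    · intro hg
      obtain ⟨h1, h2⟩ := mem_inf.1 hg
      exact ⟨(mem_normalizer_iff.1 h1 _).1 (mem_zpowers _), (mem_normalizer_iff.1 h2 _).1 (mem_zpowers _)⟩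
    · rintro ⟨h1, h2⟩
      exact mem_inf.2 ⟨mem_norm_zpowers h1, mem_norm_zpowers h2⟩
  have hTact : ∀ τ ∈ T e, ∃ i < 4, ∃ j < 4, τ = e.t6 ^ i * e.t7 ^ j ∧ (∀ m : ℕ, τ * e.x10 ^ m * τ⁻¹ =
      e.x10 ^ (m * 3 ^ j * 3 ^ i)) ∧ ∀ m : ℕ, τ * e.x11 ^ m * τ⁻¹ = e.x11 ^ (m * 2 ^ i) := by
    intro τ hτ
    obtain ⟨i, hi, j, hj, rfl⟩ := mem_T h hτ
    exact ⟨i, hi, j, hj, rfl, conj_x10 h i j, conj_x11 h i j⟩
  have hTD : T e ≤ D := by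
    intro τ hτ
    obtain ⟨i, -, j, -, -, h1, h2⟩ := hTact τ hτ
    rw [hDmem]
    have h3 := h1 1
    have h4 := h2 1
    rw [pow_one] at h3 h4
    rw [h3, h4]
    exact ⟨npow_mem_zpowers _ _, npow_mem_zpowers _ _⟩
  let K : Subgroup G := centralizer {e.x10} ⊓ centralizer {e.x11}
  have hKmem : ∀ g : G, g ∈ K ↔ g * e.x10 = e.x10 * g ∧ g * e.x11 = e.x11 * g := by
    intro g
    rw [mem_inf, mem_centralizer_singleton_iff, mem_centralizer_singleton_iff]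
  have hKD : K ≤ D := by
    intro g hg
    obtain ⟨h1, h2⟩ := (hKmem g).1 hg
    rw [hDmem, mul_inv_eq_iff_eq_mul.2 h1, mul_inv_eq_iff_eq_mul.2 h2]
    exact ⟨mem_zpowers _, mem_zpowers _⟩
  have hK5 : IsPGroup 5 K := (isPGroup_R h).to_le (fun g hg => hc g ((hKmem g).1 hg).1 ((hKmem g).1 hg).2)
  -- decomposition
  have hdec : ∀ d ∈ D, ∃ τ ∈ T e, τ⁻¹ * d ∈ K := by
    intro d hd
    obtain ⟨h1, h2⟩ := (hDmem d).1 hd
    obtain ⟨a, ha, h1⟩ := exists_pow h.p10 h1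
    obtain ⟨b, hb, h2⟩ := exists_pow h.p11 h2
    have ha0 : a ≠ 0 := by
      rintro rfl
      rw [pow_zero] at h1
      have := conj_eq_one_iff.1 h1
      rw [this, orderOf_one] at ho10
      norm_num at ho10
    have hb0 : b ≠ 0 := by
      rintro rfl
      rw [pow_zero] at h2
      exact h11 (conj_eq_one_iff.1 h2)
    obtain ⟨i, hi, j, hj, h3, h4⟩ := exists_ij ha hb ha0 hb0
    refine ⟨e.t6 ^ i * e.t7 ^ j, mul_mem (pow_mem (subset_closure (by simp)) i) (pow_mem (subset_closure (by simp)) j),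
      ?_⟩
    have h6 := conj_x10 h i j 1
    have h7 := conj_x11 h i j 1
    have h8 : e.x10 ^ (1 * 3 ^ j * 3 ^ i) = e.x10 ^ a := by
      rw [pow_eq_pow_iff_modEq, ho10, Nat.ModEq, h3, Nat.mod_eq_of_lt ha]
    have h9 : e.x11 ^ (1 * 2 ^ i) = e.x11 ^ b := by
      rw [pow_eq_pow_iff_modEq, ho11, Nat.ModEq, h4, Nat.mod_eq_of_lt hb]
    rw [h8, pow_one, ← h1] at h6
    rw [h9, pow_one, ← h2] at h7
    generalize e.t6 ^ i * e.t7 ^ j = τ at h6 h7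
    rw [hKmem]
    constructor
    · rw [← mul_inv_eq_iff_eq_mul]
      calc τ⁻¹ * d * e.x10 * (τ⁻¹ * d)⁻¹ = τ⁻¹ * (d * e.x10 * d⁻¹) * τ := by group
        _ = τ⁻¹ * (τ * e.x10 * τ⁻¹) * τ := by rw [h6]
        _ = e.x10 := by group
    · rw [← mul_inv_eq_iff_eq_mul]
      calc τ⁻¹ * d * e.x11 * (τ⁻¹ * d)⁻¹ = τ⁻¹ * (d * e.x11 * d⁻¹) * τ := by group
        _ = τ⁻¹ * (τ * e.x11 * τ⁻¹) * τ := by rw [h7]
        _ = e.x11 := by group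
  have hTK : ∀ τ ∈ T e, τ ∈ K → τ = 1 := by
    intro τ hτ hτK
    obtain ⟨h1, h2⟩ := (hKmem τ).1 hτK
    obtain ⟨i, hi, j, hj, rfl, h3, h4⟩ := hTact τ hτ
    have h5 := h3 1
    have h6 := h4 1
    rw [pow_one, mul_inv_eq_iff_eq_mul.2 h1] at h5
    rw [pow_one, mul_inv_eq_iff_eq_mul.2 h2] at h6
    have h7 : e.x11 ^ 1 = e.x11 ^ (1 * 2 ^ i) := by rw [pow_one]; exact h6
    have h8 : e.x10 ^ 1 = e.x10 ^ (1 * 3 ^ j * 3 ^ i) := by rw [pow_one]; exact h5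
    rw [pow_eq_pow_iff_modEq, ho11] at h7
    rw [pow_eq_pow_iff_modEq, ho10] at h8
    have h9 : ∀ i < 4, ∀ j < 4, 1 ≡ 1 * 2 ^ i [MOD 5] → 1 ≡ 1 * 3 ^ j * 3 ^ i [MOD 5] → i = 0 ∧ j = 0 := by decide
    obtain ⟨rfl, rfl⟩ := h9 i hi j hj h7 h8
    rw [pow_zero, pow_zero, one_mul]
  -- the conjugate of the torus
  have hn10' : n₀⁻¹ * e.x11 * n₀ = e.x10 := by rw [← hn10]; group
  have hn11' : n₀⁻¹ * e.x10 * n₀ = e.x11⁻¹ := by
    have : e.x10 = (n₀ * e.x11 * n₀⁻¹)⁻¹ := by rw [hn11, inv_inv]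
    rw [this]; group
  let Q : Subgroup G := (T e).map (MulAut.conj n₀).toMonoidHom
  have hQD : Q ≤ D := by
    rintro _ ⟨τ, hτ, rfl⟩
    show n₀ * τ * n₀⁻¹ ∈ D
    obtain ⟨h1, h2⟩ := (hDmem τ).1 (hTD hτ)
    have hp : ∀ y ∈ zpowers e.x10, n₀ * y * n₀⁻¹ ∈ zpowers e.x11 := by
      rintro _ ⟨k, rfl⟩
      have : n₀ * e.x10 ^ k * n₀⁻¹ = (n₀ * e.x10 * n₀⁻¹) ^ k := conj_zpow.symm
      show n₀ * e.x10 ^ k * n₀⁻¹ ∈ _
      rw [this, hn10]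
      exact zpow_mem (mem_zpowers _) k
    have hq : ∀ y ∈ zpowers e.x11, n₀ * y * n₀⁻¹ ∈ zpowers e.x10 := by
      rintro _ ⟨k, rfl⟩
      have : n₀ * e.x11 ^ k * n₀⁻¹ = (n₀ * e.x11 * n₀⁻¹) ^ k := conj_zpow.symm
      show n₀ * e.x11 ^ k * n₀⁻¹ ∈ _
      rw [this, hn11]
      exact zpow_mem (inv_mem (mem_zpowers _)) k
    rw [hDmem]
    constructor
    · have h3 : n₀ * τ * n₀⁻¹ * e.x10 * (n₀ * τ * n₀⁻¹)⁻¹ = n₀ * (τ * (n₀⁻¹ * e.x10 * n₀) * τ⁻¹) * n₀⁻¹ := by group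
      rw [h3, hn11']
      apply hq
      have h4 : τ * e.x11⁻¹ * τ⁻¹ = (τ * e.x11 * τ⁻¹)⁻¹ := by group
      rw [h4]
      exact inv_mem h2
    · have h3 : n₀ * τ * n₀⁻¹ * e.x11 * (n₀ * τ * n₀⁻¹)⁻¹ = n₀ * (τ * (n₀⁻¹ * e.x11 * n₀) * τ⁻¹) * n₀⁻¹ := by group
      rw [h3, hn10']
      exact hp _ h1
  obtain ⟨g, hg⟩ := exists_conj_le (T := (T e).subgroupOf D) (Q := Q.subgroupOf D) (K := K.subgroupOf D)
    ((isPGroup_T h).of_equiv (subgroupOfEquivOfLe hTD).symm)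
    (((isPGroup_T h).map _).of_equiv (subgroupOfEquivOfLe hQD).symm)
    (hK5.of_equiv (subgroupOfEquivOfLe hKD).symm) (by
      rw [disjoint_iff_inf_le]
      intro x hx
      rw [mem_bot]
      exact Subtype.ext (hTK x (mem_subgroupOf.1 (mem_inf.1 hx).1) (mem_subgroupOf.1 (mem_inf.1 hx).2))) (by
      intro d
      obtain ⟨τ, hτ, hk⟩ := hdec d d.2
      exact ⟨⟨τ, hTD hτ⟩, mem_subgroupOf.2 hτ, ⟨τ⁻¹ * d, hKD hk⟩, mem_subgroupOf.2 hk, Subtype.ext (by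
        show (d : G) = τ * (τ⁻¹ * d); group)⟩)
  have hginv : (g : G)⁻¹ ∈ D := inv_mem g.2
  obtain ⟨hg1, hg2⟩ := (hDmem _).1 hginv
  refine ⟨(g : G)⁻¹ * n₀, ?_, ?_, ?_⟩
  · intro τ hτ
    have h1 := hg ⟨n₀ * τ * n₀⁻¹, hQD ⟨τ, hτ, rfl⟩⟩ (mem_subgroupOf.2 ⟨τ, hτ, rfl⟩)
    have h2 : (g : G)⁻¹ * (n₀ * τ * n₀⁻¹) * g ∈ T e := mem_subgroupOf.1 h1
    have h3 : (g : G)⁻¹ * n₀ * τ * ((g : G)⁻¹ * n₀)⁻¹ = (g : G)⁻¹ * (n₀ * τ * n₀⁻¹) * g := by group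
    rw [h3]; exact h2
  · have h3 : (g : G)⁻¹ * n₀ * e.x10 * ((g : G)⁻¹ * n₀)⁻¹ = (g : G)⁻¹ * (n₀ * e.x10 * n₀⁻¹) * (g : G)⁻¹⁻¹ := by group
    rw [h3, hn10]; exact hg2
  · have h3 : (g : G)⁻¹ * n₀ * e.x11 * ((g : G)⁻¹ * n₀)⁻¹ = ((g : G)⁻¹ * (n₀ * e.x11 * n₀⁻¹)⁻¹ * (g : G)⁻¹⁻¹)⁻¹ := by
      group
    rw [h3, hn11, inv_inv]; exact inv_mem hg1

end hex

open Cfsg.Agent.SporRec.LyType Cfsg.Agent.SporRec.LyFive Cfsg.Agent.SporRec.LyHexIn in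
/-- (B3): an element normalising the torus and swapping the two root groups. -/
theorem exists_n {G : Type*} [Group G] [Finite G] {L : LyType G} {F : LyFive L} (I : HexIn F)
    (hc : ∀ g : G, g * I.e.x10 = I.e.x10 * g → g * I.e.x11 = I.e.x11 * g → g ∈ R I.e) {z : G}
    (hz : z * I.e.x10 = I.e.x10 * z) (hz' : z * I.e.x11 * z⁻¹ = I.e.x11 * I.e.x10⁻¹) :
    ∃ n : G, (∀ τ ∈ T I.e, n * τ * n⁻¹ ∈ T I.e) ∧ n * I.e.x10 * n⁻¹ ∈ zpowers I.e.x11 ∧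
      n * I.e.x11 * n⁻¹ ∈ zpowers I.e.x10 :=
  exists_n_aux I.rel I.x11_ne hc hz hz'

end Cfsg.Agent.SporRec.LyHexB3
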