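import Cfsg.Agent.SporRec.LyHexIn
import Cfsg.Agent.R10.CliffWord

/-!
# Groups of Lyons type: the centraliser of the torus `T`

`C_G(T) = T × ⟨x⟩`, `x` the lift of order three of `(3 5 10)`; `x` commutes with `A`.
-/

set_option autoImplicit false
set_option linter.dupNamespace false

namespace Cfsg.Agent.SporRec.LyHexB4

open Subgroup Equiv Cfsg.Agent.SporRec.TwoAn Cfsg.Agent.SporRec.LyType Cfsg.Agent.SporRec.LyFive
open Cfsg.Agent.SporRec.LyHexRel Cfsg.Agent.SporRec.LyHexCount Cfsg.Agent.SporRec.LyHexIn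
open Cfsg.Agent.R10.CliffWord Cfsg.Agent.R10.CliffSign

/-- Even permutations fixing all points but `3, 5, 10`; and odd ones. -/
theorem perm_three {σ : Perm (Fin 11)} (h0 : σ 0 = 0) (h1 : σ 1 = 1) (h2 : σ 2 = 2) (h4 : σ 4 = 4) (h6 : σ 6 = 6)
    (h7 : σ 7 = 7) (h8 : σ 8 = 8) (h9 : σ 9 = 9) :
    σ = 1 ∨ σ = swap 3 5 * swap 5 10 ∨ σ = swap 5 10 * swap 3 5 ∨ σ = swap 3 5 ∨ σ = swap 3 10 ∨ σ = swap 5 10 := by
  have key : ∀ y : Fin 11, y ≠ 0 → y ≠ 1 → y ≠ 2 → y ≠ 4 → y ≠ 6 → y ≠ 7 → y ≠ 8 → y ≠ 9 → y = 3 ∨ y = 5 ∨ y = 10 := by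
    intro y
    fin_cases y <;> simp
  have hs : ∀ y : Fin 11, (y = 3 ∨ y = 5 ∨ y = 10) → (σ y = 3 ∨ σ y = 5 ∨ σ y = 10) := by
    intro y hy
    have hne : ∀ x : Fin 11, σ x = x → y ≠ x → σ y ≠ x := fun x hx hyx h => hyx (σ.injective (h.trans hx.symm))
    apply key <;> first
      | exact hne _ h0 (by rcases hy with rfl | rfl | rfl <;> decide)
      | exact hne _ h1 (by rcases hy with rfl | rfl | rfl <;> decide)
      | exact hne _ h2 (by rcases hy with rfl | rfl | rfl <;> decide)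
      | exact hne _ h4 (by rcases hy with rfl | rfl | rfl <;> decide)
      | exact hne _ h6 (by rcases hy with rfl | rfl | rfl <;> decide)
      | exact hne _ h7 (by rcases hy with rfl | rfl | rfl <;> decide)
      | exact hne _ h8 (by rcases hy with rfl | rfl | rfl <;> decide)
      | exact hne _ h9 (by rcases hy with rfl | rfl | rfl <;> decide)
  have hext : ∀ ρ : Perm (Fin 11), σ 3 = ρ 3 → σ 5 = ρ 5 → σ 10 = ρ 10 →
      (ρ 0 = 0 ∧ ρ 1 = 1 ∧ ρ 2 = 2 ∧ ρ 4 = 4 ∧ ρ 6 = 6 ∧ ρ 7 = 7 ∧ ρ 8 = 8 ∧ ρ 9 = 9) → σ = ρ := by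
    intro ρ e3 e5 e10 ⟨r0, r1, r2, r4, r6, r7, r8, r9⟩
    refine Equiv.ext fun x => ?_
    fin_cases x
    exacts [h0.trans r0.symm, h1.trans r1.symm, h2.trans r2.symm, e3, h4.trans r4.symm, e5, h6.trans r6.symm,
      h7.trans r7.symm, h8.trans r8.symm, h9.trans r9.symm, e10]
  have i35 : σ 3 ≠ σ 5 := fun h => absurd (σ.injective h) (by decide)
  have i310 : σ 3 ≠ σ 10 := fun h => absurd (σ.injective h) (by decide)
  have i510 : σ 5 ≠ σ 10 := fun h => absurd (σ.injective h) (by decide)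
  rcases hs 3 (Or.inl rfl) with a | a | a <;> rcases hs 5 (Or.inr (Or.inl rfl)) with b | b | b <;>
    rcases hs 10 (Or.inr (Or.inr rfl)) with c | c | c <;>
    first
      | exact absurd (a.trans b.symm) i35
      | exact absurd (a.trans c.symm) i310
      | exact absurd (b.trans c.symm) i510
      | exact Or.inl (hext _ (a.trans (by decide)) (b.trans (by decide)) (c.trans (by decide)) (by decide))
      | exact Or.inr (Or.inl (hext _ (a.trans (by decide)) (b.trans (by decide)) (c.trans (by decide)) (by decide)))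
      | exact Or.inr (Or.inr (Or.inl (hext _ (a.trans (by decide)) (b.trans (by decide)) (c.trans (by decide))
          (by decide))))
      | exact Or.inr (Or.inr (Or.inr (Or.inl (hext _ (a.trans (by decide)) (b.trans (by decide)) (c.trans (by decide))
          (by decide)))))
      | exact Or.inr (Or.inr (Or.inr (Or.inr (Or.inl (hext _ (a.trans (by decide)) (b.trans (by decide))
          (c.trans (by decide)) (by decide))))))
      | exact Or.inr (Or.inr (Or.inr (Or.inr (Or.inr (hext _ (a.trans (by decide)) (b.trans (by decide))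
          (c.trans (by decide)) (by decide))))))

/-- Words. -/
abbrev Wd := List (Fin 11 × Fin 11)

def w6 : Wd := [(0, 4), (4, 1), (1, 2), (6, 7), (7, 9), (9, 8)]
def w7 : Wd := [(0, 1), (2, 4)]
def wA : Wd := [(0, 4), (1, 2)]
/-- the 3-cycle -/
def wx : Wd := [(3, 5), (5, 10)]
/-- `(6 7 9 8)` -/
def wc : Wd := [(6, 7), (7, 9), (9, 8)]

section val

variable {C : Type*} [Group C] {K : Cover (Fin 11) C} (ev : Eval K)

theorem lift_val {g : C} {w : Wd} (hw : ok w = true) (h : ∀ x, K.π g x = pw w x) :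
    g = ev.val w ∨ g = ev.val w * K.z :=
  K.lift_eq (Equiv.ext fun x => by rw [h x, ev.π_val hw])

theorem comm_val {g h : C} {v w : Wd} (hv : ok v = true) (hw : ok w = true)
    (hg : g = ev.val v ∨ g = ev.val v * K.z) (hh : h = ev.val w ∨ h = ev.val w * K.z)
    (hc : good ((v ++ w) ++ (w ++ v).reverse) = true) : g * h = h * g := by
  have h1 : ev.val v * ev.val w = ev.val w * ev.val v := by
    rw [ev.val_mul hv hw, ev.val_mul hw hv]
    exact ev.val_eq (ok_append hv hw) (ok_append hw hv) hc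
  have hz : ∀ x : C, x * K.z = K.z * x := K.z_comm
  have h1' : Commute (ev.val v) (ev.val w) := h1
  have h2 : ∀ x, Commute x K.z := fun x => hz x
  rcases hg with rfl | rfl <;> rcases hh with rfl | rfl
  · exact h1
  · exact (h1'.mul_right (h2 _)).eq
  · exact (h1'.mul_left (h2 _).symm).eq
  · exact ((h1'.mul_left (h2 _).symm).mul_right ((h2 _).mul_left (Commute.refl _))).eq

theorem anti_val {g h : C} {v w : Wd} (hv : ok v = true) (hw : ok w = true)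
    (hg : g = ev.val v ∨ g = ev.val v * K.z) (hh : h = ev.val w ∨ h = ev.val w * K.z)
    (hc : good ((v ++ w) ++ ((w ++ v) ++ zw).reverse) = true) : g * h ≠ h * g := by
  have h1 : ev.val v * ev.val w = ev.val w * ev.val v * K.z := by
    rw [ev.val_mul hv hw, ev.val_mul hw hv, ← ev.val_zw, ev.val_mul (ok_append hw hv) (by decide)]
    exact ev.val_eq (ok_append hv hw) (ok_append (ok_append hw hv) (by decide)) hc
  have h2 : ∀ x, Commute x K.z := fun x => K.z_comm x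
  intro h3
  apply K.mul_z_ne (ev.val w * ev.val v)
  rw [← h1]
  rcases hg with rfl | rfl <;> rcases hh with rfl | rfl
  · exact h3
  · rw [← mul_assoc, mul_assoc (ev.val w) K.z, ← (h2 (ev.val v)).eq, ← mul_assoc] at h3
    exact mul_right_cancel h3
  · rw [← mul_assoc, mul_assoc (ev.val v) K.z, ← (h2 (ev.val w)).eq, ← mul_assoc] at h3
    exact mul_right_cancel h3
  · rw [← mul_assoc, mul_assoc (ev.val v) K.z, ← (h2 (ev.val w)).eq, ← mul_assoc, ← mul_assoc,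
      mul_assoc (ev.val w) K.z, ← (h2 (ev.val v)).eq, ← mul_assoc] at h3
    exact mul_right_cancel (mul_right_cancel h3)

end val

variable {G : Type*} [Group G] {L : LyType G} {F : LyFive L} (I : HexIn F)

theorem t_mem_T : L.t ∈ T I.e := by
  rw [← I.t7_sq]
  exact pow_mem (subset_closure (by simp)) 2

theorem t6_mem_T : I.e.t6 ∈ T I.e := subset_closure (by simp)

theorem t7_mem_T : I.e.t7 ∈ T I.e := subset_closure (by simp)

set_option maxHeartbeats 2000000 in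
/-- `C_G(T) = T × ⟨x⟩`. -/
theorem cent_T : ∃ x : G, x ^ 3 = 1 ∧ x * L.t = L.t * x ∧ x * I.e.A = I.e.A * x ∧ (∀ τ ∈ T I.e, x * τ = τ * x) ∧
    ∀ g, g * I.e.t6 = I.e.t6 * g → g * I.e.t7 = I.e.t7 * g → ∃ τ ∈ T I.e, ∃ i : ℕ, g = τ * x ^ i := by
  obtain ⟨ev⟩ := exists_eval L.K
  have l6 := lift_val ev (g := ⟨I.e.t6, L.mem_iff.2 I.kt6⟩) (w := w6) (by decide) (by rw [I.πt6]; decide)
  have l7 := lift_val ev (g := ⟨I.e.t7, L.mem_iff.2 I.kt7⟩) (w := w7) (by decide) (by rw [I.πt7]; decide)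
  have lA := lift_val ev (g := ⟨I.e.A, L.mem_iff.2 I.kA⟩) (w := wA) (by decide) (by rw [I.πA]; decide)
  have hx3 : ev.val wx ^ 3 = 1 := by
    rw [ev.val_pow (by decide), ← ev.val_nil]
    exact ev.val_eq (by decide) (by decide) (by decide +kernel)
  have x6 : ev.val wx * ⟨I.e.t6, L.mem_iff.2 I.kt6⟩ = ⟨I.e.t6, L.mem_iff.2 I.kt6⟩ * ev.val wx :=
    comm_val ev (v := wx) (w := w6) (by decide) (by decide) (Or.inl rfl) l6 (by decide +kernel)
  have x7 : ev.val wx * ⟨I.e.t7, L.mem_iff.2 I.kt7⟩ = ⟨I.e.t7, L.mem_iff.2 I.kt7⟩ * ev.val wx :=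
    comm_val ev (v := wx) (w := w7) (by decide) (by decide) (Or.inl rfl) l7 (by decide +kernel)
  have xA : ev.val wx * ⟨I.e.A, L.mem_iff.2 I.kA⟩ = ⟨I.e.A, L.mem_iff.2 I.kA⟩ * ev.val wx :=
    comm_val ev (v := wx) (w := wA) (by decide) (by decide) (Or.inl rfl) lA (by decide +kernel)
  have X6 := congrArg Subtype.val x6
  have X7 := congrArg Subtype.val x7
  have XA := congrArg Subtype.val xA
  refine ⟨ev.val wx, congrArg Subtype.val hx3, L.mem_iff.1 (ev.val wx).2, XA, ?_, ?_⟩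
  · have h1 : T I.e ≤ centralizer {(ev.val wx : G)} := by
      rw [T, closure_le]
      rintro τ (rfl | rfl)
      · exact mem_centralizer_singleton_iff.2 X6.symm
      · exact mem_centralizer_singleton_iff.2 X7.symm
    exact fun τ hτ => (mem_centralizer_singleton_iff.1 (h1 hτ)).symm
  -- reduction of the class
  have hTc : ∀ τ ∈ T I.e, τ * I.e.t6 = I.e.t6 * τ ∧ τ * I.e.t7 = I.e.t7 * τ := by
    intro τ hτ
    have h1 : T I.e ≤ centralizer {I.e.t6} ⊓ centralizer {I.e.t7} := by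
      rw [T, closure_le]
      rintro τ (rfl | rfl)
      · exact ⟨mem_centralizer_singleton_iff.2 rfl, mem_centralizer_singleton_iff.2 I.rel.q67⟩
      · exact ⟨mem_centralizer_singleton_iff.2 I.rel.q67.symm, mem_centralizer_singleton_iff.2 rfl⟩
    exact ⟨mem_centralizer_singleton_iff.1 (h1 hτ).1, mem_centralizer_singleton_iff.1 (h1 hτ).2⟩
  have hmove : ∀ (τ g : G), τ ∈ T I.e → (∃ τ' ∈ T I.e, ∃ i : ℕ, τ⁻¹ * g = τ' * (ev.val wx : G) ^ i) →
      ∃ τ' ∈ T I.e, ∃ i : ℕ, g = τ' * (ev.val wx : G) ^ i := by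
    rintro τ g hτ ⟨τ', hτ', i, hi⟩
    exact ⟨τ * τ', mul_mem hτ hτ', i, by rw [mul_assoc, ← hi, mul_inv_cancel_left]⟩
  have hcomm : ∀ (τ g : G), τ ∈ T I.e → g * I.e.t6 = I.e.t6 * g → g * I.e.t7 = I.e.t7 * g →
      (τ⁻¹ * g) * I.e.t6 = I.e.t6 * (τ⁻¹ * g) ∧ (τ⁻¹ * g) * I.e.t7 = I.e.t7 * (τ⁻¹ * g) := by
    intro τ g hτ h6 h7
    obtain ⟨c6, c7⟩ := hTc _ (inv_mem hτ)
    exact ⟨by rw [mul_assoc, h6, ← mul_assoc, c6, mul_assoc], by rw [mul_assoc, h7, ← mul_assoc, c7, mul_assoc]⟩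
  -- `π g` commutes with `π t6` and `π t7`
  have hπ6 : ∀ (g : G) (hg : g * L.t = L.t * g), g * I.e.t6 = I.e.t6 * g →
      ∀ y, L.K.π ⟨g, L.mem_iff.2 hg⟩ (pt6 y) = pt6 (L.K.π ⟨g, L.mem_iff.2 hg⟩ y) := by
    intro g hg h6 y
    have h1 : (⟨g, L.mem_iff.2 hg⟩ : centralizer ({L.t} : Set G)) * ⟨I.e.t6, L.mem_iff.2 I.kt6⟩ =
        ⟨I.e.t6, L.mem_iff.2 I.kt6⟩ * ⟨g, L.mem_iff.2 hg⟩ := Subtype.ext h6
    have h2 := congrArg L.K.π h1
    rw [map_mul, map_mul, I.πt6] at h2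
    exact DFunLike.congr_fun h2 y
  have hπ7 : ∀ (g : G) (hg : g * L.t = L.t * g), g * I.e.t7 = I.e.t7 * g →
      ∀ y, L.K.π ⟨g, L.mem_iff.2 hg⟩ (pt7 y) = pt7 (L.K.π ⟨g, L.mem_iff.2 hg⟩ y) := by
    intro g hg h7 y
    have h1 : (⟨g, L.mem_iff.2 hg⟩ : centralizer ({L.t} : Set G)) * ⟨I.e.t7, L.mem_iff.2 I.kt7⟩ =
        ⟨I.e.t7, L.mem_iff.2 I.kt7⟩ * ⟨g, L.mem_iff.2 hg⟩ := Subtype.ext h7
    have h2 := congrArg L.K.π h1
    rw [map_mul, map_mul, I.πt7] at h2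
    exact DFunLike.congr_fun h2 y
  have hz : ∀ g : G, ∀ hg : g * L.t = L.t * g, ∀ w : Wd, ∀ i : ℕ, ev.val w = ev.val wx ^ i →
      ((⟨g, L.mem_iff.2 hg⟩ : centralizer ({L.t} : Set G)) = ev.val w ∨
        (⟨g, L.mem_iff.2 hg⟩ : centralizer ({L.t} : Set G)) = ev.val w * L.K.z) →
      ∃ τ' ∈ T I.e, ∃ i : ℕ, g = τ' * (ev.val wx : G) ^ i := by
    intro g hg w i hi h
    rcases h with h | h
    · refine ⟨1, one_mem _, i, ?_⟩
      rw [one_mul, ← SubgroupClass.coe_pow, ← hi, ← h]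
    · refine ⟨L.t, t_mem_T I, i, ?_⟩
      rw [← SubgroupClass.coe_pow, ← hi]
      calc g = (ev.val w : G) * (L.K.z : G) := congrArg Subtype.val h
        _ = (L.K.z : G) * ev.val w := congrArg Subtype.val (L.K.z_comm (ev.val w))
        _ = L.t * ev.val w := congrArg (· * (ev.val w : G)) L.hz
  -- the two reduced cases
  have hA : ∀ (g : G) (hg : g * L.t = L.t * g), g * I.e.t6 = I.e.t6 * g →
      L.K.π ⟨g, L.mem_iff.2 hg⟩ 0 = 0 → L.K.π ⟨g, L.mem_iff.2 hg⟩ 6 = 6 →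
      ∃ τ' ∈ T I.e, ∃ i : ℕ, g = τ' * (ev.val wx : G) ^ i := by
    intro g hg h6 g0 g6
    have c6 := hπ6 g hg h6
    have hev := L.K.mem_alternating ⟨g, L.mem_iff.2 hg⟩
    have hz' := hz g hg
    have hl : ∀ w : Wd, ok w = true → (∀ x, L.K.π ⟨g, L.mem_iff.2 hg⟩ x = pw w x) → _ :=
      fun w hw h => lift_val ev (g := ⟨g, L.mem_iff.2 hg⟩) hw h
    generalize L.K.π ⟨g, L.mem_iff.2 hg⟩ = σ at *
    have g4 : σ 4 = 4 := by have := c6 0; rwa [g0] at this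
    have g1 : σ 1 = 1 := by have := c6 4; rwa [g4] at this
    have g2 : σ 2 = 2 := by have := c6 1; rwa [g1] at this
    have g7 : σ 7 = 7 := by have := c6 6; rwa [g6] at this
    have g9 : σ 9 = 9 := by have := c6 7; rwa [g7] at this
    have g8 : σ 8 = 8 := by have := c6 9; rwa [g9] at this
    rcases perm_three g0 g1 g2 g4 g6 g7 g8 g9 with rfl | rfl | rfl | rfl | rfl | rfl
    · exact hz' [] 0 (by rw [ev.val_nil, pow_zero]) (hl [] (by decide) (by decide))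
    · exact hz' wx 1 (by rw [pow_one]) (hl wx (by decide) (by decide))
    · refine hz' wx.reverse 2 ?_ (hl wx.reverse (by decide) (by decide))
      rw [← ev.val_inv (by decide), inv_eq_iff_mul_eq_one, ← pow_succ', hx3]
    · exact absurd hev (by rw [Perm.mem_alternatingGroup]; decide)
    · exact absurd hev (by rw [Perm.mem_alternatingGroup]; decide)
    · exact absurd hev (by rw [Perm.mem_alternatingGroup]; decide)
  have hB : ∀ (g : G) (hg : g * L.t = L.t * g), g * I.e.t6 = I.e.t6 * g →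
      L.K.π ⟨g, L.mem_iff.2 hg⟩ 0 = 0 → L.K.π ⟨g, L.mem_iff.2 hg⟩ 6 = 7 → False := by
    intro g hg h6 g0 g6
    have c6 := hπ6 g hg h6
    have hev := L.K.mem_alternating ⟨g, L.mem_iff.2 hg⟩
    have hC : (⟨g, L.mem_iff.2 hg⟩ : centralizer ({L.t} : Set G)) * ⟨I.e.t6, L.mem_iff.2 I.kt6⟩ =
      ⟨I.e.t6, L.mem_iff.2 I.kt6⟩ * ⟨g, L.mem_iff.2 hg⟩ := Subtype.ext h6
    have hl : ∀ w : Wd, ok w = true → (∀ x, L.K.π ⟨g, L.mem_iff.2 hg⟩ x = pw w x) →
        good ((w ++ w6) ++ ((w6 ++ w) ++ zw).reverse) = true → False :=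
      fun w hw h hgd => anti_val ev hw (by decide) (lift_val ev hw h) l6 hgd hC
    generalize L.K.π ⟨g, L.mem_iff.2 hg⟩ = σ at *
    have g4 : σ 4 = 4 := by have := c6 0; rwa [g0] at this
    have g1 : σ 1 = 1 := by have := c6 4; rwa [g4] at this
    have g2 : σ 2 = 2 := by have := c6 1; rwa [g1] at this
    have g7 : σ 7 = 9 := by have := c6 6; rwa [g6] at this
    have g9 : σ 9 = 8 := by have := c6 7; rwa [g7] at this
    have g8 : σ 8 = 6 := by have := c6 9; rwa [g9] at this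
    obtain ⟨ρ, rfl⟩ : ∃ ρ, σ = swap 6 7 * swap 7 9 * swap 9 8 * ρ := ⟨(swap 6 7 * swap 7 9 * swap 9 8)⁻¹ * σ, by group⟩
    have inj : ∀ {x y : Fin 11}, (swap 6 7 * swap 7 9 * swap 9 8 * ρ : Perm (Fin 11)) x = y →
        (swap 6 7 * swap 7 9 * swap 9 8 : Perm (Fin 11)) x = y → ρ x = x := fun h1 h2 =>
      (swap 6 7 * swap 7 9 * swap 9 8 : Perm (Fin 11)).injective (h1.trans h2.symm)
    rcases perm_three (inj g0 (by decide)) (inj g1 (by decide)) (inj g2 (by decide)) (inj g4 (by decide))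
      (inj g6 (by decide)) (inj g7 (by decide)) (inj g8 (by decide)) (inj g9 (by decide)) with
      rfl | rfl | rfl | rfl | rfl | rfl
    · exact absurd hev (by rw [Perm.mem_alternatingGroup]; decide)
    · exact absurd hev (by rw [Perm.mem_alternatingGroup]; decide)
    · exact absurd hev (by rw [Perm.mem_alternatingGroup]; decide)
    · exact hl (wc ++ [(3, 5)]) (by decide) (by decide) (by decide +kernel)
    · exact hl (wc ++ [(3, 10)]) (by decide) (by decide) (by decide +kernel)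
    · exact hl (wc ++ [(5, 10)]) (by decide) (by decide) (by decide +kernel)
  -- elements with `σ 0 = 0`
  have h7t : ∀ g : G, g * I.e.t7 = I.e.t7 * g → g * L.t = L.t * g := by
    intro g h7
    rw [← I.t7_sq]
    exact ((show Commute g I.e.t7 from h7).pow_right 2).eq
  have hstep : ∀ (τ : G) (hτ : τ * L.t = L.t * τ) (g : G) (hg : g * L.t = L.t * g) (hg' : (τ⁻¹ * g) * L.t = L.t * (τ⁻¹ * g))
      (x y : Fin 11), L.K.π ⟨g, L.mem_iff.2 hg⟩ x = L.K.π ⟨τ, L.mem_iff.2 hτ⟩ y →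
      L.K.π ⟨τ⁻¹ * g, L.mem_iff.2 hg'⟩ x = y := by
    intro τ hτ g hg hg' x y h
    have e1 : (⟨τ⁻¹ * g, L.mem_iff.2 hg'⟩ : centralizer ({L.t} : Set G)) =
        ⟨τ, L.mem_iff.2 hτ⟩⁻¹ * ⟨g, L.mem_iff.2 hg⟩ := rfl
    rw [e1, map_mul, Perm.mul_apply, h, ← Perm.mul_apply, ← map_mul, inv_mul_cancel, map_one, Perm.one_apply]
  have hD : ∀ (g : G) (hg : g * L.t = L.t * g), g * I.e.t6 = I.e.t6 * g → g * I.e.t7 = I.e.t7 * g →
      L.K.π ⟨g, L.mem_iff.2 hg⟩ 0 = 0 →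
      ∃ τ' ∈ T I.e, ∃ i : ℕ, g = τ' * (ev.val wx : G) ^ i := by
    intro g hg h6 h7 g0
    have hmem : I.e.t6 * I.e.t6 * I.e.t7 ∈ T I.e := mul_mem (mul_mem (t6_mem_T I) (t6_mem_T I)) (t7_mem_T I)
    have hmt : I.e.t6 * I.e.t6 * I.e.t7 * L.t = L.t * (I.e.t6 * I.e.t6 * I.e.t7) := h7t _ (hTc _ hmem).2
    obtain ⟨k6, k7⟩ := hcomm _ g hmem h6 h7
    have hπm : ∀ y, L.K.π ⟨I.e.t6 * I.e.t6 * I.e.t7, L.mem_iff.2 hmt⟩ y = pt6 (pt6 (pt7 y)) := by
      intro y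
      have e1 : (⟨I.e.t6 * I.e.t6 * I.e.t7, L.mem_iff.2 hmt⟩ : centralizer ({L.t} : Set G)) =
          ⟨I.e.t6, L.mem_iff.2 I.kt6⟩ * ⟨I.e.t6, L.mem_iff.2 I.kt6⟩ * ⟨I.e.t7, L.mem_iff.2 I.kt7⟩ := rfl
      rw [e1, map_mul, map_mul, I.πt6, I.πt7, Perm.mul_apply, Perm.mul_apply]
    have key : ∀ y : Fin 11, pt7 y = y → pt6 y ≠ y → y = 6 ∨ y = 7 ∨ y = 8 ∨ y = 9 := by decide
    have g6 := key (L.K.π ⟨g, L.mem_iff.2 hg⟩ 6) ((hπ7 g hg h7 6).symm.trans (congrArg _ (by decide)))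
      (fun h => absurd ((L.K.π ⟨g, L.mem_iff.2 hg⟩).injective ((hπ6 g hg h6 6).trans h)) (by decide))
    rcases g6 with g6 | g6 | g6 | g6
    · exact hA g hg h6 g0 g6
    · exact (hB g hg h6 g0 g6).elim
    · refine (hB _ (h7t _ k7) k6 (hstep _ hmt g hg (h7t _ k7) 0 0 ?_) (hstep _ hmt g hg (h7t _ k7) 6 7 ?_)).elim
      · rw [g0, hπm]; decide
      · rw [g6, hπm]; decide
    · refine hmove _ g hmem (hA _ (h7t _ k7) k6 (hstep _ hmt g hg (h7t _ k7) 0 0 ?_)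
        (hstep _ hmt g hg (h7t _ k7) 6 6 ?_))
      · rw [g0, hπm]; decide
      · rw [g6, hπm]; decide
  have hS : ∀ (x : Fin 11), (∀ (g : G) (hg : g * L.t = L.t * g), g * I.e.t6 = I.e.t6 * g → g * I.e.t7 = I.e.t7 * g →
      L.K.π ⟨g, L.mem_iff.2 hg⟩ 0 = x → ∃ τ' ∈ T I.e, ∃ i : ℕ, g = τ' * (ev.val wx : G) ^ i) →
      (∀ (g : G) (hg : g * L.t = L.t * g), g * I.e.t6 = I.e.t6 * g → g * I.e.t7 = I.e.t7 * g →
      L.K.π ⟨g, L.mem_iff.2 hg⟩ 0 = pt6 x → ∃ τ' ∈ T I.e, ∃ i : ℕ, g = τ' * (ev.val wx : G) ^ i) := by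
    intro x hx g hg h6 h7 g0
    obtain ⟨k6, k7⟩ := hcomm _ g (t6_mem_T I) h6 h7
    refine hmove _ g (t6_mem_T I) (hx _ (h7t _ k7) k6 k7 (hstep _ I.kt6 g hg (h7t _ k7) 0 x ?_))
    rw [g0, I.πt6]
  intro g h6 h7
  have hg := h7t g h7
  have key : ∀ y : Fin 11, pt7 y ≠ y → y = 0 ∨ y = pt6 0 ∨ y = pt6 (pt6 0) ∨ y = pt6 (pt6 (pt6 0)) := by decide
  rcases key (L.K.π ⟨g, L.mem_iff.2 hg⟩ 0) (fun h =>
      absurd ((L.K.π ⟨g, L.mem_iff.2 hg⟩).injective ((hπ7 g hg h7 0).trans h)) (by decide)) with g0 | g0 | g0 | g0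
  · exact hD g hg h6 h7 g0
  · exact hS _ hD g hg h6 h7 g0
  · exact hS _ (hS _ hD) g hg h6 h7 g0
  · exact hS _ (hS _ (hS _ hD)) g hg h6 h7 g0

end Cfsg.Agent.SporRec.LyHexB4
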