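import Cfsg.Agent.SporRec.LyHexCount
import Cfsg.Agent.SporRec.LyG2.M7

/-!
# The 7-dimensional model of `G₂(5)` and the relations `RelP`, `RelN`

The root elements of the matrix group `M7` satisfy the relations; hence a group containing elements satisfying them
admits a homomorphism from `M7`.
-/

set_option autoImplicit false
set_option linter.dupNamespace false

namespace Cfsg.Agent.SporRec.LyHexModel

open Subgroup Cfsg.Agent.SporRec.LyHexRel Cfsg.Agent.SporRec.LyHexCount
open Cfsg.Agent.SporRec.LyG2.M7 Cfsg.Agent.SporRec.LyG2.M7Data Cfsg.Agent.Lib.PackMat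
open Cfsg.Agent.SporadicRecognition.CosetCert (ev ev_nil ev_cons ev_append)

/-- the Weyl element `n_α` -/
def A7 : GL7 := X 32 * X 27 * X 32

/-- the Weyl element `n_β` -/
def N7 : GL7 := X 30 * X 29 * X 30

/-- the root elements of `M7` -/
def e7 : Els GL7 := ⟨X 30, X 32, X 34, X 36, X 38, X 40, X 42, X 44, A7⟩

macro "ev_tac" k:ident : tactic => `(tactic| (
  simp only [ev_cons, ev_nil, mul_one] at $k:ident
  simp only [e7, A7, N7, pow_succ, pow_zero, one_mul, mul_assoc]
  exact $k))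

theorem relP7 : RelP e7 where
  p6 := by
    have k := ev_eq [30, 30, 30, 30, 30] [] (by decide +kernel)
    ev_tac k
  p7 := by
    have k := ev_eq [32, 32, 32, 32, 32] [] (by decide +kernel)
    ev_tac k
  p8 := by
    have k := ev_eq [34, 34, 34, 34, 34] [] (by decide +kernel)
    ev_tac k
  p9 := by
    have k := ev_eq [36, 36, 36, 36, 36] [] (by decide +kernel)
    ev_tac k
  p10 := by
    have k := ev_eq [38, 38, 38, 38, 38] [] (by decide +kernel)
    ev_tac k
  p11 := by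
    have k := ev_eq [40, 40, 40, 40, 40] [] (by decide +kernel)
    ev_tac k
  q6 := by
    have k := ev_eq [42, 42, 42, 42] [] (by decide +kernel)
    ev_tac k
  q7 := by
    have k := ev_eq [44, 44, 44, 44] [] (by decide +kernel)
    ev_tac k
  q67 := by
    have k := ev_eq [42, 44] [44, 42] (by decide +kernel)
    ev_tac k
  s66 := by
    have k := ev_eq [42, 30] [30, 30, 30, 30, 42] (by decide +kernel)
    rw [mul_inv_eq_iff_eq_mul]
    ev_tac k
  s67 := by
    have k := ev_eq [42, 32] [32, 32, 32, 42] (by decide +kernel)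
    rw [mul_inv_eq_iff_eq_mul]
    ev_tac k
  s68 := by
    have k := ev_eq [42, 34] [34, 34, 42] (by decide +kernel)
    rw [mul_inv_eq_iff_eq_mul]
    ev_tac k
  s69 := by
    have k := ev_eq [42, 36] [36, 42] (by decide +kernel)
    rw [mul_inv_eq_iff_eq_mul]
    ev_tac k
  s610 := by
    have k := ev_eq [42, 38] [38, 38, 38, 42] (by decide +kernel)
    rw [mul_inv_eq_iff_eq_mul]
    ev_tac k
  s611 := by
    have k := ev_eq [42, 40] [40, 40, 42] (by decide +kernel)
    rw [mul_inv_eq_iff_eq_mul]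
    ev_tac k
  s76 := by
    have k := ev_eq [44, 30] [30, 30, 44] (by decide +kernel)
    rw [mul_inv_eq_iff_eq_mul]
    ev_tac k
  s77 := by
    have k := ev_eq [44, 32] [32, 32, 32, 32, 44] (by decide +kernel)
    rw [mul_inv_eq_iff_eq_mul]
    ev_tac k
  s78 := by
    have k := ev_eq [44, 34] [34, 34, 34, 44] (by decide +kernel)
    rw [mul_inv_eq_iff_eq_mul]
    ev_tac k
  s79 := by
    have k := ev_eq [44, 36] [36, 36, 44] (by decide +kernel)
    rw [mul_inv_eq_iff_eq_mul]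
    ev_tac k
  s710 := by
    have k := ev_eq [44, 38] [38, 38, 38, 44] (by decide +kernel)
    rw [mul_inv_eq_iff_eq_mul]
    ev_tac k
  s711 := by
    have k := ev_eq [44, 40] [40, 44] (by decide +kernel)
    rw [mul_inv_eq_iff_eq_mul]
    ev_tac k
  c67 := by
    have k := ev_eq [30, 32] [34, 36, 36, 36, 36, 38, 38, 38, 38, 40, 32, 30] (by decide +kernel)
    rw [mul_inv_eq_iff_eq_mul, mul_inv_eq_iff_eq_mul]
    ev_tac k
  c68 := by
    have k := ev_eq [30, 34] [34, 30] (by decide +kernel)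
    ev_tac k
  c69 := by
    have k := ev_eq [30, 36] [36, 30] (by decide +kernel)
    ev_tac k
  c610 := by
    have k := ev_eq [30, 38] [40, 38, 30] (by decide +kernel)
    rw [mul_inv_eq_iff_eq_mul, mul_inv_eq_iff_eq_mul]
    ev_tac k
  c611 := by
    have k := ev_eq [30, 40] [40, 30] (by decide +kernel)
    ev_tac k
  c78 := by
    have k := ev_eq [32, 34] [36, 36, 36, 38, 38, 40, 40, 34, 32] (by decide +kernel)
    rw [mul_inv_eq_iff_eq_mul, mul_inv_eq_iff_eq_mul]
    ev_tac k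
  c79 := by
    have k := ev_eq [32, 36] [38, 38, 38, 36, 32] (by decide +kernel)
    rw [mul_inv_eq_iff_eq_mul, mul_inv_eq_iff_eq_mul]
    ev_tac k
  c710 := by
    have k := ev_eq [32, 38] [38, 32] (by decide +kernel)
    ev_tac k
  c711 := by
    have k := ev_eq [32, 40] [40, 32] (by decide +kernel)
    ev_tac k
  c89 := by
    have k := ev_eq [34, 36] [40, 40, 40, 36, 34] (by decide +kernel)
    rw [mul_inv_eq_iff_eq_mul, mul_inv_eq_iff_eq_mul]
    ev_tac k
  c810 := by
    have k := ev_eq [34, 38] [38, 34] (by decide +kernel)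
    ev_tac k
  c811 := by
    have k := ev_eq [34, 40] [40, 34] (by decide +kernel)
    ev_tac k
  c910 := by
    have k := ev_eq [36, 38] [38, 36] (by decide +kernel)
    ev_tac k
  c911 := by
    have k := ev_eq [36, 40] [40, 36] (by decide +kernel)
    ev_tac k
  c1011 := by
    have k := ev_eq [38, 40] [40, 38] (by decide +kernel)
    ev_tac k
  a6 := by
    have k := ev_eq [32, 27, 32, 30] [38, 32, 27, 32] (by decide +kernel)
    rw [mul_inv_eq_iff_eq_mul]
    ev_tac k
  a8 := by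
    have k := ev_eq [32, 27, 32, 34] [36, 32, 27, 32] (by decide +kernel)
    rw [mul_inv_eq_iff_eq_mul]
    ev_tac k
  a9 := by
    have k := ev_eq [32, 27, 32, 36] [34, 34, 34, 34, 32, 27, 32] (by decide +kernel)
    rw [mul_inv_eq_iff_eq_mul]
    ev_tac k
  a10 := by
    have k := ev_eq [32, 27, 32, 38] [30, 30, 30, 30, 32, 27, 32] (by decide +kernel)
    rw [mul_inv_eq_iff_eq_mul]
    ev_tac k
  a11 := by
    have k := ev_eq [32, 27, 32, 40] [40, 32, 27, 32] (by decide +kernel)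
    rw [mul_inv_eq_iff_eq_mul]
    ev_tac k
  at6 := by
    have k := ev_eq [32, 27, 32, 42] [42, 44, 32, 27, 32] (by decide +kernel)
    rw [mul_inv_eq_iff_eq_mul]
    ev_tac k
  at7 := by
    have k := ev_eq [32, 27, 32, 44] [44, 44, 44, 32, 27, 32] (by decide +kernel)
    rw [mul_inv_eq_iff_eq_mul]
    ev_tac k
  aa := by
    have k := ev_eq [32, 27, 32, 32, 27, 32] [44, 44] (by decide +kernel)
    ev_tac k
  r1 := by
    have k := ev_eq [32, 27, 32, 32, 32, 27, 32] [32, 32, 32, 32, 32, 27, 32, 32, 32, 32, 32, 44, 44] (by decide +kernel)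
    ev_tac k
  r2 := by
    have k := ev_eq [32, 27, 32, 32, 32, 32, 27, 32] [32, 32, 32, 27, 32, 32, 32, 32, 44, 44, 44] (by decide +kernel)
    ev_tac k
  r3 := by
    have k := ev_eq [32, 27, 32, 32, 32, 32, 32, 27, 32] [32, 32, 32, 32, 27, 32, 32, 32, 44] (by decide +kernel)
    ev_tac k
  r4 := by
    have k := ev_eq [32, 27, 32, 32, 32, 32, 32, 32, 27, 32] [32, 32, 27, 32, 32] (by decide +kernel)
    ev_tac k

theorem relN7 : RelN e7 N7 where
  n7 := by
    have k := ev_eq [30, 29, 30, 32] [34, 30, 29, 30] (by decide +kernel)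
    rw [mul_inv_eq_iff_eq_mul]
    ev_tac k
  n8 := by
    have k := ev_eq [30, 29, 30, 34] [32, 32, 32, 32, 30, 29, 30] (by decide +kernel)
    rw [mul_inv_eq_iff_eq_mul]
    ev_tac k
  n9 := by
    have k := ev_eq [30, 29, 30, 36] [36, 30, 29, 30] (by decide +kernel)
    rw [mul_inv_eq_iff_eq_mul]
    ev_tac k
  n10 := by
    have k := ev_eq [30, 29, 30, 38] [40, 30, 29, 30] (by decide +kernel)
    rw [mul_inv_eq_iff_eq_mul]
    ev_tac k
  n11 := by
    have k := ev_eq [30, 29, 30, 40] [38, 38, 38, 38, 30, 29, 30] (by decide +kernel)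
    rw [mul_inv_eq_iff_eq_mul]
    ev_tac k
  nt6 := by
    have k := ev_eq [30, 29, 30, 42] [42, 42, 42, 30, 29, 30] (by decide +kernel)
    rw [mul_inv_eq_iff_eq_mul]
    ev_tac k
  nt7 := by
    have k := ev_eq [30, 29, 30, 44] [42, 42, 42, 44, 30, 29, 30] (by decide +kernel)
    rw [mul_inv_eq_iff_eq_mul]
    ev_tac k
  nn := by
    have k := ev_eq [30, 29, 30, 30, 29, 30] [42, 42] (by decide +kernel)
    ev_tac k
  m1 := by
    have k := ev_eq [30, 29, 30, 30, 30, 29, 30] [30, 30, 30, 30, 30, 29, 30, 30, 30, 30, 30, 42, 42] (by decide +kernel)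
    ev_tac k
  m2 := by
    have k := ev_eq [30, 29, 30, 30, 30, 30, 29, 30] [30, 30, 30, 29, 30, 30, 30, 30, 42, 42, 42] (by decide +kernel)
    ev_tac k
  m3 := by
    have k := ev_eq [30, 29, 30, 30, 30, 30, 30, 29, 30] [30, 30, 30, 30, 29, 30, 30, 30, 42] (by decide +kernel)
    ev_tac k
  m4 := by
    have k := ev_eq [30, 29, 30, 30, 30, 30, 30, 30, 29, 30] [30, 30, 29, 30, 30] (by decide +kernel)
    ev_tac k
  braid := by
    have k := ev_eq [32, 27, 32, 30, 29, 30, 32, 27, 32, 30, 29, 30, 32, 27, 32, 30, 29, 30] [30, 29, 30, 32, 27, 32, 30, 29, 30, 32, 27, 32, 30, 29, 30, 32, 27, 32] (by decide +kernel)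
    ev_tac k

theorem A7_mem : A7 ∈ M7 := M7.mul_mem (M7.mul_mem (X_mem 32) (X_mem 27)) (X_mem 32)

theorem N7_mem : N7 ∈ M7 := M7.mul_mem (M7.mul_mem (X_mem 30) (X_mem 29)) (X_mem 30)

/-- `a = n_α t₆³` -/
theorem a_eq : X 0 = A7 * X 42 ^ 3 := by
  have k := ev_eq [0] [32, 27, 32, 42, 42, 42] (by decide +kernel)
  simp only [ev_cons, ev_nil, mul_one] at k
  rw [k, A7]; simp only [pow_succ, pow_zero, one_mul, mul_assoc]

theorem b_eq : X 2 = X 32 := by
  have k := ev_eq [2] [32] (by decide +kernel)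
  simpa only [ev_cons, ev_nil, mul_one] using k

theorem c_eq : X 4 = X 34 ^ 2 * X 36 * X 38 ^ 4 * X 40 ^ 2 := by
  have k := ev_eq [4] [34, 34, 36, 38, 38, 38, 38, 40, 40] (by decide +kernel)
  simp only [ev_cons, ev_nil, mul_one] at k
  rw [k]; simp only [pow_succ, pow_zero, one_mul, mul_assoc]

theorem d_eq : X 6 = N7 * A7 * N7 * A7 * N7 * X 44 ^ 2 := by
  have k := ev_eq [6] [30, 29, 30, 32, 27, 32, 30, 29, 30, 32, 27, 32, 30, 29, 30, 44, 44] (by decide +kernel)
  simp only [ev_cons, ev_nil, mul_one] at k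
  rw [k, A7, N7]; simp only [pow_succ, pow_zero, one_mul, mul_assoc]

section hom

variable {G : Type*} [Group G] {e : Els G} (h : RelP e) {N : G} (k : RelN e N)
include h k

/-- The fibre product. -/
theorem exists_hom : ∃ φ : M7 →* G, φ ⟨X 30, X_mem 30⟩ = e.x6 ∧ φ ⟨X 32, X_mem 32⟩ = e.x7 ∧
    φ ⟨X 34, X_mem 34⟩ = e.x8 ∧ φ ⟨X 36, X_mem 36⟩ = e.x9 ∧ φ ⟨X 38, X_mem 38⟩ = e.x10 ∧
    φ ⟨X 40, X_mem 40⟩ = e.x11 ∧ φ ⟨X 42, X_mem 42⟩ = e.t6 ∧ φ ⟨X 44, X_mem 44⟩ = e.t7 ∧
    φ ⟨A7, A7_mem⟩ = e.A ∧ φ ⟨N7, N7_mem⟩ = N := by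
  set Γ : Subgroup (G × GL7) := Gam (e.prod e7) (N, N7) with hΓ
  obtain ⟨hfin, hcard⟩ := card_Gam (h.prod relP7) (k.prod relN7)
  set f : Γ →* GL7 := (MonoidHom.snd G GL7).comp Γ.subtype with hf
  have hP : ∀ p ∈ P (e.prod e7), p ∈ Γ := fun p hp => subset_closure (Or.inl hp)
  have hN : ((N, N7) : G × GL7) ∈ Γ := subset_closure (Or.inr rfl)
  have hx : ∀ p ∈ ({(e.prod e7).x6, (e.prod e7).x7, (e.prod e7).x8, (e.prod e7).x9, (e.prod e7).x10,
      (e.prod e7).x11, (e.prod e7).t6, (e.prod e7).t7, (e.prod e7).A} : Set (G × GL7)), p ∈ Γ :=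
    fun p hp => hP p (subset_closure hp)
  have g6 : ((e.x6, X 30) : G × GL7) ∈ Γ := hx _ (by simp [Els.prod, e7])
  have g7 : ((e.x7, X 32) : G × GL7) ∈ Γ := hx _ (by simp [Els.prod, e7])
  have g8 : ((e.x8, X 34) : G × GL7) ∈ Γ := hx _ (by simp [Els.prod, e7])
  have g9 : ((e.x9, X 36) : G × GL7) ∈ Γ := hx _ (by simp [Els.prod, e7])
  have g10 : ((e.x10, X 38) : G × GL7) ∈ Γ := hx _ (by simp [Els.prod, e7])
  have g11 : ((e.x11, X 40) : G × GL7) ∈ Γ := hx _ (by simp [Els.prod, e7])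
  have gt6 : ((e.t6, X 42) : G × GL7) ∈ Γ := hx _ (by simp [Els.prod, e7])
  have gt7 : ((e.t7, X 44) : G × GL7) ∈ Γ := hx _ (by simp [Els.prod, e7])
  have gA : ((e.A, A7) : G × GL7) ∈ Γ := hx _ (by simp [Els.prod, e7])
  have hrange : f.range = M7 := by
    apply le_antisymm
    · rintro _ ⟨⟨x, hxΓ⟩, rfl⟩
      have hle : Γ ≤ M7.comap (MonoidHom.snd G GL7) := by
        rw [hΓ, Gam, closure_le]
        rintro y (hy | rfl)
        · have hle2 : P (e.prod e7) ≤ M7.comap (MonoidHom.snd G GL7) := by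
            unfold P
            rw [closure_le]
            rintro z (rfl | rfl | rfl | rfl | rfl | rfl | rfl | rfl | rfl)
            · exact X_mem 30
            · exact X_mem 32
            · exact X_mem 34
            · exact X_mem 36
            · exact X_mem 38
            · exact X_mem 40
            · exact X_mem 42
            · exact X_mem 44
            · exact A7_mem
          exact hle2 hy
        · exact N7_mem
      exact hle hxΓ
    · unfold M7
      rw [closure_le]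
      have m : ∀ y : G × GL7, y ∈ Γ → y.2 ∈ f.range := fun y hy => ⟨⟨y, hy⟩, rfl⟩
      have mA := m _ gA
      have mN := m _ hN
      rintro x (rfl | rfl | rfl | rfl)
      · rw [a_eq]; exact mul_mem mA (pow_mem (m _ gt6) 3)
      · rw [b_eq]; exact m _ g7
      · rw [c_eq]
        exact mul_mem (mul_mem (mul_mem (pow_mem (m _ g8) 2) (m _ g9)) (pow_mem (m _ g10) 4)) (pow_mem (m _ g11) 2)
      · rw [d_eq]
        exact mul_mem (mul_mem (mul_mem (mul_mem (mul_mem mN mA) mN) mA) mN) (pow_mem (m _ gt7) 2)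
  have : Finite Γ := hfin
  have hbij : Function.Bijective f.rangeRestrict := by
    rw [Nat.bijective_iff_surjective_and_card]
    refine ⟨f.rangeRestrict_surjective, le_antisymm ?_
      (Nat.card_le_card_of_surjective _ f.rangeRestrict_surjective)⟩
    rw [hrange, card_M7]
    exact hcard
  have hinj : Function.Injective f := by
    intro x y hxy
    exact hbij.1 (Subtype.ext hxy)
  let E := (MulEquiv.ofBijective f.rangeRestrict hbij).trans (MulEquiv.subgroupCongr hrange)
  have hE : ∀ x : Γ, (E x : GL7) = (x : G × GL7).2 := fun x => rfl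
  let φ : M7 →* G := ((MonoidHom.fst G GL7).comp Γ.subtype).comp E.symm.toMonoidHom
  have hφ : ∀ (g : G) (x : GL7) (hm : x ∈ M7), ((g, x) : G × GL7) ∈ Γ → φ ⟨x, hm⟩ = g := by
    intro g x hm hg
    have h1 : E.symm ⟨x, hm⟩ = ⟨(g, x), hg⟩ := by
      rw [MulEquiv.symm_apply_eq]
      apply Subtype.ext
      rw [hE]
    show ((E.symm ⟨x, hm⟩ : Γ) : G × GL7).1 = g
    rw [h1]
  exact ⟨φ, hφ _ _ _ g6, hφ _ _ _ g7, hφ _ _ _ g8, hφ _ _ _ g9, hφ _ _ _ g10, hφ _ _ _ g11, hφ _ _ _ gt6,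
    hφ _ _ _ gt7, hφ _ _ _ gA, hφ _ _ _ hN⟩

end hom

end Cfsg.Agent.SporRec.LyHexModel
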