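import Cfsg.Agent.SporRec.LyHexAct

/-!
# The element `N = n_β` satisfies `RelN`
-/

set_option autoImplicit false
set_option linter.dupNamespace false
set_option linter.unusedSectionVars false

namespace Cfsg.Agent.SporRec.LyHexN

open Subgroup Cfsg.Agent.SporRec.LyHexRel Cfsg.Agent.SporRec.LyHexCount Cfsg.Agent.SporRec.LyHexAct

section main

variable {H : Type*} [Group H] {e : Els H} (h : RelP e)

include h in
theorem act6 (i : ℕ) : Act e.x10 e.x11 (e.x6 ^ i) 1 i 0 1 := by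
  have c1 : Commute e.x6 e.x11 := h.c611
  have c2 : Commute e.x10 e.x11 := h.c1011
  constructor
  · induction i with
    | zero => simp
    | succ i ih =>
      calc e.x6 ^ (i + 1) * e.x10 * (e.x6 ^ (i + 1))⁻¹ = e.x6 * (e.x6 ^ i * e.x10 * (e.x6 ^ i)⁻¹) * e.x6⁻¹ := by
            rw [pow_succ']; group
        _ = (e.x6 * e.x10 * e.x6⁻¹) * (e.x6 * e.x11 ^ i * e.x6⁻¹) := by rw [ih, pow_one]; group
        _ = e.x10 ^ 1 * e.x11 ^ (i + 1) := by
          rw [conj_of_comm h.c610, (c1.pow_right i).eq, mul_inv_cancel_right, pow_one, ← c2.eq, pow_succ', mul_assoc]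
  · rw [pow_zero, one_mul, pow_one, (c1.pow_left i).eq, mul_inv_cancel_right]

include h in
theorem actt (i : ℕ) : Act e.x10 e.x11 (e.t6 ^ i) (3 ^ i) 0 0 (2 ^ i) := by
  constructor
  · rw [wt_pow h.s610, pow_zero, mul_one]
  · rw [wt_pow h.s611, pow_zero, one_mul]

include h in
theorem comm_tN_6 : tN e * e.x6 = e.x6 * tN e := by
  have h1 := wt6 h 1 2
  have h2 : e.x6 ^ (4 ^ 1 * 2 ^ 2) = e.x6 := by rw [pow_congr h.p6 (b := 1) (by norm_num), pow_one]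
  rw [h2, mul_inv_eq_iff_eq_mul] at h1
  exact h1

include h in
theorem comm_tN_t : tN e * e.t6 = e.t6 * tN e := by
  have c : Commute e.t6 e.t7 := h.q67
  unfold tN
  rw [mul_assoc, ← (c.pow_right 2).eq, ← mul_assoc, pow_one, mul_assoc]

/-- The hypotheses on `N` after adjustment. -/
structure Adj (e : Els H) (N : H) : Prop where
  pre : Pre e N
  n7 : N * e.x7 * N⁻¹ = e.x8
  n8 : N * e.x8 * N⁻¹ = e.x7 ^ 4

variable (h11 : e.x11 ≠ 1) (h7 : e.x7 ∉ K8 e)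
  (hc : ∀ g : H, g * e.x10 = e.x10 * g → g * e.x11 = e.x11 * g → g ∈ R e) {N : H} (k : Adj e N)

include h h11 k in
theorem comm_tN_N : tN e * N = N * tN e := by
  have h1 := k.pre.torus_pow h h11 1 2
  have h2 : e.t6 ^ (3 * 1 + 3 * 2) = e.t6 ^ 1 := pow_congr4 h.q6 (by norm_num)
  rw [h2, mul_inv_eq_iff_eq_mul] at h1
  exact h1.symm

include h h11 h7 hc k in
theorem actN : Act e.x10 e.x11 N 0 1 4 0 := by
  obtain ⟨-, h10, h11'⟩ := k.pre.roots h h11 h7 hc k.n7 k.n8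
  exact ⟨by rw [h10, pow_zero, one_mul, pow_one], by rw [h11', pow_zero, mul_one]⟩

include h in
theorem congr5 {u : H} {p q r s p' q' r' s' : ℕ} (hu : Act e.x10 e.x11 u p q r s)
    (e1 : p % 5 = p' % 5) (e2 : q % 5 = q' % 5) (e3 : r % 5 = r' % 5) (e4 : s % 5 = s' % 5) :
    Act e.x10 e.x11 u p' q' r' s' :=
  hu.congr (fun _ _ hab => pow_congr h.p10 hab) (fun _ _ hab => pow_congr h.p11 hab) e1 e2 e3 e4

include h h11 h7 hc k in
/-- `N² = t₆²` -/
theorem nn : N * N = e.t6 ^ 2 := by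
  have a := actN h h11 h7 hc k
  have hxy := h.c1011
  have u := congr5 h (a.mul hxy a) (p' := 4) (q' := 0) (r' := 0) (s' := 4) (by norm_num) (by norm_num) (by norm_num)
    (by norm_num)
  have v := congr5 h (actt h 2) (p' := 4) (q' := 0) (r' := 0) (s' := 4) (by norm_num) (by norm_num) (by norm_num)
    (by norm_num)
  have cN := comm_tN_N h h11 k
  have ct := comm_tN_t h
  refine eq_of_act h h11 h7 hc u v ?_ ?_
  · rw [← mul_assoc, cN, mul_assoc, cN, mul_assoc]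
  · rw [pow_two, ← mul_assoc, ct, mul_assoc, ct, mul_assoc]

include h h11 h7 hc k in
/-- The rank one relations. -/
theorem rank (i p q l : ℕ) (hh : (i = 1 ∧ p = 4 ∧ q = 4 ∧ l = 2) ∨ (i = 2 ∧ p = 2 ∧ q = 3 ∧ l = 3) ∨
    (i = 3 ∧ p = 3 ∧ q = 2 ∧ l = 1) ∨ (i = 4 ∧ p = 1 ∧ q = 1 ∧ l = 0)) :
    N * e.x6 ^ i * N = e.x6 ^ p * N * (e.x6 ^ q * e.t6 ^ l) := by
  have a := actN h h11 h7 hc k
  have hxy := h.c1011
  have u0 := (a.mul hxy (act6 h i)).mul hxy a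
  have v0 := ((act6 h p).mul hxy a).mul hxy ((act6 h q).mul hxy (actt h l))
  have cN : Commute (tN e) N := comm_tN_N h h11 k
  have ct : Commute (tN e) e.t6 := comm_tN_t h
  have c6 : Commute (tN e) e.x6 := comm_tN_6 h
  have hu : tN e * (N * e.x6 ^ i * N) = (N * e.x6 ^ i * N) * tN e :=
    ((cN.mul_right (c6.pow_right i)).mul_right cN).eq
  have hv : tN e * (e.x6 ^ p * N * (e.x6 ^ q * e.t6 ^ l)) = (e.x6 ^ p * N * (e.x6 ^ q * e.t6 ^ l)) * tN e :=
    (((c6.pow_right p).mul_right cN).mul_right ((c6.pow_right q).mul_right (ct.pow_right l))).eq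
  rcases hh with ⟨rfl, rfl, rfl, rfl⟩ | ⟨rfl, rfl, rfl, rfl⟩ | ⟨rfl, rfl, rfl, rfl⟩ | ⟨rfl, rfl, rfl, rfl⟩
  · have u := congr5 h u0 (p' := 4) (q' := 0) (r' := 1) (s' := 4) (by norm_num) (by norm_num) (by norm_num)
      (by norm_num)
    have v := congr5 h v0 (p' := 4) (q' := 0) (r' := 1) (s' := 4) (by norm_num) (by norm_num) (by norm_num)
      (by norm_num)
    exact eq_of_act h h11 h7 hc u v hu hv
  · have u := congr5 h u0 (p' := 4) (q' := 0) (r' := 2) (s' := 4) (by norm_num) (by norm_num) (by norm_num)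
      (by norm_num)
    have v := congr5 h v0 (p' := 4) (q' := 0) (r' := 2) (s' := 4) (by norm_num) (by norm_num) (by norm_num)
      (by norm_num)
    exact eq_of_act h h11 h7 hc u v hu hv
  · have u := congr5 h u0 (p' := 4) (q' := 0) (r' := 3) (s' := 4) (by norm_num) (by norm_num) (by norm_num)
      (by norm_num)
    have v := congr5 h v0 (p' := 4) (q' := 0) (r' := 3) (s' := 4) (by norm_num) (by norm_num) (by norm_num)
      (by norm_num)
    exact eq_of_act h h11 h7 hc u v hu hv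
  · have u := congr5 h u0 (p' := 4) (q' := 0) (r' := 4) (s' := 4) (by norm_num) (by norm_num) (by norm_num)
      (by norm_num)
    have v := congr5 h v0 (p' := 4) (q' := 0) (r' := 4) (s' := 4) (by norm_num) (by norm_num) (by norm_num)
      (by norm_num)
    exact eq_of_act h h11 h7 hc u v hu hv

/-! ### The braid relation -/

include h in
theorem congr4 {u : H} {p q r s p' q' r' s' : ℕ} (hu : Act e.t6 e.t7 u p q r s)
    (e1 : p % 4 = p' % 4) (e2 : q % 4 = q' % 4) (e3 : r % 4 = r' % 4) (e4 : s % 4 = s' % 4) :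
    Act e.t6 e.t7 u p' q' r' s' :=
  hu.congr (fun _ _ hab => pow_congr4 h.q6 hab) (fun _ _ hab => pow_congr4 h.q7 hab) e1 e2 e3 e4

include h in
theorem actTA : Act e.t6 e.t7 e.A 1 1 0 3 :=
  ⟨by rw [h.at6, pow_one, pow_one], by rw [h.at7, pow_zero, one_mul]⟩

include h h11 k in
theorem actTN : Act e.t6 e.t7 N 3 0 3 1 := by
  obtain ⟨h1, h2⟩ := k.pre.torus h h11
  exact ⟨by rw [h1, pow_zero, mul_one], by rw [h2, pow_one]⟩

/-- Elements acting as inversion. -/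
theorem inv_of_act {u : H} (hu : Act e.t6 e.t7 u 3 0 0 3) (h : RelP e) : ∀ τ ∈ T e, u * τ * u⁻¹ = τ⁻¹ := by
  intro τ hτ
  obtain ⟨i, -, j, -, rfl⟩ := mem_T h hτ
  have c : Commute e.t6 e.t7 := h.q67
  have e6 : e.t6 ^ 3 = e.t6⁻¹ := by rw [eq_inv_iff_mul_eq_one, ← pow_succ, h.q6]
  have e7 : e.t7 ^ 3 = e.t7⁻¹ := by rw [eq_inv_iff_mul_eq_one, ← pow_succ, h.q7]
  calc u * (e.t6 ^ i * e.t7 ^ j) * u⁻¹ = (u * e.t6 * u⁻¹) ^ i * (u * e.t7 * u⁻¹) ^ j := by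
        rw [← conj_pow', ← conj_pow']; group
    _ = (e.t6 ^ i)⁻¹ * (e.t7 ^ j)⁻¹ := by
        rw [hu.1, hu.2, pow_zero, mul_one, pow_zero, one_mul, e6, e7, inv_pow, inv_pow]
    _ = (e.t6 ^ i * e.t7 ^ j)⁻¹ := by
        rw [← mul_inv_rev, (c.pow_pow i j).eq]

include h in
/-- The torus is faithful on `x₁₀, x₁₁`. -/
theorem torus_eq_one (h11 : e.x11 ≠ 1) {i j : ℕ} (hij : e.t6 ^ i * e.t7 ^ j = 1) : i % 4 = 0 ∧ j % 4 = 0 := by
  have h1 := wt11 h i j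
  have h2 := wt10 h i j
  rw [hij] at h1 h2
  rw [one_mul, inv_one, mul_one] at h1 h2
  have h3 := (pow_eq_iff h.p11 h11 (a := 1) (b := 2 ^ i * 1 ^ j)).1 (by rw [pow_one]; exact h1)
  have h4 := (pow_eq_iff h.p10 (x10_ne h h11) (a := 1) (b := 3 ^ i * 3 ^ j)).1 (by rw [pow_one]; exact h2)
  have key : ∀ n : ℕ, 2 ^ n % 5 = 2 ^ (n % 4) % 5 := by
    intro n
    conv_lhs => rw [← Nat.div_add_mod n 4, pow_add, pow_mul, Nat.mul_mod, Nat.pow_mod]
    norm_num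
  have key3 : ∀ n : ℕ, 3 ^ n % 5 = 3 ^ (n % 4) % 5 := by
    intro n
    conv_lhs => rw [← Nat.div_add_mod n 4, pow_add, pow_mul, Nat.mul_mod, Nat.pow_mod]
    norm_num
  rw [one_pow, mul_one, key] at h3
  rw [← pow_add, key3] at h4
  have hi : i % 4 < 4 := Nat.mod_lt _ (by norm_num)
  have hj : (i + j) % 4 < 4 := Nat.mod_lt _ (by norm_num)
  have hi0 : i % 4 = 0 := by
    generalize i % 4 = a at h3 hi
    interval_cases a <;> first | rfl | (norm_num at h3)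
  have hj0 : (i + j) % 4 = 0 := by
    generalize (i + j) % 4 = a at h4 hj
    interval_cases a <;> first | rfl | (norm_num at h4)
  omega

include h h11 h7 hc k in
theorem braid (hT : ∃ x : H, x ^ 3 = 1 ∧ x * e.A = e.A * x ∧ (∀ τ ∈ T e, x * τ = τ * x) ∧
    ∀ g : H, g * e.t6 = e.t6 * g → g * e.t7 = e.t7 * g → ∃ τ ∈ T e, ∃ i : ℕ, g = τ * x ^ i) :
    e.A * N * e.A * N * e.A * N = N * e.A * N * e.A * N * e.A := by
  obtain ⟨x, hx3, hxA, hxT, hgen⟩ := hT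
  have hxy := h.q67
  have aA := actTA h
  have aN := actTN h h11 k
  have hNN : N * N = e.t6 ^ 2 := nn h h11 h7 hc k
  have hTA : ∀ τ ∈ T e, e.A * τ * e.A⁻¹ ∈ T e := by
    unfold T
    apply conj_closure
    rintro s (rfl | rfl)
    · rw [h.at6]; mem_word
    · rw [h.at7]; mem_word
  have hTN := k.pre.torusMem
  have hAA : e.A * e.A ∈ T e := by rw [h.aa]; unfold T; mem_word
  have hNN' : N * N ∈ T e := by rw [hNN]; unfold T; mem_word
  set w := e.A * N * e.A * N * e.A * N with hw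
  set w' := N * e.A * N * e.A * N * e.A with hw'
  have actw : Act e.t6 e.t7 w 3 0 0 3 :=
    congr4 h (((((aA.mul hxy aN).mul hxy aA).mul hxy aN).mul hxy aA).mul hxy aN) (by norm_num) (by norm_num)
      (by norm_num) (by norm_num)
  have actw' : Act e.t6 e.t7 w' 3 0 0 3 :=
    congr4 h (((((aN.mul hxy aA).mul hxy aN).mul hxy aA).mul hxy aN).mul hxy aA) (by norm_num) (by norm_num)
      (by norm_num) (by norm_num)
  have invw := inv_of_act actw h
  have invw' := inv_of_act actw' h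
  -- peeling
  have peelA : ∀ s ∈ T e, e.A * s * e.A ∈ T e := by
    intro s hs
    have : e.A * s * e.A = (e.A * s * e.A⁻¹) * (e.A * e.A) := by group
    rw [this]; exact mul_mem (hTA s hs) hAA
  have peelN : ∀ s ∈ T e, N * s * N ∈ T e := by
    intro s hs
    have : N * s * N = (N * s * N⁻¹) * (N * N) := by group
    rw [this]; exact mul_mem (hTN s hs) hNN'
  have hww' : w * w' ∈ T e := by
    have : w * w' = e.A * (N * (e.A * (N * (e.A * (N * 1 * N) * e.A) * N) * e.A) * N) * e.A := by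
      rw [hw, hw']; group
    rw [this]
    exact peelA _ (peelN _ (peelA _ (peelN _ (peelA _ (peelN _ (one_mem _))))))
  have hw'w : w' * w ∈ T e := by
    have : w' * w = N * (e.A * (N * (e.A * (N * (e.A * 1 * e.A) * N) * e.A) * N) * e.A) * N := by
      rw [hw, hw']; group
    rw [this]
    exact peelN _ (peelA _ (peelN _ (peelA _ (peelN _ (peelA _ (one_mem _))))))
  -- `Ω = w w` centralises `T`
  have hcen : ∀ τ ∈ T e, (w * w) * τ = τ * (w * w) := by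
    intro τ hτ
    have h1 : w * τ * w⁻¹ = τ⁻¹ := invw τ hτ
    have h2 : w * τ⁻¹ * w⁻¹ = τ := by rw [invw _ (inv_mem hτ), inv_inv]
    have h3 : (w * w) * τ * (w * w)⁻¹ = τ := by
      calc (w * w) * τ * (w * w)⁻¹ = w * (w * τ * w⁻¹) * w⁻¹ := by group
        _ = τ := by rw [h1, h2]
    rw [mul_inv_eq_iff_eq_mul] at h3
    exact h3
  obtain ⟨τ0, hτ0, i, hΩ⟩ := hgen (w * w) (hcen _ (by unfold T; mem_word)) (hcen _ (by unfold T; mem_word))
  -- conjugation by `A`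
  have hconj : e.A⁻¹ * (w * w) * e.A = w' * w' := by rw [hw, hw']; group
  have hprod : (w * w) * (w' * w') ∈ T e := by
    have : (w * w) * (w' * w') = w * (w * w') * w⁻¹ * (w * w') := by group
    rw [this, invw _ hww']
    exact mul_mem (inv_mem hww') hww'
  have hxA' : e.A⁻¹ * x ^ i * e.A = x ^ i := by
    have : Commute (x ^ i) e.A := (show Commute x e.A from hxA).pow_left i
    rw [mul_assoc, this.eq, inv_mul_cancel_left]
  have hTA' : e.A⁻¹ * τ0 * e.A ∈ T e := by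
    have h1 : e.A⁻¹ * τ0 * e.A = (e.A * e.A)⁻¹ * (e.A * τ0 * e.A⁻¹) * (e.A * e.A) := by group
    rw [h1]
    exact mul_mem (mul_mem (inv_mem hAA) (hTA _ hτ0)) hAA
  have hx2 : x ^ i * x ^ i ∈ T e := by
    have h1 : (w * w) * (w' * w') = τ0 * (e.A⁻¹ * τ0 * e.A) * (x ^ i * x ^ i) := by
      have h2 : x ^ i * (e.A⁻¹ * τ0 * e.A) = (e.A⁻¹ * τ0 * e.A) * x ^ i := by
        have : Commute (x ^ i) (e.A⁻¹ * τ0 * e.A) :=
          (show Commute x (e.A⁻¹ * τ0 * e.A) from hxT _ hTA').pow_left i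
        exact this.eq
      rw [← hconj, hΩ]
      calc τ0 * x ^ i * (e.A⁻¹ * (τ0 * x ^ i) * e.A)
          = τ0 * x ^ i * (e.A⁻¹ * τ0 * e.A) * (e.A⁻¹ * x ^ i * e.A) := by group
        _ = τ0 * (x ^ i * (e.A⁻¹ * τ0 * e.A)) * x ^ i := by rw [hxA']; group
        _ = τ0 * (e.A⁻¹ * τ0 * e.A) * (x ^ i * x ^ i) := by rw [h2]; group
    rw [h1] at hprod
    have h3 := mul_mem (inv_mem (mul_mem hτ0 hTA')) hprod
    rwa [inv_mul_cancel_left] at h3
  have hxi : x ^ i = 1 := by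
    obtain ⟨a, -, b, -, hab⟩ := mem_T h hx2
    have c : Commute e.t6 e.t7 := h.q67
    have h4 : (x ^ i * x ^ i) ^ 4 = 1 := by
      rw [hab, (c.pow_pow a b).mul_pow, ← pow_mul, ← pow_mul, mul_comm a, mul_comm b, pow_mul, pow_mul, h.q6, h.q7,
        one_pow, one_pow, mul_one]
    have h3 : (x ^ i) ^ 3 = 1 := by rw [← pow_mul, mul_comm, pow_mul, hx3, one_pow]
    calc x ^ i = ((x ^ i * x ^ i) ^ 4) * ((x ^ i) ^ 3)⁻¹ * ((x ^ i) ^ 3)⁻¹ * (x ^ i)⁻¹ := by group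
      _ = (x ^ i)⁻¹ := by rw [h4, h3]; group
      _ = (x ^ i)⁻¹ * 1 := by rw [mul_one]
      _ = (x ^ i)⁻¹ * (x ^ i) ^ 3 := by rw [h3]
      _ = x ^ i * x ^ i := by group
      _ = x ^ i * x ^ i * ((x ^ i * x ^ i) ^ 4)⁻¹ := by rw [h4, inv_one, mul_one]
      _ = ((x ^ i) ^ 3)⁻¹ * ((x ^ i) ^ 3)⁻¹ := by group
      _ = 1 := by rw [h3]; group
  have hΩT : w * w ∈ T e := by rw [hΩ, hxi, mul_one]; exact hτ0
  -- `ν`
  have hν : w * w'⁻¹ ∈ T e := by
    have : w * w'⁻¹ = (w * w) * (w' * w)⁻¹ := by group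
    rw [this]; exact mul_mem hΩT (inv_mem hw'w)
  have hAν : e.A * (w * w'⁻¹) * e.A⁻¹ = (w * w'⁻¹)⁻¹ := by
    have h1 : e.A * (w * w'⁻¹) * e.A⁻¹ = (e.A * e.A) * (w' * (e.A * e.A)⁻¹ * w'⁻¹) * w' * w⁻¹ := by
      rw [hw, hw']; group
    rw [h1, invw' _ (inv_mem hAA), inv_inv]
    have h2 : (e.A * e.A) * (e.A * e.A) = 1 := by rw [h.aa, ← pow_add, h.q7]
    rw [h2]; group
  have hNν : N * (w * w'⁻¹) * N⁻¹ = (w * w'⁻¹)⁻¹ := by
    have h1 : N * (w * w'⁻¹) * N⁻¹ = w' * (N * N) * (w⁻¹ * (N * N)⁻¹ * w) * w⁻¹ := by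
      rw [hw, hw']; group
    have h2 : w⁻¹ * (N * N)⁻¹ * w = N * N := by
      have h3 := invw _ hNN'
      calc w⁻¹ * (N * N)⁻¹ * w = w⁻¹ * (w * (N * N) * w⁻¹) * w := by rw [h3]
        _ = N * N := by group
    have h4 : (N * N) * (N * N) = 1 := by rw [hNN, ← pow_add, h.q6]
    rw [h1, h2, mul_assoc w', h4]; group
  obtain ⟨a, -, b, -, hab⟩ := mem_T h hν
  have c : Commute e.t6 e.t7 := h.q67
  have hinv : (e.t6 ^ a * e.t7 ^ b)⁻¹ = e.t6 ^ (3 * a) * e.t7 ^ (3 * b) := by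
    rw [inv_eq_iff_mul_eq_one]
    calc e.t6 ^ a * e.t7 ^ b * (e.t6 ^ (3 * a) * e.t7 ^ (3 * b))
        = e.t6 ^ a * (e.t7 ^ b * e.t6 ^ (3 * a)) * e.t7 ^ (3 * b) := by group
      _ = e.t6 ^ a * (e.t6 ^ (3 * a) * e.t7 ^ b) * e.t7 ^ (3 * b) := by rw [(c.pow_pow (3 * a) b).eq]
      _ = e.t6 ^ (4 * a) * e.t7 ^ (4 * b) := by
        rw [show 4 * a = a + 3 * a by ring, show 4 * b = b + 3 * b by ring, pow_add, pow_add]; group
      _ = 1 := by rw [pow_mul, pow_mul, h.q6, h.q7, one_pow, one_pow, mul_one]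
  rw [hab, hinv] at hAν hNν
  have hA1 : e.A * (e.t6 ^ a * e.t7 ^ b) * e.A⁻¹ = e.t6 ^ a * e.t7 ^ (a + 3 * b) := by
    calc e.A * (e.t6 ^ a * e.t7 ^ b) * e.A⁻¹ = (e.A * e.t6 * e.A⁻¹) ^ a * (e.A * e.t7 * e.A⁻¹) ^ b := by
          rw [← conj_pow', ← conj_pow']; group
      _ = e.t6 ^ a * e.t7 ^ (a + 3 * b) := by
          rw [h.at6, h.at7, c.mul_pow, ← pow_mul, pow_add, mul_assoc]
  have hN1 := k.pre.torus_pow h h11 a b
  rw [hA1] at hAν
  rw [hN1] at hNν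
  have red : ∀ i j i' j' : ℕ, e.t6 ^ i * e.t7 ^ j = e.t6 ^ i' * e.t7 ^ j' → (i + 3 * i') % 4 = 0 ∧ (j + 3 * j') % 4 = 0 := by
    intro i j i' j' hh
    apply torus_eq_one h h11
    have h1 : e.t6 ^ (3 * i') * e.t7 ^ (3 * j') = (e.t6 ^ i' * e.t7 ^ j')⁻¹ := by
      rw [eq_inv_iff_mul_eq_one]
      calc e.t6 ^ (3 * i') * e.t7 ^ (3 * j') * (e.t6 ^ i' * e.t7 ^ j')
          = e.t6 ^ (3 * i') * (e.t7 ^ (3 * j') * e.t6 ^ i') * e.t7 ^ j' := by group
        _ = e.t6 ^ (3 * i') * (e.t6 ^ i' * e.t7 ^ (3 * j')) * e.t7 ^ j' := by rw [(c.pow_pow i' (3 * j')).eq]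
        _ = e.t6 ^ (4 * i') * e.t7 ^ (4 * j') := by
          rw [show 4 * i' = 3 * i' + i' by ring, show 4 * j' = 3 * j' + j' by ring, pow_add, pow_add]; group
        _ = 1 := by rw [pow_mul, pow_mul, h.q6, h.q7, one_pow, one_pow, mul_one]
    calc e.t6 ^ (i + 3 * i') * e.t7 ^ (j + 3 * j') = e.t6 ^ i * (e.t6 ^ (3 * i') * e.t7 ^ j) * e.t7 ^ (3 * j') := by
          rw [pow_add, pow_add]; group
      _ = e.t6 ^ i * (e.t7 ^ j * e.t6 ^ (3 * i')) * e.t7 ^ (3 * j') := by rw [(c.pow_pow (3 * i') j).eq]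
      _ = (e.t6 ^ i * e.t7 ^ j) * (e.t6 ^ (3 * i') * e.t7 ^ (3 * j')) := by group
      _ = 1 := by rw [h1, hh, mul_inv_cancel]
  obtain ⟨r1, r2⟩ := red _ _ _ _ hAν
  obtain ⟨r3, r4⟩ := red _ _ _ _ hNν
  have ha : a % 4 = 0 := by omega
  have hb : b % 4 = 0 := by omega
  have hν1 : w * w'⁻¹ = 1 := by
    rw [hab, pow_congr4 h.q6 (b := 0) (by omega), pow_congr4 h.q7 (b := 0) (by omega), pow_zero, pow_zero, mul_one]
  exact mul_inv_eq_one.1 hν1

include h h11 h7 hc in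
/-- The main theorem. -/
theorem exists_N {n : H} (hn : Pre e n)
    (hT : ∃ x : H, x ^ 3 = 1 ∧ x * e.A = e.A * x ∧ (∀ τ ∈ T e, x * τ = τ * x) ∧
      ∀ g : H, g * e.t6 = e.t6 * g → g * e.t7 = e.t7 * g → ∃ τ ∈ T e, ∃ i : ℕ, g = τ * x ^ i) :
    ∃ N : H, RelN e N := by
  obtain ⟨N, hN, h1, h2⟩ := hn.adjust h h11 h7 hc
  have k : Adj e N := ⟨hN, h1, h2⟩
  obtain ⟨r9, r10, r11⟩ := hN.roots h h11 h7 hc h1 h2
  obtain ⟨q6, q7⟩ := hN.torus h h11
  refine ⟨N, ?_⟩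
  exact {
    n7 := h1
    n8 := h2
    n9 := r9
    n10 := r10
    n11 := r11
    nt6 := q6
    nt7 := q7
    nn := nn h h11 h7 hc k
    m1 := by simpa using rank h h11 h7 hc k 1 4 4 2 (by norm_num)
    m2 := rank h h11 h7 hc k 2 2 3 3 (by norm_num)
    m3 := by simpa using rank h h11 h7 hc k 3 3 2 1 (by norm_num)
    m4 := by simpa using rank h h11 h7 hc k 4 1 1 0 (by norm_num)
    braid := braid h h11 h7 hc k hT }

end main

end Cfsg.Agent.SporRec.LyHexN
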