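import Cfsg.Agent.SporRec.LyHexB1
import Cfsg.Agent.SporRec.LyHexB2
import Cfsg.Agent.SporRec.LyHexB3
import Cfsg.Agent.SporRec.LyHexB4
import Cfsg.Agent.SporRec.LyHexN
import Cfsg.Agent.SporRec.LyHexModel

/-!
# `G₂(5)` in a group of Lyons type

The output: the element `N = n_β` and the homomorphism from the matrix group `M7`.
-/

set_option autoImplicit false
set_option linter.dupNamespace false

namespace Cfsg.Agent.SporRec.LyHexMain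

open Subgroup Equiv Cfsg.Agent.SporRec.TwoAn Cfsg.Agent.SporRec.LyType Cfsg.Agent.SporRec.LyFive
open Cfsg.Agent.SporRec.LyHexRel Cfsg.Agent.SporRec.LyHexCount Cfsg.Agent.SporRec.LyHexIn
open Cfsg.Agent.SporRec.LyG2.M7 Cfsg.Agent.SporRec.LyHexModel

variable {G : Type*} [Group G] {L : LyType G} {F : LyFive L} (I : HexIn F)

include I in
theorem x7_notMem_E : I.e.x7 ∉ F.E := by
  intro hE
  have h1 : I.e.x7 ∈ zpowers F.f := F.cent_t _ hE I.k7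
  rw [← LyHexB1.zpowers_x11 I] at h1
  obtain ⟨i, hi⟩ := h1
  have h2 : (⟨I.e.x11, L.mem_iff.2 I.k11⟩ : centralizer ({L.t} : Set G)) ^ i = ⟨I.e.x7, L.mem_iff.2 I.k7⟩ :=
    Subtype.ext hi
  have h3 : p11 ^ i = p7 := by
    rw [← I.π11, ← I.π7, ← h2, map_zpow]
  have h4 : ∀ j : ℤ, (p11 ^ j) 0 = 0 := by
    intro j
    exact Equiv.Perm.zpow_apply_eq_self_of_apply_eq_self (by decide) j
  have h5 : p7 0 = 0 := by rw [← h3]; exact h4 i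
  exact absurd h5 (by decide)

include I in
theorem K8_le : K8 I.e ≤ F.E := by
  unfold K8
  rw [closure_le]
  have h11 : I.e.x11 ∈ F.E := by
    have : zpowers F.f ≤ F.E := by rw [zpowers_le]; exact F.f_mem
    exact this I.m11
  rintro s (rfl | rfl | rfl | rfl)
  · exact I.m8
  · exact I.m9
  · exact I.m10
  · exact h11

theorem x7_notMem : I.e.x7 ∉ K8 I.e := fun h => x7_notMem_E I (K8_le I h)

/-- The centraliser of the torus (step (B4)). -/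
def CentT (e : Els G) : Prop := ∃ x : G, x ^ 3 = 1 ∧ x * e.A = e.A * x ∧ (∀ τ ∈ T e, x * τ = τ * x) ∧
  ∀ g : G, g * e.t6 = e.t6 * g → g * e.t7 = e.t7 * g → ∃ τ ∈ T e, ∃ i : ℕ, g = τ * x ^ i

theorem exists_N_of [Finite G] (hT : CentT I.e) : ∃ N : G, RelN I.e N := by
  have hc := LyHexB1.cent_U2 I
  obtain ⟨z, hz, hz'⟩ := LyHexB2.exists_z I
  obtain ⟨n, h1, h2, h3⟩ := LyHexB3.exists_n I hc hz hz'
  exact LyHexN.exists_N I.rel I.x11_ne (x7_notMem I) hc ⟨h1, h2, h3⟩ hT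

theorem exists_hom_of [Finite G] (hT : CentT I.e) : ∃ (φ : M7 →* G) (N : G), RelN I.e N ∧
    φ ⟨X 30, X_mem 30⟩ = I.e.x6 ∧ φ ⟨X 32, X_mem 32⟩ = I.e.x7 ∧
    φ ⟨X 34, X_mem 34⟩ = I.e.x8 ∧ φ ⟨X 36, X_mem 36⟩ = I.e.x9 ∧ φ ⟨X 38, X_mem 38⟩ = I.e.x10 ∧
    φ ⟨X 40, X_mem 40⟩ = I.e.x11 ∧ φ ⟨X 42, X_mem 42⟩ = I.e.t6 ∧ φ ⟨X 44, X_mem 44⟩ = I.e.t7 ∧
    φ ⟨A7, A7_mem⟩ = I.e.A ∧ φ ⟨N7, N7_mem⟩ = N := by
  obtain ⟨N, hN⟩ := exists_N_of I hT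
  obtain ⟨φ, hφ⟩ := LyHexModel.exists_hom I.rel hN
  exact ⟨φ, N, hN, hφ⟩

theorem centT : CentT I.e := by
  obtain ⟨x, h1, -, h2, h3, h4⟩ := LyHexB4.cent_T I
  exact ⟨x, h1, h2, h3, h4⟩

/-- Step (7): `n_β`. -/
theorem exists_N [Finite G] : ∃ N : G, RelN I.e N := exists_N_of I (centT I)

/-- Step (7): the homomorphism `G₂(5) → G`. -/
theorem exists_hom [Finite G] : ∃ (φ : M7 →* G) (N : G), RelN I.e N ∧
    φ ⟨X 30, X_mem 30⟩ = I.e.x6 ∧ φ ⟨X 32, X_mem 32⟩ = I.e.x7 ∧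
    φ ⟨X 34, X_mem 34⟩ = I.e.x8 ∧ φ ⟨X 36, X_mem 36⟩ = I.e.x9 ∧ φ ⟨X 38, X_mem 38⟩ = I.e.x10 ∧
    φ ⟨X 40, X_mem 40⟩ = I.e.x11 ∧ φ ⟨X 42, X_mem 42⟩ = I.e.t6 ∧ φ ⟨X 44, X_mem 44⟩ = I.e.t7 ∧
    φ ⟨A7, A7_mem⟩ = I.e.A ∧ φ ⟨N7, N7_mem⟩ = N := exists_hom_of I (centT I)

end Cfsg.Agent.SporRec.LyHexMain
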