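import Cfsg.Agent.SporRec.LyHexIn
import Cfsg.Agent.SporRec.LyHexModel
import Cfsg.Agent.SporRec.LyG2.P28
import Cfsg.Agent.SporRec.LyG2.RelBack

/-!
From the relations 1–28 in a group of Lyons type to the input structure `HexIn`, and from a homomorphism of the matrix
group `M7` to the relations 1–44.
-/

set_option autoImplicit false
set_option linter.dupNamespace false

namespace Cfsg.Agent.SporRec.LyHexOf

open Subgroup Equiv Cfsg.Agent.SporRec.TwoAn Cfsg.Agent.SporRec.LyType Cfsg.Agent.SporRec.LyFive
open Cfsg.Agent.SporRec.LyHexRel Cfsg.Agent.SporRec.LyHexCount Cfsg.Agent.SporRec.LyHexIn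
open Cfsg.Agent.SporRec.LyHexModel
open Cfsg.Agent.SporRec.LyG2.Rel Cfsg.Agent.SporRec.LyG2.Rel28 Cfsg.Agent.SporRec.LyG2.Bound
open Cfsg.Agent.SporRec.LyG2.P28 Cfsg.Agent.SporRec.LyG2.M7 Cfsg.Agent.SporRec.LyG2.Pres
open Cfsg.Agent.SporadicRecognition.CosetCert (ev ev_nil ev_cons ev_append)

theorem relP_map {G H : Type*} [Group G] [Group H] (φ : G →* H) {e : Els G} (h : RelP e) : RelP (e.map φ) where
  p6 := by
    have k := congrArg φ h.p6
    simpa only [Els.map, map_mul, map_pow, map_inv, map_one] using k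
  p7 := by
    have k := congrArg φ h.p7
    simpa only [Els.map, map_mul, map_pow, map_inv, map_one] using k
  p8 := by
    have k := congrArg φ h.p8
    simpa only [Els.map, map_mul, map_pow, map_inv, map_one] using k
  p9 := by
    have k := congrArg φ h.p9
    simpa only [Els.map, map_mul, map_pow, map_inv, map_one] using k
  p10 := by
    have k := congrArg φ h.p10
    simpa only [Els.map, map_mul, map_pow, map_inv, map_one] using k
  p11 := by
    have k := congrArg φ h.p11
    simpa only [Els.map, map_mul, map_pow, map_inv, map_one] using k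
  q6 := by
    have k := congrArg φ h.q6
    simpa only [Els.map, map_mul, map_pow, map_inv, map_one] using k
  q7 := by
    have k := congrArg φ h.q7
    simpa only [Els.map, map_mul, map_pow, map_inv, map_one] using k
  q67 := by
    have k := congrArg φ h.q67
    simpa only [Els.map, map_mul, map_pow, map_inv, map_one] using k
  s66 := by
    have k := congrArg φ h.s66
    simpa only [Els.map, map_mul, map_pow, map_inv, map_one] using k
  s67 := by
    have k := congrArg φ h.s67
    simpa only [Els.map, map_mul, map_pow, map_inv, map_one] using k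
  s68 := by
    have k := congrArg φ h.s68
    simpa only [Els.map, map_mul, map_pow, map_inv, map_one] using k
  s69 := by
    have k := congrArg φ h.s69
    simpa only [Els.map, map_mul, map_pow, map_inv, map_one] using k
  s610 := by
    have k := congrArg φ h.s610
    simpa only [Els.map, map_mul, map_pow, map_inv, map_one] using k
  s611 := by
    have k := congrArg φ h.s611
    simpa only [Els.map, map_mul, map_pow, map_inv, map_one] using k
  s76 := by
    have k := congrArg φ h.s76
    simpa only [Els.map, map_mul, map_pow, map_inv, map_one] using k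
  s77 := by
    have k := congrArg φ h.s77
    simpa only [Els.map, map_mul, map_pow, map_inv, map_one] using k
  s78 := by
    have k := congrArg φ h.s78
    simpa only [Els.map, map_mul, map_pow, map_inv, map_one] using k
  s79 := by
    have k := congrArg φ h.s79
    simpa only [Els.map, map_mul, map_pow, map_inv, map_one] using k
  s710 := by
    have k := congrArg φ h.s710
    simpa only [Els.map, map_mul, map_pow, map_inv, map_one] using k
  s711 := by
    have k := congrArg φ h.s711
    simpa only [Els.map, map_mul, map_pow, map_inv, map_one] using k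
  c67 := by
    have k := congrArg φ h.c67
    simpa only [Els.map, map_mul, map_pow, map_inv, map_one] using k
  c68 := by
    have k := congrArg φ h.c68
    simpa only [Els.map, map_mul, map_pow, map_inv, map_one] using k
  c69 := by
    have k := congrArg φ h.c69
    simpa only [Els.map, map_mul, map_pow, map_inv, map_one] using k
  c610 := by
    have k := congrArg φ h.c610
    simpa only [Els.map, map_mul, map_pow, map_inv, map_one] using k
  c611 := by
    have k := congrArg φ h.c611
    simpa only [Els.map, map_mul, map_pow, map_inv, map_one] using k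
  c78 := by
    have k := congrArg φ h.c78
    simpa only [Els.map, map_mul, map_pow, map_inv, map_one] using k
  c79 := by
    have k := congrArg φ h.c79
    simpa only [Els.map, map_mul, map_pow, map_inv, map_one] using k
  c710 := by
    have k := congrArg φ h.c710
    simpa only [Els.map, map_mul, map_pow, map_inv, map_one] using k
  c711 := by
    have k := congrArg φ h.c711
    simpa only [Els.map, map_mul, map_pow, map_inv, map_one] using k
  c89 := by
    have k := congrArg φ h.c89
    simpa only [Els.map, map_mul, map_pow, map_inv, map_one] using k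
  c810 := by
    have k := congrArg φ h.c810
    simpa only [Els.map, map_mul, map_pow, map_inv, map_one] using k
  c811 := by
    have k := congrArg φ h.c811
    simpa only [Els.map, map_mul, map_pow, map_inv, map_one] using k
  c910 := by
    have k := congrArg φ h.c910
    simpa only [Els.map, map_mul, map_pow, map_inv, map_one] using k
  c911 := by
    have k := congrArg φ h.c911
    simpa only [Els.map, map_mul, map_pow, map_inv, map_one] using k
  c1011 := by
    have k := congrArg φ h.c1011
    simpa only [Els.map, map_mul, map_pow, map_inv, map_one] using k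
  a6 := by
    have k := congrArg φ h.a6
    simpa only [Els.map, map_mul, map_pow, map_inv, map_one] using k
  a8 := by
    have k := congrArg φ h.a8
    simpa only [Els.map, map_mul, map_pow, map_inv, map_one] using k
  a9 := by
    have k := congrArg φ h.a9
    simpa only [Els.map, map_mul, map_pow, map_inv, map_one] using k
  a10 := by
    have k := congrArg φ h.a10
    simpa only [Els.map, map_mul, map_pow, map_inv, map_one] using k
  a11 := by
    have k := congrArg φ h.a11
    simpa only [Els.map, map_mul, map_pow, map_inv, map_one] using k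
  at6 := by
    have k := congrArg φ h.at6
    simpa only [Els.map, map_mul, map_pow, map_inv, map_one] using k
  at7 := by
    have k := congrArg φ h.at7
    simpa only [Els.map, map_mul, map_pow, map_inv, map_one] using k
  aa := by
    have k := congrArg φ h.aa
    simpa only [Els.map, map_mul, map_pow, map_inv, map_one] using k
  r1 := by
    have k := congrArg φ h.r1
    simpa only [Els.map, map_mul, map_pow, map_inv, map_one] using k
  r2 := by
    have k := congrArg φ h.r2
    simpa only [Els.map, map_mul, map_pow, map_inv, map_one] using k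
  r3 := by
    have k := congrArg φ h.r3
    simpa only [Els.map, map_mul, map_pow, map_inv, map_one] using k
  r4 := by
    have k := congrArg φ h.r4
    simpa only [Els.map, map_mul, map_pow, map_inv, map_one] using k

theorem relP_of_map {G H : Type*} [Group G] [Group H] {φ : G →* H} (hφ : Function.Injective φ) {e : Els G}
    (h : RelP (e.map φ)) : RelP e where
  p6 := hφ (by simpa only [Els.map, map_mul, map_pow, map_inv, map_one] using h.p6)
  p7 := hφ (by simpa only [Els.map, map_mul, map_pow, map_inv, map_one] using h.p7)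
  p8 := hφ (by simpa only [Els.map, map_mul, map_pow, map_inv, map_one] using h.p8)
  p9 := hφ (by simpa only [Els.map, map_mul, map_pow, map_inv, map_one] using h.p9)
  p10 := hφ (by simpa only [Els.map, map_mul, map_pow, map_inv, map_one] using h.p10)
  p11 := hφ (by simpa only [Els.map, map_mul, map_pow, map_inv, map_one] using h.p11)
  q6 := hφ (by simpa only [Els.map, map_mul, map_pow, map_inv, map_one] using h.q6)
  q7 := hφ (by simpa only [Els.map, map_mul, map_pow, map_inv, map_one] using h.q7)
  q67 := hφ (by simpa only [Els.map, map_mul, map_pow, map_inv, map_one] using h.q67)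
  s66 := hφ (by simpa only [Els.map, map_mul, map_pow, map_inv, map_one] using h.s66)
  s67 := hφ (by simpa only [Els.map, map_mul, map_pow, map_inv, map_one] using h.s67)
  s68 := hφ (by simpa only [Els.map, map_mul, map_pow, map_inv, map_one] using h.s68)
  s69 := hφ (by simpa only [Els.map, map_mul, map_pow, map_inv, map_one] using h.s69)
  s610 := hφ (by simpa only [Els.map, map_mul, map_pow, map_inv, map_one] using h.s610)
  s611 := hφ (by simpa only [Els.map, map_mul, map_pow, map_inv, map_one] using h.s611)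
  s76 := hφ (by simpa only [Els.map, map_mul, map_pow, map_inv, map_one] using h.s76)
  s77 := hφ (by simpa only [Els.map, map_mul, map_pow, map_inv, map_one] using h.s77)
  s78 := hφ (by simpa only [Els.map, map_mul, map_pow, map_inv, map_one] using h.s78)
  s79 := hφ (by simpa only [Els.map, map_mul, map_pow, map_inv, map_one] using h.s79)
  s710 := hφ (by simpa only [Els.map, map_mul, map_pow, map_inv, map_one] using h.s710)
  s711 := hφ (by simpa only [Els.map, map_mul, map_pow, map_inv, map_one] using h.s711)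
  c67 := hφ (by simpa only [Els.map, map_mul, map_pow, map_inv, map_one] using h.c67)
  c68 := hφ (by simpa only [Els.map, map_mul, map_pow, map_inv, map_one] using h.c68)
  c69 := hφ (by simpa only [Els.map, map_mul, map_pow, map_inv, map_one] using h.c69)
  c610 := hφ (by simpa only [Els.map, map_mul, map_pow, map_inv, map_one] using h.c610)
  c611 := hφ (by simpa only [Els.map, map_mul, map_pow, map_inv, map_one] using h.c611)
  c78 := hφ (by simpa only [Els.map, map_mul, map_pow, map_inv, map_one] using h.c78)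
  c79 := hφ (by simpa only [Els.map, map_mul, map_pow, map_inv, map_one] using h.c79)
  c710 := hφ (by simpa only [Els.map, map_mul, map_pow, map_inv, map_one] using h.c710)
  c711 := hφ (by simpa only [Els.map, map_mul, map_pow, map_inv, map_one] using h.c711)
  c89 := hφ (by simpa only [Els.map, map_mul, map_pow, map_inv, map_one] using h.c89)
  c810 := hφ (by simpa only [Els.map, map_mul, map_pow, map_inv, map_one] using h.c810)
  c811 := hφ (by simpa only [Els.map, map_mul, map_pow, map_inv, map_one] using h.c811)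
  c910 := hφ (by simpa only [Els.map, map_mul, map_pow, map_inv, map_one] using h.c910)
  c911 := hφ (by simpa only [Els.map, map_mul, map_pow, map_inv, map_one] using h.c911)
  c1011 := hφ (by simpa only [Els.map, map_mul, map_pow, map_inv, map_one] using h.c1011)
  a6 := hφ (by simpa only [Els.map, map_mul, map_pow, map_inv, map_one] using h.a6)
  a8 := hφ (by simpa only [Els.map, map_mul, map_pow, map_inv, map_one] using h.a8)
  a9 := hφ (by simpa only [Els.map, map_mul, map_pow, map_inv, map_one] using h.a9)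
  a10 := hφ (by simpa only [Els.map, map_mul, map_pow, map_inv, map_one] using h.a10)
  a11 := hφ (by simpa only [Els.map, map_mul, map_pow, map_inv, map_one] using h.a11)
  at6 := hφ (by simpa only [Els.map, map_mul, map_pow, map_inv, map_one] using h.at6)
  at7 := hφ (by simpa only [Els.map, map_mul, map_pow, map_inv, map_one] using h.at7)
  aa := hφ (by simpa only [Els.map, map_mul, map_pow, map_inv, map_one] using h.aa)
  r1 := hφ (by simpa only [Els.map, map_mul, map_pow, map_inv, map_one] using h.r1)
  r2 := hφ (by simpa only [Els.map, map_mul, map_pow, map_inv, map_one] using h.r2)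
  r3 := hφ (by simpa only [Els.map, map_mul, map_pow, map_inv, map_one] using h.r3)
  r4 := hφ (by simpa only [Els.map, map_mul, map_pow, map_inv, map_one] using h.r4)

/-! ### The root elements as words in `a, b, c` -/

/-- words in the letters `a, a⁻¹, b, b⁻¹, c, c⁻¹, c2, c2⁻¹, c3, c3⁻¹, c4, c4⁻¹, c5, c5⁻¹` -/
def w6 : List ℕ := [6, 13, 13, 11, 5, 8]
def w7 : List ℕ := [2]
def w8 : List ℕ := [8, 8, 8]
def w9 : List ℕ := [9, 9, 4, 10, 9, 9, 4, 10]
def w10 : List ℕ := [13, 5, 9, 4, 10, 9, 9, 4, 10]
def w11 : List ℕ := [12, 12]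
def wt6 : List ℕ := [0, 2, 1, 3, 3, 1, 2]
def wt7 : List ℕ := [0, 2, 0, 2, 2, 0, 2, 2, 0, 2]
def wA : List ℕ := [2, 0, 3, 3, 1, 2]

/-- the system of elements given by words -/
def els {G : Type*} [Group G] (a b c c2 c3 c4 c5 : G) : Els G :=
  ⟨ev (col2 a b c c2 c3 c4 c5) w6, ev (col2 a b c c2 c3 c4 c5) w7, ev (col2 a b c c2 c3 c4 c5) w8,
    ev (col2 a b c c2 c3 c4 c5) w9, ev (col2 a b c c2 c3 c4 c5) w10, ev (col2 a b c c2 c3 c4 c5) w11,
    ev (col2 a b c c2 c3 c4 c5) wt6, ev (col2 a b c c2 c3 c4 c5) wt7, ev (col2 a b c c2 c3 c4 c5) wA⟩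

theorem map_els {G H : Type*} [Group G] [Group H] (φ : G →* H) (a b c c2 c3 c4 c5 : G) :
    (els a b c c2 c3 c4 c5).map φ = els (φ a) (φ b) (φ c) (φ c2) (φ c3) (φ c4) (φ c5) := by
  unfold els Els.map
  simp only [map_ev_col2]

theorem els_X : els (X 0) (X 2) (X 4) (X 10) (X 12) (X 14) (X 16) = e7 := by
  have k : ∀ w, ev (col2 (X 0) (X 2) (X 4) (X 10) (X 12) (X 14) (X 16)) w = ev X (w.map mX) :=
    fun w => ev_map X _ mX col2_X w
  have hA : ev X [32, 27, 32] = A7 := by
    simp only [ev_cons, ev_nil, mul_one, A7, mul_assoc]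
  unfold els e7
  rw [k, k, k, k, k, k, k, k, k, ← hA, ev_eq_X (w6.map mX) 30 (by decide +kernel),
    ev_eq_X (w7.map mX) 32 (by decide +kernel), ev_eq_X (w8.map mX) 34 (by decide +kernel),
    ev_eq_X (w9.map mX) 36 (by decide +kernel), ev_eq_X (w10.map mX) 38 (by decide +kernel),
    ev_eq_X (w11.map mX) 40 (by decide +kernel), ev_eq_X (wt6.map mX) 42 (by decide +kernel),
    ev_eq_X (wt7.map mX) 44 (by decide +kernel), ev_eq (wA.map mX) [32, 27, 32] (by decide +kernel)]

theorem relP_qg : RelP (els (qg 0) (qg 1) (qg 2) (qg 3) (qg 4) (qg 5) (qg 6)) := by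
  apply relP_of_map φ28_injective
  rw [map_els, φ28, hom28_qg rel_X 0, hom28_qg rel_X 1, hom28_qg rel_X 2, hom28_qg rel_X 3, hom28_qg rel_X 4,
    hom28_qg rel_X 5, hom28_qg rel_X 6]
  have := relP7
  rwa [← els_X] at this

/-- The root elements in any group satisfying the relations 1–28. -/
theorem relP {G : Type*} [Group G] {a b c c2 c3 c4 c5 : G} (h : Rel28 a b c c2 c3 c4 c5) :
    RelP (els a b c c2 c3 c4 c5) := by
  have k := relP_map (hom28 h) relP_qg
  rw [map_els, hom28_qg h 0, hom28_qg h 1, hom28_qg h 2, hom28_qg h 3, hom28_qg h 4, hom28_qg h 5,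
    hom28_qg h 6] at k
  exact k

/-! ### The input structure -/

/-- Elements `a, b, c` of a group of Lyons type satisfying the relations 1–28, `⟨a, b⟩ ≤ C(t)`, `c ∈ E`. -/
structure Data28 {G : Type*} [Group G] {L : LyType G} (F : LyFive L) (a b c c2 c3 c4 c5 : G) : Prop where
  rel : Rel28 a b c c2 c3 c4 c5
  ka : a * L.t = L.t * a
  kb : b * L.t = L.t * b
  k5 : c5 * L.t = L.t * c5
  a4 : a ^ 4 = L.t
  mc : c ∈ F.E
  m5 : c5 ∈ zpowers F.f
  c5_ne : c5 ≠ 1
  πa : L.K.π ⟨a, L.mem_iff.2 ka⟩ = swap 0 1 * swap 6 8 * swap 8 9 * swap 9 7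
  πb : L.K.π ⟨b, L.mem_iff.2 kb⟩ = swap 0 1 * swap 1 2 * swap 2 3 * swap 3 4
  π5 : L.K.π ⟨c5, L.mem_iff.2 k5⟩ = swap 5 6 * swap 6 7 * swap 7 8 * swap 8 9

section data

variable {G : Type*} [Group G] {L : LyType G} {F : LyFive L} {a b c c2 c3 c4 c5 : G}

/-- letters in `E` -/
theorem mem_of_letters {S : Subgroup G} (hc : c ∈ S) (h2 : c2 ∈ S) (h3 : c3 ∈ S) (h4 : c4 ∈ S) (h5 : c5 ∈ S) :
    ∀ w : List ℕ, (∀ k ∈ w, 4 ≤ k ∧ k < 14) → ev (col2 a b c c2 c3 c4 c5) w ∈ S := by
  intro w
  induction w with
  | nil => intro _; exact S.one_mem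
  | cons k w ih =>
    intro hw
    rw [ev_cons]
    refine S.mul_mem ?_ (ih fun k hk => hw k (List.mem_cons_of_mem _ hk))
    obtain ⟨h1, h6⟩ := hw k List.mem_cons_self
    unfold col2
    rcases k with _ | _ | _ | _ | _ | _ | _ | _ | _ | _ | _ | _ | _ | _ | k
    · omega
    · omega
    · omega
    · omega
    · exact hc
    · exact S.inv_mem hc
    · exact h2
    · exact S.inv_mem h2
    · exact h3
    · exact S.inv_mem h3
    · exact h4
    · exact S.inv_mem h4
    · exact h5
    · exact S.inv_mem h5
    · omega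

theorem f_mem_zpowers (h : Data28 F a b c c2 c3 c4 c5) : F.f ∈ zpowers c5 := by
  obtain ⟨k, hk⟩ := h.m5
  simp only at hk
  have h5 : F.f ^ (5 : ℤ) = 1 := by
    rw [show (5 : ℤ) = ((5 : ℕ) : ℤ) from rfl, zpow_natCast]; exact F.f_pow
  have hmod : k % 5 ≠ 0 := by
    intro h0
    apply h.c5_ne
    rw [← hk, ← Int.emod_add_mul_ediv k 5, h0, zero_add, zpow_mul, h5, one_zpow]
  have hcop : ∃ m : ℤ, (k * m) % 5 = 1 := by
    have h1 : 0 ≤ k % 5 := Int.emod_nonneg _ (by norm_num)
    have h2 : k % 5 < 5 := Int.emod_lt_of_pos _ (by norm_num)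
    have hc : k % 5 = 1 ∨ k % 5 = 2 ∨ k % 5 = 3 ∨ k % 5 = 4 := by omega
    rcases hc with hc | hc | hc | hc
    · exact ⟨1, by omega⟩
    · exact ⟨3, by omega⟩
    · exact ⟨2, by omega⟩
    · exact ⟨4, by omega⟩
  obtain ⟨m, hm⟩ := hcop
  refine ⟨m, ?_⟩
  show c5 ^ m = F.f
  rw [← hk, ← zpow_mul, ← Int.emod_add_mul_ediv (k * m) 5, hm, zpow_add, zpow_mul, h5, one_zpow, mul_one, zpow_one]

theorem norm_of (h : Data28 F a b c c2 c3 c4 c5) {g : G} {k : ℕ} (hg : g * c5 * g⁻¹ = c5 ^ k) :
    ∀ x ∈ F.E, g * x * g⁻¹ ∈ F.E := by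
  apply F.norm_E
  obtain ⟨m, hm⟩ := f_mem_zpowers h
  simp only at hm
  rw [← hm]
  have : g * c5 ^ m * g⁻¹ = (g * c5 * g⁻¹) ^ m := (conj_zpow).symm
  rw [this, hg, hm]
  exact zpow_mem (pow_mem h.m5 k) m

theorem mem_E (h : Data28 F a b c c2 c3 c4 c5) : c2 ∈ F.E ∧ c3 ∈ F.E ∧ c4 ∈ F.E ∧ c5 ∈ F.E := by
  have e5 : c5 ∈ F.E := (zpowers_le.2 F.f_mem) h.m5
  have ha : a⁻¹ * c5 * a⁻¹⁻¹ = c5 ^ 2 := by rw [inv_inv]; exact mul_inv_eq_one.mp h.rel.r25
  have hb : b⁻¹ * c5 * b⁻¹⁻¹ = c5 ^ 1 := by rw [inv_inv, pow_one]; exact mul_inv_eq_one.mp h.rel.r28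
  have hb' : b * c5 * b⁻¹ = c5 ^ 1 := by
    rw [pow_one]
    have k : b⁻¹ * c5 * b = c5 := mul_inv_eq_one.mp h.rel.r28
    conv_lhs => rw [← k]
    group
  refine ⟨?_, ?_, ?_, e5⟩
  · have k := mul_inv_eq_one.mp h.rel.r7
    rw [k]
    have := norm_of h ha c h.mc
    rwa [inv_inv] at this
  · have k := mul_inv_eq_one.mp h.rel.r8
    rw [k]
    have := norm_of h hb c h.mc
    rwa [inv_inv] at this
  · have k := mul_inv_eq_one.mp h.rel.r9
    rw [k, inv_inv]
    exact norm_of h hb' c h.mc

/-- letters commuting with `t` -/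
def okl (k : ℕ) : Bool := k < 4 || k == 12 || k == 13

/-- the elements of the centraliser -/
def colC (h : Data28 F a b c c2 c3 c4 c5) : ℕ → centralizer {L.t} :=
  col2 ⟨a, L.mem_iff.2 h.ka⟩ ⟨b, L.mem_iff.2 h.kb⟩ 1 1 1 1 ⟨c5, L.mem_iff.2 h.k5⟩

theorem coe_colC (h : Data28 F a b c c2 c3 c4 c5) (w : List ℕ) (hw : w.all okl = true) :
    ((ev (colC h) w : centralizer {L.t}) : G) = ev (col2 a b c c2 c3 c4 c5) w := by
  induction w with
  | nil => rfl
  | cons k w ih =>
    rw [List.all_cons, Bool.and_eq_true] at hw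
    rw [ev_cons, ev_cons, Subgroup.coe_mul, ih hw.2]
    congr 1
    have hk := hw.1
    unfold colC col2
    rcases k with _ | _ | _ | _ | _ | _ | _ | _ | _ | _ | _ | _ | _ | _ | k
    · rfl
    · rfl
    · rfl
    · rfl
    · exact absurd hk (by decide)
    · exact absurd hk (by decide)
    · exact absurd hk (by decide)
    · exact absurd hk (by decide)
    · exact absurd hk (by decide)
    · exact absurd hk (by decide)
    · exact absurd hk (by decide)
    · exact absurd hk (by decide)
    · rfl
    · rfl
    · rfl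

theorem comm_t (h : Data28 F a b c c2 c3 c4 c5) (w : List ℕ) (hw : w.all okl = true) :
    ev (col2 a b c c2 c3 c4 c5) w * L.t = L.t * ev (col2 a b c c2 c3 c4 c5) w := by
  rw [← coe_colC h w hw]
  exact L.mem_iff.1 (ev (colC h) w).2

theorem π_ev (h : Data28 F a b c c2 c3 c4 c5) (w : List ℕ) (hw : w.all okl = true) :
    L.K.π ⟨ev (col2 a b c c2 c3 c4 c5) w, L.mem_iff.2 (comm_t h w hw)⟩ =
      ev (col2 (swap 0 1 * swap 6 8 * swap 8 9 * swap 9 7) (swap 0 1 * swap 1 2 * swap 2 3 * swap 3 4) 1 1 1 1
        (swap 5 6 * swap 6 7 * swap 7 8 * swap 8 9)) w := by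
  have e : (⟨ev (col2 a b c c2 c3 c4 c5) w, L.mem_iff.2 (comm_t h w hw)⟩ : centralizer {L.t}) =
      ev (colC h) w := Subtype.ext (coe_colC h w hw).symm
  rw [e]
  unfold colC
  rw [map_ev_col2, h.πa, h.πb, h.π5, map_one]

/-- **The input** for the construction of `G₂(5)`. -/
def hexIn (h : Data28 F a b c c2 c3 c4 c5) : HexIn F where
  e := els a b c c2 c3 c4 c5
  rel := relP h.rel
  m6 := mem_of_letters h.mc (mem_E h).1 (mem_E h).2.1 (mem_E h).2.2.1 (mem_E h).2.2.2 w6 (by decide)
  m8 := mem_of_letters h.mc (mem_E h).1 (mem_E h).2.1 (mem_E h).2.2.1 (mem_E h).2.2.2 w8 (by decide)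
  m9 := mem_of_letters h.mc (mem_E h).1 (mem_E h).2.1 (mem_E h).2.2.1 (mem_E h).2.2.2 w9 (by decide)
  m10 := mem_of_letters h.mc (mem_E h).1 (mem_E h).2.1 (mem_E h).2.2.1 (mem_E h).2.2.2 w10 (by decide)
  m11 := by
    show ev (col2 a b c c2 c3 c4 c5) [12, 12] ∈ zpowers F.f
    rw [ev_cons, ev_cons, ev_nil, mul_one]
    exact mul_mem h.m5 h.m5
  x11_ne := by
    show ev (col2 a b c c2 c3 c4 c5) [12, 12] ≠ 1
    rw [ev_cons, ev_cons, ev_nil, mul_one]
    show c5 * c5 ≠ 1
    intro h2
    apply h.c5_ne
    have h5 := h.rel.r12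
    have e : c5 ^ 5 = (c5 * c5) * (c5 * c5) * c5 := by simp only [pow_succ, pow_zero, one_mul, mul_assoc]
    rw [e, h2, one_mul, one_mul] at h5
    exact h5
  t7_sq := by
    show (ev (col2 a b c c2 c3 c4 c5) wt7) ^ 2 = L.t
    rw [pow_two, ← ev_append, ← h.a4]
    rw [eq_of_check h.rel (wt7 ++ wt7) [0, 0, 0, 0] (by decide +kernel)]
    simp only [ev_cons, ev_nil, mul_one, pow_succ, pow_zero, one_mul, mul_assoc]
    rfl
  k7 := comm_t h w7 (by decide)
  k11 := comm_t h w11 (by decide)
  kt6 := comm_t h wt6 (by decide)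
  kt7 := comm_t h wt7 (by decide)
  kA := comm_t h wA (by decide)
  π7 := (π_ev h w7 (by decide)).trans (by decide +kernel)
  π11 := (π_ev h w11 (by decide)).trans (by decide +kernel)
  πt6 := (π_ev h wt6 (by decide)).trans (by decide +kernel)
  πt7 := (π_ev h wt7 (by decide)).trans (by decide +kernel)
  πA := (π_ev h wA (by decide)).trans (by decide +kernel)

end data

end Cfsg.Agent.SporRec.LyHexOf
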