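import Mathlib

/-!
# Relations for `G₂(5)` in terms of root elements

`RelP`: relations among the positive root elements `x₆, …, x₁₁` (roots `β, α, α+β, 2α+β, 3α+β, 3α+2β`), the torus
elements `t₆, t₇` and the Weyl element `A = n_α`; `RelN`: relations for `N = n_β`. An elementary BN-pair count shows
that a group generated by elements satisfying these relations has order at most `5859000000 = |G₂(5)|`.
-/

set_option autoImplicit false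
set_option linter.dupNamespace false

namespace Cfsg.Agent.SporRec.LyHexRel

open Subgroup

/-- A system of elements. -/
structure Els (H : Type*) where
  x6 : H
  x7 : H
  x8 : H
  x9 : H
  x10 : H
  x11 : H
  t6 : H
  t7 : H
  A : H

namespace Els

variable {G H : Type*}

/-- Image under a map. -/
def map (φ : G → H) (e : Els G) : Els H :=
  ⟨φ e.x6, φ e.x7, φ e.x8, φ e.x9, φ e.x10, φ e.x11, φ e.t6, φ e.t7, φ e.A⟩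

/-- Pairs. -/
def prod (e : Els G) (f : Els H) : Els (G × H) :=
  ⟨(e.x6, f.x6), (e.x7, f.x7), (e.x8, f.x8), (e.x9, f.x9), (e.x10, f.x10), (e.x11, f.x11), (e.t6, f.t6),
    (e.t7, f.t7), (e.A, f.A)⟩

end Els

/-- The relations of the parabolic `P₁ = 5^{1+4} : GL₂(5)`. -/
structure RelP {H : Type*} [Group H] (e : Els H) : Prop where
  p6 : e.x6 ^ 5 = 1
  p7 : e.x7 ^ 5 = 1
  p8 : e.x8 ^ 5 = 1
  p9 : e.x9 ^ 5 = 1
  p10 : e.x10 ^ 5 = 1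
  p11 : e.x11 ^ 5 = 1
  q6 : e.t6 ^ 4 = 1
  q7 : e.t7 ^ 4 = 1
  q67 : e.t6 * e.t7 = e.t7 * e.t6
  s66 : e.t6 * e.x6 * e.t6⁻¹ = e.x6 ^ 4
  s67 : e.t6 * e.x7 * e.t6⁻¹ = e.x7 ^ 3
  s68 : e.t6 * e.x8 * e.t6⁻¹ = e.x8 ^ 2
  s69 : e.t6 * e.x9 * e.t6⁻¹ = e.x9
  s610 : e.t6 * e.x10 * e.t6⁻¹ = e.x10 ^ 3
  s611 : e.t6 * e.x11 * e.t6⁻¹ = e.x11 ^ 2
  s76 : e.t7 * e.x6 * e.t7⁻¹ = e.x6 ^ 2
  s77 : e.t7 * e.x7 * e.t7⁻¹ = e.x7 ^ 4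
  s78 : e.t7 * e.x8 * e.t7⁻¹ = e.x8 ^ 3
  s79 : e.t7 * e.x9 * e.t7⁻¹ = e.x9 ^ 2
  s710 : e.t7 * e.x10 * e.t7⁻¹ = e.x10 ^ 3
  s711 : e.t7 * e.x11 * e.t7⁻¹ = e.x11
  c67 : e.x6 * e.x7 * e.x6⁻¹ * e.x7⁻¹ = e.x8 * e.x9 ^ 4 * e.x10 ^ 4 * e.x11
  c68 : e.x6 * e.x8 = e.x8 * e.x6
  c69 : e.x6 * e.x9 = e.x9 * e.x6
  c610 : e.x6 * e.x10 * e.x6⁻¹ * e.x10⁻¹ = e.x11
  c611 : e.x6 * e.x11 = e.x11 * e.x6
  c78 : e.x7 * e.x8 * e.x7⁻¹ * e.x8⁻¹ = e.x9 ^ 3 * e.x10 ^ 2 * e.x11 ^ 2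
  c79 : e.x7 * e.x9 * e.x7⁻¹ * e.x9⁻¹ = e.x10 ^ 3
  c710 : e.x7 * e.x10 = e.x10 * e.x7
  c711 : e.x7 * e.x11 = e.x11 * e.x7
  c89 : e.x8 * e.x9 * e.x8⁻¹ * e.x9⁻¹ = e.x11 ^ 3
  c810 : e.x8 * e.x10 = e.x10 * e.x8
  c811 : e.x8 * e.x11 = e.x11 * e.x8
  c910 : e.x9 * e.x10 = e.x10 * e.x9
  c911 : e.x9 * e.x11 = e.x11 * e.x9
  c1011 : e.x10 * e.x11 = e.x11 * e.x10
  a6 : e.A * e.x6 * e.A⁻¹ = e.x10
  a8 : e.A * e.x8 * e.A⁻¹ = e.x9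
  a9 : e.A * e.x9 * e.A⁻¹ = e.x8 ^ 4
  a10 : e.A * e.x10 * e.A⁻¹ = e.x6 ^ 4
  a11 : e.A * e.x11 * e.A⁻¹ = e.x11
  at6 : e.A * e.t6 * e.A⁻¹ = e.t6 * e.t7
  at7 : e.A * e.t7 * e.A⁻¹ = e.t7 ^ 3
  aa : e.A * e.A = e.t7 ^ 2
  r1 : e.A * e.x7 * e.A = e.x7 ^ 4 * e.A * (e.x7 ^ 4 * e.t7 ^ 2)
  r2 : e.A * e.x7 ^ 2 * e.A = e.x7 ^ 2 * e.A * (e.x7 ^ 3 * e.t7 ^ 3)
  r3 : e.A * e.x7 ^ 3 * e.A = e.x7 ^ 3 * e.A * (e.x7 ^ 2 * e.t7)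
  r4 : e.A * e.x7 ^ 4 * e.A = e.x7 * e.A * e.x7

/-- The relations for `N = n_β`. -/
structure RelN {H : Type*} [Group H] (e : Els H) (N : H) : Prop where
  n7 : N * e.x7 * N⁻¹ = e.x8
  n8 : N * e.x8 * N⁻¹ = e.x7 ^ 4
  n9 : N * e.x9 * N⁻¹ = e.x9
  n10 : N * e.x10 * N⁻¹ = e.x11
  n11 : N * e.x11 * N⁻¹ = e.x10 ^ 4
  nt6 : N * e.t6 * N⁻¹ = e.t6 ^ 3
  nt7 : N * e.t7 * N⁻¹ = e.t6 ^ 3 * e.t7
  nn : N * N = e.t6 ^ 2
  m1 : N * e.x6 * N = e.x6 ^ 4 * N * (e.x6 ^ 4 * e.t6 ^ 2)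
  m2 : N * e.x6 ^ 2 * N = e.x6 ^ 2 * N * (e.x6 ^ 3 * e.t6 ^ 3)
  m3 : N * e.x6 ^ 3 * N = e.x6 ^ 3 * N * (e.x6 ^ 2 * e.t6)
  m4 : N * e.x6 ^ 4 * N = e.x6 * N * e.x6
  braid : e.A * N * e.A * N * e.A * N = N * e.A * N * e.A * N * e.A

theorem RelP.prod {G H : Type*} [Group G] [Group H] {e : Els G} {f : Els H} (h : RelP e) (k : RelP f) :
    RelP (e.prod f) where
  p6 := Prod.ext h.p6 k.p6
  p7 := Prod.ext h.p7 k.p7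
  p8 := Prod.ext h.p8 k.p8
  p9 := Prod.ext h.p9 k.p9
  p10 := Prod.ext h.p10 k.p10
  p11 := Prod.ext h.p11 k.p11
  q6 := Prod.ext h.q6 k.q6
  q7 := Prod.ext h.q7 k.q7
  q67 := Prod.ext h.q67 k.q67
  s66 := Prod.ext h.s66 k.s66
  s67 := Prod.ext h.s67 k.s67
  s68 := Prod.ext h.s68 k.s68
  s69 := Prod.ext h.s69 k.s69
  s610 := Prod.ext h.s610 k.s610
  s611 := Prod.ext h.s611 k.s611
  s76 := Prod.ext h.s76 k.s76
  s77 := Prod.ext h.s77 k.s77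
  s78 := Prod.ext h.s78 k.s78
  s79 := Prod.ext h.s79 k.s79
  s710 := Prod.ext h.s710 k.s710
  s711 := Prod.ext h.s711 k.s711
  c67 := Prod.ext h.c67 k.c67
  c68 := Prod.ext h.c68 k.c68
  c69 := Prod.ext h.c69 k.c69
  c610 := Prod.ext h.c610 k.c610
  c611 := Prod.ext h.c611 k.c611
  c78 := Prod.ext h.c78 k.c78
  c79 := Prod.ext h.c79 k.c79
  c710 := Prod.ext h.c710 k.c710
  c711 := Prod.ext h.c711 k.c711
  c89 := Prod.ext h.c89 k.c89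
  c810 := Prod.ext h.c810 k.c810
  c811 := Prod.ext h.c811 k.c811
  c910 := Prod.ext h.c910 k.c910
  c911 := Prod.ext h.c911 k.c911
  c1011 := Prod.ext h.c1011 k.c1011
  a6 := Prod.ext h.a6 k.a6
  a8 := Prod.ext h.a8 k.a8
  a9 := Prod.ext h.a9 k.a9
  a10 := Prod.ext h.a10 k.a10
  a11 := Prod.ext h.a11 k.a11
  at6 := Prod.ext h.at6 k.at6
  at7 := Prod.ext h.at7 k.at7
  aa := Prod.ext h.aa k.aa
  r1 := Prod.ext h.r1 k.r1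
  r2 := Prod.ext h.r2 k.r2
  r3 := Prod.ext h.r3 k.r3
  r4 := Prod.ext h.r4 k.r4

theorem RelN.prod {G H : Type*} [Group G] [Group H] {e : Els G} {f : Els H} {N : G} {M : H} (h : RelN e N)
    (k : RelN f M) : RelN (e.prod f) (N, M) where
  n7 := Prod.ext h.n7 k.n7
  n8 := Prod.ext h.n8 k.n8
  n9 := Prod.ext h.n9 k.n9
  n10 := Prod.ext h.n10 k.n10
  n11 := Prod.ext h.n11 k.n11
  nt6 := Prod.ext h.nt6 k.nt6
  nt7 := Prod.ext h.nt7 k.nt7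
  nn := Prod.ext h.nn k.nn
  m1 := Prod.ext h.m1 k.m1
  m2 := Prod.ext h.m2 k.m2
  m3 := Prod.ext h.m3 k.m3
  m4 := Prod.ext h.m4 k.m4
  braid := Prod.ext h.braid k.braid

/-! ### Products of subgroups -/

section sup

variable {H : Type*} [Group H]

theorem zpowers_le_normalizer {x : H} {K : Subgroup H} (h : ∀ k ∈ K, x * k * x⁻¹ ∈ K) (n : ℕ) (hn : 0 < n)
    (hx : x ^ n = 1) : zpowers x ≤ normalizer (K : Set H) := by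
  rw [zpowers_le]
  rw [Subgroup.mem_normalizer_iff]
  have hpow : ∀ (m : ℕ), ∀ k ∈ K, x ^ m * k * (x ^ m)⁻¹ ∈ K := by
    intro m
    induction m with
    | zero => intro k hk; simpa using hk
    | succ m ih =>
      intro k hk
      have := ih _ (h k hk)
      rw [pow_succ, mul_inv_rev]
      simpa only [mul_assoc] using this
  intro k
  refine ⟨h k, fun hk => ?_⟩
  have h1 := hpow (n - 1) _ hk
  have h2 : x ^ (n - 1) = x⁻¹ := by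
    rw [eq_inv_iff_mul_eq_one, ← pow_succ, Nat.sub_add_cancel hn, hx]
  rw [h2] at h1
  simpa [mul_assoc] using h1

/-- elements of `⟨x⟩ K` when `x` normalises `K` -/
theorem mem_zpowers_sup {x : H} {K : Subgroup H} (h : zpowers x ≤ normalizer (K : Set H)) {n : ℕ} (hn : 0 < n)
    (hx : x ^ n = 1) {g : H} : g ∈ zpowers x ⊔ K ↔ ∃ i < n, ∃ k ∈ K, g = x ^ i * k := by
  rw [← SetLike.mem_coe, Subgroup.coe_mul_of_left_le_normalizer_right _ _ h, Set.mem_mul]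
  constructor
  · rintro ⟨a, ha, k, hk, rfl⟩
    have hfin : IsOfFinOrder x := isOfFinOrder_iff_pow_eq_one.2 ⟨n, hn, hx⟩
    obtain ⟨i, hi, rfl⟩ : ∃ i, i < orderOf x ∧ x ^ i = a := by
      classical
      have h1 := (hfin.mem_zpowers_iff_mem_range_orderOf).1 ha
      simpa using h1
    refine ⟨i, lt_of_lt_of_le hi (Nat.le_of_dvd hn (orderOf_dvd_of_pow_eq_one hx)), k, hk, rfl⟩
  · rintro ⟨i, -, k, hk, rfl⟩
    exact ⟨x ^ i, npow_mem_zpowers x i, k, hk, rfl⟩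

theorem card_zpowers_sup_le {x : H} {K : Subgroup H} (h : zpowers x ≤ normalizer (K : Set H)) {n : ℕ} (hn : 0 < n)
    (hx : x ^ n = 1) {c : ℕ} (hK : Finite K) (hc : Nat.card K ≤ c) :
    Finite (zpowers x ⊔ K : Subgroup H) ∧ Nat.card (zpowers x ⊔ K : Subgroup H) ≤ n * c := by
  let f : Fin n × K → (zpowers x ⊔ K : Subgroup H) := fun p =>
    ⟨x ^ (p.1 : ℕ) * p.2, mul_mem (mem_sup_left (npow_mem_zpowers x _)) (mem_sup_right p.2.2)⟩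
  have hf : Function.Surjective f := by
    rintro ⟨g, hg⟩
    obtain ⟨i, hi, k, hk, rfl⟩ := (mem_zpowers_sup h hn hx).1 hg
    exact ⟨⟨⟨i, hi⟩, ⟨k, hk⟩⟩, rfl⟩
  refine ⟨Finite.of_surjective f hf, (Nat.card_le_card_of_surjective f hf).trans ?_⟩
  rw [Nat.card_prod, Nat.card_fin]
  exact Nat.mul_le_mul_left _ hc

theorem conj_sup {x : H} {K L : Subgroup H} (hK : ∀ k ∈ K, x * k * x⁻¹ ∈ K ⊔ L) (hL : ∀ k ∈ L, x * k * x⁻¹ ∈ K ⊔ L) :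
    ∀ k ∈ K ⊔ L, x * k * x⁻¹ ∈ K ⊔ L := by
  intro k hk
  have : K ⊔ L ≤ (K ⊔ L).comap (MulAut.conj x).toMonoidHom := by
    rw [sup_le_iff]
    exact ⟨fun k hk => hK k hk, fun k hk => hL k hk⟩
  exact this hk

theorem conj_mem_of_zpowers {x y : H} {L : Subgroup H} (h : x * y * x⁻¹ ∈ L) : ∀ k ∈ zpowers y, x * k * x⁻¹ ∈ L := by
  rintro k ⟨i, rfl⟩
  have : x * y ^ i * x⁻¹ = (x * y * x⁻¹) ^ i := (conj_zpow).symm
  show x * y ^ i * x⁻¹ ∈ L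
  rw [this]
  exact L.zpow_mem h i

end sup

end Cfsg.Agent.SporRec.LyHexRel
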