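import Cfsg.Agent.SporRec.LyFiveSix
import Cfsg.Agent.SporRec.TwoAnEleven

/-!
# Groups of Lyons type: centralisers of maximal abelian subgroups of the extraspecial group

Elements of order five of `2·A₆` do not act quadratically on `E / ⟨f⟩`, hence `C_G(V) = V` for each maximal abelian
subgroup `V` of `E = O(C_G(f))`.
-/

set_option autoImplicit false
set_option linter.dupNamespace false

namespace Cfsg.Agent.SporRec.LyPlane

open Subgroup Equiv Cfsg Cfsg.Agent.SporRec.TwoAn Cfsg.Agent.SporRec.LyType Cfsg.Agent.SporRec.LyFiveCore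
  Cfsg.Agent.SporRec.LyFiveCov Cfsg.Agent.SporRec.LyFiveExtra
  Cfsg.Agent.SporRec.LyFiveSix

section quad

/-- Two quadratic operators satisfying the braid relation. -/
theorem quad_fixed {W : Type*} [AddCommGroup W] (h5 : ∀ w : W, (5 : ℕ) • w = 0) (a b : AddMonoid.End W)
    (ha : ∀ w, a (a w - w) = a w - w) (hb : ∀ w, b (b w - w) = b w - w)
    (hab : ∀ w, a (b (a w)) = b (a (b w))) (w : W) (hw : a (b w) = -w) : w = 0 := by
  -- `N = a - 1`, `M = b - 1`
  set N : AddMonoid.End W := a - 1 with hN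
  set M : AddMonoid.End W := b - 1 with hM
  have hNa : ∀ x, N x = a x - x := fun x => rfl
  have hMb : ∀ x, M x = b x - x := fun x => rfl
  have ea : ∀ x, a x = x + N x := fun x => by rw [hNa]; abel
  have eb : ∀ x, b x = x + M x := fun x => by rw [hMb]; abel
  have hNN : ∀ x, N (N x) = 0 := fun x => by
    rw [hNa (N x), hNa x, ha, sub_self]
  have hMM : ∀ x, M (M x) = 0 := fun x => by
    rw [hMb (M x), hMb x, hb, sub_self]
  -- braid relation
  have hbr : ∀ x, N x + N (M (N x)) = M x + M (N (M x)) := by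
    intro x
    have h := hab x
    simp only [ea, eb, map_add, hNN, hMM] at h
    linear_combination (norm := abel) h
  have h1 : ∀ x, N (M (N (M x))) = - N (M x) := by
    intro x
    have h := congrArg N (hbr x)
    rw [map_add, map_add, hNN, hNN, add_zero] at h
    linear_combination (norm := abel) -h
  have h2 : ∀ x, M (N (M (N x))) = - M (N x) := by
    intro x
    have h := congrArg M (hbr x)
    rw [map_add, map_add, hMM, hMM, add_zero] at h
    linear_combination (norm := abel) h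
  rw [eb, ea, map_add] at hw
  -- `2 w + M w + N w + N M w = 0`
  have e1 : 2 • N w + N (M w) = 0 := by
    have h := congrArg N hw
    rw [map_add, map_add, map_add, map_neg, hNN, hNN, add_zero] at h
    linear_combination (norm := abel) h
  have e2 : N (M w) = -(2 • N w) := by
    linear_combination (norm := abel) e1
  have e3 : M (N w) = 2 • M w := by
    have h := congrArg M hw
    rw [e2] at h
    simp only [map_add, map_neg, map_nsmul, hMM] at h
    linear_combination (norm := abel) -h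
  have e4 : N w = 0 := by
    have h := h1 w
    rw [e2, map_neg, map_nsmul, map_neg, map_nsmul, e3, map_nsmul, e2] at h
    have h6 := h5 (N w)
    linear_combination (norm := abel) h - h6
  have e5 : M w = 0 := by
    rw [e4, map_zero] at e3
    have h6 := h5 (M w)
    linear_combination (norm := abel) 2 • e3 + h6
  have h6 := h5 w
  rw [e5, e4, map_zero] at hw
  linear_combination (norm := abel) h6 - 2 • hw

/-- The group form of `quad_fixed`. -/
theorem quad_group {G : Type*} [Group G] {K F : Subgroup G}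
    (hcent : ∀ x ∈ F, ∀ k ∈ K, k * x = x * k) (hcomm : ∀ a ∈ K, ∀ b ∈ K, a * b * a⁻¹ * b⁻¹ ∈ F)
    (h5 : ∀ k ∈ K, k ^ 5 ∈ F) {a b : G} (haK : ∀ k ∈ K, a * k * a⁻¹ ∈ K) (haF : ∀ k ∈ F, a * k * a⁻¹ ∈ F)
    (hbK : ∀ k ∈ K, b * k * b⁻¹ ∈ K) (hbF : ∀ k ∈ F, b * k * b⁻¹ ∈ F)
    (hqa : ∀ k ∈ K, a * (a * k * a⁻¹ * k⁻¹) * a⁻¹ * (a * k * a⁻¹ * k⁻¹)⁻¹ ∈ F)
    (hqb : ∀ k ∈ K, b * (b * k * b⁻¹ * k⁻¹) * b⁻¹ * (b * k * b⁻¹ * k⁻¹)⁻¹ ∈ F)
    (hab : a * b * a = b * a * b) {k : G} (hk : k ∈ K) (hfix : (a * b) * k * (a * b)⁻¹ * k ∈ F) : k ∈ F := by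
  let N : Subgroup K := F.subgroupOf K
  have hmem : ∀ x : K, x ∈ N ↔ (x : G) ∈ F := fun x => mem_subgroupOf
  have hN : N.Normal := ⟨fun n hn g => by
    rw [hmem] at hn ⊢
    show (g : G) * n * (g : G)⁻¹ ∈ F
    rw [hcent n hn g g.2, mul_inv_cancel_right]
    exact hn⟩
  let Q := K ⧸ N
  let _ : CommGroup Q :=
    { mul_comm := by
        intro x y
        induction x using QuotientGroup.induction_on with
        | H x =>
          induction y using QuotientGroup.induction_on with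
          | H y =>
            show (QuotientGroup.mk (x * y) : K ⧸ N) = QuotientGroup.mk (y * x)
            rw [QuotientGroup.eq, hmem]
            show ((x : G) * y)⁻¹ * ((y : G) * x) ∈ F
            have h1 := hcomm (y : G)⁻¹ (inv_mem y.2) (x : G)⁻¹ (inv_mem x.2)
            have h2 : ((x : G) * y)⁻¹ * ((y : G) * x) = (y : G)⁻¹ * (x : G)⁻¹ * ((y : G)⁻¹)⁻¹ * ((x : G)⁻¹)⁻¹ := by
              group
            rw [h2]
            exact h1 }
  -- conjugation
  have conj : ∀ c : G, (∀ k ∈ K, c * k * c⁻¹ ∈ K) → (∀ k ∈ F, c * k * c⁻¹ ∈ F) →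
      ∃ φ : Q →* Q, ∀ x : K, ∀ h : c * (x : G) * c⁻¹ ∈ K, φ (QuotientGroup.mk x) = QuotientGroup.mk ⟨_, h⟩ := by
    intro c hcK hcF
    let ψ : K →* K :=
      { toFun := fun x => ⟨c * x * c⁻¹, hcK x x.2⟩
        map_one' := Subtype.ext (by
          show c * ((1 : K) : G) * c⁻¹ = 1
          rw [OneMemClass.coe_one, mul_one, mul_inv_cancel])
        map_mul' := fun x y => Subtype.ext (by
          show c * ((x : G) * y) * c⁻¹ = c * x * c⁻¹ * (c * y * c⁻¹)
          group) }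
    exact ⟨QuotientGroup.map N N ψ (fun x hx => by
      rw [mem_comap, hmem]
      exact hcF x ((hmem x).1 hx)), fun x h => rfl⟩
  obtain ⟨A, hA⟩ := conj a haK haF
  obtain ⟨B, hB⟩ := conj b hbK hbF
  have heq : ∀ x y : K, (QuotientGroup.mk x : Q) = QuotientGroup.mk y ↔ (x : G) * (y : G)⁻¹ ∈ F := by
    intro x y
    rw [eq_comm, QuotientGroup.eq, hmem]
    show (y : G)⁻¹ * x ∈ F ↔ _
    constructor
    · intro h
      have h1 := hcent _ h y y.2
      have h2 : (x : G) * (y : G)⁻¹ = (y : G)⁻¹ * x := by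
        calc (x : G) * (y : G)⁻¹ = y * ((y : G)⁻¹ * x) * (y : G)⁻¹ := by group
          _ = (y : G)⁻¹ * x := by rw [h1]; group
      rw [h2]; exact h
    · intro h
      have h1 := hcent _ h y y.2
      have h2 : (y : G)⁻¹ * x = (x : G) * (y : G)⁻¹ := by
        calc (y : G)⁻¹ * x = (y : G)⁻¹ * ((x : G) * (y : G)⁻¹ * y) := by group
          _ = (x : G) * (y : G)⁻¹ := by rw [← h1]; group
      rw [h2]; exact h
  have key := quad_fixed (W := Additive Q) (by
    intro w
    induction w with | ofMul w =>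
    induction w using QuotientGroup.induction_on with
    | H w =>
      show ((QuotientGroup.mk w : Q) ^ 5 : Q) = 1
      have : (QuotientGroup.mk (w ^ 5) : Q) = QuotientGroup.mk 1 := by
        rw [heq]
        show (w : G) ^ 5 * (1 : G)⁻¹ ∈ F
        rw [inv_one, mul_one]
        exact h5 w w.2
      exact this) (MonoidHom.toAdditive A) (MonoidHom.toAdditive B) (by
    intro w
    induction w with | ofMul w =>
    induction w using QuotientGroup.induction_on with
    | H w =>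
      show (A (A (QuotientGroup.mk w) / QuotientGroup.mk w) : Q) = A (QuotientGroup.mk w) / QuotientGroup.mk w
      rw [hA w (haK w w.2)]
      have h1 : (QuotientGroup.mk (⟨a * w * a⁻¹, haK w w.2⟩ : K) / QuotientGroup.mk w : Q) =
        QuotientGroup.mk (⟨a * w * a⁻¹ * (w : G)⁻¹, mul_mem (haK w w.2) (inv_mem w.2)⟩ : K) := by
        rw [div_eq_mul_inv]; rfl
      rw [h1, hA _ (haK _ (mul_mem (haK w w.2) (inv_mem w.2))), heq]
      exact hqa w w.2) (by
    intro w
    induction w with | ofMul w =>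
    induction w using QuotientGroup.induction_on with
    | H w =>
      show (B (B (QuotientGroup.mk w) / QuotientGroup.mk w) : Q) = B (QuotientGroup.mk w) / QuotientGroup.mk w
      rw [hB w (hbK w w.2)]
      have h1 : (QuotientGroup.mk (⟨b * w * b⁻¹, hbK w w.2⟩ : K) / QuotientGroup.mk w : Q) =
        QuotientGroup.mk (⟨b * w * b⁻¹ * (w : G)⁻¹, mul_mem (hbK w w.2) (inv_mem w.2)⟩ : K) := by
        rw [div_eq_mul_inv]; rfl
      rw [h1, hB _ (hbK _ (mul_mem (hbK w w.2) (inv_mem w.2))), heq]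
      exact hqb w w.2) (by
    intro w
    induction w with | ofMul w =>
    induction w using QuotientGroup.induction_on with
    | H w =>
      show (A (B (A (QuotientGroup.mk w))) : Q) = B (A (B (QuotientGroup.mk w)))
      rw [hA w (haK w w.2), hB _ (hbK _ (haK w w.2)), hA _ (haK _ (hbK _ (haK w w.2))), hB w (hbK w w.2),
        hA _ (haK _ (hbK w w.2)), hB _ (hbK _ (haK _ (hbK w w.2)))]
      congr 1
      apply Subtype.ext
      show a * (b * (a * w * a⁻¹) * b⁻¹) * a⁻¹ = b * (a * (b * w * b⁻¹) * a⁻¹) * b⁻¹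
      calc a * (b * (a * w * a⁻¹) * b⁻¹) * a⁻¹ = (a * b * a) * w * (a * b * a)⁻¹ := by group
        _ = (b * a * b) * w * (b * a * b)⁻¹ := by rw [hab]
        _ = _ := by group) (Additive.ofMul (QuotientGroup.mk ⟨k, hk⟩ : Q)) (by
      show (A (B (QuotientGroup.mk ⟨k, hk⟩)) : Q) = (QuotientGroup.mk ⟨k, hk⟩)⁻¹
      rw [hB _ (hbK k hk), hA _ (haK _ (hbK k hk))]
      have : ((QuotientGroup.mk ⟨k, hk⟩)⁻¹ : Q) = QuotientGroup.mk (⟨k, hk⟩⁻¹ : K) := rfl
      rw [this, heq]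
      show a * (b * k * b⁻¹) * a⁻¹ * (k⁻¹)⁻¹ ∈ F
      have h1 : a * (b * k * b⁻¹) * a⁻¹ * (k⁻¹)⁻¹ = (a * b) * k * (a * b)⁻¹ * k := by group
      rw [h1]
      exact hfix)
  have h1 : (QuotientGroup.mk (⟨k, hk⟩ : K) : Q) = QuotientGroup.mk 1 := key
  rw [heq] at h1
  have h2 : k * (1 : G)⁻¹ ∈ F := h1
  rwa [inv_one, mul_one] at h2

end quad

section cover

theorem cycleType_five {σ : Perm (Fin 6)} (h5 : σ ^ 5 = 1) (h1 : σ ≠ 1) : σ.cycleType = {5} := by
  have ho : orderOf σ = 5 := by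
    have : Fact (Nat.Prime 5) := ⟨by norm_num⟩
    exact orderOf_eq_prime h5 h1
  obtain ⟨n, hn⟩ := Perm.cycleType_prime_order (σ := σ) (by rw [ho]; norm_num)
  rw [ho] at hn
  have hs := σ.sum_cycleType
  have hle : σ.support.card ≤ 6 := by
    have := Finset.card_le_univ σ.support
    rwa [Fintype.card_fin] at this
  rw [hn, Multiset.sum_replicate, smul_eq_mul] at hs
  have : n = 0 := by omega
  rw [hn, this]
  rfl

/-- the five-cycle `(0 1 2 3 4)` -/
def c₁ : Perm (Fin 6) := swap 0 1 * swap 1 2 * swap 2 3 * swap 3 4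

/-- the five-cycle `(0 2 4 3 1)` -/
def c₂ : Perm (Fin 6) := swap 0 2 * swap 2 4 * swap 4 3 * swap 3 1

variable {α : Type*} [Fintype α] [DecidableEq α] {C : Type*} [Group C]

/-- In the double cover of `A₆` an element `s` of order five satisfies the braid relation with some `s'`, and
`z s s'` is the lift of order three of a three-cycle. -/
theorem exists_braid (K : Cover α C) (hα : Fintype.card α = 6) {s : C} (h5 : s ^ 5 = 1) (h1 : s ≠ 1) :
    ∃ s' : C, s * s' * s = s' * s * s' ∧ (K.z * (s * s')) ^ 3 = 1 ∧ (K.π (K.z * (s * s'))).support.card = 3 := by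
  have h1' : K.π s ≠ 1 := by
    intro h
    rcases (K.ker s).1 h with h | h
    · exact h1 h
    · rw [h, K.z_pow, if_neg (by decide)] at h5
      exact K.z_ne h5
  obtain ⟨e⟩ : Nonempty (α ≃ Fin 6) := ⟨Fintype.equivOfCardEq (by rw [hα, Fintype.card_fin])⟩
  obtain ⟨τ, hτ⟩ : ∃ τ : Perm (Fin 6), τ * e.permCongr (K.π s) * τ⁻¹ = c₁ := by
    apply isConj_iff.1
    rw [Perm.isConj_iff_cycleType_eq, cycleType_five (σ := c₁) (by decide) (by decide)]
    apply cycleType_five
    · have : (K.congr e).π s ^ 5 = 1 := by rw [← map_pow, h5, map_one]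
      exact this
    · intro h
      exact h1' (e.permCongr.injective (by rw [h]; ext x; simp [Equiv.permCongr_apply]))
  set K' := K.congr (e.trans τ) with hK'
  have hs : K'.π s = c₁ := by
    rw [← hτ]
    ext x
    rfl
  obtain ⟨s', hs', hs5⟩ := K'.exists_odd_lift (σ := c₂) (n := 5) (by rw [Perm.mem_alternatingGroup]; decide)
    (by decide) (by decide)
  have hz : K'.z = K.z := rfl
  have hbr : s * s' * s = s' * s * s' := by
    have h2 : K'.π (s * s' * s) = K'.π (s' * s * s') := by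
      rw [map_mul, map_mul, map_mul, map_mul, hs, hs']
      decide
    rcases K'.lift_eq h2 with h3 | h3
    · exact h3
    · exfalso
      have h4 : (s * s') * s * (s * s')⁻¹ = s' * K'.z := by
        rw [mul_inv_eq_iff_eq_mul, h3, mul_assoc s' s s', mul_assoc s' K'.z, ← K'.z_comm, mul_assoc]
      have h6 : ((s * s') * s * (s * s')⁻¹) ^ 5 = 1 := by rw [conj_pow, h5, mul_one, mul_inv_cancel]
      have h7 : Commute s' K'.z := K'.z_comm s'
      rw [h4, h7.mul_pow, hs5, one_mul, K'.z_pow, if_neg (by decide)] at h6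
      exact K'.z_ne h6
  have hsq : (s * s' * s) * (s * s' * s) = K'.z := by
    refine K'.dbl 0 1 3 4 (by decide) (by decide) (by decide) (by decide) (by decide) (by decide) _ ?_
    rw [map_mul, map_mul, hs, hs']
    decide
  refine ⟨s', hbr, ?_, ?_⟩
  · have h2 : Commute K.z (s * s') := (K.z_comm _).symm
    rw [h2.mul_pow, K.z_pow, if_neg (by decide)]
    have h3 : (s * s') ^ 3 = K.z := by
      calc (s * s') ^ 3 = (s * s' * s) * (s' * s * s') := by rw [pow_succ, pow_two]; group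
        _ = K.z := by rw [← hbr, hsq, hz]
    rw [h3, K.z_mul_z]
  · have h2 : (K'.π (K.z * (s * s'))).support.card = 3 := by
      rw [map_mul, map_mul, ← hz, K'.π_z, hs, hs', one_mul]
      decide
    rw [← h2]
    exact (Cfsg.Agent.SporRec.TwoAnEleven.card_support_permCongr (e.trans τ) _).symm

end cover

section main

variable {G : Type*} [Group G] [Finite G] {L : LyType G} {f : G}

/-- Three-cycles commuting with `f` have a fixed point on `O(C_G(f)) / ⟨f⟩`. -/
def Three (L : LyType G) (f : G) : Prop :=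
  ∀ (x : G) (hx : x * L.t = L.t * x), x ^ 3 = 1 → (L.K.π ⟨x, L.mem_iff.2 hx⟩).cycleType = {3} →
    x * f = f * x → ∃ e ∈ core f, e ∉ zpowers f ∧ e * x = x * e

/-- Elements of order five of `2·A₆` do not act quadratically on `O(C_G(f)) / ⟨f⟩`. -/
theorem not_quadratic (hf : Five L f) (hE : Extraspecial hf) (h3 : Three L f) {s : G} (hs : s ∈ Sx hf)
    (h5 : s ^ 5 = 1) (h1 : s ≠ 1)
    (hq : ∀ k ∈ core f, s * (s * k * s⁻¹ * k⁻¹) * s⁻¹ * (s * k * s⁻¹ * k⁻¹)⁻¹ ∈ zpowers f) : False := by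
  obtain ⟨s₀, rfl⟩ := hs
  have hs5 : s₀ ^ 5 = 1 := emb_injective hf (by rw [map_pow, h5, map_one])
  have hs1 : s₀ ≠ 1 := by
    rintro rfl
    exact h1 (map_one _)
  set K6 := L.K.restrict (fun x => L.K.π ⟨f, L.mem_iff.2 hf.comm⟩ x = x) with hK6
  obtain ⟨s₁, hbr, hx3, hxc⟩ := exists_braid K6 (card_fixed hf) hs5 hs1
  set x₀ := K6.z * (s₀ * s₁) with hx₀
  have hzt : emb hf K6.z = L.t := L.hz
  have hx : emb hf x₀ = L.t * (emb hf s₀ * emb hf s₁) := by rw [hx₀, map_mul, map_mul, hzt]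
  have hSf : ∀ y, emb hf y * f = f * emb hf y := fun y => congrArg Subtype.val (L.K.comm_of_mem_sub y.2)
  have hSt : ∀ y, emb hf y * L.t = L.t * emb hf y := fun y => L.mem_iff.1 y.1.2
  have hcyc : (L.K.π ⟨emb hf x₀, L.mem_iff.2 (hSt x₀)⟩).cycleType = {3} := by
    have e1 : L.K.π ⟨emb hf x₀, L.mem_iff.2 (hSt x₀)⟩ = Perm.ofSubtype (K6.π x₀) :=
      (L.K.ofSubtype_subProj x₀).symm
    have e2 : (L.K.π ⟨emb hf x₀, L.mem_iff.2 (hSt x₀)⟩).support.card = 3 := by
      rw [e1, Perm.support_ofSubtype, Finset.card_map, hxc]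
    exact card_support_eq_three_iff.1 e2
  obtain ⟨e, he, heF, hex⟩ := h3 (emb hf x₀) (hSt x₀) (by rw [← map_pow, hx3, map_one]) hcyc (hSf x₀)
  apply heF
  have hF : ∀ y, ∀ k ∈ zpowers f, emb hf y * k * (emb hf y)⁻¹ ∈ zpowers f := by
    rintro y _ ⟨n, rfl⟩
    have h2 : Commute (emb hf y) (f ^ n) := (show Commute (emb hf y) f from hSf y).zpow_right n
    show emb hf y * f ^ n * (emb hf y)⁻¹ ∈ zpowers f
    rw [h2.eq, mul_inv_cancel_right]
    exact zpow_mem_zpowers f n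
  have hK : ∀ y, ∀ k ∈ core f, emb hf y * k * (emb hf y)⁻¹ ∈ core f := fun y k hk =>
    conj_mem_core_of_comm (hSf y) hk
  set a := emb hf s₀ with ha
  set b := emb hf s₁ with hb
  have hab : a * b * a = b * a * b := by
    rw [ha, hb, ← map_mul, ← map_mul, hbr, map_mul, map_mul]
  -- `b = (a b) a (a b)⁻¹`
  have hba : b = (a * b) * a * (a * b)⁻¹ := by
    rw [hab]; group
  refine quad_group (K := core f) (F := zpowers f) (fun x hx k hk => comm_zpow hf hx hk)
    (fun a ha b hb => hE.commutator a ha b hb) (fun k hk => by rw [hE.pow_five k hk]; exact one_mem _)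
    (a := a) (b := b) (hK s₀) (hF s₀) (hK s₁) (hF s₁) hq ?_ hab he ?_
  · intro k hk
    -- transport by `g = a b`
    set g := a * b with hg
    have hgm : g = emb hf (s₀ * s₁) := by rw [hg, ha, hb, map_mul]
    have hginv : g⁻¹ = emb hf (s₀ * s₁)⁻¹ := by rw [hgm, map_inv]
    have hk' : g⁻¹ * k * g ∈ core f := by
      have := hK (s₀ * s₁)⁻¹ k hk
      rwa [← hginv, inv_inv] at this
    have h2 := hq _ hk'
    have h4 := hF (s₀ * s₁) _ h2
    rw [← hgm] at h4
    have h6 : b * (b * k * b⁻¹ * k⁻¹) * b⁻¹ * (b * k * b⁻¹ * k⁻¹)⁻¹ =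
        g * (a * (a * (g⁻¹ * k * g) * a⁻¹ * (g⁻¹ * k * g)⁻¹) * a⁻¹ *
          (a * (g⁻¹ * k * g) * a⁻¹ * (g⁻¹ * k * g)⁻¹)⁻¹) * g⁻¹ := by
      rw [hba]; group
    rw [h6]
    exact h4
  · -- `(a b) e (a b)⁻¹ e ≡ 1`
    have h2 : a * b = L.t * emb hf x₀ := by rw [hx, ← mul_assoc, L.t_mul_t, one_mul]
    have h4 : (a * b) * e * (a * b)⁻¹ * e = L.t * e * L.t⁻¹ * e := by
      rw [h2]
      calc L.t * emb hf x₀ * e * (L.t * emb hf x₀)⁻¹ * e = L.t * (emb hf x₀ * e) * (emb hf x₀)⁻¹ * L.t⁻¹ * e := by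
            group
        _ = L.t * (e * emb hf x₀) * (emb hf x₀)⁻¹ * L.t⁻¹ * e := by rw [hex]
        _ = L.t * e * L.t⁻¹ * e := by group
    rw [h4]
    exact conj_t_mul hf he

/-- The commutator with an element of `C_G(V)` lies in `V`. -/
theorem commutator_mem_of_centralizes (hf : Five L f) (hE : Extraspecial hf) {V : Subgroup G}
    (hmax : ∀ e ∈ core f, (∀ v ∈ V, e * v = v * e) → e ∈ V) (hVK : V ≤ core f) {g : G} (hgf : g * f = f * g)
    (hg : ∀ v ∈ V, g * v = v * g) {e : G} (he : e ∈ core f) : g * e * g⁻¹ * e⁻¹ ∈ V := by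
  have hge : g * e * g⁻¹ ∈ core f := conj_mem_core_of_comm hgf he
  -- `e⁻¹ (g e g⁻¹)` commutes with `V`
  have h1 : e⁻¹ * (g * e * g⁻¹) ∈ V := by
    apply hmax _ (mul_mem (inv_mem he) hge)
    intro v hv
    have h2 : e * v * e⁻¹ * v⁻¹ ∈ zpowers f := hE.commutator e he v (hVK hv)
    have h3 : g * (e * v * e⁻¹ * v⁻¹) = e * v * e⁻¹ * v⁻¹ * g := by
      obtain ⟨n, hn⟩ := h2
      have hn' : f ^ n = e * v * e⁻¹ * v⁻¹ := hn
      rw [← hn']
      exact ((show Commute g f from hgf).zpow_right n).eq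
    have h4 : (g * e * g⁻¹) * v * (g * e * g⁻¹)⁻¹ = e * v * e⁻¹ := by
      have h5 : g * v * g⁻¹ = v := by rw [hg v hv, mul_inv_cancel_right]
      calc (g * e * g⁻¹) * v * (g * e * g⁻¹)⁻¹ = g * (e * (g⁻¹ * v * g) * e⁻¹) * g⁻¹ := by group
        _ = g * (e * v * e⁻¹ * v⁻¹) * v * g⁻¹ := by
          have h6 : g⁻¹ * v * g = v := by
            calc g⁻¹ * v * g = g⁻¹ * (g * v * g⁻¹) * g := by rw [h5]
              _ = v := by group
          rw [h6]; group
        _ = e * v * e⁻¹ * v⁻¹ * (g * v * g⁻¹) := by rw [h3]; group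
        _ = e * v * e⁻¹ := by rw [h5]; group
    calc e⁻¹ * (g * e * g⁻¹) * v = e⁻¹ * ((g * e * g⁻¹) * v * (g * e * g⁻¹)⁻¹) * (g * e * g⁻¹) := by group
      _ = e⁻¹ * (e * v * e⁻¹) * (g * e * g⁻¹) := by rw [h4]
      _ = v * (e⁻¹ * (g * e * g⁻¹)) := by group
  -- conjugate by `e`
  have h2 : g * e * g⁻¹ * e⁻¹ = (e * (e⁻¹ * (g * e * g⁻¹)) * e⁻¹ * (e⁻¹ * (g * e * g⁻¹))⁻¹) *
      (e⁻¹ * (g * e * g⁻¹)) := by group
  rw [h2]
  refine mul_mem ?_ h1
  have h3 := hE.commutator e he _ (hVK h1)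
  have h4 : zpowers f ≤ V := by
    rw [zpowers_le]
    exact hmax f (self_mem_core hf) (fun v hv => (comm_of_mem_core (hVK hv)).symm)
  exact h4 h3

/-- `C_G(V) ≤ V` for a maximal abelian subgroup `V` of `O(C_G(f))`. -/
theorem mem_of_centralizes (hf : Five L f) (hE : Extraspecial hf) (h3 : Three L f) {V : Subgroup G}
    (hVK : V ≤ core f) (hmax : ∀ e ∈ core f, (∀ v ∈ V, e * v = v * e) → e ∈ V) (hfV : f ∈ V) {g : G}
    (hg : ∀ v ∈ V, g * v = v * g) : g ∈ V := by
  have hgf : g * f = f * g := hg f hfV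
  obtain ⟨k, hk, s, hs, rfl⟩ := (fiveIn hf hE.card).fac g hgf
  have hFV : zpowers f ≤ V := zpowers_le.2 hfV
  have hsf : s * f = f * s := (fiveIn hf hE.card).Sf s hs
  have hst : s * L.t = L.t * s := (six hf).comm s hs
  have hK : ∀ k ∈ core f, s * k * s⁻¹ ∈ core f := fun k hk => conj_mem_core_of_comm hsf hk
  have hsF : ∀ x ∈ zpowers f, s * x * s⁻¹ = x := by
    rintro _ ⟨n, rfl⟩
    have h2 : Commute s (f ^ n) := (show Commute s f from hsf).zpow_right n
    show s * f ^ n * s⁻¹ = f ^ n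
    rw [h2.eq, mul_inv_cancel_right]
  -- `s` acts on `V` trivially modulo `⟨f⟩`
  have hsV : ∀ v ∈ V, s * v * s⁻¹ * v⁻¹ ∈ zpowers f := by
    intro v hv
    have h1 : k * s * v * (k * s)⁻¹ = v := by rw [hg v hv]; group
    have h2 : s * v * s⁻¹ = k⁻¹ * v * k := by
      calc s * v * s⁻¹ = k⁻¹ * (k * s * v * (k * s)⁻¹) * k := by group
        _ = k⁻¹ * v * k := by rw [h1]
    have h3 : s * v * s⁻¹ * v⁻¹ = k⁻¹ * v * (k⁻¹)⁻¹ * v⁻¹ := by rw [h2, inv_inv]
    rw [h3]
    exact hE.commutator _ (inv_mem hk) _ (hVK hv)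
  -- `[s, K] ≤ V`
  have hsK : ∀ e ∈ core f, s * e * s⁻¹ * e⁻¹ ∈ V := by
    intro e he
    have h1 := commutator_mem_of_centralizes hf hE hmax hVK hgf hg he
    have hg' : k * s * e * (k * s)⁻¹ = k * (s * e * s⁻¹) * k⁻¹ := by group
    have h2 : s * e * s⁻¹ * e⁻¹ = (k * (s * e * s⁻¹) * k⁻¹ * (s * e * s⁻¹)⁻¹)⁻¹ * (k * s * e * (k * s)⁻¹ * e⁻¹) := by
      group
    rw [h2]
    exact mul_mem (inv_mem (hFV (hE.commutator _ hk _ (hK e he)))) h1
  have hq : ∀ k ∈ core f, s * (s * k * s⁻¹ * k⁻¹) * s⁻¹ * (s * k * s⁻¹ * k⁻¹)⁻¹ ∈ zpowers f := fun e he =>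
    hsV _ (hsK e he)
  -- `s ^ 5` acts trivially modulo `⟨f⟩`
  have hpow : ∀ n : ℕ, ∀ e ∈ core f, s ^ n * e * (s ^ n)⁻¹ * ((s * e * s⁻¹ * e⁻¹) ^ n * e)⁻¹ ∈ zpowers f := by
    intro n e he
    induction n with
    | zero => simp only [pow_zero, one_mul, inv_one, mul_one, mul_inv_cancel]; exact one_mem _
    | succ n ih =>
      set y := s * e * s⁻¹ * e⁻¹ with hy
      have hyV : y ∈ V := hsK e he
      have hyn : y ^ n ∈ V := pow_mem hyV n
      -- `s ^ (n+1) e s ^ -(n+1) = s (x y^n e) s⁻¹ = x (s y^n s⁻¹) (y e)`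
      set x := s ^ n * e * (s ^ n)⁻¹ * (y ^ n * e)⁻¹ with hx
      have h1 : s ^ (n + 1) * e * (s ^ (n + 1))⁻¹ = s * x * s⁻¹ * (s * y ^ n * s⁻¹ * (y ^ n)⁻¹) * (y ^ (n + 1) * e) := by
        have h2 : s ^ n * e * (s ^ n)⁻¹ = x * (y ^ n * e) := by rw [hx]; group
        have h3 : s * e * s⁻¹ = y * e := by rw [hy]; group
        calc s ^ (n + 1) * e * (s ^ (n + 1))⁻¹ = s * (s ^ n * e * (s ^ n)⁻¹) * s⁻¹ := by
              rw [pow_succ']; group
          _ = s * x * s⁻¹ * (s * y ^ n * s⁻¹ * (y ^ n)⁻¹) * (y ^ n * (s * e * s⁻¹)) := by rw [h2]; group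
          _ = s * x * s⁻¹ * (s * y ^ n * s⁻¹ * (y ^ n)⁻¹) * (y ^ (n + 1) * e) := by
            rw [h3, pow_succ, mul_assoc (y ^ n) y e]
      rw [h1, mul_assoc _ _ ((y ^ (n + 1) * e)⁻¹), mul_inv_cancel, mul_one, hsF x ih]
      exact mul_mem ih (hsV _ hyn)
  have h5K : ∀ e ∈ core f, s ^ 5 * e * (s ^ 5)⁻¹ * e⁻¹ ∈ zpowers f := by
    intro e he
    have h1 := hpow 5 e he
    rwa [hE.pow_five _ (hVK (hsK e he)), one_mul] at h1
  have h5 : s ^ 5 = 1 := by
    apply hE.faithful _ (pow_mem hs 5)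
    intro e he
    set r := s ^ 5 with hr
    have hrt : r * L.t = L.t * r := ((show Commute s L.t from hst).pow_left 5).eq
    have hrf : r * f = f * r := ((show Commute s f from hsf).pow_left 5).eq
    have htc : ∀ x ∈ zpowers f, L.t * x * L.t⁻¹ = x := fun x hx => by
      rw [t_comm_zpow hf hx, mul_inv_cancel_right]
    have hrc : ∀ x ∈ zpowers f, r * x * r⁻¹ = x := by
      rintro _ ⟨n, rfl⟩
      have h2 : Commute r (f ^ n) := (show Commute r f from hrf).zpow_right n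
      show r * f ^ n * r⁻¹ = f ^ n
      rw [h2.eq, mul_inv_cancel_right]
    -- `t e t⁻¹ = x e⁻¹`
    have hx := conj_t_mul hf he
    set x := L.t * e * L.t⁻¹ * e with hxdef
    set y := r * e * r⁻¹ * e⁻¹ with hydef
    have hy : y ∈ zpowers f := h5K e he
    have e1 : L.t * e * L.t⁻¹ = x * e⁻¹ := by rw [hxdef]; group
    have e2 : r * e * r⁻¹ = y * e := by rw [hydef]; group
    have hte : L.t * (r * e * r⁻¹) * L.t⁻¹ = r * (L.t * e * L.t⁻¹) * r⁻¹ := by
      calc L.t * (r * e * r⁻¹) * L.t⁻¹ = (L.t * r) * e * (L.t * r)⁻¹ := by group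
        _ = (r * L.t) * e * (r * L.t)⁻¹ := by rw [hrt]
        _ = r * (L.t * e * L.t⁻¹) * r⁻¹ := by group
    -- left side `y x e⁻¹`, right side `x (y e)⁻¹`
    have e3 : y * (x * e⁻¹) = x * (y * e)⁻¹ := by
      have l1 : L.t * (r * e * r⁻¹) * L.t⁻¹ = y * (x * e⁻¹) := by
        rw [e2]
        calc L.t * (y * e) * L.t⁻¹ = (L.t * y * L.t⁻¹) * (L.t * e * L.t⁻¹) := by group
          _ = y * (x * e⁻¹) := by rw [htc y hy, e1]
      have l2 : r * (L.t * e * L.t⁻¹) * r⁻¹ = x * (y * e)⁻¹ := by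
        rw [e1]
        calc r * (x * e⁻¹) * r⁻¹ = (r * x * r⁻¹) * (r * e * r⁻¹)⁻¹ := by group
          _ = x * (y * e)⁻¹ := by rw [hrc x hx, e2]
      rw [← l1, ← l2, hte]
    clear_value x y
    have c1 : Commute e y := comm_zpow hf hy he
    have c2 : Commute x y := comm_zpow hf hy (zpowers_le_core hf hx)
    have e4 : y * y = 1 := by
      have h7 : x * (y * e)⁻¹ = x * (y⁻¹ * e⁻¹) := by
        rw [mul_inv_rev, (c1.inv_inv).eq]
      rw [h7, ← mul_assoc, ← mul_assoc] at e3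
      have h8 := mul_right_cancel e3
      have h9 : y * x = x * y := c2.eq.symm
      rw [h9] at h8
      have h10 := mul_left_cancel h8
      calc y * y = y * y⁻¹ := by rw [← h10]
        _ = 1 := mul_inv_cancel y
    have e5 : y = 1 := eq_one_of_mul_self hf hy e4
    rw [e5, one_mul] at e2
    calc r * e = (r * e * r⁻¹) * r := by group
      _ = e * r := by rw [e2]
  by_cases hs1 : s = 1
  · subst hs1
    rw [mul_one] at hg ⊢
    exact hmax k hk hg
  · exact (not_quadratic hf hE h3 hs h5 hs1 hq).elim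

end main

end Cfsg.Agent.SporRec.LyPlane
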