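import Cfsg.Prelude.Def_Sporadic
import Cfsg.Agent.SporadicRecognition.CosetChain
import Cfsg.Agent.SporadicRecognition.M11gAll
import Cfsg.Agent.SporadicRecognition.M11hAll
import Cfsg.Agent.SporadicA.DegreePrime

/-!
A presentation of the Mathieu group `M11` by three involutions `a, b, c`, and the recognition theorem
`isM11_of_gens`: a nontrivial group generated by three elements satisfying it is simple of order 7920.
-/

set_option autoImplicit false
set_option maxRecDepth 100000

namespace Cfsg.Agent.SporRec.M11Gens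

open Cfsg.Agent.SporadicRecognition Cfsg.Agent.SporadicRecognition.CosetCert
  Cfsg.Agent.SporadicRecognition.CosetChain

/-- Three involutions satisfying the relations of a presentation of `M11`. -/
structure Gens {G : Type*} [Group G] (a b c : G) : Prop where
  a2 : a * a = 1
  b2 : b * b = 1
  c2 : c * c = 1
  ab : (a * b) ^ 6 = 1
  bc : (b * c) ^ 6 = 1
  ac : (a * c) ^ 4 = 1
  abc : (a * b * c) ^ 11 = 1
  abcb : (a * b * c * b) ^ 3 = 1
  babc : (b * a * b * c) ^ 3 = 1
  acbc : (a * c * b * c) ^ 3 = 1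
  ababc : (a * b * a * b * c) ^ 8 = 1
  abcbc : (a * b * c * b * c) ^ 5 = 1
  abacbc : (a * b * a * c * b * c) ^ 6 = 1
  abcabcb : (a * b * c * a * b * c * b) ^ 11 = 1

/-- numbering of the letters: `0 ↦ b`, `1 ↦ c`, everything else `a` -/
def lt {G : Type*} (a b c : G) : ℕ → G
  | 0 => b
  | 1 => c
  | _ => a

section upper

variable {G : Type*} [Group G] {a b c : G}

theorem lt_sq (h : Gens a b c) : ∀ x < 3, lt a b c x * lt a b c x = 1 := by
  intro x hx
  interval_cases x
  · exact h.b2
  · exact h.c2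
  · exact h.a2

theorem ev_rep (g : ℕ → G) (w : List ℕ) (n : ℕ) :
    ev g (List.replicate n w).flatten = (ev g w) ^ n := by
  induction n with
  | zero => simp [ev]
  | succ n ih => rw [List.replicate_succ, List.flatten_cons, ev_append, ih, pow_succ']

/-- the relators, up to powers -/
def roots : List (List ℕ × ℕ) :=
  [([2,1],4), ([0,1],6), ([2,0],6), ([2,0,1,0],3), ([0,2,0,1],3), ([2,1,0,1],3), ([2,0,1,0,1],5),
   ([2,0,1],11), ([2,0,2,1,0,1],6), ([2,0,2,0,1],8), ([2,0,1,2,0,1,0],11)]

theorem rels_ev (h : Gens a b c) : ∀ r ∈ M11gData.rels, ev (lt a b c) r = 1 := by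
  have e1 : M11gData.rels = roots.map fun p => (List.replicate p.2 p.1).flatten := by decide
  rw [e1]
  intro r hr
  obtain ⟨p, hp, rfl⟩ := List.mem_map.mp hr
  rw [ev_rep]
  simp only [roots, List.mem_cons, List.not_mem_nil, or_false] at hp
  rcases hp with rfl | rfl | rfl | rfl | rfl | rfl | rfl | rfl | rfl | rfl | rfl
  · simpa [ev, lt] using h.ac
  · simpa [ev, lt] using h.bc
  · simpa [ev, lt] using h.ab
  · simpa [ev, lt, mul_assoc] using h.abcb
  · simpa [ev, lt, mul_assoc] using h.babc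
  · simpa [ev, lt, mul_assoc] using h.acbc
  · simpa [ev, lt, mul_assoc] using h.abcbc
  · simpa [ev, lt, mul_assoc] using h.abc
  · simpa [ev, lt, mul_assoc] using h.abacbc
  · simpa [ev, lt, mul_assoc] using h.ababc
  · simpa [ev, lt, mul_assoc] using h.abcabcb

theorem card_two (h : Gens a b c) : Finite (Subgroup.closure (lt a b c '' {x | x < 2})) ∧
    Nat.card (Subgroup.closure (lt a b c '' {x | x < 2})) ≤ 12 * 1 := by
  have := card_step M11hData.C (lt a b c) M11hData.rels [] ⊥
    (fun x hx => ⟨hx, lt_sq h x (hx.trans (by decide))⟩)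
    (fun r hr _ => rels_ev h r (by
      simp only [M11hData.rels, List.mem_cons, List.not_mem_nil, or_false] at hr
      subst hr
      decide)) (by simp) (by decide +kernel) M11hAll.part inferInstance
  have h1 : Nat.card (⊥ : Subgroup G) = 1 := by simp
  rw [h1] at this
  exact this

theorem card_three (h : Gens a b c) : Finite (Subgroup.closure (lt a b c '' {x | x < 3})) ∧
    Nat.card (Subgroup.closure (lt a b c '' {x | x < 3})) ≤ 660 * (12 * 1) := by
  have := card_step M11gData.C (lt a b c) M11gData.rels [[0],[1]]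
    (Subgroup.closure (lt a b c '' {x | x < 2}))
    (fun x hx => ⟨hx, lt_sq h x hx⟩)
    (fun r hr _ => rels_ev h r hr) (fun s hs _ => sub_letters (lt a b c) 2 [[0],[1]] (by decide) s hs)
    (by decide +kernel) M11gAll.part (card_two h).1
  exact ⟨this.1, this.2.trans (Nat.mul_le_mul_left _ (card_two h).2)⟩

omit [Group G] in
theorem image_lt (a b c : G) : lt a b c '' {x | x < 3} = {a, b, c} := by
  ext y
  simp only [Set.mem_image, Set.mem_ofPred_eq, Set.mem_insert_iff, Set.mem_singleton_iff]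
  constructor
  · rintro ⟨x, hx, rfl⟩
    interval_cases x
    · exact Or.inr (Or.inl rfl)
    · exact Or.inr (Or.inr rfl)
    · exact Or.inl rfl
  · rintro (rfl | rfl | rfl)
    · exact ⟨2, by decide, rfl⟩
    · exact ⟨0, by decide, rfl⟩
    · exact ⟨1, by decide, rfl⟩

theorem card_le (h : Gens a b c) : Finite (Subgroup.closure ({a, b, c} : Set G)) ∧
    Nat.card (Subgroup.closure ({a, b, c} : Set G)) ≤ 7920 := by
  have := card_three h
  rwa [image_lt] at this

end upper

/-! ### The model in `Perm (Fin 11)` -/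

/-- a permutation of `Fin 11` that is its own inverse, from the list of images -/
def mk (l : List (Fin 11)) (h : ∀ x : Fin 11, l.getD (l.getD x.val 0).val 0 = x) :
    Equiv.Perm (Fin 11) where
  toFun x := l.getD x.val 0
  invFun x := l.getD x.val 0
  left_inv := h
  right_inv := h

def pa : Equiv.Perm (Fin 11) := mk [1, 0, 4, 3, 2, 8, 9, 7, 5, 6, 10] (by decide)
def pb : Equiv.Perm (Fin 11) := mk [0, 3, 5, 1, 7, 2, 6, 4, 10, 9, 8] (by decide)
def pc : Equiv.Perm (Fin 11) := mk [2, 1, 0, 6, 4, 8, 3, 7, 5, 10, 9] (by decide)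

theorem gens_model : Gens pa pb pc where
  a2 := by decide +kernel
  b2 := by decide +kernel
  c2 := by decide +kernel
  ab := by decide +kernel
  bc := by decide +kernel
  ac := by decide +kernel
  abc := by decide +kernel
  abcb := by decide +kernel
  babc := by decide +kernel
  acbc := by decide +kernel
  ababc := by decide +kernel
  abcbc := by decide +kernel
  abacbc := by decide +kernel
  abcabcb := by decide +kernel

/-- the model -/
def M : Subgroup (Equiv.Perm (Fin 11)) := Subgroup.closure {pa, pb, pc}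

def T0 : List (List Nat) := [[],[2],[1],[0,2],[2,1],[0,1],[1,0,2],[0,2,1],[1,0,1],[2,1,0,2],[0,1,0,1]]
def T1 : List (List Nat) := [[],[0,1,0,1,2,0,1,0],[0],[2,1,2],[1,0,1,2,0,1,0],[2,0,2,0,1,2,0],[0,2,1,2],[0,1,0,2,1,0,1],[2,1,2,0],[1,0,2,1,0,1]]
def T2 : List (List Nat) := [[],[1,0,2,1,0,1,0],[0,2,1,0,1,0,1,2,0,2],[2,0,2,0,2,0],[0,1,0,1,2,0,1],[2,0,1,0,1,2,0,1,2],[2,1,0,2,1,0,1,2,0,2,0],[1,2,1,0,1,0,1,2,1,0],[0,2,1,0,1,0,1,0,2,0]]
def T3 : List (List Nat) := [[],[2,1,0,1,0,1,2,0,1,2,0],[0,2,0,1,2,0,2,1,0,2,0],[0,1,0,2,0,2,0,1,0,1],[0,2,1,0,2,1,0,1,0,1,2],[1,0,1,0,2,0,2,0,1,0],[1,2,1,0,1,0,1,2,0,1,2,0,1],[2,0,1,0,1,0,2,1,0,2,1,0,1]]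

theorem ev_mem (w : List ℕ) : ev (lt pa pb pc) w ∈ M := by
  induction w with
  | nil => exact one_mem _
  | cons x w ih =>
    rw [ev_cons]
    refine mul_mem ?_ ih
    rw [M, ← image_lt]
    match x with
    | 0 => exact Subgroup.subset_closure ⟨0, by decide, rfl⟩
    | 1 => exact Subgroup.subset_closure ⟨1, by decide, rfl⟩
    | (n + 2) => exact Subgroup.subset_closure ⟨2, by decide, rfl⟩

/-- a transversal as a function to `M` -/
def tr (T : List (List ℕ)) (i : Fin T.length) : M := ⟨ev (lt pa pb pc) (T.get i), ev_mem _⟩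

/-- one step: if the words of `T` move `x` to different points and all elements of `S` fix `x`,
then the products are different. -/
theorem step_inj {ι : Type*} {S : Type*} (f : ι → M) (g : S → M) (x : Fin 11)
    (hg : ∀ s, (g s : Equiv.Perm (Fin 11)) x = x)
    (hf : Function.Injective fun i => (f i : Equiv.Perm (Fin 11)) x)
    (hginj : Function.Injective g) :
    Function.Injective fun p : ι × S => f p.1 * g p.2 := by
  rintro ⟨i, s⟩ ⟨j, t⟩ h
  have h1 : (f i : Equiv.Perm (Fin 11)) x = (f j : Equiv.Perm (Fin 11)) x := by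
    have h2 := congrArg (fun m : M => (m : Equiv.Perm (Fin 11)) x) h
    simp only [Subgroup.coe_mul, Equiv.Perm.coe_mul, Function.comp_apply, hg] at h2
    exact h2
  have h3 : i = j := hf h1
  subst h3
  have h4 : g s = g t := mul_left_cancel h
  rw [hginj h4]

theorem fix_mul {x : Fin 11} {p q : M} (hp : (p : Equiv.Perm (Fin 11)) x = x)
    (hq : (q : Equiv.Perm (Fin 11)) x = x) : ((p * q : M) : Equiv.Perm (Fin 11)) x = x := by
  simp [hp, hq]

theorem card_ge : 7920 ≤ Nat.card M := by
  have fix1 : ∀ (i : Fin T1.length), (tr T1 i : Equiv.Perm (Fin 11)) 0 = 0 := by decide +kernel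
  have fix2 : ∀ (i : Fin T2.length), (tr T2 i : Equiv.Perm (Fin 11)) 0 = 0 ∧
    (tr T2 i : Equiv.Perm (Fin 11)) 1 = 1 := by decide +kernel
  have fix3 : ∀ (i : Fin T3.length), (tr T3 i : Equiv.Perm (Fin 11)) 0 = 0 ∧
    (tr T3 i : Equiv.Perm (Fin 11)) 1 = 1 ∧ (tr T3 i : Equiv.Perm (Fin 11)) 2 = 2 := by decide +kernel
  have i0 : Function.Injective fun i => (tr T0 i : Equiv.Perm (Fin 11)) 0 := by decide +kernel
  have i1 : Function.Injective fun i => (tr T1 i : Equiv.Perm (Fin 11)) 1 := by decide +kernel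
  have i2 : Function.Injective fun i => (tr T2 i : Equiv.Perm (Fin 11)) 2 := by decide +kernel
  have i3 : Function.Injective fun i => (tr T3 i : Equiv.Perm (Fin 11)) 3 := by decide +kernel
  have j3 : Function.Injective (tr T3) := fun i j h => i3 (by simp only [h])
  have j2 : Function.Injective fun p : Fin T2.length × Fin T3.length => tr T2 p.1 * tr T3 p.2 :=
    step_inj _ _ 2 (fun s => (fix3 s).2.2) i2 j3
  have j1 : Function.Injective fun p : Fin T1.length × Fin T2.length × Fin T3.length =>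
      tr T1 p.1 * (tr T2 p.2.1 * tr T3 p.2.2) :=
    step_inj _ (fun p : Fin T2.length × Fin T3.length => tr T2 p.1 * tr T3 p.2) 1
      (fun s => fix_mul (fix2 s.1).2 (fix3 s.2).2.1) i1 j2
  have j0 : Function.Injective fun p : Fin T0.length × Fin T1.length × Fin T2.length × Fin T3.length =>
      tr T0 p.1 * (tr T1 p.2.1 * (tr T2 p.2.2.1 * tr T3 p.2.2.2)) :=
    step_inj _ (fun p : Fin T1.length × Fin T2.length × Fin T3.length =>
      tr T1 p.1 * (tr T2 p.2.1 * tr T3 p.2.2)) 0
      (fun s => fix_mul (fix1 s.1) (fix_mul (fix2 s.2.1).1 (fix3 s.2.2).1)) i0 j1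
  have : Finite M := inferInstance
  have h := Nat.card_le_card_of_injective _ j0
  have e : Nat.card (Fin T0.length × Fin T1.length × Fin T2.length × Fin T3.length) = 7920 := by
    simp [T0, T1, T2, T3]
  rwa [e] at h

theorem card_M : Nat.card M = 7920 := le_antisymm (card_le gens_model).2 card_ge

theorem isSimple_M : IsSimpleGroup M :=
  Cfsg.Agent.SporadicA.DegreePrime.isSimpleGroup_of_card_degree11 (Ω := Fin 11) (by simp) card_M

/-! ### Recognition -/

theorem gens_prod {G H : Type*} [Group G] [Group H] {a b c : G} {a' b' c' : H}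
    (h : Gens a b c) (h' : Gens a' b' c') : Gens (a, a') (b, b') (c, c') where
  a2 := Prod.ext h.a2 h'.a2
  b2 := Prod.ext h.b2 h'.b2
  c2 := Prod.ext h.c2 h'.c2
  ab := Prod.ext h.ab h'.ab
  bc := Prod.ext h.bc h'.bc
  ac := Prod.ext h.ac h'.ac
  abc := Prod.ext h.abc h'.abc
  abcb := Prod.ext h.abcb h'.abcb
  babc := Prod.ext h.babc h'.babc
  acbc := Prod.ext h.acbc h'.acbc
  ababc := Prod.ext h.ababc h'.ababc
  abcbc := Prod.ext h.abcbc h'.abcbc
  abacbc := Prod.ext h.abacbc h'.abacbc
  abcabcb := Prod.ext h.abcabcb h'.abcabcb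

/-- The model is isomorphic to every nontrivial group generated by three elements satisfying the
relations. -/
theorem iso_of_gens {G : Type*} [Group G] {a b c : G} (h : Gens a b c) (hne : a ≠ 1 ∨ b ≠ 1 ∨ c ≠ 1) :
    Nonempty (M ≃* Subgroup.closure ({a, b, c} : Set G)) := by
  let K : Subgroup (G × Equiv.Perm (Fin 11)) := Subgroup.closure {(a, pa), (b, pb), (c, pc)}
  obtain ⟨hfin, hcard⟩ := card_le (gens_prod h gens_model)
  have hK1 : K.map (MonoidHom.fst G (Equiv.Perm (Fin 11))) = Subgroup.closure {a, b, c} := by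
    rw [MonoidHom.map_closure]
    congr 1
    simp [Set.image_insert_eq]
  have hK2 : K.map (MonoidHom.snd G (Equiv.Perm (Fin 11))) = M := by
    rw [MonoidHom.map_closure, M]
    congr 1
    simp [Set.image_insert_eq]
  let p1 : K →* Subgroup.closure ({a, b, c} : Set G) :=
    ((MonoidHom.fst G (Equiv.Perm (Fin 11))).comp K.subtype).codRestrict _ (fun x => by
      rw [← hK1]; exact ⟨x.1, x.2, rfl⟩)
  let p2 : K →* M := ((MonoidHom.snd G (Equiv.Perm (Fin 11))).comp K.subtype).codRestrict _ (fun x => by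
      rw [← hK2]; exact ⟨x.1, x.2, rfl⟩)
  have hp1 : Function.Surjective p1 := by
    rintro ⟨y, hy⟩
    have hy' := hy
    rw [← hK1] at hy'
    obtain ⟨x, hx, rfl⟩ := hy'
    exact ⟨⟨x, hx⟩, rfl⟩
  have hp2 : Function.Surjective p2 := by
    rintro ⟨y, hy⟩
    have hy' := hy
    rw [← hK2] at hy'
    obtain ⟨x, hx, rfl⟩ := hy'
    exact ⟨⟨x, hx⟩, rfl⟩
  have hfinK : Finite K := hfin
  have hcardK : Nat.card K = Nat.card M := by
    refine le_antisymm ?_ (Nat.card_le_card_of_surjective p2 hp2)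
    rw [card_M]; exact hcard
  have hbij : Function.Bijective p2 := by
    rw [Nat.bijective_iff_surjective_and_card]
    exact ⟨hp2, hcardK⟩
  let e2 : K ≃* M := MulEquiv.ofBijective p2 hbij
  let q : M →* Subgroup.closure ({a, b, c} : Set G) := p1.comp e2.symm.toMonoidHom
  have hq : Function.Surjective q := hp1.comp e2.symm.surjective
  have := isSimple_M
  have hker : q.ker = ⊥ := by
    rcases IsSimpleGroup.eq_bot_or_eq_top_of_normal q.ker inferInstance with h1 | h1
    · exact h1
    · exfalso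
      have htriv : ∀ x : Subgroup.closure ({a, b, c} : Set G), x = 1 := by
        intro x
        obtain ⟨y, rfl⟩ := hq x
        have : y ∈ q.ker := by rw [h1]; trivial
        exact this
      rcases hne with h0 | h0 | h0
      · exact h0 (congrArg Subtype.val (htriv ⟨a, Subgroup.subset_closure (by simp)⟩))
      · exact h0 (congrArg Subtype.val (htriv ⟨b, Subgroup.subset_closure (by simp)⟩))
      · exact h0 (congrArg Subtype.val (htriv ⟨c, Subgroup.subset_closure (by simp)⟩))
  have hqinj : Function.Injective q := (MonoidHom.ker_eq_bot_iff q).mp hker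
  exact ⟨MulEquiv.ofBijective q ⟨hqinj, hq⟩⟩

theorem isM11_of_gens {G : Type*} [Group G] {a b c : G} (h : Gens a b c) (hne : a ≠ 1 ∨ b ≠ 1 ∨ c ≠ 1) :
    Cfsg.IsM11 (Subgroup.closure ({a, b, c} : Set G)) := by
  obtain ⟨e⟩ := iso_of_gens h hne
  have := isSimple_M
  have : Nontrivial (Subgroup.closure ({a, b, c} : Set G)) := e.symm.toEquiv.nontrivial
  exact ⟨IsSimpleGroup.isSimpleGroup_of_surjective e.toMonoidHom e.surjective,
    by rw [← card_M]; exact (Nat.card_congr e.toEquiv).symm⟩

end Cfsg.Agent.SporRec.M11Gens
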