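import Cfsg.Agent.SporRec.LyType

/-!
# Groups with one class of involutions and involution centraliser `2.A_n`

`OneType α G`: an involution `t` whose centraliser is a double cover `2.A_α`, all involutions of `G` conjugate.
-/

set_option autoImplicit false
set_option linter.dupNamespace false

namespace Cfsg.Agent.SporRec.NineType

open Subgroup Equiv Cfsg.Agent.SporRec.TwoAn Cfsg.Agent.SporRec.LyType

/-- A group with an involution `t` whose centraliser is `2.A_α`, and with one class of involutions. -/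
structure OneType (α : Type*) [Fintype α] [DecidableEq α] (G : Type*) [Group G] where
  /-- the involution -/
  t : G
  /-- the cover `C_G(t) → A_α` -/
  K : Cover α (centralizer ({t} : Set G))
  hz : (K.z : G) = t
  one : ∀ s : G, s * s = 1 → s ≠ 1 → ∃ g, g * t * g⁻¹ = s

namespace OneType

variable {α : Type*} [Fintype α] [DecidableEq α] {G : Type*} [Group G] (L : OneType α G)

theorem t_mul_t : L.t * L.t = 1 := by
  have h := congrArg Subtype.val L.K.z_mul_z
  rw [Subgroup.coe_mul, L.hz] at h
  exact h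

theorem t_ne : L.t ≠ 1 := by
  intro h
  apply L.K.z_ne
  apply Subtype.ext
  rw [L.hz, h]
  rfl

theorem t_inv : L.t⁻¹ = L.t := inv_eq_of_mul_eq_one_left L.t_mul_t

theorem mem_iff {g : G} : g ∈ centralizer ({L.t} : Set G) ↔ g * L.t = L.t * g := mem_centralizer_singleton_iff

include L in
/-- Any two involutions are conjugate. -/
theorem conj_of_involutions {r s : G} (hr : r * r = 1) (hr1 : r ≠ 1) (hs : s * s = 1) (hs1 : s ≠ 1) :
    ∃ g : G, g * r * g⁻¹ = s := by
  obtain ⟨a, ha⟩ := L.one r hr hr1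
  obtain ⟨b, hb⟩ := L.one s hs hs1
  refine ⟨b * a⁻¹, ?_⟩
  rw [← ha, ← hb]
  group

/-- Change of the base involution by conjugation. -/
def rebase {s : G} (g : G) (hg : g * L.t * g⁻¹ = s) : OneType α G where
  t := s
  K := L.K.map (conjCentEquiv g hg)
  hz := by
    show g * (L.K.z : G) * g⁻¹ = s
    rw [L.hz, hg]
  one r hr hr1 := by
    refine L.conj_of_involutions ?_ ?_ hr hr1
    · rw [← hg]
      calc g * L.t * g⁻¹ * (g * L.t * g⁻¹) = g * (L.t * L.t) * g⁻¹ := by group
        _ = 1 := by rw [L.t_mul_t]; group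
    · intro h
      apply L.t_ne
      rw [h] at hg
      have : L.t = g⁻¹ * 1 * g := by rw [← hg]; group
      rw [this]; group

@[simp] theorem rebase_t {s : G} (g : G) (hg : g * L.t * g⁻¹ = s) : (L.rebase g hg).t = s := rfl

include L in
/-- The same group with any involution as base involution. -/
theorem exists_rebase {s : G} (hs : s * s = 1) (hs1 : s ≠ 1) : ∃ L' : OneType α G, L'.t = s := by
  obtain ⟨g, hg⟩ := L.one s hs hs1
  exact ⟨L.rebase g hg, rfl⟩

/-- Change of the labelling of the points. -/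
def relabel {β : Type*} [Fintype β] [DecidableEq β] (e : α ≃ β) : OneType β G := ⟨L.t, L.K.congr e, L.hz, L.one⟩

theorem relabel_t {β : Type*} [Fintype β] [DecidableEq β] (e : α ≃ β) : (L.relabel e).t = L.t := rfl

theorem relabel_K {β : Type*} [Fintype β] [DecidableEq β] (e : α ≃ β) : (L.relabel e).K = L.K.congr e := rfl

theorem relabel_π_apply {β : Type*} [Fintype β] [DecidableEq β] (e : α ≃ β) (g : centralizer ({L.t} : Set G)) (x : α) :
    (L.relabel e).K.π g (e x) = e (L.K.π g x) := by
  show e (L.K.π g (e.symm (e x))) = e (L.K.π g x)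
  rw [Equiv.symm_apply_apply]

/-- Two involutions `≠ t` of `C_G(t)` are conjugate in `C_G(t)`. -/
theorem conj_in_centralizer (h16 : Fintype.card α < 16) {r s : G} (hrt : r * L.t = L.t * r)
    (hst : s * L.t = L.t * s) (hr : r * r = 1)
    (hr1 : r ≠ 1) (hr2 : r ≠ L.t) (hs : s * s = 1) (hs1 : s ≠ 1) (hs2 : s ≠ L.t) :
    ∃ c : G, c * L.t = L.t * c ∧ c * r * c⁻¹ = s := by
  obtain ⟨c, hc⟩ := isConj_of_involutions L.K h16
    (g := ⟨r, L.mem_iff.2 hrt⟩) (h := ⟨s, L.mem_iff.2 hst⟩) (Subtype.ext hr)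
    (fun h => hr1 (congrArg Subtype.val h)) (fun h => hr2 ((congrArg Subtype.val h).trans L.hz)) (Subtype.ext hs)
    (fun h => hs1 (congrArg Subtype.val h)) (fun h => hs2 ((congrArg Subtype.val h).trans L.hz))
  exact ⟨c, L.mem_iff.1 c.2, congrArg Subtype.val hc⟩

end OneType

/-- Existence of a `OneType` with a given cover. -/
theorem exists_oneType {α : Type*} [Fintype α] [DecidableEq α] (h16 : Fintype.card α < 16) {G : Type*} [Group G]
    [Finite G] {t : G} (K : Cover α (centralizer ({t} : Set G))) (hz : (K.z : G) = t) {u g : G} (huu : u * u = 1)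
    (hu1 : u ≠ 1) (hut : u ≠ t) (hcomm : u * t = t * u) (hg : g * t * g⁻¹ = u) :
    ∃ L : OneType α G, L.t = t ∧ HEq L.K K := by
  have htt : t * t = 1 := by
    have h := congrArg Subtype.val K.z_mul_z
    rw [Subgroup.coe_mul, hz] at h
    exact h
  have ht1 : t ≠ 1 := by
    intro h
    apply K.z_ne
    apply Subtype.ext
    rw [hz, h]
    rfl
  -- involutions of the centraliser
  have hC : ∀ s : G, s * t = t * s → s * s = 1 → s ≠ 1 → ∃ g, g * t * g⁻¹ = s := by
    intro s hst hs hs1
    by_cases hs2 : s = t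
    · exact ⟨1, by rw [hs2]; group⟩
    · obtain ⟨c, hc⟩ := isConj_of_involutions K h16
        (g := ⟨u, mem_centralizer_singleton_iff.2 hcomm⟩) (h := ⟨s, mem_centralizer_singleton_iff.2 hst⟩)
        (Subtype.ext huu) (fun h => hu1 (congrArg Subtype.val h)) (fun h => hut ((congrArg Subtype.val h).trans hz))
        (Subtype.ext hs) (fun h => hs1 (congrArg Subtype.val h)) (fun h => hs2 ((congrArg Subtype.val h).trans hz))
      have hc' : (c : G) * u * (c : G)⁻¹ = s := congrArg Subtype.val hc
      refine ⟨c * g, ?_⟩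
      rw [← hc', ← hg]
      group
  refine ⟨⟨t, K, hz, ?_⟩, rfl, HEq.rfl⟩
  intro s hs hs1
  rcases dihedral_dichotomy hs htt with ⟨g, hg⟩ | ⟨w, hw, hw1, hws, hwt⟩
  · exact ⟨g⁻¹, by rw [← hg]; group⟩
  · obtain ⟨b, hb⟩ := hC w hwt hw hw1
    obtain ⟨a, ha⟩ := hC (b⁻¹ * s * b) (by
      have ht' : t = b⁻¹ * w * b := by rw [← hb]; group
      rw [ht']
      calc b⁻¹ * s * b * (b⁻¹ * w * b) = b⁻¹ * (s * w) * b := by group
        _ = b⁻¹ * (w * s) * b := by rw [hws]
        _ = b⁻¹ * w * b * (b⁻¹ * s * b) := by group) (by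
      calc b⁻¹ * s * b * (b⁻¹ * s * b) = b⁻¹ * (s * s) * b := by group
        _ = 1 := by rw [hs]; group) (by
      intro h
      apply hs1
      have : s = b * (b⁻¹ * s * b) * b⁻¹ := by group
      rw [this, h]; group)
    refine ⟨b * a, ?_⟩
    calc b * a * t * (b * a)⁻¹ = b * (a * t * a⁻¹) * b⁻¹ := by group
      _ = s := by rw [ha]; group

/-- The relation with the type for eleven points. -/
def ofLyType {G : Type*} [Group G] (L : LyType G) : OneType (Fin 11) G := ⟨L.t, L.K, L.hz, L.one⟩

end Cfsg.Agent.SporRec.NineType
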