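import Cfsg.Agent.SporRec.ONB1Data

set_option autoImplicit false
set_option maxRecDepth 100000

namespace Cfsg.Agent.SporRec.ONB1Chk0

open Cfsg.Agent.SporadicRecognition.CosetCert Cfsg.Agent.Lib.CosetPartial Cfsg.Agent.SporRec.ONB1Data

theorem c0 : PartP C 0 64 := runP_sound C (by decide +kernel : runP C 9 511 0x2530000004000000004010000000000000004000080000003180002020000000000024c02001180000000100002530000000000000004010000000000000404000000000000000002021180000000000004010000000003180000020080146000100400c30000000000080004000100000000000002530100000000000002001180004000000002530000004000000004010000000000024c02001180000000100802530000000000000004010000000000124c00000100002000100000010000000000000002021180000000000004020080146000024c04000100002000000400130180000000080804020100000000000002530100000000024c040101000000000004040001800000000808000200000000000000001300800040001000025300000000000000040141800000000000000200800e60000000000001000020001008025311800000000000041300800040000004000001800000000808040200000000000004000001800000000acc040200000040000000000200800e600318000202000000000000000400010000200000040000000000400000080200118000000000000001418000000000000402008000000000080043010000200000000002010000200008000000000000400000000253010000000000000443010000200000080200118000000000000001000000000000080000010000200000040413018000400010000400010000200000000033008000400000040000010000000010080402008000400008000402010000000000080000000000400 20 1048575 0x183000000000000000000000000000000000000000000000000000000000000000000000000000000000000000000000009226700000000000000000000000000000000000000000000028e1700000000000000000000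 0 64 = true)

theorem c1 : PartP C 64 105 := runP_sound C (by decide +kernel : runP C 9 511 0x4000001000e6000000000000080000000000000020100002000000266020000002000050c000000000020000808000000000000000000020001000000000002c60000800040000a4c00c3418000400000000002a9800020000000020001001c600000000001000000000000024602008000000b980002020000000000124c000101000000000808000000000000000000023301000000000000044389800020001000004301000020000000020000000040000000020000000040000006060000000000000000020200000000000000020000001e6000024c020001000000031800025300000040000008020011800000000000040000800000000000000001000020069808004300000020000000020001000040001004041301800000000a4c040201000000000000020200000000001004045300000000000000000141800000000000000200800000031a4c0202010000000000080200118000000000000402008000000000000253118000000 20 1048575 0 64 41 = true)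

theorem all : PartP C 0 105 := (c0).append C c1

end Cfsg.Agent.SporRec.ONB1Chk0
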