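import Cfsg.Agent.SporRec.ONBulkDef

/-! Kernel checks of the rules of the coset enumeration of the O'Nan group. -/

set_option autoImplicit false
set_option maxRecDepth 100000
set_option Elab.async false

namespace Cfsg.Agent.SporRec.ONBulkChk0

open Cfsg.Agent.SporRec.ONBulkRel Cfsg.Agent.SporRec.ONBulkDef

theorem r_a_1 : ruleB .a 1 [.c, .a, .c] = true := by decide +kernel
theorem r_a_2 : ruleB .a 2 [.e, .a, .e] = true := by decide +kernel
theorem r_a_3 : ruleB .a 3 [.g, .a, .h] = true := by decide +kernel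
theorem r_a_4 : ruleB .a 4 [.h, .a, .g] = true := by decide +kernel
theorem r_a_5 : ruleB .a 5 [.g, .g, .f] = true := by decide +kernel
theorem r_a_6 : ruleB .a 6 [.d, .a, .d] = true := by decide +kernel
theorem r_a_7 : ruleB .a 7 [.f, .a, .f] = true := by decide +kernel
theorem r_a_8 : ruleB .a 8 [.b, .a, .b, .a, .b] = true := by decide +kernel
theorem r_a_9 : ruleB .a 9 [.c, .d, .c, .d, .c, .d, .c, .d, .f] = true := by decide +kernel

theorem rules_a_ok : ∀ r ∈ rules_a, ruleB .a r.1 r.2 = true := by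
  intro r hr
  simp only [rules_a, List.mem_cons, List.not_mem_nil, or_false] at hr
  rcases hr with rfl | rfl | rfl | rfl | rfl | rfl | rfl | rfl | rfl
  · exact r_a_1
  · exact r_a_2
  · exact r_a_3
  · exact r_a_4
  · exact r_a_5
  · exact r_a_6
  · exact r_a_7
  · exact r_a_8
  · exact r_a_9

theorem r_b_1 : ruleB .b 1 [.d, .b, .d] = true := by decide +kernel
theorem r_b_2 : ruleB .b 2 [.f, .b, .f] = true := by decide +kernel
theorem r_b_3 : ruleB .b 3 [.e, .b, .e] = true := by decide +kernel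
theorem r_b_4 : ruleB .b 4 [.a, .b, .a, .b, .a] = true := by decide +kernel
theorem r_b_5 : ruleB .b 5 [.c, .b, .c, .b, .c] = true := by decide +kernel
theorem r_b_6 : ruleB .b 6 [.h, .b, .c, .h, .c, .b, .h, .c, .h, .c] = true := by decide +kernel
theorem r_b_7 : ruleB .b 7 [.c, .h, .c, .b, .h, .c, .h, .c, .b, .h] = true := by decide +kernel
theorem r_b_8 : ruleB .b 8 [.h, .c, .h, .c, .b, .h, .b, .c, .h, .c] = true := by decide +kernel
theorem r_b_9 : ruleB .b 9 [.h, .d, .c, .b, .h, .d, .c, .b, .h, .d, .c, .b, .h, .d, .c, .b, .h, .d, .c] = true := by decide +kernel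

theorem rules_b_ok : ∀ r ∈ rules_b, ruleB .b r.1 r.2 = true := by
  intro r hr
  simp only [rules_b, List.mem_cons, List.not_mem_nil, or_false] at hr
  rcases hr with rfl | rfl | rfl | rfl | rfl | rfl | rfl | rfl | rfl
  · exact r_b_1
  · exact r_b_2
  · exact r_b_3
  · exact r_b_4
  · exact r_b_5
  · exact r_b_6
  · exact r_b_7
  · exact r_b_8
  · exact r_b_9

end Cfsg.Agent.SporRec.ONBulkChk0
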