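import Cfsg.Agent.SporRec.ONBulkDef

/-! Kernel checks of the rules of the coset enumeration of the O'Nan group. -/

set_option autoImplicit false
set_option maxRecDepth 100000
set_option Elab.async false

namespace Cfsg.Agent.SporRec.ONBulkChk1

open Cfsg.Agent.SporRec.ONBulkRel Cfsg.Agent.SporRec.ONBulkDef

theorem r_c_1 : ruleB .c 1 [.a, .c, .a] = true := by decide +kernel
theorem r_c_2 : ruleB .c 2 [.e, .c, .e] = true := by decide +kernel
theorem r_c_3 : ruleB .c 3 [.f, .c, .f] = true := by decide +kernel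
theorem r_c_4 : ruleB .c 4 [.b, .c, .b, .c, .b] = true := by decide +kernel
theorem r_c_5 : ruleB .c 5 [.h, .c, .d, .c, .g, .c, .g, .d, .h] = true := by decide +kernel
theorem r_c_6 : ruleB .c 6 [.d, .c, .g, .c, .g, .d, .h, .c, .h] = true := by decide +kernel
theorem r_c_7 : ruleB .c 7 [.d, .c, .d, .c, .d, .c, .d, .f, .a] = true := by decide +kernel
theorem r_c_8 : ruleB .c 8 [.d, .c, .d, .c, .d, .f, .a, .c, .d] = true := by decide +kernel
theorem r_c_9 : ruleB .c 9 [.d, .c, .d, .f, .a, .c, .d, .c, .d] = true := by decide +kernel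
theorem r_c_10 : ruleB .c 10 [.d, .f, .a, .c, .d, .c, .d, .c, .d] = true := by decide +kernel
theorem r_c_11 : ruleB .c 11 [.h, .c, .b, .h, .b, .c, .h, .c, .b, .h] = true := by decide +kernel
theorem r_c_12 : ruleB .c 12 [.b, .h, .b, .c, .h, .c, .b, .h, .c, .h] = true := by decide +kernel
theorem r_c_13 : ruleB .c 13 [.h, .c, .b, .h, .c, .h, .c, .b, .h, .b] = true := by decide +kernel
theorem r_c_14 : ruleB .c 14 [.b, .h, .c, .h, .c, .b, .h, .b, .c, .h] = true := by decide +kernel
theorem r_c_15 : ruleB .c 15 [.d, .g, .d, .g, .c, .h, .d, .h, .d] = true := by decide +kernel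
theorem r_c_16 : ruleB .c 16 [.h, .d, .h, .d, .c, .d, .g, .d, .g] = true := by decide +kernel
theorem r_c_17 : ruleB .c 17 [.b, .h, .d, .c, .b, .h, .d, .c, .b, .h, .d, .c, .b, .h, .d, .c, .b, .h, .d] = true := by decide +kernel

theorem rules_c_ok : ∀ r ∈ rules_c, ruleB .c r.1 r.2 = true := by
  intro r hr
  simp only [rules_c, List.mem_cons, List.not_mem_nil, or_false] at hr
  rcases hr with rfl | rfl | rfl | rfl | rfl | rfl | rfl | rfl | rfl | rfl | rfl | rfl | rfl | rfl | rfl | rfl | rfl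
  · exact r_c_1
  · exact r_c_2
  · exact r_c_3
  · exact r_c_4
  · exact r_c_5
  · exact r_c_6
  · exact r_c_7
  · exact r_c_8
  · exact r_c_9
  · exact r_c_10
  · exact r_c_11
  · exact r_c_12
  · exact r_c_13
  · exact r_c_14
  · exact r_c_15
  · exact r_c_16
  · exact r_c_17

end Cfsg.Agent.SporRec.ONBulkChk1
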