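import Cfsg.Agent.SporRec.ONBulkDef

/-! Kernel checks of the rules of the coset enumeration of the O'Nan group. -/

set_option autoImplicit false
set_option maxRecDepth 100000
set_option Elab.async false

namespace Cfsg.Agent.SporRec.ONBulkChk2

open Cfsg.Agent.SporRec.ONBulkRel Cfsg.Agent.SporRec.ONBulkDef

theorem r_d_1 : ruleB .d 1 [.b, .d, .b] = true := by decide +kernel
theorem r_d_2 : ruleB .d 2 [.f, .d, .f] = true := by decide +kernel
theorem r_d_3 : ruleB .d 3 [.a, .d, .a] = true := by decide +kernel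
theorem r_d_4 : ruleB .d 4 [.e, .d, .e, .d, .e] = true := by decide +kernel
theorem r_d_5 : ruleB .d 5 [.c, .g, .c, .g, .d, .h, .c, .h, .c] = true := by decide +kernel
theorem r_d_6 : ruleB .d 6 [.h, .c, .h, .c, .d, .c, .g, .c, .g] = true := by decide +kernel
theorem r_d_7 : ruleB .d 7 [.c, .d, .c, .d, .c, .d, .f, .a, .c] = true := by decide +kernel
theorem r_d_8 : ruleB .d 8 [.c, .d, .c, .d, .f, .a, .c, .d, .c] = true := by decide +kernel
theorem r_d_9 : ruleB .d 9 [.c, .d, .f, .a, .c, .d, .c, .d, .c] = true := by decide +kernel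
theorem r_d_10 : ruleB .d 10 [.f, .a, .c, .d, .c, .d, .c, .d, .c] = true := by decide +kernel
theorem r_d_11 : ruleB .d 11 [.h, .d, .c, .d, .g, .d, .g, .c, .h] = true := by decide +kernel
theorem r_d_12 : ruleB .d 12 [.c, .d, .g, .d, .g, .c, .h, .d, .h] = true := by decide +kernel
theorem r_d_13 : ruleB .d 13 [.h, .d, .e, .h, .e, .d, .h, .d, .e, .h] = true := by decide +kernel
theorem r_d_14 : ruleB .d 14 [.e, .h, .e, .d, .h, .d, .e, .h, .d, .h] = true := by decide +kernel
theorem r_d_15 : ruleB .d 15 [.h, .d, .e, .h, .d, .h, .d, .e, .h, .e] = true := by decide +kernel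
theorem r_d_16 : ruleB .d 16 [.e, .h, .d, .h, .d, .e, .h, .e, .d, .h] = true := by decide +kernel
theorem r_d_17 : ruleB .d 17 [.c, .b, .h, .d, .c, .b, .h, .d, .c, .b, .h, .d, .c, .b, .h, .d, .c, .b, .h] = true := by decide +kernel

theorem rules_d_ok : ∀ r ∈ rules_d, ruleB .d r.1 r.2 = true := by
  intro r hr
  simp only [rules_d, List.mem_cons, List.not_mem_nil, or_false] at hr
  rcases hr with rfl | rfl | rfl | rfl | rfl | rfl | rfl | rfl | rfl | rfl | rfl | rfl | rfl | rfl | rfl | rfl | rfl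
  · exact r_d_1
  · exact r_d_2
  · exact r_d_3
  · exact r_d_4
  · exact r_d_5
  · exact r_d_6
  · exact r_d_7
  · exact r_d_8
  · exact r_d_9
  · exact r_d_10
  · exact r_d_11
  · exact r_d_12
  · exact r_d_13
  · exact r_d_14
  · exact r_d_15
  · exact r_d_16
  · exact r_d_17

end Cfsg.Agent.SporRec.ONBulkChk2
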