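import Cfsg.Agent.SporRec.ONBulkDef

/-! Kernel checks of the rules of the coset enumeration of the O'Nan group. -/

set_option autoImplicit false
set_option maxRecDepth 100000
set_option Elab.async false

namespace Cfsg.Agent.SporRec.ONBulkChk3

open Cfsg.Agent.SporRec.ONBulkRel Cfsg.Agent.SporRec.ONBulkDef

theorem r_e_1 : ruleB .e 1 [.a, .e, .a] = true := by decide +kernel
theorem r_e_2 : ruleB .e 2 [.c, .e, .c] = true := by decide +kernel
theorem r_e_3 : ruleB .e 3 [.b, .e, .b] = true := by decide +kernel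
theorem r_e_4 : ruleB .e 4 [.d, .e, .d, .e, .d] = true := by decide +kernel
theorem r_e_5 : ruleB .e 5 [.f, .e, .f, .e, .f] = true := by decide +kernel
theorem r_e_6 : ruleB .e 6 [.h, .e, .d, .h, .d, .e, .h, .d, .h, .d] = true := by decide +kernel
theorem r_e_7 : ruleB .e 7 [.d, .h, .d, .e, .h, .d, .h, .d, .e, .h] = true := by decide +kernel
theorem r_e_8 : ruleB .e 8 [.h, .d, .h, .d, .e, .h, .e, .d, .h, .d] = true := by decide +kernel

theorem rules_e_ok : ∀ r ∈ rules_e, ruleB .e r.1 r.2 = true := by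
  intro r hr
  simp only [rules_e, List.mem_cons, List.not_mem_nil, or_false] at hr
  rcases hr with rfl | rfl | rfl | rfl | rfl | rfl | rfl | rfl
  · exact r_e_1
  · exact r_e_2
  · exact r_e_3
  · exact r_e_4
  · exact r_e_5
  · exact r_e_6
  · exact r_e_7
  · exact r_e_8

theorem r_f_1 : ruleB .f 1 [.b, .f, .b] = true := by decide +kernel
theorem r_f_2 : ruleB .f 2 [.d, .f, .d] = true := by decide +kernel
theorem r_f_3 : ruleB .f 3 [.a, .g, .g] = true := by decide +kernel
theorem r_f_4 : ruleB .f 4 [.a, .f, .a] = true := by decide +kernel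
theorem r_f_5 : ruleB .f 5 [.c, .f, .c] = true := by decide +kernel
theorem r_f_6 : ruleB .f 6 [.g, .f, .h] = true := by decide +kernel
theorem r_f_7 : ruleB .f 7 [.h, .f, .g] = true := by decide +kernel
theorem r_f_8 : ruleB .f 8 [.e, .f, .e, .f, .e] = true := by decide +kernel
theorem r_f_9 : ruleB .f 9 [.a, .c, .d, .c, .d, .c, .d, .c, .d] = true := by decide +kernel

theorem rules_f_ok : ∀ r ∈ rules_f, ruleB .f r.1 r.2 = true := by
  intro r hr
  simp only [rules_f, List.mem_cons, List.not_mem_nil, or_false] at hr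
  rcases hr with rfl | rfl | rfl | rfl | rfl | rfl | rfl | rfl | rfl
  · exact r_f_1
  · exact r_f_2
  · exact r_f_3
  · exact r_f_4
  · exact r_f_5
  · exact r_f_6
  · exact r_f_7
  · exact r_f_8
  · exact r_f_9

theorem r_g_1 : ruleB .g 1 [.c, .h, .c, .d, .c, .g, .c, .g, .d] = true := by decide +kernel
theorem r_g_2 : ruleB .g 2 [.c, .d, .c, .g, .c, .g, .d, .h, .c] = true := by decide +kernel
theorem r_g_3 : ruleB .g 3 [.c, .b, .h, .b, .c, .h, .c, .b, .h, .c] = true := by decide +kernel
theorem r_g_4 : ruleB .g 4 [.b, .c, .h, .c, .b, .h, .c, .h, .c, .b] = true := by decide +kernel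
theorem r_g_5 : ruleB .g 5 [.c, .b, .h, .c, .h, .c, .b, .h, .b, .c] = true := by decide +kernel
theorem r_g_6 : ruleB .g 6 [.c, .h, .c, .b, .h, .b, .c, .h, .c, .b] = true := by decide +kernel
theorem r_g_7 : ruleB .g 7 [.d, .h, .d, .c, .d, .g, .d, .g, .c] = true := by decide +kernel
theorem r_g_8 : ruleB .g 8 [.d, .c, .d, .g, .d, .g, .c, .h, .d] = true := by decide +kernel
theorem r_g_9 : ruleB .g 9 [.d, .e, .h, .e, .d, .h, .d, .e, .h, .d] = true := by decide +kernel
theorem r_g_10 : ruleB .g 10 [.e, .d, .h, .d, .e, .h, .d, .h, .d, .e] = true := by decide +kernel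
theorem r_g_11 : ruleB .g 11 [.d, .e, .h, .d, .h, .d, .e, .h, .e, .d] = true := by decide +kernel
theorem r_g_12 : ruleB .g 12 [.d, .h, .d, .e, .h, .e, .d, .h, .d, .e] = true := by decide +kernel
theorem r_g_13 : ruleB .g 13 [.d, .c, .b, .h, .d, .c, .b, .h, .d, .c, .b, .h, .d, .c, .b, .h, .d, .c, .b] = true := by decide +kernel

theorem rules_g_ok : ∀ r ∈ rules_g, ruleB .g r.1 r.2 = true := by
  intro r hr
  simp only [rules_g, List.mem_cons, List.not_mem_nil, or_false] at hr
  rcases hr with rfl | rfl | rfl | rfl | rfl | rfl | rfl | rfl | rfl | rfl | rfl | rfl | rfl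
  · exact r_g_1
  · exact r_g_2
  · exact r_g_3
  · exact r_g_4
  · exact r_g_5
  · exact r_g_6
  · exact r_g_7
  · exact r_g_8
  · exact r_g_9
  · exact r_g_10
  · exact r_g_11
  · exact r_g_12
  · exact r_g_13

theorem r_h_1 : ruleB .h 1 [.a, .h, .a] = true := by decide +kernel
theorem r_h_2 : ruleB .h 2 [.g, .f, .a] = true := by decide +kernel
theorem r_h_3 : ruleB .h 3 [.f, .a, .g] = true := by decide +kernel
theorem r_h_4 : ruleB .h 4 [.f, .h, .f] = true := by decide +kernel

theorem rules_h_ok : ∀ r ∈ rules_h, ruleB .h r.1 r.2 = true := by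
  intro r hr
  simp only [rules_h, List.mem_cons, List.not_mem_nil, or_false] at hr
  rcases hr with rfl | rfl | rfl | rfl
  · exact r_h_1
  · exact r_h_2
  · exact r_h_3
  · exact r_h_4

end Cfsg.Agent.SporRec.ONBulkChk3
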