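import Cfsg.Agent.SporRec.ONIndexRel
import Cfsg.Agent.SporRec.ONB1
import Cfsg.Agent.SporRec.ONB2
import Cfsg.Agent.ONType.Rep

/-!
The letters of the coset enumeration of the presented O'Nan group over `⟨a, …, f⟩` and more relations: `g` commutes
with `a` and `f`; the word `gbadcdeGbdcdebGdcbG` (with `G = g⁻¹`) is in `⟨a, …, f⟩`.
-/

set_option autoImplicit false
set_option maxRecDepth 100000
set_option linter.constructorNameAsVariable false

namespace Cfsg.Agent.SporRec.ONBulkRel

open Cfsg.Agent.SporadicRecognition Cfsg.Agent.SporadicRecognition.CosetCert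
  Cfsg.Agent.SporadicRecognition.CosetCertHyp Cfsg.Agent.SporRec.ONIndexRel
open Cfsg.Agent.SporRec
open Cfsg.Agent.ONType.Rep (rho gen rho_gen word)

theorem ev_of_okRel {r : List Nat} (h : okRel inv7 8 rels r = true) : ev sg r = 1 :=
  okRel_sound sg (fun x hx => inv7_spec x hx) rels_ev h

theorem base1 : ∀ r ∈ ONB1Data.rels, ev sg r = 1 := by
  have h : ONB1Data.rels.all (okRel inv7 8 rels) = true := by decide +kernel
  exact fun r hr => ev_of_okRel (List.all_eq_true.mp h r hr)

/-- `g` commutes with `a` -/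
theorem ga : ev sg [6,3,7,3] = 1 :=
  ONB1.eq_one sg (fun x hx => by
    have h := (inv7_spec x hx).2
    have e : ONB1Data.C.inv x = inv7 x := by interval_cases x <;> rfl
    rw [e]; exact h) base1 [6,3,7,3] (by simp [ONB1Data.targets])

theorem afgg : ev sg [3,4,7,7] = 1 := ev_of_okRel (by decide +kernel)

theorem inv_sg (x : Nat) (hx : x < 6) : (sg x)⁻¹ = sg x := inv_eq_of_mul_eq_one_right (sq x hx)

theorem sg_seven : sg 7 = (sg 6)⁻¹ := (inv_eq_of_mul_eq_one_right (inv7_spec 6 (by decide)).2).symm

/-- `g` commutes with `f` -/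
theorem gf : ev sg [6,4,7,4] = 1 := by
  have h1 := ga
  have h2 := afgg
  simp only [ev_cons, ev_nil, mul_one, sg_seven] at h1 h2 ⊢
  have ha := inv_sg 3 (by decide)
  have hf := inv_sg 4 (by decide)
  -- `a f = g^2`, `g a = a g`
  have h3 : sg 4 = sg 3 * (sg 6 * sg 6) := by
    have : sg 3 * sg 4 = sg 6 * sg 6 := by
      have h4 : sg 3 * sg 4 * ((sg 6)⁻¹ * (sg 6)⁻¹) = 1 := by rw [mul_assoc]; exact h2
      rw [mul_eq_one_iff_eq_inv.1 h4, mul_inv_rev, inv_inv]
    rw [← this, ← mul_assoc, sq 3 (by decide), one_mul]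
  have h5 : sg 6 * sg 3 = sg 3 * sg 6 := by
    have h4 : sg 6 * sg 3 * ((sg 6)⁻¹ * sg 3) = 1 := by
      rw [mul_assoc]; exact h1
    have h6 := mul_eq_one_iff_eq_inv.1 h4
    rw [mul_inv_rev, inv_inv, ha] at h6
    exact h6
  have h7 : sg 6 * sg 4 = sg 4 * sg 6 := by
    rw [h3]
    calc sg 6 * (sg 3 * (sg 6 * sg 6)) = (sg 6 * sg 3) * (sg 6 * sg 6) := by group
      _ = (sg 3 * sg 6) * (sg 6 * sg 6) := by rw [h5]
      _ = sg 3 * (sg 6 * sg 6) * sg 6 := by group
  calc sg 6 * (sg 4 * ((sg 6)⁻¹ * sg 4)) = (sg 6 * sg 4) * (sg 6)⁻¹ * sg 4 := by group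
    _ = (sg 4 * sg 6) * (sg 6)⁻¹ * sg 4 := by rw [h7]
    _ = sg 4 * sg 4 := by group
    _ = 1 := sq 4 (by decide)

/-- all relators used in the enumeration -/
def rl : List (List Nat) := [6,3,7,3] :: [6,4,7,4] :: ONB1Data.rels

theorem rl_ev : ∀ r ∈ rl, ev sg r = 1 := by
  intro r hr
  rcases List.mem_cons.mp hr with rfl | hr
  · exact ga
  · rcases List.mem_cons.mp hr with rfl | hr
    · exact gf
    · exact base1 r hr

/-- the word of the exceptional edge -/
def owd : List Nat := [6,1,3,2,5,2,0,7,1,2,5,2,0,1,7,2,5,1,7]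

theorem owd_mem : ev sg owd ∈ ONAssembly.H :=
  ONB2.mem ONAssembly.H sg (fun x hx => by
    have h := (inv7_spec x hx).2
    have e : ONB2Data.C.inv x = inv7 x := by interval_cases x <;> rfl
    rw [e]; exact h)
    (fun r hr => by
      have h : ONB2Data.rels.all (fun r => rl.contains r) = true := by decide +kernel
      exact rl_ev r (by simpa using List.all_eq_true.mp h r hr))
    (fun s hs => by
      have h : ONB2Data.subw.all (fun r => subw.contains r) = true := by decide +kernel
      exact subw_mem s (by simpa using List.all_eq_true.mp h s hs)) owd (by simp [ONB2Data.targets, owd])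

/-! ### Letters -/

/-- the letters of the enumeration (`h` is the inverse of `g`) -/
inductive Lt
  | e | b | d | a | f | c | g | h
  deriving DecidableEq

/-- the number of a letter -/
def num : Lt → Nat
  | .e => 0 | .b => 1 | .d => 2 | .a => 3 | .f => 4 | .c => 5 | .g => 6 | .h => 7

/-- the inverse letter -/
def inv : Lt → Lt
  | .g => .h | .h => .g | .e => .e | .b => .b | .d => .d | .a => .a | .f => .f | .c => .c

theorem num_lt (x : Lt) : num x < 8 := by cases x <;> decide

theorem num_inv (x : Lt) : num (inv x) = inv7 (num x) := by cases x <;> rfl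

/-- the group element of a letter -/
def ge (x : Lt) : Spor.ON := sg (num x)

theorem ge_inv (x : Lt) : ge (inv x) = (ge x)⁻¹ := by
  unfold ge
  rw [num_inv]
  exact (inv_eq_of_mul_eq_one_right (inv7_spec _ (num_lt x)).2).symm

/-- the group element of a word -/
def evl (w : List Lt) : Spor.ON := (w.map ge).prod

theorem evl_nil : evl [] = 1 := rfl
theorem evl_cons (x : Lt) (w : List Lt) : evl (x :: w) = ge x * evl w := by
  unfold evl; rw [List.map_cons, List.prod_cons]

theorem evl_append (v w : List Lt) : evl (v ++ w) = evl v * evl w := by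
  unfold evl; rw [List.map_append, List.prod_append]

theorem evl_eq (w : List Lt) : evl w = ev sg (w.map num) := by
  induction w with
  | nil => rfl
  | cons x w ih => rw [evl_cons, List.map_cons, ev_cons, ih, ge]

/-- the inverse word -/
def invw' (w : List Lt) : List Lt := (w.map inv).reverse

theorem evl_invw' (w : List Lt) : evl (invw' w) = (evl w)⁻¹ := by
  induction w with
  | nil => simp [invw', evl]
  | cons x w ih =>
    have h : invw' (x :: w) = invw' w ++ [inv x] := by simp [invw']
    rw [h, evl_append, ih, evl_cons, evl_nil, mul_one, ge_inv, evl_cons, mul_inv_rev]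

/-- Is `w = x` a consequence of one of the relators? -/
def okRule (x : Lt) (w : List Lt) : Bool :=
  rl.any (fun r => isRot r ((inv x :: w).map num)) || rl.any (fun r => isRot r ((x :: invw' w).map num))

theorem okRule_sound {x : Lt} {w : List Lt} (h : okRule x w = true) : evl w = ge x := by
  unfold okRule at h
  rw [Bool.or_eq_true] at h
  rcases h with h | h
  · obtain ⟨r, hr, h⟩ := List.any_eq_true.mp h
    have h1 := isRot_sound sg h (rl_ev r hr)
    rw [← evl_eq, evl_cons, ge_inv, inv_mul_eq_one] at h1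
    exact h1.symm
  · obtain ⟨r, hr, h⟩ := List.any_eq_true.mp h
    have h1 := isRot_sound sg h (rl_ev r hr)
    rw [← evl_eq, evl_cons, evl_invw', mul_inv_eq_one] at h1
    exact h1.symm

end Cfsg.Agent.SporRec.ONBulkRel
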