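import Cfsg.Agent.SporRec.CosetBulkT
import Cfsg.Agent.SporRec.ONBulkData0
import Cfsg.Agent.SporRec.ONBulkData1
import Cfsg.Agent.SporRec.ONBulkData2
import Cfsg.Agent.SporRec.ONBulkRel
import Cfsg.Agent.ONType.RepDef

/-!
The networks, level planes and rules of the coset enumeration of the presented O'Nan group over `⟨a, …, f⟩`.
-/

set_option autoImplicit false
set_option maxRecDepth 100000
set_option linter.constructorNameAsVariable false

namespace Cfsg.Agent.SporRec.ONBulkDef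

open Cfsg.Agent.Lib.PermNet Cfsg.Agent.SporRec.CosetBulk Cfsg.Agent.SporRec.CosetBulkT
  Cfsg.Agent.SporRec.ONBulkRel Cfsg.Agent.SporRec.ONBulkData0 Cfsg.Agent.SporRec.ONBulkData1
  Cfsg.Agent.SporRec.ONBulkData2 Cfsg.Agent.ONType.RepPi Cfsg.Agent.ONType.RepGen Cfsg.Agent.ONType.RepG

/-- the network of the inverse of `g` -/
noncomputable def ngr : Net :=
  Net.cons n32 65536 (Net.cons n31 32768 (Net.cons n30 16384 (Net.cons n29 8192 (Net.cons n28 4096 (Net.cons n27 2048 (Net.cons n26 1024 (Net.cons n25 512 (Net.cons n24 256 (Net.cons n23 128 (Net.cons n22 64 (Net.cons n21 32 (Net.cons n20 16 (Net.cons n19 8 (Net.cons n18 4 (Net.cons n17 2 (Net.cons n16 1 (Net.cons n15 2 (Net.cons n14 4 (Net.cons n13 8 (Net.cons n12 16 (Net.cons n11 32 (Net.cons n10 64 (Net.cons n9 128 (Net.cons n8 256 (Net.cons n7 512 (Net.cons n6 1024 (Net.cons n5 2048 (Net.cons n4 4096 (Net.cons n3 8192 (Net.cons n2 16384 (Net.cons n1 32768 (Net.cons n0 65536 Net.nil))))))))))))))))))))))))))))))))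

/-- the numbering in which the letter is given: `b, d, f` act in the second one -/
def ty : Lt → Bool
  | .b => true | .d => true | .f => true | .e => false | .a => false | .c => false | .g => false | .h => false

/-- the network of a letter -/
noncomputable def lnet : Lt → Net
  | .e => ne | .b => nb | .d => nd | .a => na | .f => nf | .c => nc | .g => ng | .h => ngr

/-- the level planes of a letter -/
noncomputable def llev : Lt → List ℕ
  | .e => lev_e | .b => lev_b | .d => lev_d | .a => lev_a | .f => lev_f | .c => lev_c | .g => lev_g | .h => mapApp ngr lev_g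

/-- the planes of the rule numbers of a letter -/
noncomputable def lsel : Lt → List ℕ
  | .e => sel_e | .b => sel_b | .d => sel_d | .a => sel_a | .f => sel_f | .c => sel_c | .g => sel_g | .h => sel_h

/-- the tree mask of a letter -/
noncomputable def ltree : Lt → ℕ
  | .e => tree_e | .b => tree_b | .d => tree_d | .a => tree_a | .f => tree_f | .c => tree_c | .g => tree_g | .h => tree_h

/-- the valid positions in the two numberings -/
noncomputable def V (t : Bool) : ℕ := Bool.rec V0 V1 t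

/-- switch from numbering `s` to numbering `d` after the word `l` -/
noncomputable def swd (s d : Bool) (l : List (Net × List ℕ)) : List (Net × List ℕ) :=
  Bool.rec (Bool.rec l ((pi, []) :: l) s) (Bool.rec ((pir, []) :: l) l s) d

/-- the data of a word of letters from numbering `s` to numbering `d` -/
noncomputable def tdat (w : List Lt) (d s : Bool) : List (Net × List ℕ) :=
  List.rec (motive := fun _ => Bool → List (Net × List ℕ)) (fun d => swd s d [])
    (fun x _ ih d => swd (ty x) d ((lnet x, llev x) :: ih (ty x))) w d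

/-- the positions in `V` where the number with planes `l` is `k` -/
noncomputable def eqP (V : ℕ) (l : List ℕ) : ℕ → ℕ :=
  List.rec (motive := fun _ => ℕ → ℕ) (fun k => Bool.rec 0 V (Nat.beq k 0))
    (fun p _ ih k => Bool.rec (Nat.xor (ih (Nat.div k 2)) (Nat.land (ih (Nat.div k 2)) p))
      (Nat.land (ih (Nat.div k 2)) p) (Nat.beq (Nat.mod k 2) 1)) l

/-- the kernel check of a rule: for the edges with rule number `k` the rule is applicable -/
noncomputable def ruleB (x : Lt) (k : ℕ) (w : List Lt) : Bool :=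
  subB (eqP (V (ty x)) (lsel x) k) (ruleMask (tdat w (ty x) (ty x)) (llev x))

/-- the rules of the letter `a` -/
def rules_a : List (ℕ × List Lt) :=
  [(1, [.c, .a, .c]),
   (2, [.e, .a, .e]),
   (3, [.g, .a, .h]),
   (4, [.h, .a, .g]),
   (5, [.g, .g, .f]),
   (6, [.d, .a, .d]),
   (7, [.f, .a, .f]),
   (8, [.b, .a, .b, .a, .b]),
   (9, [.c, .d, .c, .d, .c, .d, .c, .d, .f])]

/-- the rules of the letter `b` -/
def rules_b : List (ℕ × List Lt) :=
  [(1, [.d, .b, .d]),
   (2, [.f, .b, .f]),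
   (3, [.e, .b, .e]),
   (4, [.a, .b, .a, .b, .a]),
   (5, [.c, .b, .c, .b, .c]),
   (6, [.h, .b, .c, .h, .c, .b, .h, .c, .h, .c]),
   (7, [.c, .h, .c, .b, .h, .c, .h, .c, .b, .h]),
   (8, [.h, .c, .h, .c, .b, .h, .b, .c, .h, .c]),
   (9, [.h, .d, .c, .b, .h, .d, .c, .b, .h, .d, .c, .b, .h, .d, .c, .b, .h, .d, .c])]

/-- the rules of the letter `c` -/
def rules_c : List (ℕ × List Lt) :=
  [(1, [.a, .c, .a]),
   (2, [.e, .c, .e]),
   (3, [.f, .c, .f]),
   (4, [.b, .c, .b, .c, .b]),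
   (5, [.h, .c, .d, .c, .g, .c, .g, .d, .h]),
   (6, [.d, .c, .g, .c, .g, .d, .h, .c, .h]),
   (7, [.d, .c, .d, .c, .d, .c, .d, .f, .a]),
   (8, [.d, .c, .d, .c, .d, .f, .a, .c, .d]),
   (9, [.d, .c, .d, .f, .a, .c, .d, .c, .d]),
   (10, [.d, .f, .a, .c, .d, .c, .d, .c, .d]),
   (11, [.h, .c, .b, .h, .b, .c, .h, .c, .b, .h]),
   (12, [.b, .h, .b, .c, .h, .c, .b, .h, .c, .h]),
   (13, [.h, .c, .b, .h, .c, .h, .c, .b, .h, .b]),
   (14, [.b, .h, .c, .h, .c, .b, .h, .b, .c, .h]),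
   (15, [.d, .g, .d, .g, .c, .h, .d, .h, .d]),
   (16, [.h, .d, .h, .d, .c, .d, .g, .d, .g]),
   (17, [.b, .h, .d, .c, .b, .h, .d, .c, .b, .h, .d, .c, .b, .h, .d, .c, .b, .h, .d])]

/-- the rules of the letter `d` -/
def rules_d : List (ℕ × List Lt) :=
  [(1, [.b, .d, .b]),
   (2, [.f, .d, .f]),
   (3, [.a, .d, .a]),
   (4, [.e, .d, .e, .d, .e]),
   (5, [.c, .g, .c, .g, .d, .h, .c, .h, .c]),
   (6, [.h, .c, .h, .c, .d, .c, .g, .c, .g]),
   (7, [.c, .d, .c, .d, .c, .d, .f, .a, .c]),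
   (8, [.c, .d, .c, .d, .f, .a, .c, .d, .c]),
   (9, [.c, .d, .f, .a, .c, .d, .c, .d, .c]),
   (10, [.f, .a, .c, .d, .c, .d, .c, .d, .c]),
   (11, [.h, .d, .c, .d, .g, .d, .g, .c, .h]),
   (12, [.c, .d, .g, .d, .g, .c, .h, .d, .h]),
   (13, [.h, .d, .e, .h, .e, .d, .h, .d, .e, .h]),
   (14, [.e, .h, .e, .d, .h, .d, .e, .h, .d, .h]),
   (15, [.h, .d, .e, .h, .d, .h, .d, .e, .h, .e]),
   (16, [.e, .h, .d, .h, .d, .e, .h, .e, .d, .h]),
   (17, [.c, .b, .h, .d, .c, .b, .h, .d, .c, .b, .h, .d, .c, .b, .h, .d, .c, .b, .h])]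

/-- the rules of the letter `e` -/
def rules_e : List (ℕ × List Lt) :=
  [(1, [.a, .e, .a]),
   (2, [.c, .e, .c]),
   (3, [.b, .e, .b]),
   (4, [.d, .e, .d, .e, .d]),
   (5, [.f, .e, .f, .e, .f]),
   (6, [.h, .e, .d, .h, .d, .e, .h, .d, .h, .d]),
   (7, [.d, .h, .d, .e, .h, .d, .h, .d, .e, .h]),
   (8, [.h, .d, .h, .d, .e, .h, .e, .d, .h, .d])]

/-- the rules of the letter `f` -/
def rules_f : List (ℕ × List Lt) :=
  [(1, [.b, .f, .b]),
   (2, [.d, .f, .d]),
   (3, [.a, .g, .g]),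
   (4, [.a, .f, .a]),
   (5, [.c, .f, .c]),
   (6, [.g, .f, .h]),
   (7, [.h, .f, .g]),
   (8, [.e, .f, .e, .f, .e]),
   (9, [.a, .c, .d, .c, .d, .c, .d, .c, .d])]

/-- the rules of the letter `g` -/
def rules_g : List (ℕ × List Lt) :=
  [(1, [.c, .h, .c, .d, .c, .g, .c, .g, .d]),
   (2, [.c, .d, .c, .g, .c, .g, .d, .h, .c]),
   (3, [.c, .b, .h, .b, .c, .h, .c, .b, .h, .c]),
   (4, [.b, .c, .h, .c, .b, .h, .c, .h, .c, .b]),
   (5, [.c, .b, .h, .c, .h, .c, .b, .h, .b, .c]),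
   (6, [.c, .h, .c, .b, .h, .b, .c, .h, .c, .b]),
   (7, [.d, .h, .d, .c, .d, .g, .d, .g, .c]),
   (8, [.d, .c, .d, .g, .d, .g, .c, .h, .d]),
   (9, [.d, .e, .h, .e, .d, .h, .d, .e, .h, .d]),
   (10, [.e, .d, .h, .d, .e, .h, .d, .h, .d, .e]),
   (11, [.d, .e, .h, .d, .h, .d, .e, .h, .e, .d]),
   (12, [.d, .h, .d, .e, .h, .e, .d, .h, .d, .e]),
   (13, [.d, .c, .b, .h, .d, .c, .b, .h, .d, .c, .b, .h, .d, .c, .b, .h, .d, .c, .b])]

/-- the rules of the letter `h` -/
def rules_h : List (ℕ × List Lt) :=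
  [(1, [.a, .h, .a]),
   (2, [.g, .f, .a]),
   (3, [.f, .a, .g]),
   (4, [.f, .h, .f])]

/-- the rules of a letter -/
def rules : Lt → List (ℕ × List Lt)
  | .e => rules_e | .b => rules_b | .d => rules_d | .a => rules_a | .f => rules_f | .c => rules_c | .g => rules_g | .h => rules_h

end Cfsg.Agent.SporRec.ONBulkDef
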