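import Cfsg.Agent.SporRec.ONBulkChk0
import Cfsg.Agent.SporRec.ONBulkChk1
import Cfsg.Agent.SporRec.ONBulkChk2
import Cfsg.Agent.SporRec.ONBulkChk3

/-!
The subgroup `⟨a, …, f⟩` of the presented O'Nan group has index at most `122760`: the coset enumeration
as a bulk certificate (level planes).
-/

set_option autoImplicit false
set_option maxRecDepth 100000
set_option linter.constructorNameAsVariable false
set_option Elab.async false

namespace Cfsg.Agent.SporRec.ONBulkIndex

open Cfsg.Agent.Lib.PermNet Cfsg.Agent.Lib.PermNetOrbit Cfsg.Agent.SporRec.CosetBulk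
  Cfsg.Agent.SporRec.CosetBulkT Cfsg.Agent.SporRec.ONBulkRel Cfsg.Agent.SporRec.ONBulkDef
  Cfsg.Agent.SporRec.ONBulkData1 Cfsg.Agent.ONType.RepPi Cfsg.Agent.ONType.RepGen Cfsg.Agent.ONType.RepG
  Cfsg.Agent.Fischer.Fi24RepLib Cfsg.Agent.ONType.RepDef
open Cfsg.Agent.ONType.Rep (rho rho_gen gen)
open Cfsg.Agent.SporRec.ONIndexRel (sg closure_top)
open Cfsg.Agent.SporRec

/-! ### Kernel checks -/

theorem ngr_eq : ngr = revAux ng .nil := rfl

theorem perm_ngr : ngr.perm = ng.perm⁻¹ := by rw [ngr_eq, perm_rev]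

theorem ok_ngr : ngr.ok 131072 = true := by decide +kernel

theorem ok (x : Lt) : (lnet x).ok 131072 = true := by
  cases x
  · exact ok_e
  · exact ok_b
  · exact ok_d
  · exact ok_a
  · exact ok_f
  · exact ok_c
  · exact ok_g
  · exact ok_ngr

theorem chk_stab (x : Lt) : Nat.beq ((lnet x).app (V (ty x))) (V (ty x)) = true := by
  cases x <;> decide +kernel

theorem chk_pi : Nat.beq (pi.app V0) V1 = true := by decide +kernel

theorem chk_V0 : Nat.beq (Nat.shiftRight V0 (Nat.pow 2 (17 : ℕ))) 0 = true := by decide +kernel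

theorem chk_pc : Nat.beq (pc 17 V0) (122760 : ℕ) = true := by decide +kernel

theorem chk_zero : tb V0 0 = true := by decide +kernel

theorem chk_tree_false : (treeCheck ne rk tree_e && treeCheck na rk tree_a && treeCheck nc rk tree_c &&
    treeCheck ng rk tree_g && treeCheck ngr rk tree_h) = true := by decide +kernel

theorem chk_tree_true : (treeCheck nb (mapApp pi rk) tree_b && treeCheck nd (mapApp pi rk) tree_d &&
    treeCheck nf (mapApp pi rk) tree_f) = true := by decide +kernel

/-- the tree masks in the first numbering -/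
noncomputable def PM (x : Lt) : ℕ := Bool.rec (ltree x) (pir.app (ltree x)) (ty x)

theorem chk_root (x : Lt) : tb (PM x) 0 = false := by
  cases x <;> decide +kernel

theorem chk_disj (x y : Lt) (h : num x < num y) : Nat.beq (Nat.land (PM x) (PM y)) 0 = true := by
  cases x <;> cases y <;>
    first
      | exact absurd h (by decide)
      | decide +kernel

/-- the exceptional masks -/
def extra : Lt → List ℕ
  | .d => [1, Nat.shiftLeft 1 178]
  | .g => []
  | .h => []
  | _ => [1]

/-- the masks of the edges of a letter -/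
noncomputable def msk (x : Lt) : List ℕ :=
  ltree x :: ((rules x).map (fun r => eqP (V (ty x)) (lsel x) r.1) ++ extra x)

theorem chk_cov_e : covI V0 ne (msk .e) = true := by decide +kernel
theorem chk_cov_b : covI V1 nb (msk .b) = true := by decide +kernel
theorem chk_cov_d : covI V1 nd (msk .d) = true := by decide +kernel
theorem chk_cov_a : covI V0 na (msk .a) = true := by decide +kernel
theorem chk_cov_f : covI V1 nf (msk .f) = true := by decide +kernel
theorem chk_cov_c : covI V0 nc (msk .c) = true := by decide +kernel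
theorem chk_cov_g : covG V0 ng (msk .g) (msk .h) = true := by decide +kernel

/-- is the letter an involution? -/
def isI : Lt → Bool
  | .g => false | .h => false | .e => true | .b => true | .d => true | .a => true | .f => true | .c => true

theorem chk_sym (x : Lt) (h : isI x = true) : mapApp (lnet x) (llev x) = llev x := by
  cases x <;>
    first
      | exact absurd h (by decide)
      | decide +kernel

theorem chk_fix (x : Lt) (h : isI x = true) : Nat.beq ((lnet x).pt 0) 0 = true := by
  cases x <;>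
    first
      | exact absurd h (by decide)
      | decide +kernel

theorem chk_pi0 : Nat.beq (pi.pt 0) 0 = true := by decide +kernel

theorem chk_rules (x : Lt) : ∀ r ∈ rules x, ruleB x r.1 r.2 = true := by
  cases x
  · exact ONBulkChk3.rules_e_ok
  · exact ONBulkChk0.rules_b_ok
  · exact ONBulkChk2.rules_d_ok
  · exact ONBulkChk0.rules_a_ok
  · exact ONBulkChk3.rules_f_ok
  · exact ONBulkChk1.rules_c_ok
  · exact ONBulkChk3.rules_g_ok
  · exact ONBulkChk3.rules_h_ok

theorem chk_rel (x : Lt) : ((rules x).all fun r => okRule x r.2) = true := by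
  cases x <;> decide +kernel

/-- first path of the exceptional edge -/
def pB : List Lt := [.c, .d, .e, .b, .h, .d, .c, .b, .h]
/-- second path of the exceptional edge -/
def pA : List Lt := [.b, .g, .e, .d, .c, .d, .a, .b, .h]
/-- inverse of the second path -/
def pA' : List Lt := [.g, .b, .a, .d, .c, .d, .e, .h, .b]

theorem chk_walk1 : walkP (tdat pB true false).reverse (valK (llev .d) 178) 0 = true := by decide +kernel
theorem chk_walk2 : walkP (tdat pA true false).reverse (valK (llev .d) 178) 0 = true := by decide +kernel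
theorem chk_end1 : Nat.beq (ptWord ((tdat pB true false).map Prod.fst) 0) 178 = true := by decide +kernel
theorem chk_end2 : Nat.beq (ptWord ((tdat pA true false).map Prod.fst) 0) (nd.pt 178) = true := by
  decide +kernel

/-! ### Positions -/

theorem V_net (x : Lt) (j : ℕ) : (V (ty x)).testBit ((lnet x).perm j) = (V (ty x)).testBit j := by
  rw [← testBit_app (ok x), Nat.eq_of_beq_eq_true (chk_stab x)]

theorem V_pi (q : ℕ) : V1.testBit q = V0.testBit (pi.perm q) := by
  rw [← testBit_app ok_pi, Nat.eq_of_beq_eq_true chk_pi]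

theorem pi_pir (j : ℕ) : pi.perm (pir.perm j) = j := by
  rw [perm_pir]; exact pi.perm.apply_symm_apply j

theorem V_pir (j : ℕ) : V1.testBit (pir.perm j) = V0.testBit j := by
  rw [V_pi, pi_pir]

theorem V0_lt {i : ℕ} (h : V0.testBit i = true) : i < 131072 := by
  by_contra hc
  have h1 : V0 >>> 2 ^ 17 = 0 := Nat.eq_of_beq_eq_true chk_V0
  have h2 := congrArg (fun x => Nat.testBit x (i - 2 ^ 17)) h1
  simp only [Nat.testBit_shiftRight, Nat.zero_testBit] at h2
  rw [show 2 ^ 17 + (i - 2 ^ 17) = i by omega, h] at h2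
  exact absurd h2 (by simp)

/-- the permutation from the numbering `t` to the first numbering -/
noncomputable def cj (t : Bool) : Equiv.Perm ℕ := Bool.rec 1 pi.perm t

theorem V_cj (t : Bool) (q : ℕ) : (V t).testBit q = V0.testBit (cj t q) := by
  cases t
  · rfl
  · exact V_pi q

theorem cj_zero (t : Bool) : cj t 0 = 0 := by
  cases t
  · rfl
  · show pi.perm 0 = 0
    rw [← Net.pt_eq ok_pi]
    exact Nat.eq_of_beq_eq_true chk_pi0

theorem rho_ge (x : Lt) : rho (ge x) = cj (ty x) * (lnet x).perm * (cj (ty x))⁻¹ := by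
  cases x
  · show rho (gen .e) = 1 * ne.perm * 1⁻¹
    rw [rho_gen, rho0_fst rfl, inv_one, mul_one, one_mul]; rfl
  · show rho (gen .b) = pi.perm * nb.perm * pi.perm⁻¹
    rw [rho_gen, rho0_snd rfl]; rfl
  · show rho (gen .d) = pi.perm * nd.perm * pi.perm⁻¹
    rw [rho_gen, rho0_snd rfl]; rfl
  · show rho (gen .a) = 1 * na.perm * 1⁻¹
    rw [rho_gen, rho0_fst rfl, inv_one, mul_one, one_mul]; rfl
  · show rho (gen .f) = pi.perm * nf.perm * pi.perm⁻¹
    rw [rho_gen, rho0_snd rfl]; rfl
  · show rho (gen .c) = 1 * nc.perm * 1⁻¹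
    rw [rho_gen, rho0_fst rfl, inv_one, mul_one, one_mul]; rfl
  · show rho (gen .g) = 1 * ng.perm * 1⁻¹
    rw [rho_gen, rho0_fst rfl, inv_one, mul_one, one_mul]; rfl
  · show rho (gen .g)⁻¹ = 1 * ngr.perm * 1⁻¹
    rw [map_inv, rho_gen, rho0_fst rfl, inv_one, mul_one, one_mul, perm_ngr]; rfl

theorem rho_ge_cj (x : Lt) (q : ℕ) : rho (ge x) (cj (ty x) q) = cj (ty x) ((lnet x).perm q) := by
  rw [rho_ge]
  show cj (ty x) ((lnet x).perm ((cj (ty x)).symm (cj (ty x) q))) = _
  rw [Equiv.symm_apply_apply]

/-! ### Typed words -/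

/-- the step of a letter -/
noncomputable def st (x : Lt) : TStep Spor.ON := ⟨ge x, lnet x, llev x, ty x, ty x⟩

/-- switch of numberings -/
noncomputable def sws (s d : Bool) : List (TStep Spor.ON) :=
  Bool.rec (Bool.rec [] [⟨1, pi, [], true, false⟩] s) (Bool.rec [⟨1, pir, [], false, true⟩] [] s) d

/-- typed word -/
noncomputable def tw : List Lt → Bool → Bool → List (TStep Spor.ON)
  | [], d, s => sws s d
  | x :: w, d, s => sws (ty x) d ++ st x :: tw w (ty x) s

theorem sws_g (s d : Bool) : ((sws s d).map fun t => t.g).prod = 1 := by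
  cases s <;> cases d <;> simp [sws]

theorem sws_perm (s d : Bool) : ((sws s d).map fun t => t.net.perm).prod = (cj d)⁻¹ * cj s := by
  cases s <;> cases d <;> simp [sws, cj, perm_pir]

theorem tw_g (w : List Lt) (d s : Bool) : ((tw w d s).map fun t => t.g).prod = evl w := by
  induction w generalizing d with
  | nil => rw [tw, sws_g, evl_nil]
  | cons x w ih =>
    rw [tw, List.map_append, List.prod_append, List.map_cons, List.prod_cons, ih, sws_g, one_mul, evl_cons]
    rfl

theorem tw_perm (w : List Lt) (d s : Bool) :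
    ((tw w d s).map fun t => t.net.perm).prod = (cj d)⁻¹ * rho (evl w) * cj s := by
  induction w generalizing d with
  | nil => rw [tw, sws_perm, evl_nil, map_one, mul_one]
  | cons x w ih =>
    rw [tw, List.map_append, List.prod_append, List.map_cons, List.prod_cons, ih, sws_perm, evl_cons,
      map_mul, rho_ge]
    show (cj d)⁻¹ * cj (ty x) * ((lnet x).perm * ((cj (ty x))⁻¹ * rho (evl w) * cj s)) = _
    simp only [mul_assoc]

theorem swd_eq (s d : Bool) (l : List (TStep Spor.ON)) :
    (sws s d ++ l).map (fun t => (t.net, t.lev)) = swd s d (l.map fun t => (t.net, t.lev)) := by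
  cases s <;> cases d <;> rfl

theorem tw_dat (w : List Lt) (d s : Bool) : (tw w d s).map (fun t => (t.net, t.lev)) = tdat w d s := by
  induction w generalizing d with
  | nil =>
    show (sws s d).map _ = swd s d []
    rw [← List.append_nil (sws s d), swd_eq]; rfl
  | cons x w ih =>
    rw [tw, swd_eq, List.map_cons, ih]
    rfl

theorem chn_append {l m : List (TStep Spor.ON)} {a b c : Bool} (h : Chn c l b) (h' : Chn a m c) :
    Chn a (l ++ m) b := by
  induction l generalizing b with
  | nil =>
    have hcb : c = b := h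
    subst hcb
    exact h'
  | cons s l ih => exact ⟨h.1, ih h.2⟩

theorem sws_chn (s d : Bool) : Chn s (sws s d) d := by
  cases s <;> cases d
  · exact rfl
  · exact ⟨rfl, rfl⟩
  · exact ⟨rfl, rfl⟩
  · exact rfl

theorem tw_chn (w : List Lt) (d s : Bool) : Chn s (tw w d s) d := by
  induction w generalizing d with
  | nil => exact sws_chn s d
  | cons x w ih => exact chn_append (sws_chn (ty x) d) ⟨rfl, ih (ty x)⟩

theorem mem_sws {s d : Bool} {t : TStep Spor.ON} (h : t ∈ sws s d) :
    t = ⟨1, pi, [], true, false⟩ ∨ t = ⟨1, pir, [], false, true⟩ := by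
  cases s <;> cases d
  · exact absurd h (by simp [sws])
  · right; simpa [sws] using h
  · left; simpa [sws] using h
  · exact absurd h (by simp [sws])

theorem mem_tw {w : List Lt} {d s : Bool} {t : TStep Spor.ON} (h : t ∈ tw w d s) :
    t = ⟨1, pi, [], true, false⟩ ∨ t = ⟨1, pir, [], false, true⟩ ∨ ∃ x, t = st x := by
  induction w generalizing d with
  | nil =>
    rcases mem_sws h with h | h
    · exact Or.inl h
    · exact Or.inr (Or.inl h)
  | cons x w ih =>
    rw [tw, List.mem_append, List.mem_cons] at h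
    rcases h with h | h | h
    · rcases mem_sws h with h | h
      · exact Or.inl h
      · exact Or.inr (Or.inl h)
    · exact Or.inr (Or.inr ⟨x, h⟩)
    · exact ih h

theorem tw_ok (w : List Lt) (d s : Bool) : ∀ t ∈ tw w d s, t.net.ok 131072 = true := by
  intro t ht
  rcases mem_tw ht with rfl | rfl | ⟨x, rfl⟩
  · exact ok_pi
  · exact ok_pir
  · exact ok x

theorem st_stb (x : Lt) : Stb V (st x) := fun j hj => by
  show (V (ty x)).testBit ((lnet x).perm j) = true
  rw [V_net]; exact hj

theorem tw_stb (w : List Lt) (d s : Bool) : ∀ t ∈ tw w d s, Stb V t := by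
  intro t ht
  rcases mem_tw ht with rfl | rfl | ⟨x, rfl⟩
  · intro j hj
    show V0.testBit (pi.perm j) = true
    rw [← V_pi]; exact hj
  · intro j hj
    show V1.testBit (pir.perm j) = true
    rw [V_pir]; exact hj
  · exact st_stb x

section act
variable {X : Type*} [MulAction Spor.ON X]

/-- the labelling in the numbering `t` -/
noncomputable def FF (f : ℕ → X) (t : Bool) (q : ℕ) : X := f (cj t q)

theorem tw_snd (f : ℕ → X) (w : List Lt) (d s : Bool) (B : ℕ) (h : ∀ b, Snd V (FF f) B (st b)) :
    ∀ t ∈ tw w d s, Snd V (FF f) B t := by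
  intro t ht
  rcases mem_tw ht with rfl | rfl | ⟨x, rfl⟩
  · intro j _ _
    show (1 : Spor.ON) • f (pi.perm j) = f (pi.perm j)
    rw [one_smul]
  · intro j _ _
    show (1 : Spor.ON) • f j = f (pi.perm (pir.perm j))
    rw [one_smul, pi_pir]
  · exact h x

theorem tree_lt (x : Lt) (i : ℕ) (h : (PM x).testBit i = true) : val rk (rho (ge x) i) < val rk i := by
  have h1 := chk_tree_false
  have h2 := chk_tree_true
  simp only [Bool.and_eq_true] at h1 h2
  have key0 : ∀ L : Net, ∀ T : ℕ, L.ok 131072 = true → treeCheck L rk T = true → rho (ge x) = 1 * L.perm * 1⁻¹ →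
      T.testBit i = true → val rk (rho (ge x) i) < val rk i := by
    intro L T hL hc hr hT
    rw [hr, inv_one, mul_one, one_mul]
    exact lt_of_treeCheck hL hc hT
  have key1 : ∀ L : Net, ∀ T : ℕ, L.ok 131072 = true → treeCheck L (mapApp pi rk) T = true →
      rho (ge x) = pi.perm * L.perm * pi.perm⁻¹ →
      (pir.app T).testBit i = true → val rk (rho (ge x) i) < val rk i := by
    intro L T hL hc hr hT
    rw [testBit_app ok_pir] at hT
    have h3 := lt_of_treeCheck hL hc hT
    rw [val_mapApp ok_pi, val_mapApp ok_pi, pi_pir] at h3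
    rw [hr, ← perm_pir]
    exact h3
  have hr := rho_ge x
  cases x
  · exact key0 ne tree_e ok_e h1.1.1.1.1 hr h
  · exact key1 nb tree_b ok_b h2.1.1 hr h
  · exact key1 nd tree_d ok_d h2.1.2 hr h
  · exact key0 na tree_a ok_a h1.1.1.1.2 hr h
  · exact key1 nf tree_f ok_f h2.2 hr h
  · exact key0 nc tree_c ok_c h1.1.1.2 hr h
  · exact key0 ng tree_g ok_g h1.1.2 hr h
  · exact key0 ngr tree_h ok_ngr h1.2 hr h

theorem num_inj {x y : Lt} (h : num x = num y) : x = y := by
  cases x <;> cases y <;> first | rfl | exact absurd h (by decide)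

theorem PM_disj (x y : Lt) (i : ℕ) (hx : (PM x).testBit i = true) (hy : (PM y).testBit i = true) : x = y := by
  rcases lt_trichotomy (num x) (num y) with h | h | h
  · exact (disj_of_land (chk_disj x y h) hx hy).elim
  · exact num_inj h
  · exact (disj_of_land (chk_disj y x h) hy hx).elim

theorem PM_cj (x : Lt) (q : ℕ) : (PM x).testBit (cj (ty x) q) = (ltree x).testBit q := by
  have key : ∀ t : Bool, (Bool.rec (ltree x) (pir.app (ltree x)) t : ℕ).testBit (cj t q) = (ltree x).testBit q := by
    intro t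
    cases t
    · rfl
    · show (pir.app (ltree x)).testBit (pi.perm q) = _
      rw [testBit_app ok_pir, perm_pir]
      exact congrArg _ (pi.perm.symm_apply_apply q)
  exact key (ty x)

theorem exists_f (p : X) : ∃ f : ℕ → X, f 0 = p ∧
    ∀ x q, (V (ty x)).testBit q = true → (ltree x).testBit q = true →
      ge x • FF f (ty x) q = FF f (ty x) ((lnet x).perm q) := by
  obtain ⟨f, hf0, hf⟩ := exists_tree (n := 131072) ge (fun x i => rho (ge x) i) PM (val rk) p 0
    (fun x => by rw [← tb_eq]; exact chk_root x) PM_disj (fun x i _ hi => tree_lt x i hi)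
  refine ⟨f, hf0, fun x q hV hq => ?_⟩
  have h1 : cj (ty x) q < 131072 := V0_lt (by rw [← V_cj]; exact hV)
  have h2 := hf x (cj (ty x) q) h1 (by rw [PM_cj]; exact hq)
  show ge x • f (cj (ty x) q) = f (cj (ty x) ((lnet x).perm q))
  rw [h2, rho_ge_cj]

/-! ### Soundness -/

/-- planes with a given value -/
theorem testBit_eqP (V : ℕ) (l : List ℕ) (k i : ℕ) :
    (eqP V l k).testBit i = true ↔ V.testBit i = true ∧ val l i = k := by
  induction l generalizing k with
  | nil =>
    show (Bool.rec 0 V (Nat.beq k 0) : ℕ).testBit i = true ↔ _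
    by_cases hk : k = 0
    · subst hk
      show V.testBit i = true ↔ _
      simp [val]
    · have : Nat.beq k 0 = false := by
        rw [← Bool.not_eq_true]; exact fun h => hk (Nat.eq_of_beq_eq_true h)
      rw [this]
      show (0 : ℕ).testBit i = true ↔ _
      simp [val]
      omega
  | cons p ps ih =>
    show (Bool.rec (Nat.xor (eqP V ps (k / 2)) (Nat.land (eqP V ps (k / 2)) p))
      (Nat.land (eqP V ps (k / 2)) p) (Nat.beq (k % 2) 1) : ℕ).testBit i = true ↔ _
    have h := ih (k / 2)
    rw [val_cons]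
    rcases Nat.mod_two_eq_zero_or_one k with hk | hk
    · rw [hk]
      show (Nat.xor (eqP V ps (k / 2)) (Nat.land (eqP V ps (k / 2)) p)).testBit i = true ↔ _
      rw [testBit_xor', testBit_land']
      cases hp : p.testBit i
      · simp only [Bool.and_false, Bool.xor_false, Bool.toNat_false, h]
        constructor
        · rintro ⟨h1, h2⟩; exact ⟨h1, by omega⟩
        · rintro ⟨h1, h2⟩; exact ⟨h1, by omega⟩
      · simp only [Bool.and_true, Bool.xor_self, Bool.toNat_true]
        constructor
        · intro h'; exact absurd h' (by simp)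
        · rintro ⟨h1, h2⟩; omega
    · rw [hk]
      show (Nat.land (eqP V ps (k / 2)) p).testBit i = true ↔ _
      rw [testBit_land']
      cases hp : p.testBit i
      · simp only [Bool.and_false, Bool.toNat_false]
        constructor
        · intro h'; exact absurd h' (by simp)
        · rintro ⟨h1, h2⟩; omega
      · simp only [Bool.and_true, Bool.toNat_true, h]
        constructor
        · rintro ⟨h1, h2⟩; exact ⟨h1, by omega⟩
        · rintro ⟨h1, h2⟩; exact ⟨h1, by omega⟩

theorem jst_rule (f : ℕ → X) (x : Lt) (r : ℕ × List Lt) (hr : r ∈ rules x) :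
    Jst V (FF f) st x (eqP (V (ty x)) (lsel x) r.1) := by
  have h1 := chk_rules x r hr
  have h2 := okRule_sound (List.all_eq_true.mp (chk_rel x) r hr)
  have h3 : Jst V (FF f) st x (ruleMask (tdat r.2 (ty x) (ty x)) (llev x)) := by
    rw [← tw_dat]
    refine Jst.of_rule (N := 131072) (tw r.2 (ty x) (ty x)) (tw_chn r.2 _ _) (fun B hB => tw_snd f _ _ _ B hB)
      (tw_ok _ _ _) (tw_stb _ _ _) ?_ ?_
    · rw [tw_g]; exact h2
    · rw [tw_perm, h2, rho_ge]
      show _ = (lnet x).perm
      group
  intro B hB i hi hM hlev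
  exact h3 B hB i hi (subB_spec h1 hM) hlev

theorem jst_fix (f : ℕ → X) (x : Lt) (hx : isI x = true) (h : ge x • f 0 = f 0) :
    Jst V (FF f) st x 1 := by
  have h0 : (lnet x).perm 0 = 0 := by
    rw [← Net.pt_eq (ok x)]; exact Nat.eq_of_beq_eq_true (chk_fix x hx)
  refine Jst.of_fixed (a := x) 0 ?_
  show ge x • f (cj (ty x) 0) = f (cj (ty x) ((lnet x).perm 0))
  rw [h0, cj_zero, h]

theorem evl_pA : evl pA = (evl pA')⁻¹ := by
  rw [← evl_invw']; rfl

theorem jst_special (f : ℕ → X) (h : evl (pA' ++ (.d :: pB)) • f 0 = f 0) :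
    Jst V (FF f) st .d (Nat.shiftLeft 1 178) := by
  have hrev : ∀ w : List Lt, ((tw w true false).reverse.map fun t => t.g).reverse.prod = evl w := by
    intro w
    rw [← List.map_reverse, List.reverse_reverse, tw_g]
  have hrevp : ∀ w : List Lt, ((tw w true false).reverse.map fun t => t.net.perm).reverse.prod 0 =
      ptWord ((tdat w true false).map Prod.fst) 0 := by
    intro w
    rw [← List.map_reverse, List.reverse_reverse, ← tw_dat, List.map_map]
    have hok : WOk 131072 ((tw w true false).map (Prod.fst ∘ fun t => (t.net, t.lev))) := by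
      intro L hL
      obtain ⟨t, ht, rfl⟩ := List.mem_map.1 hL
      exact tw_ok w true false t ht
    rw [ptWord_eq hok, wperm, List.map_map]
    rfl
  refine Jst.of_loop (N := 131072) (t := false) (j₀ := 0) (by rw [← tb_eq]; exact chk_zero)
    (tw pB true false).reverse (tw pA true false).reverse
    (by rw [List.reverse_reverse]; exact tw_chn pB true false)
    (by rw [List.reverse_reverse]; exact tw_chn pA true false)
    (fun B hB s hs => tw_snd f pB true false B hB s (List.mem_reverse.1 hs))
    (fun B hB s hs => tw_snd f pA true false B hB s (List.mem_reverse.1 hs))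
    (fun s hs => tw_ok pB true false s (List.mem_reverse.1 hs))
    (fun s hs => tw_ok pA true false s (List.mem_reverse.1 hs))
    (fun s hs => tw_stb pB true false s (List.mem_reverse.1 hs))
    (fun s hs => tw_stb pA true false s (List.mem_reverse.1 hs)) 178 ?_ ?_ ?_ ?_ ?_
  · rw [hrevp]; exact Nat.eq_of_beq_eq_true chk_end1
  · rw [hrevp]
    show _ = nd.perm 178
    rw [← Net.pt_eq ok_d]; exact Nat.eq_of_beq_eq_true chk_end2
  · rw [hrev, hrev, evl_pA]
    show (ge .d * evl pB) • f 0 = (evl pA')⁻¹ • f 0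
    rw [evl_append, evl_cons, mul_smul] at h
    rw [← h, inv_smul_smul, h]
  · rw [List.map_reverse, tw_dat]; exact chk_walk1
  · rw [List.map_reverse, tw_dat]; exact chk_walk2

theorem jst_msk (f : ℕ → X)
    (htree : ∀ x q, (V (ty x)).testBit q = true → (ltree x).testBit q = true →
      ge x • FF f (ty x) q = FF f (ty x) ((lnet x).perm q))
    (hfix : ∀ x, isI x = true → ge x • f 0 = f 0) (hsp : evl (pA' ++ (.d :: pB)) • f 0 = f 0) (x : Lt) :
    Jst V (FF f) st x (orAll (msk x)) := by
  refine Jst.orAll ?_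
  intro M hM
  rw [msk, List.mem_cons, List.mem_append, List.mem_map] at hM
  rcases hM with rfl | ⟨r, hr, rfl⟩ | hM
  · intro B _ i hi hM _
    exact htree x i hi hM
  · exact jst_rule f x r hr
  · cases x
    · rw [show M = 1 by simpa [extra] using hM]; exact jst_fix f _ rfl (hfix _ rfl)
    · rw [show M = 1 by simpa [extra] using hM]; exact jst_fix f _ rfl (hfix _ rfl)
    · have h2 : M = 1 ∨ M = Nat.shiftLeft 1 178 := by
        unfold extra at hM
        rw [List.mem_cons, List.mem_singleton] at hM
        exact hM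
      rcases h2 with rfl | rfl
      · exact jst_fix f _ rfl (hfix _ rfl)
      · exact jst_special f hsp
    · rw [show M = 1 by simpa [extra] using hM]; exact jst_fix f _ rfl (hfix _ rfl)
    · rw [show M = 1 by simpa [extra] using hM]; exact jst_fix f _ rfl (hfix _ rfl)
    · rw [show M = 1 by simpa [extra] using hM]; exact jst_fix f _ rfl (hfix _ rfl)
    · exact absurd hM (by simp [extra])
    · exact absurd hM (by simp [extra])

/-- the masks covering everything -/
noncomputable def MM : Lt → ℕ
  | .g => Nat.lor (orAll (msk .g)) (ng.app (orAll (msk .h)))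
  | .h => ngr.app (Nat.lor (orAll (msk .g)) (ng.app (orAll (msk .h))))
  | .e => Nat.lor (orAll (msk .e)) (ne.app (orAll (msk .e)))
  | .b => Nat.lor (orAll (msk .b)) (nb.app (orAll (msk .b)))
  | .d => Nat.lor (orAll (msk .d)) (nd.app (orAll (msk .d)))
  | .a => Nat.lor (orAll (msk .a)) (na.app (orAll (msk .a)))
  | .f => Nat.lor (orAll (msk .f)) (nf.app (orAll (msk .f)))
  | .c => Nat.lor (orAll (msk .c)) (nc.app (orAll (msk .c)))

theorem perm_inv (x : Lt) : (lnet (inv x)).perm = ((lnet x).perm)⁻¹ := by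
  have h1 : ty (inv x) = ty x := by cases x <;> rfl
  have h2 := rho_ge (inv x)
  rw [ge_inv, map_inv, rho_ge x, h1] at h2
  have h3 : (lnet (inv x)).perm = (cj (ty x))⁻¹ * (cj (ty x) * (lnet x).perm * (cj (ty x))⁻¹)⁻¹ * cj (ty x) := by
    rw [h2]; group
  rw [h3]; group

theorem lev_inv (x : Lt) (i : ℕ) : val (llev (inv x)) i = val (llev x) ((lnet (inv x)).perm i) := by
  have key : ∀ y : Lt, isI y = true → inv y = y → val (llev (inv y)) i = val (llev y) ((lnet (inv y)).perm i) := by
    intro y hy hi
    rw [hi, ← val_mapApp (ok y), chk_sym y hy]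
  cases x
  · exact key _ rfl rfl
  · exact key _ rfl rfl
  · exact key _ rfl rfl
  · exact key _ rfl rfl
  · exact key _ rfl rfl
  · exact key _ rfl rfl
  · show val (mapApp ngr (llev .g)) i = val (llev .g) (ngr.perm i)
    rw [val_mapApp ok_ngr]
  · show val (llev .g) i = val (mapApp ngr (llev .g)) (ng.perm i)
    rw [val_mapApp ok_ngr, perm_ngr]
    exact congrArg _ (ng.perm.symm_apply_apply i).symm

theorem jst_inv (f : ℕ → X) (x : Lt) (M : ℕ) (h : Jst V (FF f) st x M) :
    Jst V (FF f) st (inv x) ((lnet (inv x)).app M) := by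
  have h1 : ty (inv x) = ty x := by cases x <;> rfl
  exact Jst.symm (N := 131072) (a := x) (a' := inv x) h1 h1 (ok (inv x)) (st_stb (inv x)) (ge_inv x)
    (perm_inv x) (lev_inv x) h

theorem jst_MM (f : ℕ → X) (h : ∀ x, Jst V (FF f) st x (orAll (msk x))) (x : Lt) :
    Jst V (FF f) st x (MM x) := by
  have hg : Jst V (FF f) st .g (MM .g) := Jst.or (h .g) (jst_inv f .h _ (h .h))
  cases x
  · exact Jst.or (h .e) (jst_inv f .e _ (h .e))
  · exact Jst.or (h .b) (jst_inv f .b _ (h .b))
  · exact Jst.or (h .d) (jst_inv f .d _ (h .d))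
  · exact Jst.or (h .a) (jst_inv f .a _ (h .a))
  · exact Jst.or (h .f) (jst_inv f .f _ (h .f))
  · exact Jst.or (h .c) (jst_inv f .c _ (h .c))
  · exact hg
  · exact jst_inv f .g _ hg

theorem MM_cov (x : Lt) (i : ℕ) (hi : (V (ty x)).testBit i = true) : (MM x).testBit i = true := by
  cases x
  · exact covI_spec chk_cov_e hi
  · exact covI_spec chk_cov_b hi
  · exact covI_spec chk_cov_d hi
  · exact covI_spec chk_cov_a hi
  · exact covI_spec chk_cov_f hi
  · exact covI_spec chk_cov_c hi
  · exact covG_spec chk_cov_g hi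
  · show (ngr.app (MM .g)).testBit i = true
    rw [testBit_app ok_ngr]
    refine covG_spec chk_cov_g ?_
    have := V_net .h i
    exact this.trans hi

theorem exists_label (p : X) (hfix : ∀ x, isI x = true → ge x • p = p)
    (hsp : evl (pA' ++ (.d :: pB)) • p = p) :
    ∃ f : ℕ → X, f 0 = p ∧ ∀ x i, V0.testBit i = true → ge x • f i = f (rho (ge x) i) := by
  obtain ⟨f, hf0, htree⟩ := exists_f p
  refine ⟨f, hf0, ?_⟩
  have h := sound_of_jst (V := V) (F := FF f) (st := st) MM MM_cov
    (jst_MM f (jst_msk f htree (fun x hx => by rw [hf0]; exact hfix x hx) (by rw [hf0]; exact hsp)))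
  intro x i hi
  have h1 : cj (ty x) ((cj (ty x)).symm i) = i := (cj (ty x)).apply_symm_apply i
  have h2 := h x ((cj (ty x)).symm i) (by
    show (V (ty x)).testBit ((cj (ty x)).symm i) = true
    rw [V_cj, h1]; exact hi)
  have h3 : ge x • f (cj (ty x) ((cj (ty x)).symm i)) = f (cj (ty x) ((lnet x).perm ((cj (ty x)).symm i))) := h2
  rw [← rho_ge_cj, h1] at h3
  exact h3

theorem V0_rho (x : Lt) (i : ℕ) : V0.testBit (rho (ge x) i) = V0.testBit i := by
  have h1 : cj (ty x) ((cj (ty x)).symm i) = i := (cj (ty x)).apply_symm_apply i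
  conv_lhs => rw [← h1, rho_ge_cj, ← V_cj, V_net, V_cj, h1]

end act

/-! ### The index -/

theorem ge_mem (x : Lt) (hx : isI x = true) : ge x ∈ ONAssembly.H := by
  have h : ∀ n, [n] ∈ ONIndexRel.subw → sg n ∈ ONAssembly.H := by
    intro n hn
    have h1 := ONIndexRel.subw_mem [n] hn
    rwa [SporadicRecognition.CosetCert.ev_cons, SporadicRecognition.CosetCert.ev_nil, mul_one] at h1
  cases x
  · exact h 0 (by simp [ONIndexRel.subw])
  · exact h 1 (by simp [ONIndexRel.subw])
  · exact h 2 (by simp [ONIndexRel.subw])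
  · exact h 3 (by simp [ONIndexRel.subw])
  · exact h 4 (by simp [ONIndexRel.subw])
  · exact h 5 (by simp [ONIndexRel.subw])
  · exact absurd hx (by decide)
  · exact absurd hx (by decide)

theorem smul_base {g : Spor.ON} (h : g ∈ ONAssembly.H) :
    g • ((1 : Spor.ON) : Spor.ON ⧸ ONAssembly.H) = ((1 : Spor.ON) : Spor.ON ⧸ ONAssembly.H) := by
  rw [← MulAction.mem_stabilizer_iff, MulAction.stabilizer_quotient]
  exact h

theorem cover : ∃ f : ℕ → Spor.ON ⧸ ONAssembly.H, ∀ y, ∃ i, V0.testBit i = true ∧ f i = y := by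
  obtain ⟨f, hf0, hf⟩ := exists_label ((1 : Spor.ON) : Spor.ON ⧸ ONAssembly.H)
    (fun x hx => smul_base (ge_mem x hx)) (smul_base (by
      rw [evl_eq]; exact owd_mem))
  refine ⟨f, ?_⟩
  have key : ∀ g : Spor.ON, ∀ y, (∃ i, V0.testBit i = true ∧ f i = y) → ∃ i, V0.testBit i = true ∧ f i = g • y := by
    intro g
    have hg : g ∈ Subgroup.closure (sg '' {x | x < 8}) := by rw [closure_top]; trivial
    have hgen : ∀ x : Lt, ∀ y, (∃ i, V0.testBit i = true ∧ f i = y) → ∃ i, V0.testBit i = true ∧ f i = ge x • y := by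
      rintro x y ⟨i, hi, rfl⟩
      exact ⟨rho (ge x) i, by rw [V0_rho]; exact hi, (hf x i hi).symm⟩
    have hsg : ∀ n, n < 8 → ∃ x : Lt, num x = n := by
      intro n hn
      interval_cases n
      · exact ⟨.e, rfl⟩
      · exact ⟨.b, rfl⟩
      · exact ⟨.d, rfl⟩
      · exact ⟨.a, rfl⟩
      · exact ⟨.f, rfl⟩
      · exact ⟨.c, rfl⟩
      · exact ⟨.g, rfl⟩
      · exact ⟨.h, rfl⟩
    have both : (∀ y, (∃ i, V0.testBit i = true ∧ f i = y) → ∃ i, V0.testBit i = true ∧ f i = g • y) ∧
        (∀ y, (∃ i, V0.testBit i = true ∧ f i = y) → ∃ i, V0.testBit i = true ∧ f i = g⁻¹ • y) := by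
      induction hg using Subgroup.closure_induction with
      | mem x hx =>
        obtain ⟨n, hn, rfl⟩ := hx
        obtain ⟨x, rfl⟩ := hsg n hn
        refine ⟨hgen x, ?_⟩
        have := hgen (inv x)
        rw [ge_inv] at this
        exact this
      | one => simp
      | mul x y _ _ hx hy =>
        refine ⟨fun z hz => ?_, fun z hz => ?_⟩
        · rw [mul_smul]; exact hx.1 _ (hy.1 z hz)
        · rw [mul_inv_rev, mul_smul]; exact hy.2 _ (hx.2 z hz)
      | inv x _ hx => exact ⟨hx.2, by rw [inv_inv]; exact hx.1⟩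
    exact both.1
  intro y
  obtain ⟨g, rfl⟩ := QuotientGroup.mk_surjective y
  have h1 : ((g : Spor.ON) : Spor.ON ⧸ ONAssembly.H) = g • ((1 : Spor.ON) : Spor.ON ⧸ ONAssembly.H) := by
    rw [MulAction.Quotient.smul_coe, smul_eq_mul, mul_one]
  rw [h1]
  refine key g _ ⟨0, ?_, hf0⟩
  rw [← tb_eq]; exact chk_zero

theorem index_aux : ONAssembly.H.index ≠ 0 ∧ ONAssembly.H.index ≤ 122760 := by
  obtain ⟨f, hf⟩ := cover
  have hcard : {p : ℕ | V0.testBit p = true}.ncard = 122760 :=
    ncard_testBit (k := 17) (U := V0) (m := 122760) chk_V0 chk_pc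
  have hfin : {p : ℕ | V0.testBit p = true}.Finite := by
    by_contra hc
    rw [Set.Infinite.ncard hc] at hcard
    exact absurd hcard (by decide)
  have himg : f '' {p : ℕ | V0.testBit p = true} = Set.univ := by
    rw [Set.eq_univ_iff_forall]
    intro y
    obtain ⟨i, hi, h⟩ := hf y
    exact ⟨i, hi, h⟩
  have hfin' : Finite (Spor.ON ⧸ ONAssembly.H) := by
    rw [← Set.finite_univ_iff, ← himg]
    exact hfin.image f
  have hle : Nat.card (Spor.ON ⧸ ONAssembly.H) ≤ 122760 := by
    rw [← Set.ncard_univ, ← himg, ← hcard]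
    exact Set.ncard_image_le hfin
  refine ⟨?_, hle⟩
  show Nat.card (Spor.ON ⧸ ONAssembly.H) ≠ 0
  exact Nat.card_ne_zero.2 ⟨⟨((1 : Spor.ON) : Spor.ON ⧸ ONAssembly.H)⟩, hfin'⟩

end Cfsg.Agent.SporRec.ONBulkIndex
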