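import Cfsg.Agent.SporRec.ONAssembly

/-!
The relators of the presented O'Nan group as words.
Letters: `0 = e, 1 = b, 2 = d, 3 = a, 4 = f, 5 = c, 6 = g, 7 = g⁻¹`.
-/

set_option autoImplicit false
set_option maxRecDepth 100000

namespace Cfsg.Agent.SporRec.ONIndexRel

open Cfsg.Agent.SporadicRecognition Cfsg.Agent.SporadicRecognition.CosetCert
  Cfsg.Agent.SporadicRecognition.CosetCertHyp
  Cfsg.Agent.SporadicRecognition.CosetChain Cfsg.Agent.SporadicRecognition.CoxPres
open Cfsg.Agent.SporRec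

/-- numbering of the generators -/
def gn : Nat → Spor.ON.Gen
  | 0 => .e
  | 1 => .b
  | 2 => .d
  | 3 => .a
  | 4 => .f
  | 5 => .c
  | _ => .g

/-- the letters in the presented group -/
def sg (n : Nat) : Spor.ON := if n = 7 then (PresentedGroup.of Spor.ON.Gen.g)⁻¹ else PresentedGroup.of (gn n)

/-- squares, edges and commuting pairs -/
def cox : List (Nat × Nat × Nat) :=
  [(0,0,1),(1,1,1),(2,2,1),(3,3,1),(4,4,1),(5,5,1),
   (3,1,3),(1,5,3),(5,2,8),(2,0,3),(0,4,3),
   (3,5,2),(3,2,2),(3,0,2),(3,4,2),(1,2,2),(1,0,2),(1,4,2),(5,0,2),(5,4,2),(2,4,2)]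

def eA : Ex := .g 3
def eB : Ex := .g 1
def eC : Ex := .g 5
def eD : Ex := .g 2
def eE : Ex := .g 0
def eF : Ex := .g 4
def eG : Ex := .g 6

def extras : List Ex :=
  [.m (.m eA eF) (.i (.p eG 2)),
   .m (.m eA eF) (.i (.p (.m eC eD) 4)),
   .m eC (.m (.m (.i (.m (.m (.m eD eG) eD) eG)) eC) (.m (.m (.m eD eG) eD) eG)),
   .m eD (.m (.m (.i (.m (.m (.m eC eG) eC) eG)) eD) (.m (.m (.m eC eG) eC) eG)),
   .p (.m (.m (.m eB eC) eD) eG) 5,
   .m (.m (.m (.m eG eB) (.m (.m (.i eC) eG) eC)) (.m (.m (.i eB) eG) eB)) (.m (.m (.i eC) eG) eC),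
   .m (.m (.m (.m eG eE) (.m (.m (.i eD) eG) eD)) (.m (.m (.i eE) eG) eE)) (.m (.m (.i eD) eG) eD)]

/-- all relators -/
def exs : List Ex := coxEx cox ++ extras

theorem exs_lt : ∀ e ∈ exs, e.lt 7 := fun e he =>
  ONHUpper.lt_of_ltb e (List.all_eq_true.mp (by decide : exs.all (ONHUpper.ltb 7) = true) e he)

/-- values of expressions depend only on the letters `< 7` -/
theorem val_sg (e : Ex) (he : e.lt 7) :
    e.val sg = e.val (fun n => (PresentedGroup.of (gn n) : Spor.ON)) := by
  induction e with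
  | g n =>
    have h : n < 7 := he
    have h7 : n ≠ 7 := by omega
    simp [Ex.val, sg, h7]
  | m a b iha ihb => rw [Ex.val, Ex.val, iha he.1, ihb he.2]
  | i a iha => rw [Ex.val, Ex.val, iha he]
  | p a n iha => rw [Ex.val, Ex.val, iha he]

theorem exs_rel : ∀ e ∈ exs, e.val sg = 1 := by
  intro e he
  rw [val_sg e (exs_lt e he)]
  rcases List.mem_append.mp he with h | h
  · exact coxEx_rel gn cox (by decide) e h
  · refine extra_rel gn e ?_
    simp only [extras, List.mem_cons, List.not_mem_nil, or_false] at h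
    rcases h with rfl | rfl | rfl | rfl | rfl | rfl | rfl
    · exact .head _
    · exact .tail _ (.head _)
    · exact .tail _ (.tail _ (.head _))
    · exact .tail _ (.tail _ (.tail _ (.head _)))
    · exact .tail _ (.tail _ (.tail _ (.tail _ (.head _))))
    · exact .tail _ (.tail _ (.tail _ (.tail _ (.tail _ (.head _)))))
    · exact .tail _ (.tail _ (.tail _ (.tail _ (.tail _ (.tail _ (.head _))))))

/-- formal inverse letters -/
def inv7 (x : Nat) : Nat := if x = 6 then 7 else if x = 7 then 6 else x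

theorem sq (x : Nat) (hx : x < 6) : sg x * sg x = 1 := by
  have h : ∀ x < 6, Ex.p (Ex.m (.g x) (.g x)) 1 ∈ exs := by
    intro x hx
    interval_cases x <;> simp [exs, coxEx, cox]
  have := exs_rel _ (h x hx)
  simpa [Ex.val] using this

theorem inv7_spec (x : Nat) (hx : x < 8) : inv7 x < 8 ∧ sg x * sg (inv7 x) = 1 := by
  interval_cases x
  · exact ⟨by decide, sq 0 (by decide)⟩
  · exact ⟨by decide, sq 1 (by decide)⟩
  · exact ⟨by decide, sq 2 (by decide)⟩
  · exact ⟨by decide, sq 3 (by decide)⟩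
  · exact ⟨by decide, sq 4 (by decide)⟩
  · exact ⟨by decide, sq 5 (by decide)⟩
  · refine ⟨by decide, ?_⟩
    change (PresentedGroup.of Spor.ON.Gen.g : Spor.ON) * (PresentedGroup.of Spor.ON.Gen.g)⁻¹ = 1
    exact mul_inv_cancel _
  · refine ⟨by decide, ?_⟩
    change (PresentedGroup.of Spor.ON.Gen.g : Spor.ON)⁻¹ * (PresentedGroup.of Spor.ON.Gen.g) = 1
    exact inv_mul_cancel _

/-- the relator words -/
def rels : List (List Nat) := exs.map (Ex.word inv7)

theorem lt_mono {e : Ex} (h : e.lt 7) : e.lt 8 := by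
  induction e with
  | g n => exact lt_trans (show n < 7 from h) (by decide)
  | m a b iha ihb => exact ⟨iha h.1, ihb h.2⟩
  | i a iha => exact iha h
  | p a n iha => exact iha h

theorem rels_ev : ∀ r ∈ rels, ev sg r = 1 := by
  intro r hr
  obtain ⟨e, he, rfl⟩ := List.mem_map.mp hr
  rw [Ex.ev_word (k := 8) (fun x hx => inv7_spec x hx) e (lt_mono (exs_lt e he))]
  exact exs_rel e he

theorem closure_top : Subgroup.closure (sg '' {x | x < 8}) = ⊤ := by
  rw [eq_top_iff, ← PresentedGroup.closure_range_of]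
  apply Subgroup.closure_mono
  rintro _ ⟨x, rfl⟩
  cases x
  · exact ⟨6, by simp, rfl⟩
  · exact ⟨3, by simp, rfl⟩
  · exact ⟨1, by simp, rfl⟩
  · exact ⟨5, by simp, rfl⟩
  · exact ⟨2, by simp, rfl⟩
  · exact ⟨0, by simp, rfl⟩
  · exact ⟨4, by simp, rfl⟩

/-- the subgroup words -/
def subw : List (List Nat) := [[0],[1],[2],[3],[4],[5]]

theorem subw_mem : ∀ s ∈ subw, ev sg s ∈ ONAssembly.H := by
  have h : ∀ n, n < 6 → sg n ∈ ONAssembly.H := by
    intro n hn
    rw [ONAssembly.H_eq]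
    interval_cases n
    · exact Subgroup.subset_closure ⟨5, by simp, rfl⟩
    · exact Subgroup.subset_closure ⟨4, by simp, rfl⟩
    · exact Subgroup.subset_closure ⟨1, by simp, rfl⟩
    · exact Subgroup.subset_closure ⟨2, by simp, rfl⟩
    · exact Subgroup.subset_closure ⟨3, by simp, rfl⟩
    · exact Subgroup.subset_closure ⟨0, by simp, rfl⟩
  intro s hs
  simp only [subw, List.mem_cons, List.not_mem_nil, or_false] at hs
  rcases hs with rfl | rfl | rfl | rfl | rfl | rfl
  · simpa [ev] using h 0 (by decide)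
  · simpa [ev] using h 1 (by decide)
  · simpa [ev] using h 2 (by decide)
  · simpa [ev] using h 3 (by decide)
  · simpa [ev] using h 4 (by decide)
  · simpa [ev] using h 5 (by decide)

end Cfsg.Agent.SporRec.ONIndexRel
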