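import Mathlib

/-!
Kernel-fast 45 × m matrices over the field with seven elements, packed into one natural number:
the entry `(i, j)` is the digit number `45 * j + i` in base `2 ^ 12`.
The product costs 45 multiplications of natural numbers and one simultaneous reduction.
-/

set_option autoImplicit false

namespace Cfsg.Agent.SporRec.PackSeven

/-! ### Digits -/

/-- the `k`-th digit in base `2 ^ 12` -/
def dg (X k : ℕ) : ℕ := X >>> (12 * k) % 4096

theorem testBit_dg (X k i : ℕ) :
    (dg X k).testBit i = (decide (i < 12) && X.testBit (12 * k + i)) := by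
  unfold dg
  rw [show 4096 = 2 ^ 12 by norm_num, Nat.testBit_mod_two_pow, Nat.testBit_shiftRight]

theorem dg_lt (X k : ℕ) : dg X k < 4096 := Nat.mod_lt _ (by norm_num)

theorem ext_dg {X Y : ℕ} (h : ∀ k, dg X k = dg Y k) : X = Y := by
  apply Nat.eq_of_testBit_eq
  intro i
  have h1 := congrArg (fun t => t.testBit (i % 12)) (h (i / 12))
  simp only [testBit_dg] at h1
  rw [Nat.div_add_mod] at h1
  simpa [Nat.mod_lt i (by norm_num : 12 > 0)] using h1

theorem dg_and (X Y k : ℕ) : dg (X &&& Y) k = dg X k &&& dg Y k := by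
  apply Nat.eq_of_testBit_eq
  intro i
  rw [testBit_dg, Nat.testBit_and, Nat.testBit_and, testBit_dg, testBit_dg]
  cases decide (i < 12) <;> simp

theorem dg_shift (X s k : ℕ) : dg (X >>> (12 * s)) k = dg X (k + s) := by
  unfold dg
  rw [← Nat.shiftRight_add, mul_add, add_comm]

theorem dg_shift3 (X k : ℕ) : dg (X >>> 3) k &&& 511 = dg X k / 8 := by
  apply Nat.eq_of_testBit_eq
  intro i
  rw [show 511 = 2 ^ 9 - 1 by norm_num, Nat.testBit_and, Nat.testBit_two_pow_sub_one,
    show 8 = 2 ^ 3 by norm_num, ← Nat.shiftRight_eq_div_pow, Nat.testBit_shiftRight, testBit_dg, testBit_dg,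
    Nat.testBit_shiftRight]
  by_cases h : i < 9
  · have h1 : i < 12 := by omega
    have h2 : 3 + i < 12 := by omega
    have h3 : 3 + (12 * k + i) = 12 * k + (3 + i) := by omega
    simp [h, h1, h2, h3]
  · have h2 : ¬ (3 + i < 12) := by omega
    simp [h, h2]

/-- the number with digits `f 0, f 1, …, f (n - 1)` -/
def pk : ℕ → (ℕ → ℕ) → ℕ
  | 0, _ => 0
  | n + 1, f => f 0 + 4096 * pk n (fun k => f (k + 1))

theorem dg_horner_zero {a : ℕ} (ha : a < 4096) (X : ℕ) : dg (a + 4096 * X) 0 = a := by
  unfold dg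
  rw [mul_zero, Nat.shiftRight_zero]
  omega

theorem dg_horner_succ {a : ℕ} (ha : a < 4096) (X k : ℕ) :
    dg (a + 4096 * X) (k + 1) = dg X k := by
  unfold dg
  rw [show 12 * (k + 1) = 12 + 12 * k by ring, Nat.shiftRight_add]
  congr 2
  rw [Nat.shiftRight_eq_div_pow]
  norm_num
  omega

theorem dg_zero (k : ℕ) : dg 0 k = 0 := by
  unfold dg; simp

theorem dg_pk {n : ℕ} {f : ℕ → ℕ} (hf : ∀ k < n, f k < 4096) (k : ℕ) :
    dg (pk n f) k = if k < n then f k else 0 := by
  induction n generalizing f k with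
  | zero => rw [pk, dg_zero]; simp
  | succ n ih =>
    rw [pk]
    have h0 := hf 0 (by omega)
    cases k with
    | zero => rw [dg_horner_zero h0]; simp
    | succ k =>
      rw [dg_horner_succ h0, ih (fun j hj => hf (j + 1) (by omega))]
      simp

theorem pk_congr {n : ℕ} {f g : ℕ → ℕ} (h : ∀ k < n, f k = g k) : pk n f = pk n g := by
  induction n generalizing f g with
  | zero => rfl
  | succ n ih =>
    rw [pk, pk, h 0 (by omega), ih (fun k hk => h (k + 1) (by omega))]

theorem pk_add (n : ℕ) (f g : ℕ → ℕ) : pk n f + pk n g = pk n (fun k => f k + g k) := by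
  induction n generalizing f g with
  | zero => rfl
  | succ n ih => rw [pk, pk, pk, ← ih]; ring

theorem pk_mul (n c : ℕ) (f : ℕ → ℕ) : c * pk n f = pk n (fun k => c * f k) := by
  induction n generalizing f with
  | zero => rw [pk, pk, mul_zero]
  | succ n ih => rw [pk, pk, ← ih]; ring

theorem pk_zero (n : ℕ) : pk n (fun _ => 0) = 0 := by
  induction n with
  | zero => rfl
  | succ n ih => rw [pk, ih]

theorem pk_split (n m : ℕ) (f : ℕ → ℕ) :
    pk (n + m) f = pk n f + 4096 ^ n * pk m (fun k => f (n + k)) := by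
  induction n generalizing f with
  | zero => simp [pk]
  | succ n ih =>
    rw [show n + 1 + m = n + m + 1 by omega, pk, pk, ih]
    have : (fun k => f (n + k + 1)) = fun k => f (n + 1 + k) := by
      funext k; congr 1; omega
    rw [this, pow_succ]
    ring

theorem pk_lt {n : ℕ} {f : ℕ → ℕ} (hf : ∀ k < n, f k < 4096) : pk n f < 4096 ^ n := by
  induction n generalizing f with
  | zero => simp [pk]
  | succ n ih =>
    rw [pk, pow_succ]
    have h0 := hf 0 (by omega)
    have h1 := ih (f := fun k => f (k + 1)) (fun k hk => hf (k + 1) (by omega))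
    omega

theorem dg_eq_zero_of_lt {X n : ℕ} (hX : X < 4096 ^ n) {k : ℕ} (hk : n ≤ k) : dg X k = 0 := by
  unfold dg
  rw [Nat.shiftRight_eq_div_pow, Nat.div_eq_of_lt, Nat.zero_mod]
  refine lt_of_lt_of_le hX ?_
  rw [show (4096 : ℕ) = 2 ^ 12 by norm_num, ← pow_mul]
  exact Nat.pow_le_pow_right (by norm_num) (by omega)

theorem pk_dg {X n : ℕ} (hX : X < 4096 ^ n) : pk n (dg X) = X := by
  apply ext_dg
  intro k
  rw [dg_pk (fun k _ => dg_lt X k)]
  split_ifs with h
  · rfl
  · exact (dg_eq_zero_of_lt hX (by omega)).symm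

/-! ### Masks -/

/-- `1 + B + B ^ 2 + … + B ^ (n - 1)` -/
def ones (n : ℕ) : ℕ := (4096 ^ n - 1) / 4095

theorem ones_eq (n : ℕ) : ones n = pk n (fun _ => 1) := by
  have h : 4095 * pk n (fun _ => 1) + 1 = 4096 ^ n := by
    induction n with
    | zero => rfl
    | succ n ih => rw [pk, pow_succ, ← ih]; ring
  unfold ones
  omega

theorem dg_cones (n c : ℕ) (hc : c < 4096) (k : ℕ) :
    dg (c * ones n) k = if k < n then c else 0 := by
  rw [ones_eq, pk_mul, dg_pk (by simpa using fun _ _ => hc)]
  simp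

/-- `1` at the positions `0, 45, …, 45 * (m - 1)` -/
def strides (m : ℕ) : ℕ := (4096 ^ (45 * m) - 1) / (4096 ^ 45 - 1)

theorem strides_eq (m : ℕ) :
    strides m = pk (45 * m) (fun k => if k % 45 = 0 then 1 else 0) := by
  have h : (4096 ^ 45 - 1) * pk (45 * m) (fun k => if k % 45 = 0 then 1 else 0) + 1 =
      4096 ^ (45 * m) := by
    induction m with
    | zero => rfl
    | succ m ih =>
      rw [show 45 * (m + 1) = 45 + 45 * m by ring, pk_split]
      have e1 : pk 45 (fun k => if k % 45 = 0 then 1 else 0) = 1 := by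
        decide
      have e2 : (fun k => if (45 + k) % 45 = 0 then 1 else 0) =
          fun k => if k % 45 = 0 then 1 else 0 := by
        funext k
        rw [Nat.add_mod_left]
      rw [e1, e2, pow_add, ← ih]
      generalize pk (45 * m) (fun k => if k % 45 = 0 then 1 else 0) = P
      have : (4096 : ℕ) ^ 45 ≥ 1 := Nat.one_le_pow _ _ (by norm_num)
      obtain ⟨q, hq⟩ : ∃ q, (4096 : ℕ) ^ 45 = q + 1 := ⟨4096 ^ 45 - 1, by omega⟩
      rw [hq]
      simp only [Nat.add_sub_cancel]
      ring
  have hpos : 0 < 4096 ^ 45 - 1 := by norm_num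
  unfold strides
  rw [← h, Nat.add_sub_cancel, Nat.mul_div_cancel_left _ hpos]

/-! ### Reduction -/

/-- `force n f` is `f n`, but the kernel evaluates `n` to a literal before it substitutes it. -/
@[reducible] def force {α : Sort _} (n : ℕ) (f : ℕ → α) : α :=
  Nat.rec (f 0) (fun k _ => f (Nat.succ k)) n

theorem force_eq {α : Sort _} (n : ℕ) (f : ℕ → α) : force n f = f n := by
  cases n <;> rfl

/-- one folding step (`o = ones N`) -/
def fold (o X : ℕ) : ℕ :=
  Nat.add (Nat.land X (Nat.mul 7 o)) (Nat.land (Nat.shiftRight X 3) (Nat.mul 511 o))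

/-- the last step: replace the digits 7 by 0 -/
def fin7 (o X : ℕ) : ℕ :=
  Nat.sub X (Nat.mul 7 (Nat.land (Nat.shiftRight (Nat.add X o) 3) o))

/-- simultaneous reduction of `N` digits modulo 7 (`o = ones N`) -/
def red (o X : ℕ) : ℕ :=
  force (fold o X) fun X1 => force (fold o X1) fun X2 => force (fold o X2) fun X3 =>
    force (fold o X3) fun X4 => force (fold o X4) fun X5 => fin7 o X5

theorem and_seven (d : ℕ) : d &&& 7 = d % 8 := by
  have := Nat.and_two_pow_sub_one_eq_mod d 3
  simpa using this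

theorem fold_eq (N : ℕ) (X : ℕ) :
    fold (ones N) X = pk N (fun k => dg X k % 8 + dg X k / 8) := by
  have e : fold (ones N) X = (X &&& (7 * ones N)) + ((X >>> 3) &&& (511 * ones N)) := rfl
  rw [e, ← pk_add]
  congr 1
  · apply ext_dg
    intro k
    rw [dg_and, dg_cones _ _ (by norm_num), dg_pk (fun k _ => by omega)]
    split_ifs with h
    · exact and_seven _
    · simp
  · apply ext_dg
    intro k
    rw [dg_and, dg_cones _ _ (by norm_num),
      dg_pk (fun k _ => by have := dg_lt X k; omega)]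
    split_ifs with h
    · exact dg_shift3 _ _
    · simp

theorem pk_sub {n : ℕ} {f g : ℕ → ℕ} (h : ∀ k < n, g k ≤ f k) :
    pk n f - pk n g = pk n (fun k => f k - g k) := by
  have e : pk n f = pk n (fun k => f k - g k) + pk n g := by
    rw [pk_add]
    exact pk_congr (fun k hk => by have := h k hk; omega)
  rw [e, Nat.add_sub_cancel]

theorem fin7_eq (N : ℕ) (f : ℕ → ℕ) (hf : ∀ k < N, f k ≤ 7) :
    fin7 (ones N) (pk N f) = pk N (fun k => f k % 7) := by
  have e : fin7 (ones N) (pk N f) =
      pk N f - 7 * (((pk N f + ones N) >>> 3) &&& ones N) := rfl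
  have e1 : ((pk N f + ones N) >>> 3) &&& ones N = pk N (fun k => f k / 7) := by
    apply ext_dg
    intro k
    have h1 : dg (ones N) k = if k < N then 1 else 0 := by
      have := dg_cones N 1 (by norm_num) k
      rwa [one_mul] at this
    rw [dg_and, h1, dg_pk (fun k hk => by have := hf k hk; omega)]
    split_ifs with h
    · have h2 := dg_shift3 (pk N f + ones N) k
      have h3 : pk N f + ones N = pk N (fun k => f k + 1) := by rw [ones_eq, pk_add]
      have h4 : dg (pk N f + ones N) k = f k + 1 := by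
        rw [h3, dg_pk (fun k hk => by have := hf k hk; omega), if_pos h]
      have h5 := hf k h
      have h6 : dg ((pk N f + ones N) >>> 3) k &&& 1 =
          (dg ((pk N f + ones N) >>> 3) k &&& 511) &&& 1 := by
        rw [Nat.and_assoc, show (511 &&& 1 : ℕ) = 1 from rfl]
      rw [h6, h2, h4]
      interval_cases (f k) <;> rfl
    · simp
  rw [e, e1, pk_mul, pk_sub (fun k hk => by have := hf k hk; omega)]
  exact pk_congr (fun k hk => by have := hf k hk; omega)

/-- the digit map of a folding step -/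
def rho (d : ℕ) : ℕ := d % 8 + d / 8

theorem rho_five : ∀ d < 4096, rho (rho (rho (rho (rho d)))) ≤ 7 ∧
    rho (rho (rho (rho (rho d)))) % 7 = d % 7 := by
  intro d hd
  have h (d : ℕ) : rho d % 7 = d % 7 := by unfold rho; omega
  refine ⟨?_, by rw [h, h, h, h, h]⟩
  have h1 : rho d ≤ 518 := by unfold rho; omega
  generalize rho d = d1 at h1 ⊢
  have h2 : rho d1 ≤ 71 := by unfold rho; omega
  generalize rho d1 = d2 at h2 ⊢
  have h3 : rho d2 ≤ 15 := by unfold rho; omega
  generalize rho d2 = d3 at h3 ⊢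
  have h4 : rho d3 ≤ 8 := by unfold rho; omega
  generalize rho d3 = d4 at h4 ⊢
  unfold rho; omega

theorem red_eq (N : ℕ) (X : ℕ) : red (ones N) X = pk N (fun k => dg X k % 7) := by
  have hρ : ∀ d < 4096, rho d < 4096 := by intro d hd; unfold rho; omega
  have hf : ∀ f : ℕ → ℕ, (∀ k < N, f k < 4096) → fold (ones N) (pk N f) = pk N (fun k => rho (f k)) := by
    intro f hf
    rw [fold_eq]
    apply pk_congr
    intro k hk
    rw [dg_pk hf, if_pos hk]
    rfl
  unfold red
  rw [force_eq, force_eq, force_eq, force_eq, force_eq, fold_eq N X]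
  change fin7 (ones N) (fold (ones N) (fold (ones N) (fold (ones N) (fold (ones N)
    (pk N (fun k => rho (dg X k))))))) = _
  have h1 : ∀ k < N, rho (dg X k) < 4096 := fun k _ => hρ _ (dg_lt X k)
  have h2 : ∀ k < N, rho (rho (dg X k)) < 4096 := fun k hk => hρ _ (h1 k hk)
  have h3 : ∀ k < N, rho (rho (rho (dg X k))) < 4096 := fun k hk => hρ _ (h2 k hk)
  have h4 : ∀ k < N, rho (rho (rho (rho (dg X k)))) < 4096 := fun k hk => hρ _ (h3 k hk)
  rw [hf _ h1, hf _ h2, hf _ h3, hf _ h4, fin7_eq N _ (fun k _ => (rho_five _ (dg_lt X k)).1)]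
  exact pk_congr (fun k _ => (rho_five _ (dg_lt X k)).2)

/-! ### Products -/

/-- the sum of the 45 rank one matrices -/
def raw (s cm A X : ℕ) (n : ℕ) : ℕ :=
  Nat.rec (motive := fun _ => ℕ) 0 (fun k ih => Nat.add ih
    (Nat.mul (Nat.land (Nat.shiftRight X (Nat.mul 12 k)) s)
      (Nat.land (Nat.shiftRight A (Nat.mul 540 k)) cm))) n

/-- the mask of a column -/
def colMask : ℕ := Nat.mul 4095 (ones 45)

/-- packed product of a `45 × 45` matrix and a `45 × m` matrix -/
def mulP (m A X : ℕ) : ℕ :=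
  force A fun A => force X fun X =>
    force (Nat.mul 4095 (strides m)) fun s =>
      red (ones (Nat.mul 45 m)) (raw s colMask A X 45)

theorem raw_eq (s cm A X n : ℕ) : raw s cm A X n =
    ∑ k ∈ Finset.range n, ((X >>> (12 * k)) &&& s) * ((A >>> (540 * k)) &&& cm) := by
  induction n with
  | zero => rfl
  | succ n ih =>
    rw [Finset.sum_range_succ, ← ih]
    rfl

theorem mask_col (A k : ℕ) :
    (A >>> (540 * k)) &&& colMask = pk 45 (fun i => dg A (45 * k + i)) := by
  apply ext_dg
  intro t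
  have h1 : colMask = 4095 * ones 45 := rfl
  rw [dg_and, h1, dg_cones _ _ (by norm_num), show 540 * k = 12 * (45 * k) by ring, dg_shift,
    dg_pk (fun k _ => dg_lt _ _)]
  split_ifs with h
  · rw [add_comm t, show 4095 = 2 ^ 12 - 1 by norm_num, Nat.and_two_pow_sub_one_eq_mod,
      Nat.mod_eq_of_lt (dg_lt _ _)]
  · simp

theorem mask_stride (X k m : ℕ) :
    (X >>> (12 * k)) &&& (4095 * strides m) =
      pk (45 * m) (fun t => if t % 45 = 0 then dg X (t + k) else 0) := by
  apply ext_dg
  intro t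
  rw [dg_and, strides_eq, pk_mul, dg_shift, dg_pk (fun k _ => by split_ifs <;> simp),
    dg_pk (fun k _ => by split_ifs; exacts [dg_lt _ _, by norm_num])]
  by_cases h : t < 45 * m
  · rw [if_pos h, if_pos h]
    split_ifs with h2
    · rw [mul_one, show 4095 = 2 ^ 12 - 1 by norm_num, Nat.and_two_pow_sub_one_eq_mod,
        Nat.mod_eq_of_lt (dg_lt _ _)]
    · simp
  · rw [if_neg h, if_neg h]; simp

theorem pk_first {N : ℕ} (hN : 0 < N) (x : ℕ → ℕ) (k : ℕ) :
    pk N (fun t => if t % N = 0 then x (t + k) else 0) = x k := by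
  obtain ⟨n, rfl⟩ : ∃ n, N = n + 1 := ⟨N - 1, by omega⟩
  rw [pk, Nat.zero_mod, if_pos rfl, zero_add]
  have : pk n (fun t => if (t + 1) % (n + 1) = 0 then x (t + 1 + k) else 0) = pk n (fun _ => 0) := by
    apply pk_congr
    intro t ht
    rw [Nat.mod_eq_of_lt (by omega), if_neg (by omega)]
  rw [this, pk_zero, mul_zero, add_zero]

theorem pk_sum {ι : Type*} (s : Finset ι) (n : ℕ) (f : ι → ℕ → ℕ) :
    ∑ i ∈ s, pk n (f i) = pk n (fun k => ∑ i ∈ s, f i k) := by
  classical
  induction s using Finset.induction_on with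
  | empty => simp [pk_zero]
  | insert a s ha ih =>
    rw [Finset.sum_insert ha, ih, pk_add]
    apply pk_congr
    intro k _
    rw [Finset.sum_insert ha]

/-- the digits of the raw product -/
theorem raw_digits {N : ℕ} (hN : 0 < N) (a : ℕ → ℕ → ℕ) (x : ℕ → ℕ) (m : ℕ) :
    ∑ k ∈ Finset.range N, pk (N * m) (fun t => if t % N = 0 then x (t + k) else 0) *
      pk N (fun i => a k i) =
    pk (N * m) (fun t => ∑ k ∈ Finset.range N, x (N * (t / N) + k) * a k (t % N)) := by
  induction m generalizing x with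
  | zero => simp [pk]
  | succ m ih =>
    have e0 : N * (m + 1) = N + N * m := by ring
    have e1 : ∀ k, pk (N * (m + 1)) (fun t => if t % N = 0 then x (t + k) else 0) =
        x k + 4096 ^ N * pk (N * m) (fun t => if t % N = 0 then x (N + (t + k)) else 0) := by
      intro k
      rw [e0, pk_split N (N * m), pk_first hN x k]
      congr 2
      apply pk_congr
      intro t _
      rw [Nat.add_mod_left, add_assoc]
    have ih' := ih (fun t => x (N + t))
    have e2 : ∀ k ∈ Finset.range N,
        pk (N * (m + 1)) (fun t => if t % N = 0 then x (t + k) else 0) * pk N (fun i => a k i) =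
        pk N (fun i => x k * a k i) + 4096 ^ N *
          (pk (N * m) (fun t => if t % N = 0 then x (N + (t + k)) else 0) * pk N (fun i => a k i)) := by
      intro k _
      rw [e1 k, add_mul, pk_mul, mul_assoc]
    rw [Finset.sum_congr rfl e2, Finset.sum_add_distrib, ← Finset.mul_sum, ih', pk_sum, e0,
      pk_split N (N * m)]
    congr 1
    · apply pk_congr
      intro t ht
      apply Finset.sum_congr rfl
      intro k _
      rw [Nat.div_eq_of_lt ht, Nat.mod_eq_of_lt ht, mul_zero, zero_add]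
    · congr 1
      apply pk_congr
      intro t _
      apply Finset.sum_congr rfl
      intro k _
      have h1 : (N + t) / N = t / N + 1 := by
        rw [Nat.add_div_left _ hN]
      have h2 : (N + t) % N = t % N := Nat.add_mod_left _ _
      rw [h1, h2]
      congr 2
      ring

/-- a well-formed packed matrix with `m` columns -/
structure Ok (m X : ℕ) : Prop where
  lt : X < 4096 ^ (45 * m)
  le : ∀ k, dg X k ≤ 6

theorem Ok.of_pk {m : ℕ} {f : ℕ → ℕ} (hf : ∀ k < 45 * m, f k ≤ 6) : Ok m (pk (45 * m) f) := by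
  have h : ∀ k < 45 * m, f k < 4096 := fun k hk => by have := hf k hk; omega
  refine ⟨pk_lt h, fun k => ?_⟩
  rw [dg_pk h]
  split_ifs with h1
  · exact hf k h1
  · omega

theorem ok_red (m X : ℕ) : Ok m (red (ones (45 * m)) X) := by
  rw [red_eq]
  exact Ok.of_pk (fun k _ => by omega)

/-- kernel test for `Ok` -/
def okB (m X : ℕ) : Bool := Nat.beq (red (ones (Nat.mul 45 m)) X) X

theorem ok_of_okB {m X : ℕ} (h : okB m X = true) : Ok m X := by
  have e := Nat.eq_of_beq_eq_true h
  rw [← e]
  exact ok_red m X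

theorem ok_mulP (m A X : ℕ) : Ok m (mulP m A X) := by
  unfold mulP
  rw [force_eq, force_eq, force_eq]
  exact ok_red m _

/-- entry -/
def ent (X i j : ℕ) : ℕ := dg X (45 * j + i)

theorem mulP_def (m A X : ℕ) :
    mulP m A X = red (ones (45 * m)) (raw (4095 * strides m) colMask A X 45) := by
  unfold mulP
  rw [force_eq, force_eq, force_eq]
  rfl

theorem raw_eq_pk (m A X : ℕ) : raw (4095 * strides m) colMask A X 45 =
    pk (45 * m) (fun t => ∑ k ∈ Finset.range 45, dg X (45 * (t / 45) + k) * dg A (45 * k + t % 45)) := by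
  rw [raw_eq, ← raw_digits (by norm_num : 0 < 45) (fun k i => dg A (45 * k + i)) (dg X) m]
  apply Finset.sum_congr rfl
  intro k _
  rw [mask_col, mask_stride]

theorem sum_lt {m A X : ℕ} (hA : Ok 45 A) (hX : Ok m X) (t : ℕ) :
    ∑ k ∈ Finset.range 45, dg X (45 * (t / 45) + k) * dg A (45 * k + t % 45) < 4096 := by
  have h : ∑ k ∈ Finset.range 45, dg X (45 * (t / 45) + k) * dg A (45 * k + t % 45) ≤
      ∑ k ∈ Finset.range 45, 36 :=
    Finset.sum_le_sum (fun k _ => Nat.mul_le_mul (hX.le _) (hA.le _))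
  rw [Finset.sum_const, Finset.card_range, smul_eq_mul] at h
  omega

theorem dg_raw {m A X : ℕ} (hA : Ok 45 A) (hX : Ok m X) (t : ℕ) (ht : t < 45 * m) :
    dg (raw (4095 * strides m) colMask A X 45) t =
      ∑ k ∈ Finset.range 45, dg X (45 * (t / 45) + k) * dg A (45 * k + t % 45) := by
  rw [raw_eq_pk]
  have h := dg_pk (n := 45 * m)
    (f := fun t => ∑ k ∈ Finset.range 45, dg X (45 * (t / 45) + k) * dg A (45 * k + t % 45))
    (fun t _ => sum_lt hA hX t) t
  rw [h, if_pos ht]

theorem dg_mulP' {m A X : ℕ} (hA : Ok 45 A) (hX : Ok m X) (t : ℕ) (ht : t < 45 * m) :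
    dg (mulP m A X) t =
      (∑ k ∈ Finset.range 45, dg X (45 * (t / 45) + k) * dg A (45 * k + t % 45)) % 7 := by
  rw [mulP_def, red_eq]
  have h := dg_pk (n := 45 * m) (f := fun k => dg (raw (4095 * strides m) colMask A X 45) k % 7)
    (fun k _ => lt_of_lt_of_le (Nat.mod_lt _ (by norm_num)) (by norm_num)) t
  rw [h, if_pos ht, dg_raw hA hX t ht]

theorem index_lt {i j m : ℕ} (hi : i < 45) (hj : j < m) : 45 * j + i < 45 * m := by omega

theorem index_div {i j : ℕ} (hi : i < 45) : (45 * j + i) / 45 = j := by omega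

theorem index_mod {i j : ℕ} (hi : i < 45) : (45 * j + i) % 45 = i := by omega

theorem dg_mulP {m A X : ℕ} (hA : Ok 45 A) (hX : Ok m X) (i j : ℕ) (hi : i < 45) (hj : j < m) :
    ent (mulP m A X) i j = (∑ k ∈ Finset.range 45, ent A i k * ent X k j) % 7 := by
  have h := dg_mulP' hA hX (45 * j + i) (index_lt hi hj)
  rw [index_div hi, index_mod hi] at h
  have e : ∑ k ∈ Finset.range 45, ent A i k * ent X k j =
      ∑ k ∈ Finset.range 45, dg X (45 * j + k) * dg A (45 * k + i) :=
    Finset.sum_congr rfl (fun k _ => mul_comm _ _)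
  rw [e, ← h]
  rfl

/-- the matrix coded by `X` -/
def toMat (m X : ℕ) : Matrix (Fin 45) (Fin m) (ZMod 7) := fun i j => (ent X i j : ZMod 7)

theorem toMat_apply (m X : ℕ) (i : Fin 45) (j : Fin m) :
    toMat m X i j = (ent X i j : ZMod 7) := rfl

theorem toMat_mulP {m A X : ℕ} (hA : Ok 45 A) (hX : Ok m X) :
    toMat m (mulP m A X) = toMat 45 A * toMat m X := by
  ext i j
  rw [toMat_apply, dg_mulP hA hX i j i.2 j.2, Matrix.mul_apply]
  have h7 : ∀ n : ℕ, ((n % 7 : ℕ) : ZMod 7) = (n : ZMod 7) := fun n => by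
    rw [ZMod.natCast_mod]
  rw [h7, Nat.cast_sum, Finset.sum_range]
  apply Finset.sum_congr rfl
  intro k _
  rw [Nat.cast_mul, toMat_apply, toMat_apply]

theorem toMat_inj {m X Y : ℕ} (hX : Ok m X) (hY : Ok m Y) (h : toMat m X = toMat m Y) : X = Y := by
  apply ext_dg
  intro k
  by_cases hk : k < 45 * m
  · have hj : k / 45 < m := by omega
    have hi : k % 45 < 45 := by omega
    have h1 := congrFun (congrFun h ⟨k % 45, hi⟩) ⟨k / 45, hj⟩
    rw [toMat_apply, toMat_apply] at h1
    simp only [ent] at h1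
    rw [Nat.div_add_mod] at h1
    have h2 : dg X k % 7 = dg Y k % 7 := (ZMod.natCast_eq_natCast_iff' _ _ _).1 h1
    have h3 := hX.le k
    have h4 := hY.le k
    omega
  · rw [dg_eq_zero_of_lt hX.lt (by omega), dg_eq_zero_of_lt hY.lt (by omega)]

end Cfsg.Agent.SporRec.PackSeven
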