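import Cfsg.Agent.SporRec.PackSeven

/-!
Orbits of matrix groups over the field with seven elements on packed column vectors: a kernel check which
shows that the orbit of a vector has exactly `m` elements, hence `m` divides the order of the group.
-/

set_option autoImplicit false

namespace Cfsg.Agent.SporRec.PackSevenOrb

open scoped Pointwise
open Cfsg.Agent.SporRec.PackSeven

/-! ### Orbits, abstractly -/

theorem card_dvd_of_orbit {G V : Type*} [Group G] [Finite G] [MulAction G V] (S : Set G)
    (hS : Subgroup.closure S = ⊤) {m : ℕ} (hm : 0 < m) (v : Fin m → V) (hv : Function.Injective v)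
    (hmap : ∀ s ∈ S, ∀ j, ∃ k, s • v j = v k)
    (hconn : ∀ j : Fin m, (j : ℕ) ≠ 0 → ∃ s ∈ S, ∃ k : Fin m, k < j ∧ s • v k = v j) :
    m ∣ Nat.card G := by
  classical
  let R : Set V := Set.range v
  have hRfin : R.Finite := Set.finite_range v
  have hstab : ∀ s ∈ S, s ∈ MulAction.stabilizer G R := by
    intro s hs
    rw [MulAction.mem_stabilizer_iff]
    apply Set.eq_of_subset_of_ncard_le _ _ hRfin
    · rintro _ ⟨_, ⟨j, rfl⟩, rfl⟩
      obtain ⟨k, hk⟩ := hmap s hs j
      exact ⟨k, hk.symm⟩
    · rw [← Set.ncard_image_of_injective R (MulAction.injective s)]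
      exact le_rfl
  have htop : MulAction.stabilizer G R = ⊤ := by
    rw [eq_top_iff, ← hS, Subgroup.closure_le]
    exact hstab
  have horb : MulAction.orbit G (v ⟨0, hm⟩) = R := by
    apply Set.Subset.antisymm
    · rintro _ ⟨g, rfl⟩
      have hg : g ∈ MulAction.stabilizer G R := by rw [htop]; trivial
      rw [MulAction.mem_stabilizer_iff] at hg
      change g • v ⟨0, hm⟩ ∈ R
      rw [← hg]
      exact Set.smul_mem_smul_set ⟨_, rfl⟩
    · have key : ∀ n : ℕ, ∀ h : n < m, v ⟨n, h⟩ ∈ MulAction.orbit G (v ⟨0, hm⟩) := by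
        intro n
        induction n using Nat.strong_induction_on with
        | _ n ih =>
          intro h
          by_cases h0 : n = 0
          · subst h0; exact MulAction.mem_orbit_self _
          · obtain ⟨s, _, k, hk, hsk⟩ := hconn ⟨n, h⟩ h0
            obtain ⟨g, hg⟩ := ih k hk k.2
            refine ⟨s * g, ?_⟩
            change (s * g) • v ⟨0, hm⟩ = _
            have hg' : g • v ⟨0, hm⟩ = v k := hg
            rw [mul_smul, hg', hsk]
      rintro _ ⟨j, rfl⟩
      exact key j j.2
  have hcard : Nat.card (MulAction.orbit G (v ⟨0, hm⟩)) = m := by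
    rw [horb]
    change Nat.card (Set.range v) = m
    rw [Nat.card_range_of_injective hv, Nat.card_eq_fintype_card, Fintype.card_fin]
  have h := MulAction.index_stabilizer G (v ⟨0, hm⟩)
  rw [← hcard, Nat.card_coe_set_eq, ← h]
  exact Subgroup.index_dvd_card _

/-- the same for the subgroup generated by `S` -/
theorem card_closure_dvd_of_orbit {G V : Type*} [Group G] [Finite G] (act : MulAction G V) (S : Set G)
    {m : ℕ} (hm : 0 < m) (v : Fin m → V) (hv : Function.Injective v)
    (hmap : ∀ s ∈ S, ∀ j, ∃ k, act.smul s (v j) = v k)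
    (hconn : ∀ j : Fin m, (j : ℕ) ≠ 0 → ∃ s ∈ S, ∃ k : Fin m, k < j ∧ act.smul s (v k) = v j) :
    m ∣ Nat.card (Subgroup.closure S) := by
  let _ := act
  have hcl : Subgroup.closure (Subtype.val ⁻¹' S : Set (Subgroup.closure S)) = ⊤ :=
    Subgroup.closure_closure_coe_preimage
  refine card_dvd_of_orbit (G := Subgroup.closure S) (V := V) _ hcl hm v hv ?_ ?_
  · intro s hs j
    exact hmap s.1 hs j
  · intro j hj
    obtain ⟨g, hg, k, hk, he⟩ := hconn j hj
    exact ⟨⟨g, Subgroup.subset_closure hg⟩, hg, k, hk, he⟩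

/-! ### Kernel functions -/

/-- `f j` for all `j < n` -/
def allB (f : ℕ → Bool) (n : ℕ) : Bool :=
  Nat.rec (motive := fun _ => Bool) true (fun j ih => Bool.rec false ih (f j)) n

theorem allB_spec {f : ℕ → Bool} {n : ℕ} (h : allB f n = true) : ∀ j < n, f j = true := by
  induction n with
  | zero => intro j hj; omega
  | succ n ih =>
    have e : allB f (n + 1) = (Bool.rec false (allB f n) (f n) : Bool) := rfl
    rw [e] at h
    intro j hj
    cases hf : f n with
    | false => rw [hf] at h; exact absurd h (by simp)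
    | true =>
      rw [hf] at h
      by_cases hjn : j = n
      · rw [hjn, hf]
      · exact ih h j (by omega)

/-- entry of a table with entries of 12 bits -/
def tb (T j : ℕ) : ℕ := Nat.land (Nat.shiftRight T (Nat.mul 12 j)) 4095

/-- the `j`-th column as a packed number -/
def colN (X j : ℕ) : ℕ := Nat.land (Nat.shiftRight X (Nat.mul 540 j)) colMask

theorem colN_eq (X j : ℕ) : colN X j = pk 45 (fun i => dg X (45 * j + i)) := mask_col X j

theorem ent_eq_of_colN {X Y i j k : ℕ} (hi : i < 45) (h : colN X j = colN Y k) :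
    ent X i j = ent Y i k := by
  rw [colN_eq, colN_eq] at h
  have h1 := congrArg (fun t => dg t i) h
  change dg (pk 45 _) i = dg (pk 45 _) i at h1
  rw [dg_pk (fun k _ => dg_lt _ _), dg_pk (fun k _ => dg_lt _ _), if_pos hi, if_pos hi] at h1
  exact h1

theorem colN_eq_of_ent {X Y j k : ℕ} (h : ∀ i < 45, ent X i j = ent Y i k) :
    colN X j = colN Y k := by
  rw [colN_eq, colN_eq]
  exact pk_congr (fun i hi => h i hi)

/-- column vector -/
def col (m X : ℕ) (j : Fin m) : Fin 45 → ZMod 7 := fun i => (ent X i j : ZMod 7)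

theorem col_eq_of_colN {m X Y : ℕ} {j k : Fin m} (h : colN X j = colN Y k) :
    col m X j = col m Y k := by
  funext i
  unfold col
  rw [ent_eq_of_colN i.2 h]

theorem colN_eq_of_col {m X Y : ℕ} (hX : Ok m X) (hY : Ok m Y) {j k : Fin m}
    (h : col m X j = col m Y k) : colN X j = colN Y k := by
  apply colN_eq_of_ent
  intro i hi
  have h1 : (ent X i j : ZMod 7) = (ent Y i k : ZMod 7) := congrFun h ⟨i, hi⟩
  have h2 := (ZMod.natCast_eq_natCast_iff' _ _ _).1 h1
  have h3 : ent X i j ≤ 6 := hX.le _
  have h4 : ent Y i k ≤ 6 := hY.le _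
  omega

theorem mulVec_col {m A X : ℕ} (hA : Ok 45 A) (hX : Ok m X) (j : Fin m) :
    Matrix.mulVec (toMat 45 A) (col m X j) = col m (mulP m A X) j := by
  funext i
  have h := congrFun (congrFun (toMat_mulP hA hX) i) j
  rw [Matrix.mul_apply] at h
  change _ = toMat m (mulP m A X) i j
  rw [h]
  rfl

/-- the matrix `A` permutes the columns of `X` according to the table `T` -/
def permB (m X A T : ℕ) : Bool :=
  force (mulP m A X) fun Y => allB (fun j =>
    Bool.rec false (Nat.beq (colN Y j) (colN X (tb T j))) (Nat.ble (Nat.succ (tb T j)) m)) m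

theorem permB_spec {m X A T : ℕ} (h : permB m X A T = true) (j : ℕ) (hj : j < m) :
    tb T j < m ∧ colN (mulP m A X) j = colN X (tb T j) := by
  unfold permB at h
  rw [force_eq] at h
  have h1 := allB_spec h j hj
  cases hb : Nat.ble (Nat.succ (tb T j)) m with
  | false => rw [hb] at h1; exact absurd h1 (by simp)
  | true =>
    rw [hb] at h1
    exact ⟨Nat.le_of_ble_eq_true hb, Nat.eq_of_beq_eq_true h1⟩

/-- the columns of `X`, in the order given by the table `σ`, are strictly increasing -/
def sortB (m X σ : ℕ) : Bool :=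
  Bool.rec false (allB (fun j => Nat.ble (Nat.succ (colN X (tb σ j))) (colN X (tb σ (Nat.succ j)))) (Nat.pred m))
    (allB (fun j => Nat.ble (Nat.succ (tb σ j)) m) m)

theorem sortB_spec {m X σ : ℕ} (h : sortB m X σ = true) (j k : ℕ) (hj : j < m) (hk : k < m)
    (hjk : colN X j = colN X k) : j = k := by
  unfold sortB at h
  cases hb : allB (fun j => Nat.ble (Nat.succ (tb σ j)) m) m with
  | false => rw [hb] at h; exact absurd h (by simp)
  | true =>
    rw [hb] at h
    have h1 : ∀ j < m, tb σ j < m := fun j hj => Nat.le_of_ble_eq_true (allB_spec hb j hj)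
    have h2 : ∀ j < m - 1, colN X (tb σ j) < colN X (tb σ (j + 1)) := fun j hj =>
      Nat.le_of_ble_eq_true (allB_spec h j hj)
    have h3 : ∀ a b, a < b → b < m → colN X (tb σ a) < colN X (tb σ b) := by
      intro a b hab hbm
      induction b with
      | zero => omega
      | succ b ih =>
        have h4 := h2 b (by omega)
        by_cases hab' : a = b
        · rw [hab']; exact h4
        · exact lt_trans (ih (by omega) (by omega)) h4
    let f : Fin m → Fin m := fun j => ⟨tb σ j, h1 j j.2⟩
    have hf : Function.Injective f := by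
      intro a b hab
      have hab' : tb σ a = tb σ b := congrArg Fin.val hab
      rcases lt_trichotomy (a : ℕ) b with hlt | heq | hgt
      · have := h3 a b hlt b.2
        rw [hab'] at this
        omega
      · exact Fin.ext heq
      · have := h3 b a hgt a.2
        rw [hab'] at this
        omega
    have hsur : Function.Surjective f := Finite.injective_iff_surjective.1 hf
    obtain ⟨a, ha⟩ := hsur ⟨j, hj⟩
    obtain ⟨b, hb'⟩ := hsur ⟨k, hk⟩
    have ha' : tb σ a = j := congrArg Fin.val ha
    have hb'' : tb σ b = k := congrArg Fin.val hb'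
    rw [← ha', ← hb''] at hjk ⊢
    rcases lt_trichotomy (a : ℕ) b with hlt | heq | hgt
    · have := h3 a b hlt b.2
      omega
    · rw [heq]
    · have := h3 b a hgt a.2
      omega

/-- the table of the generator number `i` -/
def tnth (L : List ℕ) (i : ℕ) : ℕ :=
  List.rec (motive := fun _ => ℕ → ℕ) (fun _ => 0)
    (fun T _ ih i => Nat.rec (motive := fun _ => ℕ) T (fun i' _ => ih i') i) L i

theorem tnth_nil (i : ℕ) : tnth [] i = 0 := rfl
theorem tnth_zero (T : ℕ) (L : List ℕ) : tnth (T :: L) 0 = T := rfl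
theorem tnth_succ (T : ℕ) (L : List ℕ) (i : ℕ) : tnth (T :: L) (i + 1) = tnth L i := rfl

/-- every column `j > 0` is the image of an earlier column under a generator; the entry `j` of `P` is the
number of the earlier column, the entry `j` of `I` the number of the generator. -/
def connB (m : ℕ) (L : List ℕ) (P I : ℕ) : Bool :=
  allB (fun j => Bool.rec (Bool.rec false
      (Bool.rec false (Nat.beq (tb (tnth L (tb I j)) (tb P j)) j)
        (Nat.ble (Nat.succ (tb I j)) (List.length L)))
      (Nat.ble (Nat.succ (tb P j)) j)) true (Nat.beq j 0)) m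

theorem connB_spec {m : ℕ} {L : List ℕ} {P I : ℕ} (h : connB m L P I = true) (j : ℕ) (hj : j < m)
    (h0 : j ≠ 0) : ∃ i < L.length, ∃ k < j, tb (tnth L i) k = j := by
  have h1 := allB_spec h j hj
  cases hb : Nat.beq j 0 with
  | true => exact absurd (Nat.eq_of_beq_eq_true hb) h0
  | false =>
    rw [hb] at h1
    cases hc : Nat.ble (Nat.succ (tb P j)) j with
    | false => rw [hc] at h1; exact absurd h1 (by simp)
    | true =>
      rw [hc] at h1
      cases hd : Nat.ble (Nat.succ (tb I j)) (List.length L) with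
      | false => rw [hd] at h1; exact absurd h1 (by simp)
      | true =>
        rw [hd] at h1
        exact ⟨tb I j, Nat.le_of_ble_eq_true hd, tb P j, Nat.le_of_ble_eq_true hc,
          Nat.eq_of_beq_eq_true h1⟩

theorem tnth_mem {L : List ℕ} {i : ℕ} (hi : i < L.length) : tnth L i ∈ L := by
  induction L generalizing i with
  | nil => simp at hi
  | cons T L ih =>
    cases i with
    | zero => rw [tnth_zero]; exact List.mem_cons_self
    | succ i =>
      rw [tnth_succ]
      exact List.mem_cons_of_mem _ (ih (by simpa using hi))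

/-- the whole check: generators with tables -/
def orbB (m X : ℕ) (L : List (ℕ × ℕ)) (P I σ : ℕ) : Bool :=
  Bool.rec false (Bool.rec false (Bool.rec false
    (List.rec (motive := fun _ => Bool) true (fun p _ ih => Bool.rec false ih (permB m X p.1 p.2)) L)
    (connB m (L.map Prod.snd) P I)) (sortB m X σ)) (okB m X)

theorem orbB_spec {m X : ℕ} {L : List (ℕ × ℕ)} {P I σ : ℕ} (h : orbB m X L P I σ = true) :
    Ok m X ∧ sortB m X σ = true ∧ connB m (L.map Prod.snd) P I = true ∧
      ∀ p ∈ L, permB m X p.1 p.2 = true := by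
  unfold orbB at h
  cases h1 : okB m X with
  | false => rw [h1] at h; exact absurd h (by simp)
  | true =>
    rw [h1] at h
    cases h2 : sortB m X σ with
    | false => rw [h2] at h; exact absurd h (by simp)
    | true =>
      rw [h2] at h
      cases h3 : connB m (L.map Prod.snd) P I with
      | false => rw [h3] at h; exact absurd h (by simp)
      | true =>
        rw [h3] at h
        refine ⟨ok_of_okB h1, rfl, rfl, ?_⟩
        change (List.rec (motive := fun _ => Bool) true
          (fun p _ ih => Bool.rec false ih (permB m X p.1 p.2)) L : Bool) = true at h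
        clear h3
        induction L with
        | nil => intro p hp; simp at hp
        | cons q L ih =>
          change (Bool.rec false (List.rec (motive := fun _ => Bool) true
            (fun p _ ih => Bool.rec false ih (permB m X p.1 p.2)) L) (permB m X q.1 q.2) : Bool) = true at h
          cases h4 : permB m X q.1 q.2 with
          | false => rw [h4] at h; exact absurd h (by simp)
          | true =>
            rw [h4] at h
            intro p hp
            rcases List.mem_cons.1 hp with rfl | hp
            · exact h4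
            · exact ih h p hp

/-- the special linear group -/
abbrev SL45 := Matrix.SpecialLinearGroup (Fin 45) (ZMod 7)

instance finite_SL45 : Finite SL45 := by
  have : Finite (Matrix (Fin 45) (Fin 45) (ZMod 7)) := inferInstanceAs (Finite (Fin 45 → Fin 45 → ZMod 7))
  exact Finite.of_injective (fun g : SL45 => (g : Matrix (Fin 45) (Fin 45) (ZMod 7))) Subtype.val_injective

/-- The natural action on column vectors. -/
@[reducible] def actV : MulAction SL45 (Fin 45 → ZMod 7) where
  smul g v := Matrix.mulVec (g : Matrix (Fin 45) (Fin 45) (ZMod 7)) v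
  one_smul v := by
    change Matrix.mulVec ((1 : SL45) : Matrix (Fin 45) (Fin 45) (ZMod 7)) v = v
    rw [Matrix.SpecialLinearGroup.coe_one, Matrix.one_mulVec]
  mul_smul g h v := by
    change Matrix.mulVec ((g * h : SL45) : Matrix (Fin 45) (Fin 45) (ZMod 7)) v =
      Matrix.mulVec (g : Matrix (Fin 45) (Fin 45) (ZMod 7))
        (Matrix.mulVec (h : Matrix (Fin 45) (Fin 45) (ZMod 7)) v)
    rw [Matrix.SpecialLinearGroup.coe_mul, Matrix.mulVec_mulVec]

theorem actV_smul (g : SL45) (v : Fin 45 → ZMod 7) :
    actV.smul g v = Matrix.mulVec (g : Matrix (Fin 45) (Fin 45) (ZMod 7)) v := rfl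

theorem actV_col {m A X : ℕ} (hA : Ok 45 A) (hX : Ok m X) (g : SL45)
    (hg : (g : Matrix (Fin 45) (Fin 45) (ZMod 7)) = toMat 45 A) (j : Fin m) :
    actV.smul g (col m X j) = col m (mulP m A X) j := by
  rw [actV_smul, hg, mulVec_col hA hX]

/-- A subgroup of `SL(45, 7)` containing the generators has order divisible by the length of the orbit. -/
theorem dvd_card_of_orbB {m X : ℕ} (hm : 0 < m) {L : List (ℕ × ℕ)} {P I σ : ℕ}
    (h : orbB m X L P I σ = true) (hL : ∀ p ∈ L, Ok 45 p.1)
    (Γ : Subgroup SL45) (hΓ : ∀ p ∈ L, ∃ g ∈ Γ, (g : Matrix (Fin 45) (Fin 45) (ZMod 7)) = toMat 45 p.1) :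
    m ∣ Nat.card Γ := by
  obtain ⟨hX, hσ, hconn, hperm⟩ := orbB_spec h
  obtain ⟨S, hSdef⟩ : ∃ S : Set SL45, ∀ g, g ∈ S ↔
      ∃ p ∈ L, (g : Matrix (Fin 45) (Fin 45) (ZMod 7)) = toMat 45 p.1 := ⟨{g | _}, fun g => Iff.rfl⟩
  have hSΓ : Subgroup.closure S ≤ Γ := by
    rw [Subgroup.closure_le]
    intro g hg
    obtain ⟨p, hp, hg⟩ := (hSdef g).1 hg
    obtain ⟨g', hg'Γ, hg'⟩ := hΓ p hp
    have : g = g' := Subtype.ext (by rw [hg]; exact hg'.symm)
    rw [this]; exact hg'Γ
  refine Dvd.dvd.trans ?_ (Subgroup.card_dvd_of_le hSΓ)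
  have hstep : ∀ g ∈ S, ∀ j : Fin m, ∃ k : Fin m, actV.smul g (col m X j) = col m X k := by
    intro g hg j
    obtain ⟨p, hp, hg⟩ := (hSdef g).1 hg
    obtain ⟨h1, h2⟩ := permB_spec (hperm p hp) j j.2
    refine ⟨⟨_, h1⟩, ?_⟩
    rw [actV_col (hL p hp) hX g hg]
    exact col_eq_of_colN h2
  have hcon : ∀ j : Fin m, (j : ℕ) ≠ 0 → ∃ g ∈ S, ∃ k : Fin m, k < j ∧
      actV.smul g (col m X k) = col m X j := by
    intro j hj
    obtain ⟨i, hi, k, hk, hT⟩ := connB_spec hconn j j.2 hj
    obtain ⟨p, hp, hpT⟩ := List.mem_map.1 (tnth_mem hi)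
    obtain ⟨g, _, hg⟩ := hΓ p hp
    have hkm : k < m := lt_trans hk j.2
    refine ⟨g, (hSdef g).2 ⟨p, hp, hg⟩, ⟨k, hkm⟩, hk, ?_⟩
    obtain ⟨h1, h2⟩ := permB_spec (hperm p hp) k hkm
    rw [actV_col (hL p hp) hX g hg]
    apply col_eq_of_colN
    rw [h2, hpT, hT]
  exact card_closure_dvd_of_orbit actV S hm (col m X)
    (fun j k hjk => Fin.ext (sortB_spec hσ j k j.2 k.2 (colN_eq_of_col hX hX hjk))) hstep hcon

end Cfsg.Agent.SporRec.PackSevenOrb
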