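import Mathlib

/-!
# Polycyclic enumeration

`nf q L e` is the normal form `t₀ ^ d₀ * t₁ ^ d₁ * ...` for the list `L = [t₀, t₁, ...]` where
`d₀, d₁, ...` are the digits of `e` in base `q` (lowest digit first).  If the power and conjugation
relations hold (`PC q L`) then every element of the subgroup generated by `L` is a normal form with
`e < q ^ L.length`.
-/

set_option autoImplicit false

namespace Cfsg.Agent.SporRec.PcEnum

open scoped Pointwise

variable {G : Type*} [Group G]

/-- Normal form; the lowest digit belongs to the first (outermost) element. -/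
def nf (q : ℕ) : List G → ℕ → G
  | [], _ => 1
  | t :: L, e => t ^ (e % q) * nf q L (e / q)

@[simp] theorem nf_nil (q e : ℕ) : nf q ([] : List G) e = 1 := rfl

theorem nf_cons (q : ℕ) (t : G) (L : List G) (e : ℕ) :
    nf q (t :: L) e = t ^ (e % q) * nf q L (e / q) := rfl

/-- The power and conjugation relations. -/
def PC (q : ℕ) : List G → Prop
  | [] => True
  | t :: L => PC q L ∧ (∃ e, t ^ q = nf q L e) ∧ ∀ u ∈ L, ∃ e, t * u = nf q L e * t

/-- The subgroup generated by a list. -/
def cl (L : List G) : Subgroup G := Subgroup.closure {u | u ∈ L}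

theorem cl_cons_le (t : G) (L : List G) : cl L ≤ cl (t :: L) :=
  Subgroup.closure_mono (fun _ hu => List.mem_cons_of_mem _ hu)

theorem mem_cl_of_mem {t : G} {L : List G} (h : t ∈ L) : t ∈ cl L := Subgroup.subset_closure h

theorem nf_mem (q : ℕ) (L : List G) (e : ℕ) : nf q L e ∈ cl L := by
  induction L generalizing e with
  | nil => exact one_mem _
  | cons t L ih =>
    rw [nf_cons]
    exact mul_mem (pow_mem (mem_cl_of_mem List.mem_cons_self) _) (cl_cons_le t L (ih _))

theorem PC.conj_mem {q : ℕ} {t : G} {L : List G} (h : PC q (t :: L)) (hq : 0 < q) :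
    ∀ s ∈ cl L, t * s * t⁻¹ ∈ cl L ∧ t⁻¹ * s * t ∈ cl L := by
  have h1 : ∀ s ∈ cl L, t * s * t⁻¹ ∈ cl L := by
    intro s hs
    refine Subgroup.closure_induction (p := fun s _ => t * s * t⁻¹ ∈ cl L) ?_ ?_ ?_ ?_ hs
    · intro u hu
      obtain ⟨e, he⟩ := h.2.2 u hu
      rw [he, mul_assoc, mul_inv_cancel, mul_one]
      exact nf_mem q L e
    · simp [one_mem]
    · intro x y _ _ hx hy
      have : t * (x * y) * t⁻¹ = (t * x * t⁻¹) * (t * y * t⁻¹) := by group
      rw [this]; exact mul_mem hx hy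
    · intro x _ hx
      have : t * x⁻¹ * t⁻¹ = (t * x * t⁻¹)⁻¹ := by group
      rw [this]; exact inv_mem hx
  have h2 : ∀ n : ℕ, ∀ s ∈ cl L, t ^ n * s * (t ^ n)⁻¹ ∈ cl L := by
    intro n
    induction n with
    | zero => intro s hs; simpa using hs
    | succ n ih =>
      intro s hs
      have : t ^ (n + 1) * s * (t ^ (n + 1))⁻¹ = t * (t ^ n * s * (t ^ n)⁻¹) * t⁻¹ := by
        rw [pow_succ']; group
      rw [this]
      exact h1 _ (ih s hs)
  intro s hs
  refine ⟨h1 s hs, ?_⟩
  obtain ⟨e, he⟩ := h.2.1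
  have hq' : t ^ q ∈ cl L := by rw [he]; exact nf_mem q L e
  have h3 := mul_mem (mul_mem (inv_mem hq') (h2 (q - 1) s hs)) hq'
  have h4 : t ^ q = t ^ (q - 1) * t := by rw [← pow_succ]; congr 1; omega
  have h5 : (t ^ q)⁻¹ * (t ^ (q - 1) * s * (t ^ (q - 1))⁻¹) * t ^ q = t⁻¹ * s * t := by
    rw [h4]; group
  rwa [h5] at h3

/-- Every element of the group generated by `L` is a normal form. -/
theorem PC.exists_nf {q : ℕ} {L : List G} (h : PC q L) (hq : 0 < q) :
    ∀ x ∈ cl L, ∃ e < q ^ L.length, nf q L e = x := by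
  induction L with
  | nil =>
    intro x hx
    refine ⟨0, by simp, ?_⟩
    have : cl ([] : List G) = ⊥ := by
      rw [cl, Subgroup.closure_eq_bot_iff]
      intro u hu
      exact absurd hu (by simp)
    rw [this] at hx
    exact (Subgroup.mem_bot.mp hx).symm
  | cons t L ih =>
    have hc := h.conj_mem hq
    have hz : ∀ (n : ℤ), ∀ s ∈ cl L, t ^ n * s * (t ^ n)⁻¹ ∈ cl L := by
      intro n
      induction n using Int.induction_on with
      | zero => intro s hs; simpa using hs
      | succ n ih =>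
        intro s hs
        have : t ^ ((n : ℤ) + 1) * s * (t ^ ((n : ℤ) + 1))⁻¹ =
            t * (t ^ (n : ℤ) * s * (t ^ (n : ℤ))⁻¹) * t⁻¹ := by
          rw [zpow_add_one, (Commute.zpow_self t (n : ℤ)).eq]; group
        rw [this]
        exact (hc _ (ih s hs)).1
      | pred n ih =>
        intro s hs
        have : t ^ (-(n : ℤ) - 1) * s * (t ^ (-(n : ℤ) - 1))⁻¹ =
            t⁻¹ * (t ^ (-(n : ℤ)) * s * (t ^ (-(n : ℤ)))⁻¹) * t := by
          have h1 : t ^ (-(n : ℤ) - 1) = t⁻¹ * t ^ (-(n : ℤ)) := by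
            rw [zpow_sub_one, ((Commute.refl t).zpow_left (-(n : ℤ))).inv_right.eq]
          rw [h1]; group
        rw [this]
        exact (hc _ (ih s hs)).2
    obtain ⟨e₀, he₀⟩ := h.2.1
    have hq' : t ^ q ∈ cl L := by rw [he₀]; exact nf_mem q L e₀
    -- every element is `t ^ n * s`
    have key : ∀ x ∈ cl (t :: L), ∃ n : ℤ, ∃ s ∈ cl L, x = t ^ n * s := by
      intro x hx
      refine Subgroup.closure_induction (p := fun x _ => ∃ n : ℤ, ∃ s ∈ cl L, x = t ^ n * s)
        ?_ ?_ ?_ ?_ hx
      · intro u hu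
        rcases List.mem_cons.mp hu with rfl | hu
        · exact ⟨1, 1, one_mem _, by simp⟩
        · exact ⟨0, u, mem_cl_of_mem hu, by simp⟩
      · exact ⟨0, 1, one_mem _, by simp⟩
      · rintro x y _ _ ⟨n, s, hs, rfl⟩ ⟨m, r, hr, rfl⟩
        refine ⟨n + m, (t ^ (-m) * s * (t ^ (-m))⁻¹) * r, mul_mem (hz (-m) s hs) hr, ?_⟩
        rw [zpow_add]; group
      · rintro x _ ⟨n, s, hs, rfl⟩
        refine ⟨-n, t ^ n * s⁻¹ * (t ^ n)⁻¹, hz n _ (inv_mem hs), ?_⟩
        group
    intro x hx
    obtain ⟨n, s, hs, rfl⟩ := key x hx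
    have hqz : (q : ℤ) ≠ 0 := by exact_mod_cast hq.ne'
    obtain ⟨r, hr⟩ := Int.eq_ofNat_of_zero_le (Int.emod_nonneg n hqz)
    have hr2 : r < q := by
      have := Int.emod_lt_of_pos n (by exact_mod_cast hq : (0 : ℤ) < q)
      omega
    have h1 : t ^ n = t ^ r * (t ^ q) ^ (n / (q : ℤ)) := by
      have h2 : n = (r : ℤ) + q * (n / q) := by rw [← hr]; exact (Int.emod_add_mul_ediv n q).symm
      conv_lhs => rw [h2]
      rw [zpow_add, zpow_mul, zpow_natCast, zpow_natCast]
    obtain ⟨f, hf, hf'⟩ := ih h.1 ((t ^ q) ^ (n / (q : ℤ)) * s) (mul_mem (zpow_mem hq' _) hs)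
    refine ⟨r + q * f, ?_, ?_⟩
    · rw [List.length_cons, pow_succ]
      calc r + q * f < q + q * f := by omega
        _ = q * (f + 1) := by ring
        _ ≤ q * q ^ L.length := Nat.mul_le_mul_left _ hf
        _ = _ := by ring
    · rw [nf_cons, h1]
      have h3 : (r + q * f) % q = r := by
        rw [Nat.add_mul_mod_self_left, Nat.mod_eq_of_lt hr2]
      have h4 : (r + q * f) / q = f := by
        rw [Nat.add_mul_div_left _ _ hq, Nat.div_eq_of_lt hr2, zero_add]
      rw [h3, h4, hf', mul_assoc]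

/-- Uniqueness of normal forms. -/
theorem PC.inj {q : ℕ} {L : List G} (h : PC q L) (hq : 0 < q)
    (h1 : ∀ e < q ^ L.length, nf q L e = 1 → e = 0) :
    ∀ e < q ^ L.length, ∀ f < q ^ L.length, nf q L e = nf q L f → e = f := by
  induction L with
  | nil =>
    intro e he f hf _
    simp at he hf; omega
  | cons t L ih =>
    have h1' : ∀ e < q ^ L.length, nf q L e = 1 → e = 0 := by
      intro e he he1
      have h2 := h1 (q * e) (by
        rw [List.length_cons, pow_succ, mul_comm]
        exact Nat.mul_lt_mul_of_pos_right he hq) (by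
        rw [nf_cons, Nat.mul_mod_right, pow_zero, one_mul, Nat.mul_div_cancel_left _ hq, he1])
      rcases Nat.mul_eq_zero.mp h2 with h3 | h3
      · omega
      · exact h3
    have ih' := ih h.1 h1'
    -- wlog
    have key : ∀ e < q ^ (t :: L).length, ∀ f < q ^ (t :: L).length, e % q ≤ f % q →
        nf q (t :: L) e = nf q (t :: L) f → e = f := by
      intro e he f hf hle hef
      rw [List.length_cons, pow_succ] at he hf
      have he' : e / q < q ^ L.length := Nat.div_lt_of_lt_mul (by rwa [mul_comm] at he)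
      have hf' : f / q < q ^ L.length := Nat.div_lt_of_lt_mul (by rwa [mul_comm] at hf)
      rw [nf_cons, nf_cons] at hef
      have h2 : t ^ (f % q - e % q) * (nf q L (f / q) * (nf q L (e / q))⁻¹) = 1 := by
        have h3 : t ^ (f % q) = t ^ (e % q) * t ^ (f % q - e % q) := by
          rw [← pow_add]; congr 1; omega
        rw [h3, mul_assoc] at hef
        have h4 := mul_left_cancel hef
        rw [← mul_assoc, ← h4, mul_inv_cancel]
      obtain ⟨c, hc, hc'⟩ := h.1.exists_nf hq _
        (mul_mem (nf_mem q L (f / q)) (inv_mem (nf_mem q L (e / q))))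
      rw [← hc'] at h2
      have hlt : f % q - e % q < q := lt_of_le_of_lt (Nat.sub_le _ _) (Nat.mod_lt _ hq)
      have h5 := h1 ((f % q - e % q) + q * c) (by
          rw [List.length_cons, pow_succ]
          calc (f % q - e % q) + q * c < q + q * c := by omega
            _ = q * (c + 1) := by ring
            _ ≤ q * q ^ L.length := Nat.mul_le_mul_left _ hc
            _ = _ := by ring) (by
          rw [nf_cons, Nat.add_mul_mod_self_left, Nat.mod_eq_of_lt hlt,
            Nat.add_mul_div_left _ _ hq, Nat.div_eq_of_lt hlt, zero_add]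
          exact h2)
      have h6 : f % q = e % q := by omega
      rw [h6] at hef
      have h7 := ih' _ he' _ hf' (mul_left_cancel hef)
      rw [← Nat.mod_add_div e q, ← Nat.mod_add_div f q, h6, h7]
    intro e he f hf hef
    rcases le_total (e % q) (f % q) with hle | hle
    · exact key e he f hf hle hef
    · exact (key f hf e he hle hef.symm).symm

theorem PC.card {q : ℕ} {L : List G} (h : PC q L) (hq : 0 < q)
    (h1 : ∀ e < q ^ L.length, nf q L e = 1 → e = 0) : Nat.card (cl L) = q ^ L.length := by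
  let f : Fin (q ^ L.length) → cl L := fun e => ⟨nf q L e, nf_mem q L e⟩
  have hf : Function.Bijective f := by
    constructor
    · intro a b hab
      exact Fin.ext (h.inj hq h1 a a.2 b b.2 (congrArg Subtype.val hab))
    · rintro ⟨x, hx⟩
      obtain ⟨e, he, hex⟩ := h.exists_nf hq x hx
      exact ⟨⟨e, he⟩, Subtype.ext hex⟩
  rw [← Nat.card_congr (Equiv.ofBijective f hf), Nat.card_eq_fintype_card, Fintype.card_fin]

/-- If `x`, `y` are commuting involutions then every element of `⟨x, y⟩` has square `1`. -/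
theorem sq_of_mem_cl_pair {x y : G} (hx : x * x = 1) (hy : y * y = 1) (hxy : x * y = y * x) :
    ∀ h ∈ cl [x, y], h * h = 1 := by
  intro h hh
  have hp : PC 2 [x, y] := by
    refine ⟨⟨trivial, ⟨0, by rw [pow_two, hy]; rfl⟩, fun u hu => absurd hu (by simp)⟩,
      ⟨0, by simp [pow_two, hx, nf]⟩, ?_⟩
    intro u hu
    rw [List.mem_singleton] at hu
    subst hu
    exact ⟨1, by simpa [nf] using hxy⟩
  obtain ⟨e, he, rfl⟩ := hp.exists_nf (by norm_num) h hh
  have he4 : e < 4 := he
  have hyxy : x * y * (x * y) = 1 := by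
    calc x * y * (x * y) = x * (y * x) * y := by group
      _ = (x * x) * (y * y) := by rw [← hxy]; group
      _ = 1 := by rw [hx, hy, one_mul]
  interval_cases e <;> simp [nf, hx, hy, hyxy]

/-- A `p`-subgroup is conjugate into a Sylow `p`-subgroup. -/
theorem exists_conj_mem {G : Type*} [Group G] [Finite G] (p : ℕ) [Fact p.Prime] (P : Subgroup G)
    (hP : Nat.card P = p ^ (Nat.card G).factorization p) (H : Subgroup G) (hH : IsPGroup p H) :
    ∃ g : G, ∀ h ∈ H, g * h * g⁻¹ ∈ P := by
  let SP : Sylow p G := Sylow.ofCard P hP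
  obtain ⟨Q, hQ⟩ := hH.exists_le_sylow
  obtain ⟨g, hg⟩ := MulAction.exists_smul_eq G Q SP
  have hg' : MulAut.conj g • (Q : Subgroup G) = P := by
    have h1 : ((g • Q : Sylow p G) : Subgroup G) = (SP : Subgroup G) := by rw [hg]
    exact h1
  refine ⟨g, fun h hh => ?_⟩
  have h2 : MulAut.conj g • h ∈ MulAut.conj g • (Q : Subgroup G) :=
    Subgroup.smul_mem_pointwise_smul _ _ _ (hQ hh)
  rw [hg'] at h2
  exact h2

theorem factorization_eq {n p k m : ℕ} (hp : p.Prime) (h : n = p ^ k * m) (hm : ¬ p ∣ m) :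
    n.factorization p = k := by
  have hm0 : m ≠ 0 := by rintro rfl; exact hm (dvd_zero _)
  have hn0 : n ≠ 0 := by rw [h]; exact mul_ne_zero (pow_ne_zero _ hp.ne_zero) hm0
  apply le_antisymm
  · by_contra h1
    apply hm
    have h2 : p ^ (k + 1) ∣ n := (hp.pow_dvd_iff_le_factorization hn0).mpr (by omega)
    rw [h, pow_succ] at h2
    exact Nat.dvd_of_mul_dvd_mul_left (pow_pos hp.pos k) h2
  · exact (hp.pow_dvd_iff_le_factorization hn0).mp ⟨m, h⟩

end Cfsg.Agent.SporRec.PcEnum
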